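import Mathlib
import Cfsg.Prelude.Def_Blocks

/-!
# Basic character theory for the Prelude vocabulary (`Cfsg.IsCharacter`, `Cfsg.IsIrrCharacter`)

Shared library by helper78.  Everything lives in `Cfsg.Agent.Lib.Helper78`.

Main results of this file:
* `isIrrCharacter_of_isIrreducible`, `isCharacter_of_rep`: characters of arbitrary finite
  dimensional representations are characters in the Prelude sense.
* `exists_irr_list`: the character of every finite dimensional representation of a finite group
  is a finite sum of irreducible characters.
-/

set_option autoImplicit false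
set_option linter.style.haveILetI false

namespace Cfsg.Agent.Lib.Helper78

open Representation
open scoped MonoidAlgebra

universe u v w

section Transport

variable {G : Type u} [Monoid G] {V : Type v} [AddCommGroup V] [Module ℂ V]
  {W : Type w} [AddCommGroup W] [Module ℂ W]

/-- Transport a representation along a linear equivalence. -/
noncomputable def transportRep (ρ : Representation ℂ G V) (e : V ≃ₗ[ℂ] W) :
    Representation ℂ G W :=
  (e.conjRingEquiv : Module.End ℂ V ≃+* Module.End ℂ W).toMonoidHom.comp ρ

theorem transportRep_apply (ρ : Representation ℂ G V) (e : V ≃ₗ[ℂ] W) (g : G) :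
    transportRep ρ e g = e.conj (ρ g) := rfl

/-- The transported representation is equivalent to the original one. -/
noncomputable def transportRepEquiv (ρ : Representation ℂ G V) (e : V ≃ₗ[ℂ] W) :
    Representation.Equiv ρ (transportRep ρ e) :=
  Representation.Equiv.mk e (by
    intro g
    ext v
    simp [transportRep_apply, LinearEquiv.conj_apply])

/-- An equivalence of representations gives a linear equivalence of the associated modules. -/
noncomputable def asModuleEquivOfEquiv {ρ : Representation ℂ G V} {σ : Representation ℂ G W}
    (φ : Representation.Equiv ρ σ) : ρ.asModule ≃ₗ[ℂ[G]] σ.asModule :=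
  LinearEquiv.ofLinearMap
    (IntertwiningMap.equivLinearMapAsModule ρ σ φ.toIntertwiningMap)
    (IntertwiningMap.equivLinearMapAsModule σ ρ φ.symm.toIntertwiningMap)
    (by ext x; exact φ.apply_symm_apply x)
    (by ext x; exact φ.symm_apply_apply x)

theorem isIrreducible_of_equiv {ρ : Representation ℂ G V} {σ : Representation ℂ G W}
    (φ : Representation.Equiv ρ σ) (h : ρ.IsIrreducible) : σ.IsIrreducible := by
  rw [irreducible_iff_isSimpleModule_asModule] at h ⊢
  exact IsSimpleModule.congr (asModuleEquivOfEquiv φ).symm

/-- The coordinate version of a finite dimensional representation. -/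
noncomputable def coordRep [FiniteDimensional ℂ V] (ρ : Representation ℂ G V) :
    Representation ℂ G (Fin (Module.finrank ℂ V) → ℂ) :=
  transportRep ρ (Module.finBasis ℂ V).equivFun

theorem coordRep_character [FiniteDimensional ℂ V] (ρ : Representation ℂ G V) :
    (coordRep ρ).character = ρ.character :=
  (char_iso (transportRepEquiv ρ (Module.finBasis ℂ V).equivFun)).symm

theorem coordRep_isIrreducible [FiniteDimensional ℂ V] (ρ : Representation ℂ G V)
    (h : ρ.IsIrreducible) : (coordRep ρ).IsIrreducible :=
  isIrreducible_of_equiv (transportRepEquiv ρ (Module.finBasis ℂ V).equivFun) h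

theorem isIrreducible_of_isAtom {ρ : Representation ℂ G V} (a : Subrepresentation ρ)
    (ha : IsAtom a) : a.toRepresentation.IsIrreducible := by
  let f : Subrepresentation a.toRepresentation → Subrepresentation ρ := fun b =>
    ⟨b.toSubmodule.map a.toSubmodule.subtype, by
      rintro g v ⟨w, hw, rfl⟩
      exact ⟨a.toRepresentation g w, b.apply_mem_toSubmodule g hw, rfl⟩⟩
  have hf_le : ∀ b, f b ≤ a := by
    intro b v hv
    obtain ⟨w, _, rfl⟩ := hv
    exact w.2
  have hf_inj : Function.Injective f := by
    intro b c hbc
    apply Subrepresentation.toSubmodule_injective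
    have : (f b).toSubmodule = (f c).toSubmodule := congrArg _ hbc
    exact Submodule.map_injective_of_injective a.toSubmodule.injective_subtype this
  have hbot : f ⊥ = ⊥ := by
    apply Subrepresentation.toSubmodule_injective
    show (⊥ : Submodule ℂ a.toSubmodule).map a.toSubmodule.subtype = ⊥
    simp
  have htop : f ⊤ = a := by
    apply Subrepresentation.toSubmodule_injective
    show (⊤ : Submodule ℂ a.toSubmodule).map a.toSubmodule.subtype = a.toSubmodule
    simp
  refine { exists_pair_ne := ⟨⊥, ⊤, ?_⟩, eq_bot_or_eq_top := ?_ }
  · intro h
    have := congrArg f h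
    rw [hbot, htop] at this
    exact ha.1 this.symm
  · intro b
    rcases (hf_le b).eq_or_lt with h | h
    · right; apply hf_inj; rw [h, htop]
    · left; apply hf_inj; rw [hbot]; exact ha.2 _ h

theorem isCompl_toSubmodule {ρ : Representation ℂ G V} {a b : Subrepresentation ρ}
    (h : IsCompl a b) : IsCompl a.toSubmodule b.toSubmodule := by
  constructor
  · rw [disjoint_iff]
    exact congrArg Subrepresentation.toSubmodule h.1.eq_bot
  · rw [codisjoint_iff]
    exact congrArg Subrepresentation.toSubmodule h.2.eq_top

theorem character_eq_add_of_isCompl [FiniteDimensional ℂ V] {ρ : Representation ℂ G V}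
    (a b : Subrepresentation ρ) (h : IsCompl a b) :
    ρ.character = a.toRepresentation.character + b.toRepresentation.character := by
  have hc : IsCompl a.toSubmodule b.toSubmodule := isCompl_toSubmodule h
  let e := Submodule.prodEquivOfIsCompl a.toSubmodule b.toSubmodule hc
  funext g
  have key : ρ g = e.conj (LinearMap.prodMap (a.toRepresentation g) (b.toRepresentation g)) := by
    apply LinearMap.ext
    intro v
    obtain ⟨⟨x, y⟩, rfl⟩ := e.surjective v
    simp [LinearEquiv.conj_apply, e, Subrepresentation.toRepresentation]
  simp only [Representation.character, Pi.add_apply]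
  rw [key, LinearMap.trace_conj', LinearMap.trace_prodMap']

end Transport

section Group

variable {G : Type u} [Group G] {V : Type v} [AddCommGroup V] [Module ℂ V]

theorem isCharacter_of_rep [FiniteDimensional ℂ V] (ρ : Representation ℂ G V) :
    IsCharacter G ρ.character :=
  ⟨_, coordRep ρ, coordRep_character ρ⟩

theorem isIrrCharacter_of_isIrreducible [FiniteDimensional ℂ V] (ρ : Representation ℂ G V)
    (h : ρ.IsIrreducible) : IsIrrCharacter G ρ.character :=
  ⟨_, coordRep ρ, coordRep_isIrreducible ρ h, coordRep_character ρ⟩

theorem IsIrrCharacter.isCharacter {χ : G → ℂ} (h : IsIrrCharacter G χ) : IsCharacter G χ := by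
  obtain ⟨n, ρ, _, rfl⟩ := h
  exact ⟨n, ρ, rfl⟩

theorem character_eq_zero_of_finrank_eq_zero [FiniteDimensional ℂ V] (ρ : Representation ℂ G V)
    (h : Module.finrank ℂ V = 0) : ρ.character = 0 := by
  haveI : Subsingleton V := Module.finrank_zero_iff.mp h
  funext g
  have : ρ g = 0 := Subsingleton.elim _ _
  simp [Representation.character, this]

variable [Finite G]

instance instNeZeroCardComplex : NeZero (Nat.card G : ℂ) :=
  ⟨by exact_mod_cast Nat.card_pos.ne'⟩

theorem isAtomic_subrepresentation (ρ : Representation ℂ G V) :
    IsAtomic (Subrepresentation ρ) := by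
  rw [OrderIso.isAtomic_iff Subrepresentation.subrepresentationSubmoduleOrderIso]
  infer_instance

/-- The character of every finite dimensional representation of a finite group is a finite sum
of irreducible characters. -/
theorem exists_irr_list_aux (n : ℕ) : ∀ (V : Type v) [AddCommGroup V] [Module ℂ V]
    [FiniteDimensional ℂ V] (ρ : Representation ℂ G V), Module.finrank ℂ V = n →
    ∃ l : List (IrrCharacter G), ρ.character = (l.map (fun χ : IrrCharacter G => χ.1)).sum := by
  induction n using Nat.strong_induction_on with
  | _ n ih =>
    intro V _ _ _ ρ hn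
    rcases Nat.eq_zero_or_pos n with h0 | hpos
    · exact ⟨[], by simp [character_eq_zero_of_finrank_eq_zero ρ (hn.trans h0)]⟩
    · haveI : Nontrivial V := Module.finrank_pos_iff.mp (hn ▸ hpos)
      haveI := isAtomic_subrepresentation ρ
      have htop : (⊤ : Subrepresentation ρ) ≠ ⊥ := by
        intro h
        have h' : (⊤ : Submodule ℂ V) = ⊥ := congrArg Subrepresentation.toSubmodule h
        exact top_ne_bot h'
      obtain ⟨a, ha, -⟩ := (eq_bot_or_exists_atom_le (⊤ : Subrepresentation ρ)).resolve_left htop
      obtain ⟨b, hab⟩ := exists_isCompl a
      have hc := isCompl_toSubmodule hab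
      have hsum := Submodule.finrank_add_eq_of_isCompl hc
      have hapos : 0 < Module.finrank ℂ a.toSubmodule := by
        rw [Module.finrank_pos_iff]
        rw [Submodule.nontrivial_iff_ne_bot]
        intro h
        apply ha.1
        exact Subrepresentation.toSubmodule_injective h
      have hb : Module.finrank ℂ b.toSubmodule < n := by omega
      obtain ⟨l, hl⟩ := ih _ hb b.toSubmodule b.toRepresentation rfl
      have hirr := isIrrCharacter_of_isIrreducible a.toRepresentation
        (isIrreducible_of_isAtom a ha)
      refine ⟨⟨_, hirr⟩ :: l, ?_⟩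
      rw [character_eq_add_of_isCompl a b hab, hl]
      simp

theorem exists_irr_list [FiniteDimensional ℂ V] (ρ : Representation ℂ G V) :
    ∃ l : List (IrrCharacter G), ρ.character = (l.map (fun χ : IrrCharacter G => χ.1)).sum :=
  exists_irr_list_aux _ V ρ rfl

end Group

end Cfsg.Agent.Lib.Helper78
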