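import Mathlib
import Cfsg.Agent.Lib.Helper78.CharBasic

/-!
# Values of characters: conjugation, integrality, degrees

Shared library by helper78.
-/

set_option autoImplicit false
set_option linter.style.haveILetI false

namespace Cfsg.Agent.Lib.Helper78

open Representation
open scoped MonoidAlgebra ComplexConjugate

universe u v w

theorem trace_mul_of_finrank_eq_one {V : Type v} [AddCommGroup V] [Module ℂ V]
    (h : Module.finrank ℂ V = 1) (f g : Module.End ℂ V) :
    LinearMap.trace ℂ V (f * g) = LinearMap.trace ℂ V f * LinearMap.trace ℂ V g := by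
  haveI : FiniteDimensional ℂ V := Module.finite_of_finrank_eq_succ h
  let b : Module.Basis (Fin 1) ℂ V := Module.finBasisOfFinrankEq ℂ V h
  rw [LinearMap.trace_eq_matrix_trace ℂ b, LinearMap.trace_eq_matrix_trace ℂ b,
    LinearMap.trace_eq_matrix_trace ℂ b, LinearMap.toMatrix_mul]
  simp [Matrix.trace, Matrix.mul_apply]

section Abelian

variable {H : Type u} [Group H] [IsMulCommutative H]

/-- Irreducible characters of commutative groups are multiplicative. -/
theorem IsIrrCharacter.map_mul_of_comm {χ : H → ℂ} (hχ : IsIrrCharacter H χ) (x y : H) :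
    χ (x * y) = χ x * χ y := by
  obtain ⟨n, ρ, hρ, rfl⟩ := hχ
  haveI := hρ
  have h1 := IsIrreducible.finrank_eq_one_of_isMulCommutative ρ
  simp only [Representation.character, map_mul]
  exact trace_mul_of_finrank_eq_one h1 _ _

theorem IsIrrCharacter.map_one_of_comm {χ : H → ℂ} (hχ : IsIrrCharacter H χ) : χ 1 = 1 := by
  obtain ⟨n, ρ, hρ, rfl⟩ := hχ
  haveI := hρ
  have h1 := IsIrreducible.finrank_eq_one_of_isMulCommutative ρ
  simp [h1]

theorem IsIrrCharacter.map_pow_of_comm {χ : H → ℂ} (hχ : IsIrrCharacter H χ) (x : H) (k : ℕ) :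
    χ (x ^ k) = χ x ^ k := by
  induction k with
  | zero => simp [IsIrrCharacter.map_one_of_comm hχ]
  | succ k ih => rw [pow_succ, IsIrrCharacter.map_mul_of_comm hχ, ih, pow_succ]

theorem IsIrrCharacter.pow_card_of_comm {χ : H → ℂ} (hχ : IsIrrCharacter H χ) (x : H) :
    χ x ^ Nat.card H = 1 := by
  rw [← IsIrrCharacter.map_pow_of_comm hχ, pow_card_eq_one', IsIrrCharacter.map_one_of_comm hχ]

variable [Finite H]

theorem IsIrrCharacter.norm_eq_one_of_comm {χ : H → ℂ} (hχ : IsIrrCharacter H χ) (x : H) :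
    ‖χ x‖ = 1 :=
  Complex.norm_eq_one_of_pow_eq_one (IsIrrCharacter.pow_card_of_comm hχ x) Nat.card_pos.ne'

theorem IsIrrCharacter.inv_of_comm {χ : H → ℂ} (hχ : IsIrrCharacter H χ) (x : H) :
    χ x⁻¹ = conj (χ x) := by
  rw [← Complex.inv_eq_conj (IsIrrCharacter.norm_eq_one_of_comm hχ x)]
  have h : χ x⁻¹ * χ x = 1 := by
    rw [← IsIrrCharacter.map_mul_of_comm hχ, inv_mul_cancel, IsIrrCharacter.map_one_of_comm hχ]
  exact eq_inv_of_mul_eq_one_left h

theorem IsIrrCharacter.isIntegral_of_comm {χ : H → ℂ} (hχ : IsIrrCharacter H χ) (x : H) :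
    IsIntegral ℤ (χ x) := by
  apply IsIntegral.of_pow (Nat.card_pos (α := H))
  rw [IsIrrCharacter.pow_card_of_comm hχ]
  exact isIntegral_one

theorem list_sum_inv_and_integral (l : List (IrrCharacter H)) (x : H) :
    (l.map (fun χ : IrrCharacter H => χ.1)).sum x⁻¹ = conj ((l.map (fun χ : IrrCharacter H => χ.1)).sum x) ∧
      IsIntegral ℤ ((l.map (fun χ : IrrCharacter H => χ.1)).sum x) := by
  induction l with
  | nil => simp [isIntegral_zero]
  | cons χ l ih =>
    simp only [List.map_cons, List.sum_cons, Pi.add_apply, map_add]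
    refine ⟨?_, ?_⟩
    · rw [ih.1, IsIrrCharacter.inv_of_comm χ.2]
    · exact IsIntegral.add (IsIrrCharacter.isIntegral_of_comm χ.2 _) ih.2

end Abelian

section General

variable {G : Type u} [Group G] {V : Type v} [AddCommGroup V] [Module ℂ V]

/-- Restriction of a representation to a subgroup. -/
noncomputable def resRep (ρ : Representation ℂ G V) (H : Subgroup G) : Representation ℂ H V :=
  ρ.comp H.subtype

theorem resRep_character [FiniteDimensional ℂ V] (ρ : Representation ℂ G V) (H : Subgroup G)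
    (h : H) : (resRep ρ H).character h = ρ.character h := rfl

variable [Finite G]

theorem character_inv_and_integral [FiniteDimensional ℂ V] (ρ : Representation ℂ G V) (g : G) :
    ρ.character g⁻¹ = conj (ρ.character g) ∧ IsIntegral ℤ (ρ.character g) := by
  obtain ⟨l, hl⟩ := exists_irr_list (resRep ρ (Subgroup.zpowers g))
  have hg : g ∈ Subgroup.zpowers g := Subgroup.mem_zpowers g
  have e1 : ρ.character g =
      ((l.map (fun χ : IrrCharacter (Subgroup.zpowers g) => χ.1)).sum) ⟨g, hg⟩ := by
    rw [← hl]; rfl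
  have e2 : ρ.character g⁻¹ =
      ((l.map (fun χ : IrrCharacter (Subgroup.zpowers g) => χ.1)).sum) (⟨g, hg⟩⁻¹) := by
    rw [← hl]; rfl
  rw [e1, e2]
  exact list_sum_inv_and_integral l _

theorem character_inv [FiniteDimensional ℂ V] (ρ : Representation ℂ G V) (g : G) :
    ρ.character g⁻¹ = conj (ρ.character g) :=
  (character_inv_and_integral ρ g).1

theorem character_isIntegral [FiniteDimensional ℂ V] (ρ : Representation ℂ G V) (g : G) :
    IsIntegral ℤ (ρ.character g) :=
  (character_inv_and_integral ρ g).2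

theorem IsCharacter.inv {χ : G → ℂ} (hχ : IsCharacter G χ) (g : G) : χ g⁻¹ = conj (χ g) := by
  obtain ⟨n, ρ, rfl⟩ := hχ
  exact character_inv ρ g

theorem IsCharacter.isIntegral {χ : G → ℂ} (hχ : IsCharacter G χ) (g : G) :
    IsIntegral ℤ (χ g) := by
  obtain ⟨n, ρ, rfl⟩ := hχ
  exact character_isIntegral ρ g

theorem IsCharacter.mem_algInt {χ : G → ℂ} (hχ : IsCharacter G χ) (g : G) : χ g ∈ AlgInt :=
  IsCharacter.isIntegral hχ g

end General

section NoFinite

variable {G : Type u} [Group G]

theorem IsCharacter.isClassFunction {χ : G → ℂ} (hχ : IsCharacter G χ) : IsClassFunction G χ := by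
  obtain ⟨n, ρ, rfl⟩ := hχ
  intro g h
  exact char_conj ρ g h

theorem IsCharacter.conj_apply {χ : G → ℂ} (hχ : IsCharacter G χ) (g h : G) :
    χ (h * g * h⁻¹) = χ g := IsCharacter.isClassFunction hχ g h

theorem IsCharacter.mul_comm {χ : G → ℂ} (hχ : IsCharacter G χ) (g h : G) :
    χ (g * h) = χ (h * g) := by
  obtain ⟨n, ρ, rfl⟩ := hχ
  exact char_mul_comm ρ h g

/-- The value at `1` of a character is a natural number. -/
theorem IsCharacter.exists_apply_one {χ : G → ℂ} (hχ : IsCharacter G χ) :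
    ∃ n : ℕ, χ 1 = n := by
  obtain ⟨n, ρ, rfl⟩ := hχ
  exact ⟨_, char_one ρ⟩

theorem IsCharacter.apply_one_eq_charDegree {χ : G → ℂ} (hχ : IsCharacter G χ) :
    χ 1 = (charDegree χ : ℂ) := by
  obtain ⟨n, hn⟩ := IsCharacter.exists_apply_one hχ
  simp [charDegree, hn]

theorem IsIrrCharacter.charDegree_pos {χ : G → ℂ} (hχ : IsIrrCharacter G χ) :
    0 < charDegree χ := by
  obtain ⟨n, ρ, hρ, rfl⟩ := hχ
  haveI := hρ
  have h1 : ρ.character 1 = (Module.finrank ℂ (Fin n → ℂ) : ℂ) := char_one ρ
  have hpos : 0 < Module.finrank ℂ (Fin n → ℂ) := by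
    rw [Module.finrank_pos_iff]
    by_contra hnt
    rw [not_nontrivial_iff_subsingleton] at hnt
    have hb : (⊥ : Subrepresentation ρ) = ⊤ := by
      apply Subrepresentation.toSubmodule_injective
      exact Subsingleton.elim _ _
    exact bot_ne_top hb
  simp only [charDegree, h1]
  simpa using hpos

theorem IsIrrCharacter.apply_one_ne_zero {χ : G → ℂ} (hχ : IsIrrCharacter G χ) : χ 1 ≠ 0 := by
  rw [IsCharacter.apply_one_eq_charDegree (IsIrrCharacter.isCharacter hχ)]
  exact_mod_cast (IsIrrCharacter.charDegree_pos hχ).ne'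

end NoFinite

end Cfsg.Agent.Lib.Helper78
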