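import Mathlib
import Cfsg.Agent.Lib.Helper78.CharValues

/-!
# Orthogonality relations and completeness of irreducible characters

Shared library by helper78.
-/

set_option autoImplicit false
set_option linter.style.haveILetI false

namespace Cfsg.Agent.Lib.Helper78

open Representation
open scoped MonoidAlgebra ComplexConjugate

universe u v w

section Ortho

variable {G : Type u} [Group G] [Fintype G]

/-- First orthogonality relation, in the form with `g⁻¹`. -/
theorem irr_orthogonality_inv {χ ψ : G → ℂ} (hχ : IsIrrCharacter G χ) (hψ : IsIrrCharacter G ψ) :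
    (Nat.card G : ℂ)⁻¹ * ∑ g : G, χ g * ψ g⁻¹ = if χ = ψ then 1 else 0 := by
  classical
  obtain ⟨n, ρ, hρ, rfl⟩ := hχ
  obtain ⟨m, σ, hσ, rfl⟩ := hψ
  haveI := hρ
  haveI := hσ
  haveI : Invertible (Nat.card G : ℂ) := invertibleOfNonzero (NeZero.ne _)
  have h1 := char_orthonormal ρ σ
  by_cases h : Nonempty (σ.Equiv ρ)
  · have heq : ρ.character = σ.character := (char_iso h.some).symm
    rw [h1, if_pos h, if_pos heq]
  · by_cases heq : ρ.character = σ.character
    · exfalso
      have h2 := char_orthonormal ρ ρ
      rw [if_pos ⟨Representation.Equiv.refl ρ⟩] at h2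
      rw [if_neg h] at h1
      rw [← heq] at h1
      rw [h1] at h2
      exact zero_ne_one h2
    · rw [h1, if_neg h, if_neg heq]

/-- First orthogonality relation for the Prelude inner product. -/
theorem classInner_irr {χ ψ : G → ℂ} (hχ : IsIrrCharacter G χ) (hψ : IsIrrCharacter G ψ) :
    classInner χ ψ = if χ = ψ then 1 else 0 := by
  rw [← irr_orthogonality_inv hχ hψ]
  unfold classInner
  congr 1
  apply Finset.sum_congr rfl
  intro g _
  rw [IsCharacter.inv (IsIrrCharacter.isCharacter hψ)]

theorem classInner_irr_self {χ : G → ℂ} (hχ : IsIrrCharacter G χ) : classInner χ χ = 1 := by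
  rw [classInner_irr hχ hχ, if_pos rfl]

theorem classInner_irr_ne {χ ψ : G → ℂ} (hχ : IsIrrCharacter G χ) (hψ : IsIrrCharacter G ψ)
    (h : χ ≠ ψ) : classInner χ ψ = 0 := by
  rw [classInner_irr hχ hψ, if_neg h]

/-- `classInner` is additive in the first variable. -/
theorem classInner_add_left (f₁ f₂ ψ : G → ℂ) :
    classInner (f₁ + f₂) ψ = classInner f₁ ψ + classInner f₂ ψ := by
  simp [classInner, add_mul, Finset.sum_add_distrib, mul_add]

theorem classInner_smul_left (c : ℂ) (f ψ : G → ℂ) :
    classInner (c • f) ψ = c * classInner f ψ := by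
  simp only [classInner, Pi.smul_apply, smul_eq_mul, Finset.mul_sum]
  apply Finset.sum_congr rfl
  intro g _
  ring

theorem classInner_zero_left (ψ : G → ℂ) : classInner (0 : G → ℂ) ψ = 0 := by
  simp [classInner]

theorem classInner_sum_left {ι : Type*} (s : Finset ι) (f : ι → G → ℂ) (ψ : G → ℂ) :
    classInner (∑ i ∈ s, f i) ψ = ∑ i ∈ s, classInner (f i) ψ := by
  classical
  induction s using Finset.induction_on with
  | empty => simp [classInner_zero_left]
  | insert a s ha ih => rw [Finset.sum_insert ha, Finset.sum_insert ha, classInner_add_left, ih]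

theorem classInner_add_right (f ψ₁ ψ₂ : G → ℂ) :
    classInner f (ψ₁ + ψ₂) = classInner f ψ₁ + classInner f ψ₂ := by
  simp [classInner, mul_add, Finset.sum_add_distrib]

theorem classInner_smul_right (c : ℂ) (f ψ : G → ℂ) :
    classInner f (c • ψ) = conj c * classInner f ψ := by
  simp only [classInner, Pi.smul_apply, smul_eq_mul, Finset.mul_sum, map_mul]
  apply Finset.sum_congr rfl
  intro g _
  ring

theorem classInner_conj_symm (f ψ : G → ℂ) : conj (classInner f ψ) = classInner ψ f := by
  simp only [classInner, map_mul, map_sum, map_inv₀, Complex.conj_natCast, Complex.conj_conj]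
  congr 1
  apply Finset.sum_congr rfl
  intro g _
  ring

/-- The irreducible characters are linearly independent. -/
theorem irr_linearIndependent :
    LinearIndependent ℂ (fun χ : IrrCharacter G => (χ : G → ℂ)) := by
  classical
  rw [linearIndependent_iff']
  intro s c hc χ hχ
  have h := congrArg (fun f => classInner f (χ : G → ℂ)) hc
  simp only [classInner_sum_left, classInner_smul_left, classInner_zero_left] at h
  rw [Finset.sum_eq_single χ] at h
  · rwa [classInner_irr_self χ.2, mul_one] at h
  · intro ψ _ hne
    rw [classInner_irr_ne ψ.2 χ.2 (fun h => hne (Subtype.ext h)), mul_zero]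
  · intro h'; exact absurd hχ h'

end Ortho

instance instFiniteIrrCharacter {G : Type u} [Group G] [Finite G] : Finite (IrrCharacter G) := by
  haveI := Fintype.ofFinite G
  exact (irr_linearIndependent (G := G)).finite

noncomputable instance instFintypeIrrCharacter {G : Type u} [Group G] [Finite G] :
    Fintype (IrrCharacter G) :=
  Fintype.ofFinite _

section Completeness

variable {G : Type u} [Group G] {V : Type v} [AddCommGroup V] [Module ℂ V]

theorem nontrivial_of_isIrreducible (ρ : Representation ℂ G V) (hρ : ρ.IsIrreducible) :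
    Nontrivial V := by
  haveI := hρ
  by_contra hnt
  rw [not_nontrivial_iff_subsingleton] at hnt
  have hb : (⊥ : Subrepresentation ρ) = ⊤ := by
    apply Subrepresentation.toSubmodule_injective
    exact Subsingleton.elim _ _
  exact bot_ne_top hb

/-- Schur's lemma: an endomorphism commuting with an irreducible representation is a scalar. -/
theorem exists_eq_smul_one_of_commute [FiniteDimensional ℂ V] (ρ : Representation ℂ G V)
    (hρ : ρ.IsIrreducible) (T : Module.End ℂ V) (hT : ∀ g, ρ g * T = T * ρ g) :
    ∃ c : ℂ, T = c • (1 : Module.End ℂ V) := by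
  haveI := hρ
  let Ti : IntertwiningMap ρ ρ := ⟨T, fun g => (hT g).symm⟩
  obtain ⟨c, hc⟩ := (IsIrreducible.algebraMap_intertwiningMap_bijective_of_isAlgClosed
    (ρ := ρ)).2 Ti
  refine ⟨c, ?_⟩
  have := congrArg IntertwiningMap.toLinearMap hc
  simp only [IntertwiningMap.algebraMap_apply, IntertwiningMap.toLinearMap_smul] at this
  exact this.symm

/-- The regular representation on functions. -/
noncomputable def funRegRep (G : Type u) [Group G] : Representation ℂ G (G → ℂ) where
  toFun g := LinearMap.funLeft ℂ ℂ (fun x => g⁻¹ * x)
  map_one' := by ext φ x; simp [LinearMap.funLeft_apply]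
  map_mul' g h := by ext φ x; simp [LinearMap.funLeft_apply, mul_assoc]

theorem funRegRep_apply (g : G) (φ : G → ℂ) (x : G) : funRegRep G g φ x = φ (g⁻¹ * x) := rfl

variable [Fintype G]

/-- The operator `∑ g, f g • ρ g`. -/
noncomputable def weightedSum (f : G → ℂ) (ρ : Representation ℂ G V) : Module.End ℂ V :=
  ∑ g : G, f g • ρ g

theorem weightedSum_comm {f : G → ℂ} (hf : IsClassFunction G f) (ρ : Representation ℂ G V)
    (h : G) : ρ h * weightedSum f ρ = weightedSum f ρ * ρ h := by
  unfold weightedSum
  rw [Finset.mul_sum, Finset.sum_mul]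
  rw [← Equiv.sum_comp (MulAut.conj h).toEquiv (fun g => (f g • ρ g) * ρ h)]
  apply Finset.sum_congr rfl
  intro g _
  simp only [MulEquiv.toEquiv_eq_coe, EquivLike.coe_coe, MulAut.conj_apply]
  rw [hf g h, mul_smul_comm, smul_mul_assoc]
  congr 1
  rw [← map_mul, ← map_mul]
  congr 1
  group

theorem trace_weightedSum [FiniteDimensional ℂ V] (f : G → ℂ) (ρ : Representation ℂ G V) :
    LinearMap.trace ℂ V (weightedSum f ρ) = ∑ g : G, f g * ρ.character g := by
  simp [weightedSum, Representation.character]

theorem weightedSum_subrep_apply (f : G → ℂ) (ρ : Representation ℂ G V)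
    (a : Subrepresentation ρ) (x : a.toSubmodule) :
    weightedSum f ρ (x : V) = ((weightedSum f a.toRepresentation x : a.toSubmodule) : V) := by
  simp [weightedSum, LinearMap.sum_apply, Subrepresentation.toRepresentation]

/-- On an irreducible representation, `∑ g, f g • ρ g` is the scalar
`(∑ g, f g * χ g) / χ 1` for a class function `f`. -/
theorem weightedSum_eq_smul_of_irreducible [FiniteDimensional ℂ V] {f : G → ℂ}
    (hf : IsClassFunction G f) (ρ : Representation ℂ G V) (hρ : ρ.IsIrreducible) :
    weightedSum f ρ =
      ((∑ g : G, f g * ρ.character g) / (Module.finrank ℂ V : ℂ)) • (1 : Module.End ℂ V) := by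
  obtain ⟨c, hc⟩ := exists_eq_smul_one_of_commute ρ hρ (weightedSum f ρ)
    (weightedSum_comm hf ρ)
  haveI := nontrivial_of_isIrreducible ρ hρ
  have hpos : (Module.finrank ℂ V : ℂ) ≠ 0 := by
    exact_mod_cast (Module.finrank_pos (R := ℂ) (M := V)).ne'
  have htr := trace_weightedSum f ρ
  rw [hc] at htr
  simp only [map_smul, LinearMap.trace_one, smul_eq_mul] at htr
  rw [hc, ← htr, mul_div_assoc, div_self hpos, mul_one]

theorem weightedSum_eq_zero_aux {f : G → ℂ} (hf : IsClassFunction G f)
    (h0 : ∀ χ : IrrCharacter G, ∑ g : G, f g * (χ : G → ℂ) g = 0) (n : ℕ) :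
    ∀ (V : Type v) [AddCommGroup V] [Module ℂ V] [FiniteDimensional ℂ V]
      (ρ : Representation ℂ G V), Module.finrank ℂ V = n → weightedSum f ρ = 0 := by
  induction n using Nat.strong_induction_on with
  | _ n ih =>
    intro V _ _ _ ρ hn
    rcases Nat.eq_zero_or_pos n with h0' | hpos
    · haveI : Subsingleton V := Module.finrank_zero_iff.mp (hn.trans h0')
      exact Subsingleton.elim _ _
    · haveI : Nontrivial V := Module.finrank_pos_iff.mp (hn ▸ hpos)
      haveI := isAtomic_subrepresentation ρ
      have htop : (⊤ : Subrepresentation ρ) ≠ ⊥ := by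
        intro h
        have h' : (⊤ : Submodule ℂ V) = ⊥ := congrArg Subrepresentation.toSubmodule h
        exact top_ne_bot h'
      obtain ⟨a, ha, -⟩ := (eq_bot_or_exists_atom_le (⊤ : Subrepresentation ρ)).resolve_left htop
      obtain ⟨b, hab⟩ := exists_isCompl a
      have hc := isCompl_toSubmodule hab
      have hsum := Submodule.finrank_add_eq_of_isCompl hc
      have hapos : 0 < Module.finrank ℂ a.toSubmodule := by
        rw [Module.finrank_pos_iff, Submodule.nontrivial_iff_ne_bot]
        intro h
        exact ha.1 (Subrepresentation.toSubmodule_injective h)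
      have hb : Module.finrank ℂ b.toSubmodule < n := by omega
      have hTb := ih _ hb b.toSubmodule b.toRepresentation rfl
      have hirr := isIrreducible_of_isAtom a ha
      have hTa : weightedSum f a.toRepresentation = 0 := by
        rw [weightedSum_eq_smul_of_irreducible hf _ hirr]
        have := h0 ⟨_, isIrrCharacter_of_isIrreducible a.toRepresentation hirr⟩
        simp only at this
        rw [this, zero_div, zero_smul]
      apply LinearMap.ext
      intro v
      have hv : v ∈ a.toSubmodule ⊔ b.toSubmodule := by rw [hc.sup_eq_top]; trivial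
      obtain ⟨x, hx, y, hy, rfl⟩ := Submodule.mem_sup.mp hv
      rw [map_add]
      have e1 := weightedSum_subrep_apply f ρ a ⟨x, hx⟩
      have e2 := weightedSum_subrep_apply f ρ b ⟨y, hy⟩
      simp only at e1 e2
      rw [e1, e2, hTa, hTb]
      simp

/-- Completeness: a class function whose pairing with every irreducible character vanishes is
zero. -/
theorem eq_zero_of_forall_sum_mul_irr_eq_zero {f : G → ℂ} (hf : IsClassFunction G f)
    (h0 : ∀ χ : IrrCharacter G, ∑ g : G, f g * (χ : G → ℂ) g = 0) : f = 0 := by
  classical
  have hT := weightedSum_eq_zero_aux hf h0 _ (G → ℂ) (funRegRep G) rfl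
  funext x
  have := congrFun (congrArg (fun T : Module.End ℂ (G → ℂ) => T (Pi.single 1 1)) hT) x
  simp only [weightedSum, LinearMap.sum_apply, LinearMap.smul_apply, Finset.sum_apply,
    Pi.smul_apply, funRegRep_apply, smul_eq_mul, LinearMap.zero_apply, Pi.zero_apply] at this
  rw [Finset.sum_eq_single x] at this
  · simpa using this
  · intro g _ hg
    have : g⁻¹ * x ≠ 1 := by
      intro h
      apply hg
      rw [inv_mul_eq_one] at h
      exact h
    simp [this]
  · intro h; exact absurd (Finset.mem_univ x) h

end Completeness

section ClassFunctions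

variable {G : Type u} [Group G]

theorem isClassFunction_irr (χ : IrrCharacter G) : IsClassFunction G (χ : G → ℂ) :=
  IsCharacter.isClassFunction (IsIrrCharacter.isCharacter χ.2)

theorem IsClassFunction.eq_of_isConj {f : G → ℂ} (hf : IsClassFunction G f) {g h : G}
    (hc : IsConj g h) : f g = f h := by
  obtain ⟨c, hc⟩ := isConj_iff.mp hc
  rw [← hc, hf g c]

theorem isClassFunction_sum {ι : Type*} (s : Finset ι) (f : ι → G → ℂ)
    (h : ∀ i ∈ s, IsClassFunction G (f i)) : IsClassFunction G (∑ i ∈ s, f i) := by
  intro g x
  simp only [Finset.sum_apply]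
  exact Finset.sum_congr rfl (fun i hi => h i hi g x)

theorem isClassFunction_smul (c : ℂ) {f : G → ℂ} (h : IsClassFunction G f) :
    IsClassFunction G (c • f) := by
  intro g x
  simp only [Pi.smul_apply, h g x]

theorem isClassFunction_add {f₁ f₂ : G → ℂ} (h₁ : IsClassFunction G f₁)
    (h₂ : IsClassFunction G f₂) : IsClassFunction G (f₁ + f₂) := by
  intro g x
  simp only [Pi.add_apply, h₁ g x, h₂ g x]

theorem isClassFunction_sub {f₁ f₂ : G → ℂ} (h₁ : IsClassFunction G f₁)
    (h₂ : IsClassFunction G f₂) : IsClassFunction G (f₁ - f₂) := by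
  intro g x
  simp only [Pi.sub_apply, h₁ g x, h₂ g x]

theorem isClassFunction_conj {f : G → ℂ} (h : IsClassFunction G f) :
    IsClassFunction G (fun g => conj (f g)) := by
  intro g x
  simp only [h g x]

end ClassFunctions

section Expansion

variable {G : Type u} [Group G] [Fintype G]

/-- Completeness in terms of `classInner`. -/
theorem eq_zero_of_forall_classInner_irr_eq_zero {f : G → ℂ} (hf : IsClassFunction G f)
    (h0 : ∀ χ : IrrCharacter G, classInner f (χ : G → ℂ) = 0) : f = 0 := by
  have hconj : (fun g => conj (f g)) = 0 := by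
    apply eq_zero_of_forall_sum_mul_irr_eq_zero (isClassFunction_conj hf)
    intro χ
    have h := h0 χ
    unfold classInner at h
    have hne : (Nat.card G : ℂ)⁻¹ ≠ 0 := inv_ne_zero (NeZero.ne _)
    have h' := (mul_eq_zero.mp h).resolve_left hne
    have := congrArg conj h'
    simpa [map_sum] using this
  funext g
  have := congrFun hconj g
  simpa using this

/-- Every class function is the sum of its projections to the irreducible characters. -/
theorem classFunction_eq_sum_irr {f : G → ℂ} (hf : IsClassFunction G f) :
    f = ∑ χ : IrrCharacter G, classInner f (χ : G → ℂ) • (χ : G → ℂ) := by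
  classical
  have hd : f - ∑ χ : IrrCharacter G, classInner f (χ : G → ℂ) • (χ : G → ℂ) = 0 := by
    apply eq_zero_of_forall_classInner_irr_eq_zero
    · apply isClassFunction_sub hf
      apply isClassFunction_sum
      intro χ _
      exact isClassFunction_smul _ (isClassFunction_irr χ)
    · intro ψ
      rw [sub_eq_add_neg, classInner_add_left, ← neg_one_smul ℂ, classInner_smul_left,
        classInner_sum_left]
      simp only [classInner_smul_left]
      rw [Finset.sum_eq_single ψ]
      · rw [classInner_irr_self ψ.2]; ring
      · intro χ _ hne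
        rw [classInner_irr_ne χ.2 ψ.2 (fun h => hne (Subtype.ext h)), mul_zero]
      · intro h; exact absurd (Finset.mem_univ ψ) h
  exact sub_eq_zero.mp hd

open Classical in
theorem card_isConj_eq_index (g : G) :
    (Finset.univ.filter (fun x : G => IsConj g x)).card =
      (Subgroup.centralizer ({g} : Set G)).index := by
  have h1 : (Subgroup.centralizer ({g} : Set G)).index =
      (MulAction.stabilizer (ConjAct G) g).index := by
    rw [ConjAct.stabilizer_eq_centralizer]; rfl
  rw [h1, MulAction.index_stabilizer, Set.ncard_eq_toFinset_card']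
  congr 1
  ext x
  simp only [Finset.mem_filter, Finset.mem_univ, true_and, Set.mem_toFinset]
  rw [ConjAct.mem_orbit_conjAct, isConj_comm]

/-- The indicator function of the conjugacy class of `h`. -/
noncomputable def classIndicator (h : G) : G → ℂ := by
  classical exact fun x => if IsConj h x then 1 else 0

theorem isClassFunction_classIndicator (h : G) : IsClassFunction G (classIndicator h) := by
  classical
  intro g x
  unfold classIndicator
  have : IsConj h (x * g * x⁻¹) ↔ IsConj h g := by
    constructor
    · intro hc
      exact hc.trans (isConj_iff.mpr ⟨x⁻¹, by group⟩)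
    · intro hc
      exact hc.trans (isConj_iff.mpr ⟨x, rfl⟩)
  simp only [this]

theorem classInner_classIndicator (h : G) {χ : G → ℂ} (hχ : IsClassFunction G χ) :
    classInner (classIndicator h) χ =
      (Nat.card G : ℂ)⁻¹ * ((Subgroup.centralizer ({h} : Set G)).index : ℂ) * conj (χ h) := by
  classical
  unfold classInner classIndicator
  rw [mul_assoc]
  congr 1
  rw [← card_isConj_eq_index h]
  simp only [ite_mul, one_mul, zero_mul]
  rw [← Finset.sum_filter]
  rw [Finset.sum_congr rfl (g := fun _ => conj (χ h))]
  · simp
  · intro x hx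
    simp only [Finset.mem_filter, Finset.mem_univ, true_and] at hx
    obtain ⟨c, hc⟩ := isConj_iff.mp hx
    rw [← hc, hχ h c]

theorem index_centralizer_eq_of_isConj {g h : G} (hc : IsConj g h) :
    (Subgroup.centralizer ({g} : Set G)).index = (Subgroup.centralizer ({h} : Set G)).index := by
  classical
  rw [← card_isConj_eq_index g, ← card_isConj_eq_index h]
  congr 1
  ext x
  simp only [Finset.mem_filter, Finset.mem_univ, true_and]
  exact ⟨fun h' => hc.symm.trans h', fun h' => hc.trans h'⟩

theorem card_centralizer_eq_of_isConj {g h : G} (hc : IsConj g h) :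
    Nat.card (Subgroup.centralizer ({g} : Set G)) =
      Nat.card (Subgroup.centralizer ({h} : Set G)) := by
  have h1 := (Subgroup.centralizer ({g} : Set G)).card_mul_index
  have h2 := (Subgroup.centralizer ({h} : Set G)).card_mul_index
  rw [index_centralizer_eq_of_isConj hc] at h1
  have hpos : 0 < (Subgroup.centralizer ({h} : Set G)).index :=
    Nat.pos_of_ne_zero (Subgroup.index_ne_zero_of_finite)
  exact Nat.eq_of_mul_eq_mul_right hpos (h1.trans h2.symm)

theorem sum_irr_mul_conj_eq (g h : G) :
    ∑ χ : IrrCharacter G, (χ : G → ℂ) g * conj ((χ : G → ℂ) h) =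
      (Nat.card (Subgroup.centralizer ({h} : Set G)) : ℂ) * classIndicator h g := by
  classical
  have hexp := congrFun (classFunction_eq_sum_irr (isClassFunction_classIndicator h)) g
  simp only [Finset.sum_apply, Pi.smul_apply, smul_eq_mul] at hexp
  have hidx : ((Subgroup.centralizer ({h} : Set G)).index : ℂ) ≠ 0 := by
    have := (Subgroup.centralizer ({h} : Set G)).index_ne_zero_of_finite
    exact_mod_cast this
  have hcard : (Nat.card G : ℂ) ≠ 0 := NeZero.ne _
  have hci : (Nat.card (Subgroup.centralizer ({h} : Set G)) : ℂ) *
      ((Subgroup.centralizer ({h} : Set G)).index : ℂ) = (Nat.card G : ℂ) := by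
    exact_mod_cast (Subgroup.centralizer ({h} : Set G)).card_mul_index
  rw [hexp, Finset.mul_sum]
  apply Finset.sum_congr rfl
  intro χ _
  rw [classInner_classIndicator h (isClassFunction_irr χ), ← hci]
  field_simp

/-- Second orthogonality relation, conjugate case. -/
theorem second_orthogonality_of_isConj {g h : G} (hc : IsConj g h) :
    ∑ χ : IrrCharacter G, (χ : G → ℂ) g * conj ((χ : G → ℂ) h) =
      (Nat.card (Subgroup.centralizer ({g} : Set G)) : ℂ) := by
  classical
  rw [sum_irr_mul_conj_eq, card_centralizer_eq_of_isConj hc]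
  unfold classIndicator
  rw [if_pos hc.symm, mul_one]

/-- Second orthogonality relation, non-conjugate case. -/
theorem second_orthogonality_of_not_isConj {g h : G} (hc : ¬ IsConj g h) :
    ∑ χ : IrrCharacter G, (χ : G → ℂ) g * conj ((χ : G → ℂ) h) = 0 := by
  classical
  rw [sum_irr_mul_conj_eq]
  unfold classIndicator
  rw [if_neg (fun h' => hc h'.symm), mul_zero]

/-- The pullback of functions on conjugacy classes to class functions. -/
noncomputable def classPullback (G : Type u) [Group G] : (ConjClasses G → ℂ) →ₗ[ℂ] (G → ℂ) :=
  LinearMap.funLeft ℂ ℂ ConjClasses.mk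

omit [Fintype G] in
theorem classPullback_injective : Function.Injective (classPullback G) :=
  LinearMap.funLeft_injective_of_surjective ℂ ℂ _ ConjClasses.mk_surjective

omit [Fintype G] in
theorem mem_range_classPullback_iff (f : G → ℂ) :
    f ∈ LinearMap.range (classPullback G) ↔ IsClassFunction G f := by
  constructor
  · rintro ⟨φ, rfl⟩ g x
    simp only [classPullback, LinearMap.funLeft_apply]
    congr 1
    exact ConjClasses.mk_eq_mk_iff_isConj.mpr (isConj_iff.mpr ⟨x, rfl⟩).symm
  · intro hf
    refine ⟨fun c => f (Quotient.out c), ?_⟩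
    funext g
    simp only [classPullback, LinearMap.funLeft_apply]
    apply IsClassFunction.eq_of_isConj hf
    rw [← ConjClasses.mk_eq_mk_iff_isConj]
    exact Quotient.out_eq _

theorem span_irr_eq_range_classPullback :
    Submodule.span ℂ (Set.range (fun χ : IrrCharacter G => (χ : G → ℂ))) =
      LinearMap.range (classPullback G) := by
  apply le_antisymm
  · rw [Submodule.span_le]
    rintro _ ⟨χ, rfl⟩
    exact (mem_range_classPullback_iff _).mpr (isClassFunction_irr χ)
  · intro f hf
    rw [mem_range_classPullback_iff] at hf
    rw [classFunction_eq_sum_irr hf]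
    apply Submodule.sum_mem
    intro χ _
    exact Submodule.smul_mem _ _ (Submodule.subset_span ⟨χ, rfl⟩)

/-- The number of irreducible characters equals the number of conjugacy classes. -/
theorem card_irrCharacter : Nat.card (IrrCharacter G) = Nat.card (ConjClasses G) := by
  classical
  have h1 := finrank_span_eq_card (irr_linearIndependent (G := G))
  rw [span_irr_eq_range_classPullback, LinearMap.finrank_range_of_inj classPullback_injective,
    Module.finrank_fintype_fun_eq_card] at h1
  rw [Nat.card_eq_fintype_card, Nat.card_eq_fintype_card]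
  exact h1.symm

end Expansion

end Cfsg.Agent.Lib.Helper78
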