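import Mathlib
import Cfsg.Agent.Lib.Helper78.CharOrtho

/-!
# More character theory: degrees, multiplicities, irreducibility criterion

Shared library by helper78.
-/

set_option autoImplicit false
set_option linter.style.haveILetI false

namespace Cfsg.Agent.Lib.Helper78

open Representation
open scoped MonoidAlgebra ComplexConjugate

universe u v w

section Sums

variable {G : Type u} [Group G]

theorem isCharacter_zero : IsCharacter G (0 : G → ℂ) := by
  refine ⟨0, Representation.trivial ℂ G (Fin 0 → ℂ), ?_⟩
  exact character_eq_zero_of_finrank_eq_zero _ (by simp)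

theorem character_prod {V : Type v} {W : Type w} [AddCommGroup V] [Module ℂ V]
    [FiniteDimensional ℂ V] [AddCommGroup W] [Module ℂ W] [FiniteDimensional ℂ W]
    (ρ : Representation ℂ G V) (σ : Representation ℂ G W) :
    (ρ.prod σ).character = ρ.character + σ.character := by
  funext g
  simp only [Representation.character, Pi.add_apply]
  exact LinearMap.trace_prodMap' (ρ g) (σ g)

theorem IsCharacter.add {χ ψ : G → ℂ} (hχ : IsCharacter G χ) (hψ : IsCharacter G ψ) :
    IsCharacter G (χ + ψ) := by
  obtain ⟨n, ρ, rfl⟩ := hχ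
  obtain ⟨m, σ, rfl⟩ := hψ
  rw [← character_prod]
  exact isCharacter_of_rep _

theorem isCharacter_list_sum (l : List (G → ℂ)) (h : ∀ χ ∈ l, IsCharacter G χ) :
    IsCharacter G l.sum := by
  induction l with
  | nil => exact isCharacter_zero
  | cons χ l ih =>
    rw [List.sum_cons]
    exact IsCharacter.add (h χ List.mem_cons_self)
      (ih (fun ψ hψ => h ψ (List.mem_cons_of_mem _ hψ)))

theorem IsCharacter.nsmul {χ : G → ℂ} (hχ : IsCharacter G χ) (n : ℕ) :
    IsCharacter G ((n : ℂ) • χ) := by
  induction n with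
  | zero => simpa using isCharacter_zero
  | succ n ih =>
    have : ((n + 1 : ℕ) : ℂ) • χ = (n : ℂ) • χ + χ := by
      rw [Nat.cast_succ, add_smul, one_smul]
    rw [this]
    exact IsCharacter.add ih hχ

theorem isCharacter_finset_sum {ι : Type*} (s : Finset ι) (f : ι → G → ℂ)
    (h : ∀ i ∈ s, IsCharacter G (f i)) : IsCharacter G (∑ i ∈ s, f i) := by
  classical
  induction s using Finset.induction_on with
  | empty => simpa using isCharacter_zero
  | insert a s ha ih =>
    rw [Finset.sum_insert ha]
    exact IsCharacter.add (h a (Finset.mem_insert_self a s))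
      (ih (fun i hi => h i (Finset.mem_insert_of_mem hi)))

/-- The principal character is irreducible. -/
theorem isIrrCharacter_one : IsIrrCharacter G (fun _ : G => (1 : ℂ)) := by
  refine ⟨1, Representation.trivial ℂ G (Fin 1 → ℂ), ?_, ?_⟩
  · rw [irreducible_iff_isSimpleModule_asModule]
    -- a one-dimensional module is simple
    have h1 : Module.finrank ℂ (Fin 1 → ℂ) = 1 := by simp
    have hs : IsSimpleModule ℂ (Fin 1 → ℂ) := isSimpleModule_iff_finrank_eq_one.mpr h1
    rw [isSimpleModule_iff] at hs ⊢
    -- every ℂ[G]-submodule is in particular a ℂ-submodule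
    let ρ := Representation.trivial ℂ G (Fin 1 → ℂ)
    have : IsSimpleOrder (Subrepresentation ρ) := by
      refine { exists_pair_ne := ⟨⊥, ⊤, ?_⟩, eq_bot_or_eq_top := ?_ }
      · intro h
        have h' : (⊥ : Submodule ℂ (Fin 1 → ℂ)) = ⊤ := congrArg Subrepresentation.toSubmodule h
        exact bot_ne_top h'
      · intro a
        rcases eq_bot_or_eq_top a.toSubmodule with h | h
        · left; exact Subrepresentation.toSubmodule_injective h
        · right; exact Subrepresentation.toSubmodule_injective h
    exact (OrderIso.isSimpleOrder_iff Subrepresentation.subrepresentationSubmoduleOrderIso).mp this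
  · funext g
    simp [Representation.character]

end Sums

section Mult

variable {G : Type u} [Group G] [Fintype G]

/-- The multiplicity of an irreducible character in a list. -/
theorem classInner_list_sum_irr (l : List (IrrCharacter G)) (ψ : IrrCharacter G) :
    classInner (l.map (fun χ : IrrCharacter G => χ.1)).sum (ψ : G → ℂ) = (l.count ψ : ℂ) := by
  classical
  induction l with
  | nil => simp [classInner_zero_left]
  | cons χ l ih =>
    rw [List.map_cons, List.sum_cons, classInner_add_left, ih, List.count_cons,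
      classInner_irr χ.2 ψ.2]
    by_cases h : χ = ψ
    · subst h
      simp; ring
    · have h' : (χ : G → ℂ) ≠ ψ := fun h'' => h (Subtype.ext h'')
      simp [h']

/-- Every character is a natural-number combination of irreducible characters, the
coefficients being the inner products. -/
theorem IsCharacter.exists_nat_classInner {χ : G → ℂ} (hχ : IsCharacter G χ)
    (ψ : IrrCharacter G) : ∃ n : ℕ, classInner χ (ψ : G → ℂ) = n := by
  obtain ⟨n, ρ, rfl⟩ := hχ
  obtain ⟨l, hl⟩ := exists_irr_list ρ
  rw [hl]
  exact ⟨_, classInner_list_sum_irr l ψ⟩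

/-- A character is the sum of its irreducible constituents with multiplicities. -/
theorem IsCharacter.eq_sum_irr {χ : G → ℂ} (hχ : IsCharacter G χ) :
    χ = ∑ ψ : IrrCharacter G, classInner χ (ψ : G → ℂ) • (ψ : G → ℂ) :=
  classFunction_eq_sum_irr (IsCharacter.isClassFunction hχ)

/-- Characterisation of characters: natural-number combinations of irreducible characters. -/
theorem isCharacter_iff_exists_nat_combination (χ : G → ℂ) :
    IsCharacter G χ ↔ ∃ m : IrrCharacter G → ℕ, χ = ∑ ψ : IrrCharacter G, (m ψ : ℂ) • (ψ : G → ℂ) := by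
  constructor
  · intro hχ
    choose m hm using fun ψ => IsCharacter.exists_nat_classInner hχ ψ
    refine ⟨m, ?_⟩
    conv_lhs => rw [IsCharacter.eq_sum_irr hχ]
    exact Finset.sum_congr rfl (fun ψ _ => by rw [hm ψ])
  · rintro ⟨m, rfl⟩
    apply isCharacter_finset_sum
    intro ψ _
    exact IsCharacter.nsmul (IsIrrCharacter.isCharacter ψ.2) _

/-- Inner product of a natural combination with an irreducible character. -/
theorem classInner_nat_combination (m : IrrCharacter G → ℂ) (ψ : IrrCharacter G) :
    classInner (∑ φ : IrrCharacter G, m φ • (φ : G → ℂ)) (ψ : G → ℂ) = m ψ := by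
  classical
  rw [classInner_sum_left]
  simp only [classInner_smul_left]
  rw [Finset.sum_eq_single ψ]
  · rw [classInner_irr_self ψ.2, mul_one]
  · intro φ _ hne
    rw [classInner_irr_ne φ.2 ψ.2 (fun h => hne (Subtype.ext h)), mul_zero]
  · intro h; exact absurd (Finset.mem_univ ψ) h

/-- Parseval: the inner product of two class functions in terms of coefficients. -/
theorem classInner_eq_sum_mul_conj {f₁ : G → ℂ} (f₂ : G → ℂ) (h₁ : IsClassFunction G f₁) :
    classInner f₁ f₂ = ∑ ψ : IrrCharacter G,
      classInner f₁ (ψ : G → ℂ) * conj (classInner f₂ (ψ : G → ℂ)) := by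
  conv_lhs => rw [classFunction_eq_sum_irr h₁]
  rw [classInner_sum_left]
  apply Finset.sum_congr rfl
  intro ψ _
  rw [classInner_smul_left, classInner_conj_symm]

/-- Sum of squares of the degrees. -/
theorem sum_irr_apply_one_sq :
    ∑ χ : IrrCharacter G, ((χ : G → ℂ) 1) ^ 2 = (Nat.card G : ℂ) := by
  have h := second_orthogonality_of_isConj (G := G) (IsConj.refl (1 : G))
  have hc : Subgroup.centralizer ({1} : Set G) = ⊤ := by
    ext x; simp [Subgroup.mem_centralizer_iff]
  rw [hc, Subgroup.card_top] at h
  rw [← h]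
  apply Finset.sum_congr rfl
  intro χ _
  rw [IsCharacter.apply_one_eq_charDegree (IsIrrCharacter.isCharacter χ.2)]
  simp [sq]

theorem sum_irr_charDegree_sq :
    ∑ χ : IrrCharacter G, (charDegree (χ : G → ℂ)) ^ 2 = Nat.card G := by
  have h := sum_irr_apply_one_sq (G := G)
  have h2 : ∑ χ : IrrCharacter G, ((χ : G → ℂ) 1) ^ 2 =
      ((∑ χ : IrrCharacter G, (charDegree (χ : G → ℂ)) ^ 2 : ℕ) : ℂ) := by
    push_cast
    apply Finset.sum_congr rfl
    intro χ _
    rw [IsCharacter.apply_one_eq_charDegree (IsIrrCharacter.isCharacter χ.2)]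
  rw [h2] at h
  exact_mod_cast h

/-- The irreducible characters separate conjugacy classes. -/
theorem isConj_of_forall_irr_eq {g h : G} (hgh : ∀ χ : IrrCharacter G, (χ : G → ℂ) g = (χ : G → ℂ) h) :
    IsConj g h := by
  by_contra hc
  have h0 := second_orthogonality_of_not_isConj hc
  have h1 := second_orthogonality_of_isConj (IsConj.refl h)
  have : ∑ χ : IrrCharacter G, (χ : G → ℂ) g * conj ((χ : G → ℂ) h) =
      ∑ χ : IrrCharacter G, (χ : G → ℂ) h * conj ((χ : G → ℂ) h) :=
    Finset.sum_congr rfl (fun χ _ => by rw [hgh χ])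
  rw [this, h1] at h0
  have hpos : (Nat.card (Subgroup.centralizer ({h} : Set G)) : ℂ) ≠ 0 := by
    exact_mod_cast (Nat.card_pos (α := Subgroup.centralizer ({h} : Set G))).ne'
  exact hpos h0

/-- A character with norm one is irreducible. -/
theorem isIrrCharacter_of_classInner_self_eq_one {χ : G → ℂ} (hχ : IsCharacter G χ)
    (h1 : classInner χ χ = 1) : IsIrrCharacter G χ := by
  classical
  obtain ⟨m, hm⟩ := (isCharacter_iff_exists_nat_combination χ).mp hχ
  have hcoef : ∀ ψ : IrrCharacter G, classInner χ (ψ : G → ℂ) = (m ψ : ℂ) := by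
    intro ψ
    rw [hm]
    exact classInner_nat_combination (fun φ => (m φ : ℂ)) ψ
  have hP := classInner_eq_sum_mul_conj χ (IsCharacter.isClassFunction hχ)
  rw [h1] at hP
  simp only [hcoef, Complex.conj_natCast] at hP
  have hN : ∑ ψ : IrrCharacter G, m ψ * m ψ = 1 := by
    have : ((∑ ψ : IrrCharacter G, m ψ * m ψ : ℕ) : ℂ) = 1 := by
      push_cast; exact hP.symm
    exact_mod_cast this
  -- exactly one coefficient is 1, the others vanish
  have hex : ∃ ψ, m ψ ≠ 0 := by
    by_contra hall
    simp only [not_exists, not_not] at hall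
    simp [hall] at hN
  obtain ⟨ψ₀, hψ₀⟩ := hex
  have hle : ∀ ψ, m ψ * m ψ ≤ 1 := by
    intro ψ
    rw [← hN]
    exact Finset.single_le_sum (f := fun ψ => m ψ * m ψ) (fun _ _ => Nat.zero_le _)
      (Finset.mem_univ ψ)
  have hm₀ : m ψ₀ = 1 := by
    have := hle ψ₀
    nlinarith [Nat.pos_of_ne_zero hψ₀]
  have hrest : ∀ ψ, ψ ≠ ψ₀ → m ψ = 0 := by
    intro ψ hne
    by_contra hpos
    have h2 : m ψ₀ * m ψ₀ + m ψ * m ψ ≤ ∑ φ : IrrCharacter G, m φ * m φ := by
      have := Finset.add_le_sum (f := fun φ => m φ * m φ) (s := Finset.univ)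
        (fun _ _ => Nat.zero_le _) (Finset.mem_univ ψ₀) (Finset.mem_univ ψ) hne.symm
      simpa using this
    rw [hN, hm₀] at h2
    have : 0 < m ψ * m ψ := Nat.mul_pos (Nat.pos_of_ne_zero hpos) (Nat.pos_of_ne_zero hpos)
    omega
  have : χ = (ψ₀ : G → ℂ) := by
    rw [hm, Finset.sum_eq_single ψ₀]
    · rw [hm₀]; simp
    · intro ψ _ hne
      rw [hrest ψ hne]; simp
    · intro h; exact absurd (Finset.mem_univ ψ₀) h
  rw [this]
  exact ψ₀.2

theorem isIrrCharacter_iff_classInner_self {χ : G → ℂ} (hχ : IsCharacter G χ) :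
    IsIrrCharacter G χ ↔ classInner χ χ = 1 :=
  ⟨fun h => classInner_irr_self h, isIrrCharacter_of_classInner_self_eq_one hχ⟩

end Mult

end Cfsg.Agent.Lib.Helper78
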