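import Mathlib
import Cfsg.Agent.Lib.Helper78.CharMore

/-!
# Sums over blocks, conjugacy classes and subgroups

Shared library by helper78: Frobenius reciprocity for `indFun`, class-function sums sorted by
conjugacy classes, and the basic identities for the idempotent coefficients `blockCoeff`.
-/

set_option autoImplicit false
set_option linter.style.haveILetI false

namespace Cfsg.Agent.Lib.Helper78

open scoped ComplexConjugate

universe u

theorem finsum_mem_eq_sum_filter_univ {α : Type*} {N : Type*} [AddCommMonoid N] [Fintype α]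
    (s : Set α) [DecidablePred (· ∈ s)] (f : α → N) :
    ∑ᶠ i ∈ s, f i = ∑ i ∈ Finset.univ.filter (· ∈ s), f i := by
  apply finsum_mem_eq_sum_of_inter_support_eq
  simp

section Frobenius

variable {G : Type u} [Group G]

theorem extendByZero_apply_mem (H : Subgroup G) (θ : H → ℂ) (h : H) :
    extendByZero H θ (h : G) = θ h := by
  unfold extendByZero
  exact Subtype.val_injective.extend_apply θ 0 h

theorem extendByZero_apply_of_mem (H : Subgroup G) (θ : H → ℂ) {g : G} (hg : g ∈ H) :
    extendByZero H θ g = θ ⟨g, hg⟩ :=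
  extendByZero_apply_mem H θ ⟨g, hg⟩

theorem extendByZero_apply_not_mem (H : Subgroup G) (θ : H → ℂ) {g : G} (hg : g ∉ H) :
    extendByZero H θ g = 0 := by
  unfold extendByZero
  rw [Function.extend_apply']
  · rfl
  · rintro ⟨h, rfl⟩
    exact hg h.2

variable [Fintype G]

theorem sum_extendByZero_mul (H : Subgroup G) [Fintype H] (θ : H → ℂ) (F : G → ℂ) :
    ∑ g : G, extendByZero H θ g * F g = ∑ h : H, θ h * F h := by
  classical
  rw [← Finset.sum_filter_add_sum_filter_not Finset.univ (fun g => g ∈ H)]
  have h2 : ∑ g ∈ Finset.univ.filter (fun g => ¬ g ∈ H), extendByZero H θ g * F g = 0 := by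
    apply Finset.sum_eq_zero
    intro g hg
    simp only [Finset.mem_filter, Finset.mem_univ, true_and] at hg
    rw [extendByZero_apply_not_mem H θ hg, zero_mul]
  rw [h2, add_zero]
  rw [Finset.sum_subtype (Finset.univ.filter (fun g => g ∈ H)) (p := fun g => g ∈ H)
    (by simp) (fun g => extendByZero H θ g * F g)]
  apply Finset.sum_congr rfl
  intro h _
  rw [extendByZero_apply_mem]

/-- Frobenius reciprocity, as an identity between functions. -/
theorem classInner_indFun (H : Subgroup G) [Fintype H] (θ : H → ℂ) {f : G → ℂ}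
    (hf : IsClassFunction G f) :
    classInner (indFun H θ) f = classInner θ (fun h : H => f h) := by
  unfold classInner indFun
  have hG : (Nat.card G : ℂ) ≠ 0 := NeZero.ne _
  have key : ∑ g : G, (∑ x : G, extendByZero H θ (x⁻¹ * g * x)) * conj (f g) =
      (Nat.card G : ℂ) * ∑ h : H, θ h * conj (f h) := by
    simp_rw [Finset.sum_mul]
    rw [Finset.sum_comm]
    have : ∀ x : G, ∑ g : G, extendByZero H θ (x⁻¹ * g * x) * conj (f g) =
        ∑ h : H, θ h * conj (f h) := by
      intro x
      rw [← sum_extendByZero_mul H θ (fun g => conj (f g))]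
      rw [← Equiv.sum_comp (MulAut.conj x).toEquiv
        (fun g => extendByZero H θ (x⁻¹ * g * x) * conj (f g))]
      apply Finset.sum_congr rfl
      intro g _
      simp only [MulEquiv.toEquiv_eq_coe, EquivLike.coe_coe, MulAut.conj_apply]
      rw [hf g x]
      congr 2
      group
    rw [Finset.sum_congr rfl (fun x _ => this x)]
    simp [Nat.card_eq_fintype_card]
  calc (Nat.card G : ℂ)⁻¹ * ∑ g : G, (Nat.card H : ℂ)⁻¹ *
        (∑ x : G, extendByZero H θ (x⁻¹ * g * x)) * conj (f g)
      = (Nat.card G : ℂ)⁻¹ * ((Nat.card H : ℂ)⁻¹ *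
        ∑ g : G, (∑ x : G, extendByZero H θ (x⁻¹ * g * x)) * conj (f g)) := by
        congr 1
        rw [Finset.mul_sum]
        apply Finset.sum_congr rfl
        intro g _
        ring
    _ = (Nat.card H : ℂ)⁻¹ * ∑ h : H, θ h * conj (f h) := by
        rw [key]
        field_simp

end Frobenius

section ClassSums

variable {G : Type u} [Group G] [Fintype G]

open Classical in
/-- Sum of a class function over the group as a sum over conjugacy classes. -/
theorem sum_eq_sum_conjClasses {F : G → ℂ} (hF : IsClassFunction G F) :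
    ∑ g : G, F g = ∑ c : ConjClasses G,
      ((Subgroup.centralizer ({Quotient.out c} : Set G)).index : ℂ) * F (Quotient.out c) := by
  classical
  rw [← Finset.sum_fiberwise Finset.univ (fun g : G => ConjClasses.mk g) F]
  apply Finset.sum_congr rfl
  intro c _
  rw [← card_isConj_eq_index (Quotient.out c)]
  have hset : Finset.univ.filter (fun g : G => ConjClasses.mk g = c) =
      Finset.univ.filter (fun g : G => IsConj (Quotient.out c) g) := by
    ext g
    simp only [Finset.mem_filter, Finset.mem_univ, true_and]
    rw [← ConjClasses.mk_eq_mk_iff_isConj]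
    have : ConjClasses.mk (Quotient.out c) = c := Quotient.out_eq c
    rw [this]
    exact eq_comm
  rw [hset, Finset.sum_congr rfl (g := fun _ => F (Quotient.out c))]
  · simp
  · intro g hg
    simp only [Finset.mem_filter, Finset.mem_univ, true_and] at hg
    exact (IsClassFunction.eq_of_isConj hF hg).symm

omit [Fintype G] in
theorem isClassFunction_blockCoeff (B : Set (IrrCharacter G)) :
    IsClassFunction G (blockCoeff B) := by
  classical
  intro g x
  unfold blockCoeff
  congr 1
  apply finsum_congr
  intro χ
  apply finsum_congr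
  intro _
  rw [isClassFunction_irr χ g x]

/-- Pairing the block idempotent coefficients with a function. -/
theorem sum_blockCoeff_mul (B : Set (IrrCharacter G)) [DecidablePred (· ∈ B)] (θ : G → ℂ) :
    ∑ g : G, blockCoeff B g * θ g =
      ∑ χ ∈ Finset.univ.filter (· ∈ B), (χ : G → ℂ) 1 * classInner θ (χ : G → ℂ) := by
  unfold blockCoeff classInner
  simp_rw [finsum_mem_eq_sum_filter_univ, Finset.mul_sum, Finset.sum_mul]
  rw [Finset.sum_comm]
  apply Finset.sum_congr rfl
  intro χ _
  apply Finset.sum_congr rfl
  intro g _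
  ring

/-- `ω_χ(e_B) = 1` for `χ ∈ B`, element form. -/
theorem sum_blockCoeff_mul_irr (B : Set (IrrCharacter G)) {χ : IrrCharacter G} (hχ : χ ∈ B) :
    ∑ g : G, blockCoeff B g * (χ : G → ℂ) g = (χ : G → ℂ) 1 := by
  classical
  rw [sum_blockCoeff_mul]
  rw [Finset.sum_eq_single χ]
  · rw [classInner_irr_self χ.2, mul_one]
  · intro ψ _ hne
    rw [classInner_irr_ne χ.2 ψ.2 (fun h => hne (Subtype.ext h).symm), mul_zero]
  · intro h
    exfalso; apply h
    simp [hχ]

theorem sum_blockCoeff_mul_irr_of_not_mem (B : Set (IrrCharacter G)) {χ : IrrCharacter G}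
    (hχ : χ ∉ B) : ∑ g : G, blockCoeff B g * (χ : G → ℂ) g = 0 := by
  classical
  rw [sum_blockCoeff_mul]
  apply Finset.sum_eq_zero
  intro ψ hψ
  simp only [Finset.mem_filter, Finset.mem_univ, true_and] at hψ
  have hne : (χ : G → ℂ) ≠ ψ := fun h => hχ ((Subtype.ext h : χ = ψ) ▸ hψ)
  rw [classInner_irr_ne χ.2 ψ.2 hne, mul_zero]

open Classical in
/-- `ω_χ(e_B) = 1` for `χ ∈ B`, as a sum over conjugacy classes of idempotent coefficient times
central character. -/
theorem sum_conjClasses_blockCoeff_mul_centralChar (B : Set (IrrCharacter G))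
    {χ : IrrCharacter G} (hχ : χ ∈ B) :
    ∑ c : ConjClasses G, blockCoeff B (Quotient.out c) * centralChar (χ : G → ℂ) (Quotient.out c)
      = 1 := by
  have h1 := sum_blockCoeff_mul_irr B hχ
  have hcf : IsClassFunction G (fun g => blockCoeff B g * (χ : G → ℂ) g) := by
    intro g x
    simp only [isClassFunction_blockCoeff B g x, isClassFunction_irr χ g x]
  rw [sum_eq_sum_conjClasses hcf] at h1
  have hne : (χ : G → ℂ) 1 ≠ 0 := IsIrrCharacter.apply_one_ne_zero χ.2
  have : ∑ c : ConjClasses G, blockCoeff B (Quotient.out c) *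
      centralChar (χ : G → ℂ) (Quotient.out c) =
      (∑ c : ConjClasses G, ((Subgroup.centralizer ({Quotient.out c} : Set G)).index : ℂ) *
        (blockCoeff B (Quotient.out c) * (χ : G → ℂ) (Quotient.out c))) / (χ : G → ℂ) 1 := by
    rw [Finset.sum_div]
    apply Finset.sum_congr rfl
    intro c _
    unfold centralChar
    ring
  rw [this, h1, div_self hne]

open Classical in
/-- A sum over a subgroup against a class function, sorted by conjugacy classes of the big group:
the inner sums are the induced central characters. -/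
theorem sum_subgroup_mul_eq_sum_conjClasses (H : Subgroup G) [Fintype H] (ζ : H → ℂ)
    (hζ1 : ζ 1 ≠ 0) {β : G → ℂ} (hβ : IsClassFunction G β) :
    ∑ h : H, ζ h * β h = ζ 1 * ∑ c : ConjClasses G,
      β (Quotient.out c) * inducedCentralChar H ζ (Quotient.out c) := by
  rw [← Finset.sum_fiberwise Finset.univ (fun h : H => ConjClasses.mk (h : G))
    (fun h => ζ h * β h), Finset.mul_sum]
  apply Finset.sum_congr rfl
  intro c _
  unfold inducedCentralChar
  rw [finsum_mem_eq_sum_filter_univ]
  have hset : Finset.univ.filter (fun h : H => ConjClasses.mk (h : G) = c) =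
      Finset.univ.filter (fun h : H => h ∈ {h : H | IsConj (Quotient.out c) (h : G)}) := by
    ext h
    simp only [Finset.mem_filter, Finset.mem_univ, true_and, Set.mem_ofPred_eq]
    rw [← ConjClasses.mk_eq_mk_iff_isConj]
    have : ConjClasses.mk (Quotient.out c) = c := Quotient.out_eq c
    rw [this]
    exact eq_comm
  rw [hset, Finset.mul_sum, Finset.mul_sum]
  apply Finset.sum_congr rfl
  intro h hh
  simp only [Finset.mem_filter, Finset.mem_univ, true_and, Set.mem_ofPred_eq] at hh
  rw [IsClassFunction.eq_of_isConj hβ hh]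
  field_simp

/-- The value of an induced function on the block idempotent. -/
theorem sum_blockCoeff_mul_indFun (H : Subgroup G) [Fintype H] (B : Set (IrrCharacter G))
    (ζ : H → ℂ) :
    ∑ g : G, blockCoeff B g * indFun H ζ g =
      ((Nat.card G : ℂ) / (Nat.card H : ℂ)) * ∑ h : H, ζ h * blockCoeff B h := by
  have hcf : IsClassFunction G (fun g => conj (blockCoeff B g)) :=
    isClassFunction_conj (isClassFunction_blockCoeff B)
  have h1 := classInner_indFun H ζ hcf
  unfold classInner at h1
  simp only [Complex.conj_conj] at h1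
  have hG : (Nat.card G : ℂ) ≠ 0 := NeZero.ne _
  have h2 : ∑ g : G, indFun H ζ g * blockCoeff B g =
      (Nat.card G : ℂ) * ((Nat.card H : ℂ)⁻¹ * ∑ h : H, ζ h * blockCoeff B h) := by
    rw [← h1]; field_simp
  rw [Finset.sum_congr rfl (fun g _ => mul_comm (blockCoeff B g) (indFun H ζ g)), h2]
  ring

end ClassSums

end Cfsg.Agent.Lib.Helper78
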