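import Mathlib

/-!
# Relative traces, twisting by a `p`-th root of unity, and vanishing of trace functionals

Let `R` be a commutative local ring, `𝒜` an `R`-algebra finite as an `R`-module, `g` a unit of
`𝒜`, `η ∈ R` with `η ^ p = 1` and `1 - η` in the maximal ideal, and `ε` an idempotent commuting
with `g` of the form `ε = ∑_{i<p} g^i a g^{-i} + b` with `a` commuting with `g ^ p`, `b` commuting
with `g` and `b ∈ 𝔪 𝒜`.  Then every trace functional `τ` (with values in a domain in which `η ≠ 1`)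
vanishes on `ε * g`  (`trace_mul_unit_eq_zero`).

This is the elementary core of Brauer's second main theorem (in Nagao's form).
-/

set_option autoImplicit false
set_option linter.unusedSectionVars false
set_option linter.style.haveILetI false

namespace Cfsg.Agent.Lib.Helper78

open Finset

section Units

variable {R : Type*} [CommRing R] [IsLocalRing R]
variable {A : Type*} [Ring A] [Algebra R A] [Module.Finite R A]

/-- `𝔪 A` as a submodule. -/
abbrev maxSub (R : Type*) [CommRing R] [IsLocalRing R] (A : Type*) [Ring A] [Algebra R A] :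
    Submodule R A :=
  (IsLocalRing.maximalIdeal R) • (⊤ : Submodule R A)

omit [Module.Finite R A] in
theorem maxSub_mul_right {c : A} (hc : c ∈ maxSub R A) (y : A) : c * y ∈ maxSub R A := by
  refine Submodule.smul_induction_on hc ?_ ?_
  · intro r hr n _
    rw [smul_mul_assoc]
    exact Submodule.smul_mem_smul hr Submodule.mem_top
  · intro u v hu hv
    rw [add_mul]
    exact Submodule.add_mem _ hu hv

omit [Module.Finite R A] in
theorem maxSub_mul_left {c : A} (hc : c ∈ maxSub R A) (y : A) : y * c ∈ maxSub R A := by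
  refine Submodule.smul_induction_on hc ?_ ?_
  · intro r hr n _
    rw [mul_smul_comm]
    exact Submodule.smul_mem_smul hr Submodule.mem_top
  · intro u v hu hv
    rw [mul_add]
    exact Submodule.add_mem _ hu hv

/-- `1 - c` is a unit for `c ∈ 𝔪 A`. -/
theorem isUnit_one_sub_of_mem_maxSub {c : A} (hc : c ∈ maxSub R A) : IsUnit (1 - c) := by
  have hjac : IsLocalRing.maximalIdeal R ≤ Ideal.jacobson ⊥ :=
    IsLocalRing.maximalIdeal_le_jacobson ⊥
  have hfg : (⊤ : Submodule R A).FG := Module.Finite.fg_top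
  -- right inverse
  have h1 : (⊤ : Submodule R A) ≤ LinearMap.range (LinearMap.mulLeft R (1 - c)) := by
    apply Submodule.le_of_le_smul_of_le_jacobson_bot hfg hjac
    intro y _
    have : y = (1 - c) * y + c * y := by noncomm_ring
    rw [this]
    exact Submodule.add_mem_sup ⟨y, rfl⟩ (maxSub_mul_right hc y)
  have h2 : (⊤ : Submodule R A) ≤ LinearMap.range (LinearMap.mulRight R (1 - c)) := by
    apply Submodule.le_of_le_smul_of_le_jacobson_bot hfg hjac
    intro y _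
    have : y = y * (1 - c) + y * c := by noncomm_ring
    rw [this]
    exact Submodule.add_mem_sup ⟨y, rfl⟩ (maxSub_mul_left hc y)
  obtain ⟨v, hv⟩ := h1 (Submodule.mem_top : (1 : A) ∈ ⊤)
  obtain ⟨v', hv'⟩ := h2 (Submodule.mem_top : (1 : A) ∈ ⊤)
  simp only [LinearMap.mulLeft_apply, LinearMap.mulRight_apply] at hv hv'
  have hvv : v' = v := by
    calc v' = v' * ((1 - c) * v) := by rw [hv, mul_one]
      _ = (v' * (1 - c)) * v := by rw [mul_assoc]
      _ = v := by rw [hv', one_mul]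
  exact ⟨⟨1 - c, v, hv, by rw [← hvv]; exact hv'⟩, rfl⟩

end Units

section Main

variable {R : Type*} [CommRing R] [IsLocalRing R]
variable {A : Type*} [Ring A] [Algebra R A] [Module.Finite R A]
variable {T : Type*} [CommRing T] [IsDomain T] [Algebra R T]

/-- The relative trace `∑_{i<p} g^i y g^{-i}`. -/
def relTr (p : ℕ) (g : Aˣ) (y : A) : A :=
  ∑ i ∈ range p, (↑(g ^ i) : A) * y * (↑(g ^ i)⁻¹ : A)

omit [IsLocalRing R] [Algebra R A] [Module.Finite R A] in
theorem relTr_mul_left (p : ℕ) (g : Aˣ) {l : A} (hl : (g : A) * l = l * g) (y : A) :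
    relTr p g (l * y) = l * relTr p g y := by
  unfold relTr
  rw [mul_sum]
  apply sum_congr rfl
  intro i _
  have h : (↑(g ^ i) : A) * l = l * ↑(g ^ i) := by
    rw [Units.val_pow_eq_pow_val]
    exact (Commute.pow_left (show Commute (g : A) l from hl) i).eq
  rw [← mul_assoc, h, mul_assoc, mul_assoc, mul_assoc]

omit [IsLocalRing R] [Algebra R A] [Module.Finite R A] in
theorem relTr_mul_right (p : ℕ) (g : Aˣ) {l : A} (hl : (g : A) * l = l * g) (y : A) :
    relTr p g (y * l) = relTr p g y * l := by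
  unfold relTr
  rw [sum_mul]
  apply sum_congr rfl
  intro i _
  have h : l * (↑(g ^ i)⁻¹ : A) = ↑(g ^ i)⁻¹ * l := by
    have h1 : (↑(g ^ i) : A) * l = l * ↑(g ^ i) := by
      rw [Units.val_pow_eq_pow_val]
      exact (Commute.pow_left (show Commute (g : A) l from hl) i).eq
    calc l * (↑(g ^ i)⁻¹ : A) = ↑(g ^ i)⁻¹ * (↑(g ^ i) * l) * ↑(g ^ i)⁻¹ := by
          rw [← mul_assoc, Units.inv_mul, one_mul]
      _ = ↑(g ^ i)⁻¹ * (l * ↑(g ^ i)) * ↑(g ^ i)⁻¹ := by rw [h1]
      _ = ↑(g ^ i)⁻¹ * l := by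
          rw [mul_assoc, mul_assoc, Units.mul_inv, mul_one]
  rw [mul_assoc, mul_assoc, h, ← mul_assoc, ← mul_assoc]

omit [IsLocalRing R] [Algebra R A] [Module.Finite R A] in
/-- Conjugating by `g` shifts the summands of the relative trace. -/
theorem unit_mul_relTr (p : ℕ) (g : Aˣ) {y : A}
    (hy : (↑(g ^ p) : A) * y = y * ↑(g ^ p)) :
    (g : A) * relTr p g y = relTr p g y * g := by
  have hshift : ∀ i : ℕ, (g : A) * ((↑(g ^ i) : A) * y * (↑(g ^ i)⁻¹ : A)) * (↑g⁻¹ : A) =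
      (↑(g ^ (i + 1)) : A) * y * (↑(g ^ (i + 1))⁻¹ : A) := by
    intro i
    have e1 : (↑(g ^ (i + 1)) : A) = (g : A) * ↑(g ^ i) := by
      rw [pow_succ', Units.val_mul]
    have e2 : (↑(g ^ (i + 1))⁻¹ : A) = (↑(g ^ i)⁻¹ : A) * ↑g⁻¹ := by
      rw [pow_succ', mul_inv_rev, Units.val_mul]
    rw [e1, e2]
    noncomm_ring
  have hp0 : (↑(g ^ p) : A) * y * (↑(g ^ p)⁻¹ : A) = y := by
    rw [hy, mul_assoc, Units.mul_inv, mul_one]
  have hconj : (g : A) * relTr p g y * (↑g⁻¹ : A) = relTr p g y := by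
    unfold relTr
    rw [mul_sum, sum_mul]
    simp_rw [hshift]
    have h1 := sum_range_succ (fun i => (↑(g ^ i) : A) * y * (↑(g ^ i)⁻¹ : A)) p
    have h2 := sum_range_succ' (fun i => (↑(g ^ i) : A) * y * (↑(g ^ i)⁻¹ : A)) p
    rw [h1] at h2
    simp only [pow_zero, Units.val_one, one_mul, inv_one, mul_one] at h2
    rw [hp0] at h2
    exact (add_right_cancel h2).symm
  calc (g : A) * relTr p g y = (g : A) * relTr p g y * (↑g⁻¹ * ↑g) := by
        rw [Units.inv_mul, mul_one]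
    _ = ((g : A) * relTr p g y * ↑g⁻¹) * ↑g := by noncomm_ring
    _ = relTr p g y * g := by rw [hconj]

omit [IsLocalRing R] [Algebra R A] [Module.Finite R A] in
theorem commute_unit_inv_of_commute {w : Aˣ} {l : A} (h : (w : A) * l = l * w) :
    (↑w⁻¹ : A) * l = l * ↑w⁻¹ := by
  calc (↑w⁻¹ : A) * l = ↑w⁻¹ * (l * w) * ↑w⁻¹ := by
        rw [mul_assoc, mul_assoc, Units.mul_inv, mul_one]
    _ = ↑w⁻¹ * (w * l) * ↑w⁻¹ := by rw [h]
    _ = l * ↑w⁻¹ := by rw [← mul_assoc, Units.inv_mul, one_mul]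

/-- **Key vanishing theorem.** -/
theorem trace_mul_unit_eq_zero (p : ℕ) (η : R) (hη : η ^ p = 1)
    (hηm : 1 - η ∈ IsLocalRing.maximalIdeal R) (hηT : algebraMap R T η ≠ 1)
    (g : Aˣ) (ε : A) (hε : ε * ε = ε) (hεg : (g : A) * ε = ε * g)
    (a b : A) (ha : (↑(g ^ p) : A) * a = a * ↑(g ^ p)) (hb : (g : A) * b = b * g)
    (hbm : b ∈ maxSub R A) (hdec : ε = relTr p g a + b)
    (τ : A →ₗ[R] T) (hτ : ∀ u v : A, τ (u * v) = τ (v * u)) :
    τ (ε * g) = 0 := by
  have hεgp : (↑(g ^ p) : A) * ε = ε * ↑(g ^ p) := by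
    rw [Units.val_pow_eq_pow_val]
    exact (Commute.pow_left (show Commute (g : A) ε from hεg) p).eq
  -- Step 2: an exact relative trace
  obtain ⟨a', ha'⟩ : ∃ a' : A, a' = ε * a * ε := ⟨_, rfl⟩
  obtain ⟨b', hb'⟩ : ∃ b' : A, b' = ε * b * ε := ⟨_, rfl⟩
  have h1 : ε = relTr p g a' + b' := by
    have : ε = ε * (relTr p g a + b) * ε := by rw [← hdec, hε, hε]
    rw [mul_add, add_mul, ← relTr_mul_left p g hεg, ← relTr_mul_right p g hεg, ← ha', ← hb'] at this
    exact this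
  have hb'm : b' ∈ maxSub R A := by
    rw [hb']
    exact maxSub_mul_right (maxSub_mul_left hbm ε) ε
  have hb'g : (g : A) * b' = b' * g := by
    rw [hb', ← mul_assoc, ← mul_assoc, hεg, mul_assoc ε, hb, mul_assoc, mul_assoc, mul_assoc, hεg]
    noncomm_ring
  have hb'ε : ε * b' = b' := by rw [hb', ← mul_assoc, ← mul_assoc, hε]
  have hb'ε' : b' * ε = b' := by rw [hb', mul_assoc, hε]
  obtain ⟨w, hw⟩ := isUnit_one_sub_of_mem_maxSub hb'm
  have hwg : (w : A) * g = g * w := by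
    rw [hw, sub_mul, mul_sub, one_mul, mul_one, hb'g]
  have hwε : (w : A) * ε = ε * w := by
    rw [hw, sub_mul, mul_sub, one_mul, mul_one, hb'ε, hb'ε']
  have hwig : (g : A) * (↑w⁻¹ : A) = ↑w⁻¹ * g := (commute_unit_inv_of_commute hwg).symm
  have hwiε : (↑w⁻¹ : A) * ε = ε * ↑w⁻¹ := commute_unit_inv_of_commute hwε
  obtain ⟨θ, hθ⟩ : ∃ θ : A, θ = a' * (↑w⁻¹ : A) := ⟨_, rfl⟩
  have ha'gp : (↑(g ^ p) : A) * a' = a' * ↑(g ^ p) := by
    rw [ha', ← mul_assoc, ← mul_assoc, hεgp, mul_assoc ε, ha, mul_assoc, mul_assoc, mul_assoc,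
      hεgp]
    noncomm_ring
  have hwigp : (↑(g ^ p) : A) * (↑w⁻¹ : A) = ↑w⁻¹ * ↑(g ^ p) := by
    rw [Units.val_pow_eq_pow_val]
    exact (Commute.pow_left (show Commute (g : A) (↑w⁻¹ : A) from hwig) p).eq
  have hθgp : (↑(g ^ p) : A) * θ = θ * ↑(g ^ p) := by
    rw [hθ, ← mul_assoc, ha'gp, mul_assoc, hwigp, mul_assoc]
  have hTrθ : relTr p g θ = ε := by
    rw [hθ, relTr_mul_right p g hwig]
    have : relTr p g a' = ε * w := by
      rw [hw, mul_sub, mul_one, hb'ε]
      exact (eq_sub_of_add_eq h1.symm)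
    rw [this, mul_assoc, Units.mul_inv, mul_one]
  have hθε : ε * θ = θ := by
    rw [hθ, ha', ← mul_assoc, ← mul_assoc, ← mul_assoc, hε]
  have hθε' : θ * ε = θ := by
    rw [hθ, mul_assoc, hwiε, ← mul_assoc, ha', mul_assoc (ε * a), hε]
  -- Step 3: the twisted sum
  obtain ⟨F, hF⟩ : ∃ F : ℕ → A, ∀ i, F i = η ^ i • ((↑(g ^ i) : A) * θ * (↑(g ^ i)⁻¹ : A)) :=
    ⟨_, fun _ => rfl⟩
  obtain ⟨γ, hγ⟩ : ∃ γ : A, γ = ∑ i ∈ range p, F i := ⟨_, rfl⟩
  have hgi : ∀ i : ℕ, (↑(g ^ i) : A) * ε = ε * ↑(g ^ i) := by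
    intro i
    rw [Units.val_pow_eq_pow_val]
    exact (Commute.pow_left (show Commute (g : A) ε from hεg) i).eq
  have hgi' : ∀ i : ℕ, (↑(g ^ i)⁻¹ : A) * ε = ε * ↑(g ^ i)⁻¹ := fun i =>
    commute_unit_inv_of_commute (hgi i)
  have hFε : ∀ i, ε * F i = F i := by
    intro i
    rw [hF]
    rw [mul_smul_comm, ← mul_assoc, ← mul_assoc, ← hgi i, mul_assoc (↑(g ^ i) : A), hθε]
  have hFε' : ∀ i, F i * ε = F i := by
    intro i
    rw [hF]
    rw [smul_mul_assoc, mul_assoc, hgi' i, ← mul_assoc, mul_assoc (↑(g ^ i) : A), hθε']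
  have hγε : ε * γ = γ := by
    rw [hγ, mul_sum]
    exact sum_congr rfl fun i _ => hFε i
  have hγε' : γ * ε = γ := by
    rw [hγ, sum_mul]
    exact sum_congr rfl fun i _ => hFε' i
  have hεγm : ε - γ ∈ maxSub R A := by
    have : ε - γ = ∑ i ∈ range p, (1 - η ^ i) • ((↑(g ^ i) : A) * θ * (↑(g ^ i)⁻¹ : A)) := by
      rw [← hTrθ, hγ]
      unfold relTr
      rw [← sum_sub_distrib]
      apply sum_congr rfl
      intro i _
      rw [hF]
      rw [sub_smul, one_smul]
    rw [this]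
    apply Submodule.sum_mem
    intro i _
    apply Submodule.smul_mem_smul _ Submodule.mem_top
    rw [← geom_sum_mul_neg]
    exact Ideal.mul_mem_left _ _ hηm
  obtain ⟨w₂, hw₂⟩ := isUnit_one_sub_of_mem_maxSub hεγm
  have hw₂ε : (w₂ : A) * ε = γ := by
    rw [hw₂, sub_mul, sub_mul, one_mul, hε, hγε']
    noncomm_ring
  have hw₂ε' : ε * (w₂ : A) = γ := by
    rw [hw₂, mul_sub, mul_sub, mul_one, hε, hγε]
    noncomm_ring
  obtain ⟨v, hv⟩ : ∃ v : A, v = (↑w₂⁻¹ : A) * ε := ⟨_, rfl⟩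
  have hvγ : v * γ = ε := by
    rw [hv, mul_assoc, hγε, ← hw₂ε, ← mul_assoc, Units.inv_mul, one_mul]
  -- the twisted commutation relation
  have hgγ : η • ((g : A) * γ) = γ * g := by
    have hshift : ∀ i : ℕ, η • ((g : A) * F i * (↑g⁻¹ : A)) = F (i + 1) := by
      intro i
      rw [hF i, hF (i + 1)]
      have e1 : (↑(g ^ (i + 1)) : A) = (g : A) * ↑(g ^ i) := by
        rw [pow_succ', Units.val_mul]
      have e2 : (↑(g ^ (i + 1))⁻¹ : A) = (↑(g ^ i)⁻¹ : A) * ↑g⁻¹ := by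
        rw [pow_succ', mul_inv_rev, Units.val_mul]
      rw [e1, e2, pow_succ', mul_smul, mul_smul_comm, smul_mul_assoc]
      congr 2
      noncomm_ring
    have hFp : F p = F 0 := by
      rw [hF p, hF 0]
      rw [hη, one_smul, pow_zero, one_smul, pow_zero, Units.val_one, one_mul, inv_one,
        Units.val_one, mul_one, hθgp, mul_assoc, Units.mul_inv, mul_one]
    have hconj : η • ((g : A) * γ * (↑g⁻¹ : A)) = γ := by
      rw [hγ, mul_sum, sum_mul, smul_sum]
      simp_rw [hshift]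
      have h1 := sum_range_succ F p
      have h2 := sum_range_succ' F p
      rw [h1, hFp] at h2
      exact (add_right_cancel h2).symm
    calc η • ((g : A) * γ) = η • ((g : A) * γ * (↑g⁻¹ * ↑g)) := by
          rw [Units.inv_mul, mul_one]
      _ = (η • ((g : A) * γ * ↑g⁻¹)) * ↑g := by
          rw [smul_mul_assoc]; congr 1; noncomm_ring
      _ = γ * g := by rw [hconj]
  -- Step 4
  have hγv : γ * v = ε := by
    rw [hv, ← mul_assoc, ← hw₂ε', mul_assoc ε, Units.mul_inv, mul_one, hε]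
  have e1 : τ (ε * g) = τ (v * ((g : A) * γ)) := by
    rw [← hγv, mul_assoc, hτ, mul_assoc]
  have e2 : algebraMap R T η * τ (v * ((g : A) * γ)) = τ (ε * g) := by
    rw [← Algebra.smul_def, ← map_smul, ← mul_smul_comm, hgγ, ← mul_assoc, hvγ]
  rw [← e1] at e2
  have e3 : (algebraMap R T η - 1) * τ (ε * g) = 0 := by
    rw [sub_mul, one_mul, e2, sub_self]
  exact (mul_eq_zero.mp e3).resolve_left (sub_ne_zero.mpr hηT)

end Main

end Cfsg.Agent.Lib.Helper78
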