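import Mathlib
import Cfsg.Agent.Lib.Helper78.RelTrace
import Cfsg.Agent.Lib.Helper16.MinMax

/-!
# The vanishing theorem of `RelTrace` for the complex group algebra

`sum_coeff_mul_eq_zero_of_relTr`: let `h ∈ G`, let `ε ∈ ℂG` be an idempotent commuting with `h`
with coefficients in the local ring at `M`, of the form `ε = ∑_{i<p} h^i a h^{-i} + b` with `a`
local-integral and commuting with `h ^ p`, `b` commuting with `h` with coefficients in the local
ideal.  Then `∑_k ε(k) χ(k h) = 0` for every class function `χ`.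
-/

set_option autoImplicit false
set_option linter.unusedSectionVars false
set_option linter.style.haveILetI false

namespace Cfsg.Agent.Lib.Helper78

open Cfsg MonoidAlgebra Finset Cfsg.Agent.Lib.Helper16

/-- In a commutative ring, if a prime ideal contains the prime `p` and `η ^ p = 1`
then `1 - η` lies in the ideal. -/
theorem one_sub_mem_of_pow_prime_eq_one {R : Type*} [CommRing R] {I : Ideal R} (hI : I.IsPrime)
    {p : ℕ} (hp : p.Prime) (hpI : (p : R) ∈ I) {η : R} (hη : η ^ p = 1) : 1 - η ∈ I := by
  apply hI.mem_of_pow_mem p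
  obtain ⟨r, hr⟩ := exists_add_pow_prime_eq hp (1 : R) (-η)
  rw [sub_eq_add_neg, hr, one_pow, neg_pow, hη, mul_one]
  apply I.add_mem
  · rcases hp.eq_two_or_odd' with h2 | hodd
    · subst h2
      have : (1 : R) + (-1) ^ 2 = ((2 : ℕ) : R) := by push_cast; ring
      rw [this]
      exact hpI
    · rw [hodd.neg_one_pow]
      simp
  · rw [mul_assoc, mul_assoc]
    exact I.mul_mem_right _ hpI

section Bridge

variable {G : Type*} [Group G] [Fintype G] {M : Ideal AlgInt} [hMp : M.IsPrime]

/-- The coefficient embedding `S[G] → ℂ[G]`. -/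
noncomputable abbrev iotaS (M : Ideal AlgInt) [M.IsPrime] (G : Type*) [Group G] :
    MonoidAlgebra (localSubring M) G →+* MonoidAlgebra ℂ G :=
  MonoidAlgebra.mapRingHom G (Subring.subtype (localSubring M))

omit [Fintype G] in
theorem iotaS_injective : Function.Injective (iotaS M G) := by
  intro a b hab
  ext g
  have := congrArg (fun z => z.coeff g) hab
  simp only [MonoidAlgebra.coeff_mapRingHom] at this
  exact this

theorem exists_iotaS_eq {z : MonoidAlgebra ℂ G} (hz : CoeffsInRing M z) :
    ∃ z' : MonoidAlgebra (localSubring M) G, iotaS M G z' = z := by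
  classical
  refine ⟨∑ g : G, MonoidAlgebra.single g (⟨z.coeff g, hz g⟩ : localSubring M), ?_⟩
  ext g
  rw [MonoidAlgebra.coeff_mapRingHom]
  simp [MonoidAlgebra.coeff_sum, Finsupp.single_apply]

theorem mem_maxSub_of_coeffsInIdeal {z' : MonoidAlgebra (localSubring M) G}
    (hz : CoeffsInIdeal M (iotaS M G z')) :
    z' ∈ maxSub (localSubring M) (MonoidAlgebra (localSubring M) G) := by
  classical
  have h1 : z' = ∑ g : G, z'.coeff g • MonoidAlgebra.single g (1 : localSubring M) := by
    ext g
    simp [MonoidAlgebra.coeff_sum]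
  rw [h1]
  apply Submodule.sum_mem
  intro g _
  apply Submodule.smul_mem_smul _ Submodule.mem_top
  rw [maximalIdeal_localSubring, mem_localIdeal]
  have := hz g
  rwa [MonoidAlgebra.coeff_mapRingHom] at this

/-- The class-function functional on `S[G]`. -/
noncomputable def tauS (M : Ideal AlgInt) [M.IsPrime] (χ : G → ℂ) :
    MonoidAlgebra (localSubring M) G →ₗ[localSubring M] ℂ where
  toFun a := ∑ k : G, ((a.coeff k : localSubring M) : ℂ) * χ k
  map_add' a b := by
    simp only [MonoidAlgebra.coeff_add, Finsupp.add_apply, Subring.coe_add, add_mul,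
      Finset.sum_add_distrib]
  map_smul' r a := by
    simp only [MonoidAlgebra.coeff_smul, Finsupp.smul_apply, smul_eq_mul, Subring.coe_mul,
      RingHom.id_apply, Finset.mul_sum, Subring.smul_def, mul_assoc]

theorem tauS_single (χ : G → ℂ) (k : G) (c : localSubring M) :
    tauS M χ (MonoidAlgebra.single k c) = (c : ℂ) * χ k := by
  classical
  change ∑ k' : G, (((MonoidAlgebra.single k c).coeff k' : localSubring M) : ℂ) * χ k' = _
  rw [Finset.sum_eq_single k]
  · simp
  · intro b _ hb
    simp [hb.symm]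
  · intro hk
    exact absurd (Finset.mem_univ k) hk

theorem tauS_mul_comm {χ : G → ℂ} (hχ : IsClassFunction G χ)
    (u v : MonoidAlgebra (localSubring M) G) : tauS M χ (u * v) = tauS M χ (v * u) := by
  induction u using MonoidAlgebra.induction_linear with
  | zero => simp
  | add a b ha hb => rw [add_mul, mul_add, map_add, map_add, ha, hb]
  | single s c =>
    induction v using MonoidAlgebra.induction_linear with
    | zero => simp
    | add a b ha hb => rw [add_mul, mul_add, map_add, map_add, ha, hb]
    | single t d =>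
      rw [MonoidAlgebra.single_mul_single, MonoidAlgebra.single_mul_single, tauS_single,
        tauS_single, mul_comm c d]
      congr 1
      have := hχ (s * t) t
      rw [← this]
      congr 1
      group

/-- **Vanishing theorem, complex group algebra form.** -/
theorem sum_coeff_mul_eq_zero_of_relTr {p : ℕ} [hp : Fact p.Prime] (hM : IsPModular p M) (h : G)
    (ε a b : MonoidAlgebra ℂ G) (hεR : CoeffsInRing M ε) (haR : CoeffsInRing M a)
    (hbI : CoeffsInIdeal M b)
    (hε : ε * ε = ε)
    (hεg : MonoidAlgebra.single h (1 : ℂ) * ε = ε * MonoidAlgebra.single h (1 : ℂ))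
    (ha : MonoidAlgebra.single (h ^ p) (1 : ℂ) * a = a * MonoidAlgebra.single (h ^ p) (1 : ℂ))
    (hb : MonoidAlgebra.single h (1 : ℂ) * b = b * MonoidAlgebra.single h (1 : ℂ))
    (hdec : ε = ∑ i ∈ range p, MonoidAlgebra.single (h ^ i) (1 : ℂ) * a *
      MonoidAlgebra.single (h ^ i)⁻¹ (1 : ℂ) + b)
    (χ : G → ℂ) (hχ : IsClassFunction G χ) :
    ∑ k : G, ε.coeff k * χ (k * h) = 0 := by
  classical
  obtain ⟨ε', hε'⟩ := exists_iotaS_eq hεR
  obtain ⟨a', ha'⟩ := exists_iotaS_eq haR
  obtain ⟨b', hb'⟩ := exists_iotaS_eq hbI.coeffsInRing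
  have hinj := iotaS_injective (M := M) (G := G)
  have hιs : ∀ k : G, iotaS M G (MonoidAlgebra.single k (1 : localSubring M)) =
      MonoidAlgebra.single k (1 : ℂ) := by
    intro k
    simp
  -- the unit
  let gU : (MonoidAlgebra (localSubring M) G)ˣ :=
    ⟨MonoidAlgebra.single h 1, MonoidAlgebra.single h⁻¹ 1,
      by simp [MonoidAlgebra.single_mul_single, MonoidAlgebra.one_def],
      by simp [MonoidAlgebra.single_mul_single, MonoidAlgebra.one_def]⟩
  have hgU : ∀ i : ℕ, ((gU ^ i : (MonoidAlgebra (localSubring M) G)ˣ) :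
      MonoidAlgebra (localSubring M) G) = MonoidAlgebra.single (h ^ i) 1 := by
    intro i
    rw [Units.val_pow_eq_pow_val]
    change (MonoidAlgebra.single h (1 : localSubring M)) ^ i = _
    rw [MonoidAlgebra.single_pow, one_pow]
  have hgUi : ∀ i : ℕ, ((gU ^ i)⁻¹ : (MonoidAlgebra (localSubring M) G)ˣ).val =
      MonoidAlgebra.single (h ^ i)⁻¹ 1 := by
    intro i
    rw [← inv_pow, Units.val_pow_eq_pow_val]
    change (MonoidAlgebra.single h⁻¹ (1 : localSubring M)) ^ i = _
    rw [MonoidAlgebra.single_pow, one_pow, inv_pow]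
  have hgU1 : (gU : MonoidAlgebra (localSubring M) G) = MonoidAlgebra.single h 1 := rfl
  -- the root of unity
  have hp0 : p ≠ 0 := hp.out.ne_zero
  let ζ₀ : ℂ := Complex.exp (2 * Real.pi * Complex.I / p)
  have hζ₀ : IsPrimitiveRoot ζ₀ p := Complex.isPrimitiveRoot_exp p hp0
  have hζ₀S : ζ₀ ∈ localSubring M :=
    memLocalRing_of_isIntegral hMp.ne_top (hζ₀.isIntegral (Nat.pos_of_ne_zero hp0))
  let η : localSubring M := ⟨ζ₀, hζ₀S⟩
  have hη : η ^ p = 1 := by
    apply Subtype.ext
    simp only [η, SubmonoidClass.mk_pow, OneMemClass.coe_one]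
    exact hζ₀.pow_eq_one
  have hpS : ((p : ℕ) : localSubring M) ∈ IsLocalRing.maximalIdeal (localSubring M) := by
    rw [maximalIdeal_localSubring, mem_localIdeal]
    simpa using memLocalIdeal_p hM
  have hηm : 1 - η ∈ IsLocalRing.maximalIdeal (localSubring M) :=
    one_sub_mem_of_pow_prime_eq_one (IsLocalRing.maximalIdeal.isMaximal _).isPrime hp.out hpS hη
  have hηT : algebraMap (localSubring M) ℂ η ≠ 1 := by
    change ζ₀ ≠ 1
    exact hζ₀.ne_one hp.out.one_lt
  have key := trace_mul_unit_eq_zero (R := localSubring M)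
    (A := MonoidAlgebra (localSubring M) G) (T := ℂ) p η hη hηm hηT gU ε'
    (by apply hinj; rw [map_mul, hε', hε])
    (by apply hinj; rw [map_mul, map_mul, hgU1, hιs, hε', hεg])
    a' b'
    (by apply hinj; rw [map_mul, map_mul, hgU, hιs, ha', ha])
    (by apply hinj; rw [map_mul, map_mul, hgU1, hιs, hb', hb])
    (mem_maxSub_of_coeffsInIdeal (by rw [hb']; exact hbI))
    (by
      apply hinj
      rw [hε', hdec, map_add, hb']
      congr 1
      unfold relTr
      rw [map_sum]
      apply Finset.sum_congr rfl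
      intro i _
      rw [map_mul, map_mul, hgU, hgUi, hιs, hιs, ha'])
    (tauS M χ) (tauS_mul_comm hχ)
  rw [← key]
  change _ = ∑ k : G, (((ε' * (gU : MonoidAlgebra (localSubring M) G)).coeff k :
    localSubring M) : ℂ) * χ k
  rw [hgU1]
  simp only [MonoidAlgebra.coeff_mul_single_apply, mul_one]
  refine Fintype.sum_equiv (Equiv.mulRight h) _ _ ?_
  intro k
  simp only [Equiv.coe_mulRight, mul_inv_cancel_right]
  rw [← hε', MonoidAlgebra.coeff_mapRingHom]
  rfl

end Bridge

end Cfsg.Agent.Lib.Helper78
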