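import Mathlib
import Cfsg.Agent.Lib.Helper78.SMTBridge

/-!
# Relative traces in the complex group algebra: closure properties and the fundamental domain

* `IsRelTr M p h u`: `u = ∑_{i<p} h^i a h^{-i}` for some local-integral `a` commuting with `h ^ p`.
  This is closed under addition and under multiplication with local-integral elements commuting
  with `h`.
* `isRelTr_of_support`: an `h`-invariant local-integral element supported on elements whose
  stabilizer in `⟨h⟩` lies in `⟨h ^ p⟩` is a relative trace.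
* `dvd_of_commute_zpow`: if `x` is the `p`-part of `h` and `k` does not commute with `x` then the
  stabilizer of `k` in `⟨h⟩` lies in `⟨h ^ p⟩`.
-/

set_option autoImplicit false
set_option linter.unusedSectionVars false
set_option linter.style.haveILetI false

namespace Cfsg.Agent.Lib.Helper78

open Cfsg MonoidAlgebra Finset Cfsg.Agent.Lib.Helper16

section Arith

variable {G : Type*} [Group G]

/-- If `x` is the `p`-part of `h`, `h ^ j` commutes with `k` but `x` does not, then `p ∣ j`. -/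
theorem dvd_of_commute_zpow {p : ℕ} [hp : Fact p.Prime] {h x : G} (hx : IsPPart p h x) {k : G}
    (hk : ¬ Commute x k) {j : ℤ} (hj : Commute (h ^ j) k) : (p : ℤ) ∣ j := by
  by_contra hpj
  obtain ⟨y, hxy, hcomm, ⟨a, ha⟩, hy⟩ := hx
  apply hk
  set m := orderOf y with hm
  have hpZ : Prime (p : ℤ) := Nat.prime_iff_prime_int.mp hp.out
  have h1 : IsCoprime (p : ℤ) j := (Prime.coprime_iff_not_dvd hpZ).mpr hpj
  have h2 : IsCoprime (p : ℤ) (m : ℤ) :=
    (Prime.coprime_iff_not_dvd hpZ).mpr (by exact_mod_cast hy)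
  have h3 : IsCoprime ((p : ℤ) ^ a) (j * m) := (h1.mul_right h2).pow_left
  obtain ⟨u, v, huv⟩ := h3
  have hxa : x ^ ((p : ℤ) ^ a) = 1 := by
    have : ((p : ℤ) ^ a) = ((p ^ a : ℕ) : ℤ) := by push_cast; rfl
    rw [this, zpow_natCast, ← ha, pow_orderOf_eq_one]
  have hym : y ^ (j * m) = 1 := by
    rw [mul_comm, zpow_mul, zpow_natCast, hm, pow_orderOf_eq_one, one_zpow]
  have hhjm : (h ^ j) ^ (m : ℤ) = x ^ (j * m) := by
    rw [← zpow_mul, ← hxy, hcomm.mul_zpow, hym, mul_one]
  have hxe : x = ((h ^ j) ^ (m : ℤ)) ^ v := by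
    rw [hhjm, ← zpow_mul]
    have e1 : x ^ (u * (p : ℤ) ^ a) = 1 := by rw [zpow_mul', hxa, one_zpow]
    have e2 : x ^ (u * (p : ℤ) ^ a + v * (j * m)) = x := by rw [huv, zpow_one]
    rw [zpow_add, e1, one_mul] at e2
    rw [mul_comm]
    exact e2.symm
  rw [hxe]
  exact (hj.zpow_left _).zpow_left _

end Arith

section RelTr

variable {G : Type*} [Group G] [Fintype G] {M : Ideal AlgInt} [hMp : M.IsPrime]

theorem coeffsInRing_add {z w : MonoidAlgebra ℂ G} (hz : CoeffsInRing M z)
    (hw : CoeffsInRing M w) : CoeffsInRing M (z + w) := by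
  intro g
  rw [coeff_add, Finsupp.add_apply]
  exact memLocalRing_add (hz g) (hw g)

theorem coeffsInRing_sub {z w : MonoidAlgebra ℂ G} (hz : CoeffsInRing M z)
    (hw : CoeffsInRing M w) : CoeffsInRing M (z - w) := by
  intro g
  rw [coeff_sub, Finsupp.sub_apply]
  exact memLocalRing_sub (hz g) (hw g)

theorem coeffsInRing_mul {z w : MonoidAlgebra ℂ G} (hz : CoeffsInRing M z)
    (hw : CoeffsInRing M w) : CoeffsInRing M (z * w) := by
  classical
  intro g
  rw [coeff_mul_eq_sum]
  exact memLocalRing_sum _ _ fun p _ => memLocalRing_mul (hz _) (hw _)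

theorem coeffsInRing_zero : CoeffsInRing M (0 : MonoidAlgebra ℂ G) := by
  intro g
  simpa using memLocalRing_zero hMp.ne_top

theorem coeffsInRing_one : CoeffsInRing M (1 : MonoidAlgebra ℂ G) := by
  classical
  intro g
  rw [coeff_one_apply]
  split_ifs
  · exact memLocalRing_one hMp.ne_top
  · exact memLocalRing_zero hMp.ne_top

theorem coeffsInRing_single_one (k : G) :
    CoeffsInRing M (MonoidAlgebra.single k (1 : ℂ)) := by
  classical
  intro g
  rw [MonoidAlgebra.coeff_single, Finsupp.single_apply]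
  split_ifs
  · exact memLocalRing_one hMp.ne_top
  · exact memLocalRing_zero hMp.ne_top

theorem coeffsInRing_pow {z : MonoidAlgebra ℂ G} (hz : CoeffsInRing M z) (n : ℕ) :
    CoeffsInRing M (z ^ n) := by
  induction n with
  | zero => rw [pow_zero]; exact coeffsInRing_one
  | succ n ih => rw [pow_succ]; exact coeffsInRing_mul ih hz

theorem coeffsInRing_sum {ι : Type*} (s : Finset ι) (f : ι → MonoidAlgebra ℂ G)
    (hf : ∀ i ∈ s, CoeffsInRing M (f i)) : CoeffsInRing M (∑ i ∈ s, f i) := by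
  classical
  induction s using Finset.induction_on with
  | empty => rw [Finset.sum_empty]; exact coeffsInRing_zero
  | insert a s ha ih =>
    rw [Finset.sum_insert ha]
    exact coeffsInRing_add (hf a (Finset.mem_insert_self a s))
      (ih fun i hi => hf i (Finset.mem_insert_of_mem hi))

/-- The relative trace `∑_{i<p} h^i a h^{-i}` in `ℂ[G]`. -/
noncomputable def relTrG (p : ℕ) (h : G) (a : MonoidAlgebra ℂ G) : MonoidAlgebra ℂ G :=
  ∑ i ∈ range p, MonoidAlgebra.single (h ^ i) (1 : ℂ) * a * MonoidAlgebra.single (h ^ i)⁻¹ (1 : ℂ)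

omit [Fintype G] in
theorem single_pow_mul_comm {h : G} {l : MonoidAlgebra ℂ G}
    (hl : MonoidAlgebra.single h (1 : ℂ) * l = l * MonoidAlgebra.single h (1 : ℂ)) (i : ℕ) :
    MonoidAlgebra.single (h ^ i) (1 : ℂ) * l = l * MonoidAlgebra.single (h ^ i) (1 : ℂ) := by
  have : MonoidAlgebra.single (h ^ i) (1 : ℂ) = (MonoidAlgebra.single h (1 : ℂ)) ^ i := by
    rw [MonoidAlgebra.single_pow, one_pow]
  rw [this]
  exact (Commute.pow_left (show Commute (MonoidAlgebra.single h (1 : ℂ)) l from hl) i).eq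

omit [Fintype G] in
theorem single_inv_mul_comm {k : G} {l : MonoidAlgebra ℂ G}
    (hl : MonoidAlgebra.single k (1 : ℂ) * l = l * MonoidAlgebra.single k (1 : ℂ)) :
    MonoidAlgebra.single k⁻¹ (1 : ℂ) * l = l * MonoidAlgebra.single k⁻¹ (1 : ℂ) := by
  have h1 : MonoidAlgebra.single k⁻¹ (1 : ℂ) * MonoidAlgebra.single k (1 : ℂ) = 1 := by
    simp [MonoidAlgebra.single_mul_single, MonoidAlgebra.one_def]
  have h2 : MonoidAlgebra.single k (1 : ℂ) * MonoidAlgebra.single k⁻¹ (1 : ℂ) = 1 := by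
    simp [MonoidAlgebra.single_mul_single, MonoidAlgebra.one_def]
  calc MonoidAlgebra.single k⁻¹ (1 : ℂ) * l
      = MonoidAlgebra.single k⁻¹ (1 : ℂ) * (l * MonoidAlgebra.single k (1 : ℂ)) *
          MonoidAlgebra.single k⁻¹ (1 : ℂ) := by
        rw [mul_assoc, mul_assoc, h2, mul_one]
    _ = MonoidAlgebra.single k⁻¹ (1 : ℂ) * (MonoidAlgebra.single k (1 : ℂ) * l) *
          MonoidAlgebra.single k⁻¹ (1 : ℂ) := by rw [hl]
    _ = l * MonoidAlgebra.single k⁻¹ (1 : ℂ) := by rw [← mul_assoc, h1, one_mul]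

omit [Fintype G] in
theorem relTrG_mul_left (p : ℕ) {h : G} {l : MonoidAlgebra ℂ G}
    (hl : MonoidAlgebra.single h (1 : ℂ) * l = l * MonoidAlgebra.single h (1 : ℂ))
    (a : MonoidAlgebra ℂ G) : relTrG p h (l * a) = l * relTrG p h a := by
  unfold relTrG
  rw [mul_sum]
  apply sum_congr rfl
  intro i _
  rw [← mul_assoc, single_pow_mul_comm hl i, mul_assoc, mul_assoc, mul_assoc]

omit [Fintype G] in
theorem relTrG_mul_right (p : ℕ) {h : G} {l : MonoidAlgebra ℂ G}
    (hl : MonoidAlgebra.single h (1 : ℂ) * l = l * MonoidAlgebra.single h (1 : ℂ))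
    (a : MonoidAlgebra ℂ G) : relTrG p h (a * l) = relTrG p h a * l := by
  unfold relTrG
  rw [sum_mul]
  apply sum_congr rfl
  intro i _
  rw [mul_assoc, mul_assoc, ← single_inv_mul_comm (single_pow_mul_comm hl i), ← mul_assoc,
    ← mul_assoc]

omit [Fintype G] in
theorem relTrG_add (p : ℕ) (h : G) (a a' : MonoidAlgebra ℂ G) :
    relTrG p h (a + a') = relTrG p h a + relTrG p h a' := by
  unfold relTrG
  rw [← sum_add_distrib]
  apply sum_congr rfl
  intro i _
  rw [mul_add, add_mul]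

/-- `u` is a relative trace of a local-integral element commuting with `h ^ p`. -/
def IsRelTr (M : Ideal AlgInt) (p : ℕ) (h : G) (u : MonoidAlgebra ℂ G) : Prop :=
  ∃ a : MonoidAlgebra ℂ G, CoeffsInRing M a ∧
    MonoidAlgebra.single (h ^ p) (1 : ℂ) * a = a * MonoidAlgebra.single (h ^ p) (1 : ℂ) ∧
    u = relTrG p h a

theorem IsRelTr.zero (p : ℕ) (h : G) : IsRelTr M p h (0 : MonoidAlgebra ℂ G) := by
  refine ⟨0, coeffsInRing_zero, by simp, ?_⟩
  unfold relTrG
  simp

theorem IsRelTr.add {p : ℕ} {h : G} {u u' : MonoidAlgebra ℂ G} (hu : IsRelTr M p h u)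
    (hu' : IsRelTr M p h u') : IsRelTr M p h (u + u') := by
  obtain ⟨a, ha1, ha2, rfl⟩ := hu
  obtain ⟨a', ha1', ha2', rfl⟩ := hu'
  refine ⟨a + a', coeffsInRing_add ha1 ha1', ?_, (relTrG_add p h a a').symm⟩
  rw [mul_add, add_mul, ha2, ha2']

theorem IsRelTr.mul_left {p : ℕ} {h : G} {u l : MonoidAlgebra ℂ G} (hu : IsRelTr M p h u)
    (hlR : CoeffsInRing M l)
    (hl : MonoidAlgebra.single h (1 : ℂ) * l = l * MonoidAlgebra.single h (1 : ℂ)) :
    IsRelTr M p h (l * u) := by
  obtain ⟨a, ha1, ha2, rfl⟩ := hu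
  refine ⟨l * a, coeffsInRing_mul hlR ha1, ?_, (relTrG_mul_left p hl a).symm⟩
  rw [← mul_assoc, single_pow_mul_comm hl p, mul_assoc, ha2, mul_assoc]

theorem IsRelTr.mul_right {p : ℕ} {h : G} {u l : MonoidAlgebra ℂ G} (hu : IsRelTr M p h u)
    (hlR : CoeffsInRing M l)
    (hl : MonoidAlgebra.single h (1 : ℂ) * l = l * MonoidAlgebra.single h (1 : ℂ)) :
    IsRelTr M p h (u * l) := by
  obtain ⟨a, ha1, ha2, rfl⟩ := hu
  refine ⟨a * l, coeffsInRing_mul ha1 hlR, ?_, (relTrG_mul_right p hl a).symm⟩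
  rw [← mul_assoc, ha2, mul_assoc, single_pow_mul_comm hl p, mul_assoc]

/-- Powers of `z + t` with `t` a relative trace. -/
theorem exists_pow_add_eq {p : ℕ} {h : G} {z t : MonoidAlgebra ℂ G}
    (hzR : CoeffsInRing M z)
    (hz : MonoidAlgebra.single h (1 : ℂ) * z = z * MonoidAlgebra.single h (1 : ℂ))
    (htR : CoeffsInRing M t)
    (ht : MonoidAlgebra.single h (1 : ℂ) * t = t * MonoidAlgebra.single h (1 : ℂ))
    (htr : IsRelTr M p h t) (n : ℕ) :
    ∃ u, IsRelTr M p h u ∧ (z + t) ^ n = z ^ n + u := by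
  induction n with
  | zero => exact ⟨0, IsRelTr.zero p h, by simp⟩
  | succ n ih =>
    obtain ⟨u, hu, hpow⟩ := ih
    have hzt : MonoidAlgebra.single h (1 : ℂ) * (z + t) =
        (z + t) * MonoidAlgebra.single h (1 : ℂ) := by
      rw [mul_add, add_mul, hz, ht]
    refine ⟨z ^ n * t + u * (z + t), ?_, ?_⟩
    · apply IsRelTr.add
      · exact htr.mul_left (coeffsInRing_pow hzR n)
          ((Commute.pow_right (show Commute (MonoidAlgebra.single h (1 : ℂ)) z from hz) n).eq)
      · exact hu.mul_right (coeffsInRing_add hzR htR) hzt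
    · rw [pow_succ, hpow, pow_succ]
      noncomm_ring

end RelTr

section FundDomain

variable {G : Type*} [Group G]

/-- The orbit equivalence relation of conjugation by the powers of `h`. -/
def zpowConjSetoid (h : G) : Setoid G where
  r k k' := ∃ j : ℤ, h ^ j * k * (h ^ j)⁻¹ = k'
  iseqv :=
    ⟨fun k => ⟨0, by simp⟩,
     fun {k k'} ⟨j, hj⟩ => ⟨-j, by rw [← hj, zpow_neg]; group⟩,
     fun {k k' k''} ⟨j, hj⟩ ⟨j', hj'⟩ => ⟨j' + j, by rw [← hj', ← hj, zpow_add]; group⟩⟩

/-- The stabilizer of `k` in `⟨h⟩` lies in `⟨h ^ p⟩`. -/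
def SmallStab (p : ℕ) (h k : G) : Prop :=
  ∀ j : ℤ, Commute (h ^ j) k → (p : ℤ) ∣ j

theorem SmallStab.conj {p : ℕ} {h k : G} (hk : SmallStab p h k) (i : ℤ) :
    SmallStab p h (h ^ i * k * (h ^ i)⁻¹) := by
  intro j hj
  apply hk j
  have h1 : h ^ j = h ^ i * h ^ j * (h ^ i)⁻¹ := by
    rw [← zpow_add, add_comm, zpow_add, mul_assoc, mul_inv_cancel, mul_one]
  rw [h1] at hj
  exact (Commute.conj_iff (h ^ i)).mp hj

/-- A chosen representative of the orbit of `k`. -/
noncomputable def orbRep (h k : G) : G :=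
  (Quotient.mk (zpowConjSetoid h) k).out

theorem exists_zpow_conj_orbRep (h k : G) : ∃ j : ℤ, h ^ j * orbRep h k * (h ^ j)⁻¹ = k :=
  Quotient.mk_out (s := zpowConjSetoid h) k

theorem orbRep_conj (h k : G) (i : ℤ) : orbRep h (h ^ i * k * (h ^ i)⁻¹) = orbRep h k := by
  unfold orbRep
  congr 1
  apply Quotient.sound (s := zpowConjSetoid h)
  exact ⟨-i, by rw [zpow_neg]; group⟩

/-- The exponent `j` with `h ^ j * orbRep h k * h ^ (-j) = k`. -/
noncomputable def orbExp (h k : G) : ℤ := Classical.choose (exists_zpow_conj_orbRep h k)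

theorem orbExp_spec (h k : G) : h ^ orbExp h k * orbRep h k * (h ^ orbExp h k)⁻¹ = k :=
  Classical.choose_spec (exists_zpow_conj_orbRep h k)

/-- The equivariant map to `ZMod p`. -/
noncomputable def orbPhase (p : ℕ) (h k : G) : ZMod p := ((orbExp h k : ℤ) : ZMod p)

theorem orbPhase_conj {p : ℕ} {h k : G} (hk : SmallStab p h k) (i : ℤ) :
    orbPhase p h (h ^ i * k * (h ^ i)⁻¹) = orbPhase p h k + (i : ZMod p) := by
  set k' := h ^ i * k * (h ^ i)⁻¹ with hk'
  set r := orbRep h k with hr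
  have hr' : orbRep h k' = r := orbRep_conj h k i
  have s1 := orbExp_spec h k
  have s2 := orbExp_spec h k'
  rw [hr'] at s2
  rw [← hr] at s1
  set J := orbExp h k with hJ
  set J' := orbExp h k' with hJ'
  -- `r` has small stabilizer
  have hrS : SmallStab p h r := by
    have : r = h ^ (-J) * k * (h ^ (-J))⁻¹ := by
      rw [← s1, zpow_neg]; group
    rw [this]
    exact hk.conj (-J)
  have heq : h ^ J' * r * (h ^ J')⁻¹ = h ^ (i + J) * r * (h ^ (i + J))⁻¹ := by
    rw [s2, hk', ← s1, zpow_add]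
    group
  have hcomm : Commute ((h ^ (i + J))⁻¹ * h ^ J') r := by
    unfold Commute SemiconjBy
    calc (h ^ (i + J))⁻¹ * h ^ J' * r = (h ^ (i + J))⁻¹ * (h ^ J' * r * (h ^ J')⁻¹) * h ^ J' := by
          group
      _ = (h ^ (i + J))⁻¹ * (h ^ (i + J) * r * (h ^ (i + J))⁻¹) * h ^ J' := by rw [heq]
      _ = r * ((h ^ (i + J))⁻¹ * h ^ J') := by group
  rw [← zpow_neg, ← zpow_add] at hcomm
  have hdvd := hrS _ hcomm
  have hz : (((-(i + J) + J' : ℤ)) : ZMod p) = 0 :=
    (ZMod.intCast_zmod_eq_zero_iff_dvd _ p).mpr hdvd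
  unfold orbPhase
  rw [← hJ, ← hJ']
  push_cast at hz
  linear_combination hz

end FundDomain

section FundDomain2

variable {G : Type*} [Group G] [Fintype G] {M : Ideal AlgInt} [hMp : M.IsPrime]

omit [Fintype G] in
theorem coeff_conj_of_comm {c : G} {t : MonoidAlgebra ℂ G}
    (hc : MonoidAlgebra.single c (1 : ℂ) * t = t * MonoidAlgebra.single c (1 : ℂ)) (k : G) :
    t.coeff (c⁻¹ * k * c) = t.coeff k := by
  have := congrArg (fun w => w.coeff (k * c)) hc
  simp only [MonoidAlgebra.coeff_single_mul_apply, MonoidAlgebra.coeff_mul_single_apply,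
    one_mul, mul_one, mul_inv_cancel_right] at this
  rw [mul_assoc]
  exact this

omit [Fintype G] in
theorem comm_of_coeff_conj {c : G} {a : MonoidAlgebra ℂ G}
    (h : ∀ k, a.coeff (c⁻¹ * k * c) = a.coeff k) :
    MonoidAlgebra.single c (1 : ℂ) * a = a * MonoidAlgebra.single c (1 : ℂ) := by
  ext k
  simp only [MonoidAlgebra.coeff_single_mul_apply, MonoidAlgebra.coeff_mul_single_apply,
    one_mul, mul_one]
  have := h (k * c⁻¹)
  rw [mul_assoc, inv_mul_cancel_right] at this
  exact this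

/-- **Fundamental domain lemma.** -/
theorem isRelTr_of_support {p : ℕ} [hp : Fact p.Prime] {h : G} {t : MonoidAlgebra ℂ G}
    (htR : CoeffsInRing M t)
    (ht : MonoidAlgebra.single h (1 : ℂ) * t = t * MonoidAlgebra.single h (1 : ℂ))
    (hsupp : ∀ k : G, t.coeff k ≠ 0 → SmallStab p h k) : IsRelTr M p h t := by
  classical
  let a₀ : MonoidAlgebra ℂ G :=
    ∑ k : G, MonoidAlgebra.single k (if orbPhase p h k = 0 then t.coeff k else 0)
  have ha₀ : ∀ k : G, a₀.coeff k = if orbPhase p h k = 0 then t.coeff k else 0 := by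
    intro k
    simp only [a₀]
    simp [MonoidAlgebra.coeff_sum, Finsupp.single_apply]
  -- invariance of `t` under powers of `h`
  have htc : ∀ (i : ℕ) (k : G), t.coeff ((h ^ i)⁻¹ * k * h ^ i) = t.coeff k := fun i k =>
    coeff_conj_of_comm (single_pow_mul_comm ht i) k
  -- the phase of a conjugate
  have hphase : ∀ (i : ℕ) (k : G), t.coeff k ≠ 0 →
      orbPhase p h ((h ^ i)⁻¹ * k * h ^ i) = orbPhase p h k - (i : ZMod p) := by
    intro i k hk
    have := orbPhase_conj (hsupp k hk) (-(i : ℤ))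
    rw [zpow_neg, zpow_natCast, inv_inv] at this
    rw [this]
    push_cast
    ring
  have hcoeff : ∀ (i : ℕ) (k : G), a₀.coeff ((h ^ i)⁻¹ * k * h ^ i) =
      if orbPhase p h k - (i : ZMod p) = 0 then t.coeff k else 0 := by
    intro i k
    rw [ha₀, htc]
    by_cases hk : t.coeff k = 0
    · simp [hk]
    · rw [hphase i k hk]
  refine ⟨a₀, ?_, ?_, ?_⟩
  · intro k
    rw [ha₀]
    split_ifs
    · exact htR k
    · exact memLocalRing_zero hMp.ne_top
  · apply comm_of_coeff_conj
    intro k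
    rw [hcoeff, ha₀]
    simp
  · ext k
    unfold relTrG
    rw [MonoidAlgebra.coeff_sum, Finsupp.finsetSum_apply]
    simp only [MonoidAlgebra.coeff_single_mul_apply, MonoidAlgebra.coeff_mul_single_apply,
      one_mul, mul_one, inv_inv]
    simp_rw [← mul_assoc, hcoeff]
    rw [Finset.sum_eq_single (orbPhase p h k).val]
    · rw [ZMod.natCast_zmod_val, sub_self, if_pos rfl]
    · intro i hi hne
      rw [if_neg]
      intro h0
      apply hne
      rw [sub_eq_zero] at h0
      rw [h0, ZMod.val_natCast_of_lt (Finset.mem_range.mp hi)]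
    · intro hnot
      exact absurd (Finset.mem_range.mpr (ZMod.val_lt _)) hnot

end FundDomain2

end Cfsg.Agent.Lib.Helper78
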