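import Mathlib

/-!
# Projective modules over the group algebra of an abelian `p`-group over a local ring

`S` is a commutative local ring whose residue characteristic is `p`, `C` a finite abelian
`p`-group.  Then `S[C]` is local, finite projective `S[C]`-modules are free, and hence the
`S`-trace of `c • E` vanishes for `1 ≠ c ∈ C` and every `S[C]`-linear idempotent `E`
(the character of a projective module vanishes off the identity).  A version with an extra
commuting automorphism of order prime to `p` is included.
-/

set_option autoImplicit false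
set_option linter.unusedSectionVars false
set_option linter.style.haveILetI false

namespace Cfsg.Agent.Lib.Helper78

open MonoidAlgebra

section LocalGroupAlgebra

variable {S : Type*} [CommRing S] [IsLocalRing S] {C : Type*} [CommGroup C] [Finite C]

/-- The augmentation-residue map `S[C] → S/m`. -/
noncomputable def augResidue (S : Type*) [CommRing S] [IsLocalRing S] (C : Type*) [CommGroup C] :
    MonoidAlgebra S C →+* IsLocalRing.ResidueField S :=
  (IsLocalRing.residue S).comp (MonoidAlgebra.lift S S C (1 : C →* S)).toRingHom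

theorem augResidue_single (c : C) (a : S) :
    augResidue S C (MonoidAlgebra.single c a) = IsLocalRing.residue S a := by
  simp [augResidue]

theorem augResidue_surjective : Function.Surjective (augResidue S C) := by
  intro x
  obtain ⟨a, rfl⟩ := IsLocalRing.residue_surjective x
  exact ⟨MonoidAlgebra.single 1 a, augResidue_single 1 a⟩

theorem isLocalRing_monoidAlgebra (p : ℕ) [hp : Fact p.Prime]
    (hpS : (p : S) ∈ IsLocalRing.maximalIdeal S) (hC : IsPGroup p C) :
    IsLocalRing (MonoidAlgebra S C) := by
  classical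
  apply IsLocalRing.of_unique_max_ideal
  have hker : (RingHom.ker (augResidue S C)).IsMaximal :=
    RingHom.ker_isMaximal_of_surjective _ augResidue_surjective
  refine ⟨RingHom.ker (augResidue S C), hker, ?_⟩
  intro 𝔫 h𝔫
  symm
  apply hker.eq_of_le h𝔫.ne_top
  -- the contraction of 𝔫 is the maximal ideal
  have hint : Algebra.IsIntegral S (MonoidAlgebra S C) := Algebra.IsIntegral.of_finite S _
  have hcomap : Ideal.comap (algebraMap S (MonoidAlgebra S C)) 𝔫 = IsLocalRing.maximalIdeal S :=
    IsLocalRing.eq_maximalIdeal (Ideal.isMaximal_comap_of_isIntegral_of_isMaximal 𝔫)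
  have hm : ∀ a ∈ IsLocalRing.maximalIdeal S, algebraMap S (MonoidAlgebra S C) a ∈ 𝔫 := by
    intro a ha
    rw [← hcomap] at ha
    exact ha
  -- group elements are ≡ 1 mod 𝔫
  have hg : ∀ c : C, (MonoidAlgebra.single c (1 : S) - 1 : MonoidAlgebra S C) ∈ 𝔫 := by
    intro c
    have hpn : ((p : ℕ) : MonoidAlgebra S C ⧸ 𝔫) = 0 := by
      have : algebraMap S (MonoidAlgebra S C) (p : S) ∈ 𝔫 := hm _ hpS
      rw [map_natCast] at this
      rw [← map_natCast (Ideal.Quotient.mk 𝔫)]
      exact Ideal.Quotient.eq_zero_iff_mem.mpr this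
    have : Nontrivial (MonoidAlgebra S C ⧸ 𝔫) := Ideal.Quotient.nontrivial_iff.mpr h𝔫.ne_top
    have : CharP (MonoidAlgebra S C ⧸ 𝔫) p := (CharP.charP_iff_prime_eq_zero hp.out).mpr hpn
    have : IsDomain (MonoidAlgebra S C ⧸ 𝔫) := Ideal.Quotient.isDomain 𝔫
    obtain ⟨k, hk⟩ := hC c
    have h1 : (Ideal.Quotient.mk 𝔫 (MonoidAlgebra.single c (1 : S)) - 1) ^ p ^ k = 0 := by
      rw [sub_pow_char_pow, one_pow, ← map_pow, MonoidAlgebra.single_pow, hk, one_pow]
      rw [← MonoidAlgebra.one_def, map_one, sub_self]
    have h2 := pow_eq_zero_iff (pow_ne_zero k hp.out.ne_zero) |>.mp h1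
    rw [← map_one (Ideal.Quotient.mk 𝔫), ← map_sub] at h2
    exact Ideal.Quotient.eq_zero_iff_mem.mp h2
  intro a ha
  rw [RingHom.mem_ker] at ha
  -- decompose a
  have key : ∀ a : MonoidAlgebra S C,
      a - algebraMap S (MonoidAlgebra S C) (MonoidAlgebra.lift S S C (1 : C →* S) a) ∈ 𝔫 := by
    intro a
    induction a using MonoidAlgebra.induction_linear with
    | zero => simp
    | add x y hx hy =>
      rw [map_add, map_add]
      have : x + y - (algebraMap S (MonoidAlgebra S C) (MonoidAlgebra.lift S S C (1 : C →* S) x) +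
          algebraMap S (MonoidAlgebra S C) (MonoidAlgebra.lift S S C (1 : C →* S) y)) =
          (x - algebraMap S (MonoidAlgebra S C) (MonoidAlgebra.lift S S C (1 : C →* S) x)) +
          (y - algebraMap S (MonoidAlgebra S C) (MonoidAlgebra.lift S S C (1 : C →* S) y)) := by
        abel
      rw [this]
      exact 𝔫.add_mem hx hy
    | single c r =>
      rw [MonoidAlgebra.lift_single]
      have : (MonoidAlgebra.single c r : MonoidAlgebra S C) -
          algebraMap S (MonoidAlgebra S C) (r • (1 : C →* S) c) =
          algebraMap S (MonoidAlgebra S C) r * (MonoidAlgebra.single c (1 : S) - 1) := by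
        rw [MonoidAlgebra.single_eq_algebraMap_mul_of, mul_sub, mul_one]
        simp [MonoidAlgebra.of_apply]
      rw [this]
      exact 𝔫.mul_mem_left _ (hg c)
  have h1 : MonoidAlgebra.lift S S C (1 : C →* S) a ∈ IsLocalRing.maximalIdeal S := by
    rw [← IsLocalRing.residue_eq_zero_iff]
    exact ha
  have h2 := 𝔫.add_mem (key a) (hm _ h1)
  rwa [sub_add_cancel] at h2

end LocalGroupAlgebra

section TraceFree

variable {S : Type*} [CommRing S] {C : Type*} [CommGroup C] [Finite C]

/-- On a finite free `S[C]`-module, the `S`-trace of multiplication by a non-identity group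
element is zero. -/
theorem trace_single_smul_id_of_free {P : Type*} [AddCommGroup P] [Module S P]
    [Module (MonoidAlgebra S C) P] [IsScalarTower S (MonoidAlgebra S C) P]
    [Module.Finite (MonoidAlgebra S C) P] [Module.Free (MonoidAlgebra S C) P]
    (c : C) (hc : c ≠ 1) :
    LinearMap.trace S P ((MonoidAlgebra.single c (1 : S) : MonoidAlgebra S C) •
      (LinearMap.id : P →ₗ[S] P)) = 0 := by
  classical
  haveI := Fintype.ofFinite C
  let b := Module.Free.chooseBasis (MonoidAlgebra S C) P
  let B := (MonoidAlgebra.basis C S).smulTower b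
  rw [LinearMap.trace_eq_matrix_trace S B, Matrix.trace]
  apply Finset.sum_eq_zero
  rintro ⟨c', j⟩ -
  rw [Matrix.diag_apply, LinearMap.toMatrix_apply]
  have h1 : ((MonoidAlgebra.single c (1 : S) : MonoidAlgebra S C) •
      (LinearMap.id : P →ₗ[S] P)) (B (c', j)) = B (c * c', j) := by
    simp only [LinearMap.smul_apply, LinearMap.id_coe, id_eq, B, Module.Basis.smulTower_apply,
      MonoidAlgebra.basis_apply, smul_smul, MonoidAlgebra.single_mul_single, mul_one]
  rw [h1, Module.Basis.repr_self, Finsupp.single_apply, if_neg]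
  intro h
  apply hc
  have := congrArg Prod.fst h
  simpa using this

end TraceFree

section TraceIdem

variable {S : Type*} [CommRing S] {C : Type*} [CommGroup C] [Finite C]

/-- Over a local group algebra `S[C]`, the `S`-trace of `c • E` vanishes for a non-identity
group element `c` and an `S[C]`-linear idempotent `E` of a finite projective module. -/
theorem trace_single_smul_idempotent [IsLocalRing (MonoidAlgebra S C)]
    {N : Type*} [AddCommGroup N] [Module S N]
    [Module (MonoidAlgebra S C) N] [IsScalarTower S (MonoidAlgebra S C) N]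
    [Module.Finite (MonoidAlgebra S C) N] [Module.Projective (MonoidAlgebra S C) N]
    (E : N →ₗ[MonoidAlgebra S C] N) (hE : IsIdempotentElem E) (c : C) (hc : c ≠ 1) :
    LinearMap.trace S N ((MonoidAlgebra.single c (1 : S) : MonoidAlgebra S C) •
      (E.restrictScalars S)) = 0 := by
  classical
  have hcompl : IsCompl (LinearMap.range E) (LinearMap.ker E) :=
    LinearMap.IsIdempotentElem.isCompl hE
  -- both summands are finite projective, hence free
  have hP_fin : Module.Finite (MonoidAlgebra S C) (LinearMap.range E) :=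
    Module.Finite.of_surjective _ (Submodule.projectionOnto_surjective hcompl)
  have hQ_fin : Module.Finite (MonoidAlgebra S C) (LinearMap.ker E) :=
    Module.Finite.of_surjective _ (Submodule.projectionOnto_surjective hcompl.symm)
  have hP_proj : Module.Projective (MonoidAlgebra S C) (LinearMap.range E) :=
    Module.Projective.of_split (LinearMap.range E).subtype _
      (Submodule.projectionOnto_comp_subtype hcompl)
  have hQ_proj : Module.Projective (MonoidAlgebra S C) (LinearMap.ker E) :=
    Module.Projective.of_split (LinearMap.ker E).subtype _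
      (Submodule.projectionOnto_comp_subtype hcompl.symm)
  have hP_free : Module.Free (MonoidAlgebra S C) (LinearMap.range E) :=
    Module.free_of_flat_of_isLocalRing
  have hQ_free : Module.Free (MonoidAlgebra S C) (LinearMap.ker E) :=
    Module.free_of_flat_of_isLocalRing
  have hP_freeS : Module.Free S (LinearMap.range E) := Module.Free.trans (S := MonoidAlgebra S C)
  have hQ_freeS : Module.Free S (LinearMap.ker E) := Module.Free.trans (S := MonoidAlgebra S C)
  have hP_finS : Module.Finite S (LinearMap.range E) := Module.Finite.trans (MonoidAlgebra S C) _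
  have hQ_finS : Module.Finite S (LinearMap.ker E) := Module.Finite.trans (MonoidAlgebra S C) _
  let e : ((LinearMap.range E) × (LinearMap.ker E)) ≃ₗ[S] N :=
    (Submodule.prodEquivOfIsCompl _ _ hcompl).restrictScalars S
  have hconj : (MonoidAlgebra.single c (1 : S) : MonoidAlgebra S C) • (E.restrictScalars S) =
      e.conj (LinearMap.prodMap ((MonoidAlgebra.single c (1 : S) : MonoidAlgebra S C) •
        (LinearMap.id : (LinearMap.range E) →ₗ[S] (LinearMap.range E)))
        (0 : (LinearMap.ker E) →ₗ[S] (LinearMap.ker E))) := by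
    apply LinearMap.ext
    intro n
    obtain ⟨⟨x, y⟩, rfl⟩ := e.surjective n
    rw [LinearEquiv.conj_apply]
    simp only [LinearMap.coe_comp, LinearEquiv.coe_coe, Function.comp_apply,
      LinearEquiv.symm_apply_apply, LinearMap.prodMap_apply, LinearMap.smul_apply,
      LinearMap.id_coe, id_eq, LinearMap.zero_apply]
    simp only [e, LinearEquiv.restrictScalars_apply, Submodule.coe_prodEquivOfIsCompl',
      LinearMap.coe_restrictScalars, map_add]
    have hx : E (x : N) = x := (LinearMap.IsIdempotentElem.mem_range_iff hE).mp x.2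
    have hy : E (y : N) = 0 := y.2
    simp [hx, hy]
  rw [hconj, LinearMap.trace_conj', LinearMap.trace_prodMap', map_zero, add_zero]
  exact trace_single_smul_id_of_free c hc

end TraceIdem

section FreeAction

variable {S : Type*} [CommRing S] {C : Type*} [CommGroup C]

theorem monoidAlgebra_eq_sum_single [Fintype C] (a : MonoidAlgebra S C) :
    a = ∑ c : C, (a.coeff c) • (MonoidAlgebra.single c (1 : S) : MonoidAlgebra S C) := by
  classical
  ext c₀
  simp

/-- A module over `S[C]` having an `S`-basis permuted freely by `C` is free over `S[C]`. -/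
theorem free_of_basis_free_action [Finite C] {X : Type*} [Finite X] {N : Type*} [AddCommGroup N]
    [Module S N] [Module (MonoidAlgebra S C) N] [IsScalarTower S (MonoidAlgebra S C) N]
    (b : Module.Basis X S N) (σ : C → X → X) (hσ1 : ∀ x, σ 1 x = x)
    (hσmul : ∀ c c' x, σ (c * c') x = σ c (σ c' x))
    (hfree : ∀ c x, σ c x = x → c = 1)
    (hb : ∀ c x, (MonoidAlgebra.single c (1 : S) : MonoidAlgebra S C) • b x = b (σ c x)) :
    Module.Free (MonoidAlgebra S C) N := by
  classical
  haveI := Fintype.ofFinite C
  haveI := Fintype.ofFinite X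
  let rel : Setoid X :=
    { r := fun x x' => ∃ c, σ c x = x'
      iseqv :=
        { refl := fun x => ⟨1, hσ1 x⟩
          symm := by
            rintro x x' ⟨c, rfl⟩
            exact ⟨c⁻¹, by rw [← hσmul, inv_mul_cancel, hσ1]⟩
          trans := by
            rintro x x' x'' ⟨c, rfl⟩ ⟨c', rfl⟩
            exact ⟨c' * c, hσmul c' c x⟩ } }
  let Ω := Quotient rel
  haveI : Finite Ω := Quotient.finite rel
  haveI := Fintype.ofFinite Ω
  let r : Ω → X := Quotient.out
  have hr : ∀ x : X, ∃ c, σ c (r (Quotient.mk rel x)) = x := fun x =>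
    Quotient.exact (Quotient.out_eq (Quotient.mk rel x))
  have hinj : ∀ c c' ω ω', σ c (r ω) = σ c' (r ω') → ω = ω' ∧ c = c' := by
    intro c c' ω ω' h
    have h1 : ω = ω' := by
      rw [← Quotient.out_eq ω, ← Quotient.out_eq ω']
      apply Quotient.sound
      refine ⟨c'⁻¹ * c, ?_⟩
      rw [hσmul, h, ← hσmul, inv_mul_cancel, hσ1]
    subst h1
    refine ⟨rfl, ?_⟩
    have h2 : σ (c'⁻¹ * c) (r ω) = r ω := by
      rw [hσmul, h, ← hσmul, inv_mul_cancel, hσ1]
    have h3 := hfree _ _ h2
    rw [inv_mul_eq_one] at h3
    exact h3.symm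
  let v : Ω → N := fun ω => b (r ω)
  have hsmul : ∀ (a : MonoidAlgebra S C) (x : X), a • b x = ∑ c : C, a.coeff c • b (σ c x) := by
    intro a x
    conv_lhs => rw [monoidAlgebra_eq_sum_single a]
    rw [Finset.sum_smul]
    apply Finset.sum_congr rfl
    intro c _
    rw [smul_assoc, hb]
  have hli : LinearIndependent (MonoidAlgebra S C) v := by
    rw [Fintype.linearIndependent_iff]
    intro g hg ω₀
    ext c₀
    have h1 : ∑ ω : Ω, ∑ c : C, (g ω).coeff c • b (σ c (r ω)) = 0 := by
      rw [← hg]
      apply Finset.sum_congr rfl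
      intro ω _
      exact (hsmul (g ω) (r ω)).symm
    have h2 := congrArg (fun n => b.repr n (σ c₀ (r ω₀))) h1
    simp only [map_sum, map_smul, Module.Basis.repr_self, Finsupp.coe_finsetSum, Finset.sum_apply,
      Finsupp.smul_apply, Finsupp.single_apply, smul_eq_mul, mul_ite, mul_one, mul_zero,
      map_zero, Finsupp.coe_zero, Pi.zero_apply] at h2
    rw [Finset.sum_eq_single ω₀, Finset.sum_eq_single c₀] at h2
    · simpa using h2
    · intro c _ hc
      rw [if_neg]
      intro h
      exact hc (hinj _ _ _ _ h).2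
    · intro h; exact absurd (Finset.mem_univ _) h
    · intro ω _ hω
      apply Finset.sum_eq_zero
      intro c _
      rw [if_neg]
      intro h
      exact hω (hinj _ _ _ _ h).1
    · intro h; exact absurd (Finset.mem_univ _) h
  have hsp : ⊤ ≤ Submodule.span (MonoidAlgebra S C) (Set.range v) := by
    have h1 : ∀ x, b x ∈ Submodule.span (MonoidAlgebra S C) (Set.range v) := by
      intro x
      obtain ⟨c, hc⟩ := hr x
      rw [← hc, ← hb]
      exact Submodule.smul_mem _ _ (Submodule.subset_span ⟨_, rfl⟩)
    intro n _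
    rw [← b.sum_repr n]
    apply Submodule.sum_mem
    intro x _
    rw [← algebraMap_smul (MonoidAlgebra S C) (b.repr n x) (b x)]
    exact Submodule.smul_mem _ _ (h1 x)
  exact Module.Free.of_basis (Module.Basis.mk hli hsp)

end FreeAction

section Eigen

/-- If `t ^ m = 1` then `a = ∑_{i<m} t^i` satisfies `a * a = m • a`. -/
theorem geom_sum_mul_self_of_pow_eq_one {R : Type*} [Ring R] (t : R) (m : ℕ) (ht : t ^ m = 1) :
    (∑ i ∈ Finset.range m, t ^ i) * (∑ i ∈ Finset.range m, t ^ i) =
      (m : R) * ∑ i ∈ Finset.range m, t ^ i := by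
  set a := ∑ i ∈ Finset.range m, t ^ i with ha
  have h1 : t * a = a := by
    rw [ha, Finset.mul_sum]
    simp_rw [← pow_succ']
    have e1 := Finset.sum_range_succ' (fun i => t ^ i) m
    have e2 := Finset.sum_range_succ (fun i => t ^ i) m
    rw [e2] at e1
    simp only [pow_zero, ht] at e1
    exact (add_right_cancel e1).symm
  have h2 : ∀ i : ℕ, t ^ i * a = a := by
    intro i
    induction i with
    | zero => simp
    | succ k ih => rw [pow_succ, mul_assoc, h1, ih]
  conv_lhs => rw [ha, Finset.sum_mul]
  rw [Finset.sum_congr rfl (fun i _ => h2 i)]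
  simp

variable {S : Type*} [CommRing S] {C : Type*} [CommGroup C] [Finite C]

/-- The `S`-linear functional `T ↦ tr_S (c • T)` on `End_{S[C]}(N)`. -/
noncomputable def traceSmul {N : Type*} [AddCommGroup N] [Module S N]
    [Module (MonoidAlgebra S C) N] [IsScalarTower S (MonoidAlgebra S C) N] (c : C) :
    Module.End (MonoidAlgebra S C) N →ₗ[S] S :=
  (LinearMap.trace S N) ∘ₗ
    (DistribSMul.toLinearMap S (N →ₗ[S] N)
      (MonoidAlgebra.single c (1 : S) : MonoidAlgebra S C)) ∘ₗ
    (LinearMap.restrictScalarsₗ S (MonoidAlgebra S C) N N S)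

theorem traceSmul_apply {N : Type*} [AddCommGroup N] [Module S N]
    [Module (MonoidAlgebra S C) N] [IsScalarTower S (MonoidAlgebra S C) N] (c : C)
    (T : Module.End (MonoidAlgebra S C) N) :
    traceSmul (S := S) c T = LinearMap.trace S N
      ((MonoidAlgebra.single c (1 : S) : MonoidAlgebra S C) • (T.restrictScalars S)) := rfl

theorem trace_single_smul_mul_idempotent [IsDomain S] [IsLocalRing (MonoidAlgebra S C)]
    {N : Type*} [AddCommGroup N] [Module S N]
    [Module (MonoidAlgebra S C) N] [IsScalarTower S (MonoidAlgebra S C) N]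
    [Module.Finite (MonoidAlgebra S C) N] [Module.Projective (MonoidAlgebra S C) N]
    (E d d' : Module.End (MonoidAlgebra S C) N) (hE : IsIdempotentElem E)
    (hdd' : d' * d = 1) (hdE : Commute d' E) (m : ℕ) (hm : IsUnit (m : S))
    (hd' : d' ^ m = 1) (ζ : S) (hζ : IsPrimitiveRoot ζ m) (c : C) (hc : c ≠ 1) :
    LinearMap.trace S N ((MonoidAlgebra.single c (1 : S) : MonoidAlgebra S C) •
      ((d * E).restrictScalars S)) = 0 := by
  classical
  have hm0 : m ≠ 0 := by
    rintro rfl
    simp at hm
  obtain ⟨minv, hminv⟩ := hm.exists_left_inv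
  -- the operators
  let t : ℕ → Module.End (MonoidAlgebra S C) N := fun j => (ζ ^ j) • d'
  have ht : ∀ j, t j ^ m = 1 := by
    intro j
    simp only [t]
    rw [smul_pow, hd', ← pow_mul, mul_comm, pow_mul, hζ.pow_eq_one, one_pow, one_smul]
  let a : ℕ → Module.End (MonoidAlgebra S C) N := fun j => ∑ i ∈ Finset.range m, t j ^ i
  have ha : ∀ j, a j * a j = (m : S) • a j := by
    intro j
    have := geom_sum_mul_self_of_pow_eq_one (t j) m (ht j)
    simp only [a]
    rw [this, Nat.cast_smul_eq_nsmul S, nsmul_eq_mul]
  let ε : ℕ → Module.End (MonoidAlgebra S C) N := fun j => minv • a j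
  have hε : ∀ j, IsIdempotentElem (ε j) := by
    intro j
    simp only [ε, IsIdempotentElem]
    rw [smul_mul_smul_comm, ha, smul_smul, mul_assoc, hminv, mul_one]
  have hεE : ∀ j, Commute (ε j) E := by
    intro j
    simp only [ε, a, t]
    apply Commute.smul_left
    apply Commute.sum_left
    intro i _
    apply Commute.pow_left
    exact Commute.smul_left hdE _
  have hidem : ∀ j, IsIdempotentElem (ε j * E) := fun j =>
    IsIdempotentElem.mul_of_commute (hεE j) (hε j) hE
  -- the spectral decomposition of `d`
  have hdm : d' ^ (m - 1) = d := by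
    calc d' ^ (m - 1) = d' ^ (m - 1) * (d' * d) := by rw [hdd', mul_one]
      _ = d' ^ (m - 1 + 1) * d := by rw [pow_succ, mul_assoc]
      _ = d := by rw [Nat.sub_add_cancel (Nat.one_le_iff_ne_zero.mpr hm0), hd', one_mul]
  have hgeom : ∀ i ∈ Finset.range m, ∑ j ∈ Finset.range m, ζ ^ j * (ζ ^ j) ^ i =
      if i = m - 1 then (m : S) else 0 := by
    intro i hi
    rw [Finset.mem_range] at hi
    have h1 : ∀ j, ζ ^ j * (ζ ^ j) ^ i = (ζ ^ (i + 1)) ^ j := by
      intro j
      rw [← pow_succ', ← pow_mul, ← pow_mul, mul_comm]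
    simp_rw [h1]
    split_ifs with h
    · have : i + 1 = m := by omega
      rw [this, hζ.pow_eq_one]
      simp
    · have hne : ζ ^ (i + 1) ≠ 1 :=
        hζ.pow_ne_one_of_pos_of_lt (Nat.succ_ne_zero i) (by omega)
      have h4 : (ζ ^ (i + 1)) ^ m = 1 := by
        rw [← pow_mul, mul_comm, pow_mul, hζ.pow_eq_one, one_pow]
      have h2 := mul_geom_sum (ζ ^ (i + 1)) m
      rw [h4, sub_self] at h2
      rcases mul_eq_zero.mp h2 with h3 | h3
      · exact absurd (sub_eq_zero.mp h3) hne
      · exact h3
  have hsum : ∑ j ∈ Finset.range m, (ζ ^ j) • ε j = d := by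
    simp only [ε, a, t]
    simp_rw [smul_pow, Finset.smul_sum, smul_smul]
    rw [Finset.sum_comm]
    simp_rw [← Finset.sum_smul]
    have : ∀ i ∈ Finset.range m, (∑ j ∈ Finset.range m, ζ ^ j * (minv * (ζ ^ j) ^ i)) • d' ^ i =
        if i = m - 1 then d' ^ i else 0 := by
      intro i hi
      have h1 : ∑ j ∈ Finset.range m, ζ ^ j * (minv * (ζ ^ j) ^ i) =
          minv * ∑ j ∈ Finset.range m, ζ ^ j * (ζ ^ j) ^ i := by
        rw [Finset.mul_sum]
        apply Finset.sum_congr rfl
        intro j _
        ring
      rw [h1, hgeom i hi]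
      split_ifs with h
      · rw [hminv, one_smul]
      · rw [mul_zero, zero_smul]
    rw [Finset.sum_congr rfl this, Finset.sum_ite_eq' (Finset.range m) (m - 1)]
    rw [if_pos (Finset.mem_range.mpr (by omega)), hdm]
  have hfinal : traceSmul (S := S) c (d * E) = 0 := by
    rw [← hsum, Finset.sum_mul, map_sum]
    apply Finset.sum_eq_zero
    intro j _
    rw [smul_mul_assoc, map_smul, traceSmul_apply,
      trace_single_smul_idempotent (ε j * E) (hidem j) c hc, smul_zero]
  exact hfinal

end Eigen

end Cfsg.Agent.Lib.Helper78
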