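import Mathlib
import Cfsg.Agent.Lib.Helper78.WBOLocal

/-!
# Central idempotents of `S[G]` over a local ring and `p`-singular elements

For a commutative local domain `S` of residue characteristic `p` containing enough roots of unity,
an idempotent `e` of `S[G]` commuting with the group elements, a non-identity `p`-element
`u = φ c`, and elements `s`, `x` of order prime to `p` with `s` commuting with `u`,
`∑_g e (g⁻¹ (u s)⁻¹ g x) = 0`:  this is the trace of `w ↦ (u s) w x⁻¹ e` on `S[G]`, which vanishes
because `S[G]` is free over the local ring `S[⟨u⟩]`.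
-/

set_option autoImplicit false
set_option linter.unusedSectionVars false
set_option linter.style.haveILetI false

namespace Cfsg.Agent.Lib.Helper78

open MonoidAlgebra

section GroupAlgebra

variable {S : Type*} [CommRing S] [IsDomain S] [IsLocalRing S]
variable {G : Type*} [Group G] [Fintype G]
variable {C : Type*} [CommGroup C] [Finite C]

/-- The trace of `w ↦ (φ c * s) * w * x⁻¹ * e` on `S[G]` vanishes. -/
theorem sum_coeff_conj_eq_zero_of_idempotent (p : ℕ) [Fact p.Prime]
    (hpS : (p : S) ∈ IsLocalRing.maximalIdeal S) (hC : IsPGroup p C)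
    (φ : C →* G) (hφ : Function.Injective φ) (s x : G) (hs : ∀ c : C, Commute s (φ c))
    (m : ℕ) (hm : IsUnit (m : S)) (hsm : s ^ m = 1) (hxm : x ^ m = 1)
    (ζ : S) (hζ : IsPrimitiveRoot ζ m)
    (e : MonoidAlgebra S G) (he : e * e = e)
    (hec : ∀ g : G, Commute e (MonoidAlgebra.single g (1 : S)))
    (c : C) (hc : c ≠ 1) :
    ∑ g : G, e.coeff (g⁻¹ * (φ c * s)⁻¹ * g * x) = 0 := by
  classical
  let f : MonoidAlgebra S C →ₐ[S] MonoidAlgebra S G := MonoidAlgebra.mapDomainAlgHom S S φ
  letI modΛ : Module (MonoidAlgebra S C) (MonoidAlgebra S G) :=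
    Module.compHom (MonoidAlgebra S G) f.toRingHom
  have hsmul : ∀ (a : MonoidAlgebra S C) (w : MonoidAlgebra S G), a • w = f a * w :=
    fun a w => rfl
  haveI tower : IsScalarTower S (MonoidAlgebra S C) (MonoidAlgebra S G) :=
    ⟨fun r a w => by rw [hsmul, hsmul, map_smul, smul_mul_assoc]⟩
  haveI : Module.Finite (MonoidAlgebra S C) (MonoidAlgebra S G) :=
    Module.Finite.of_restrictScalars_finite S (MonoidAlgebra S C) (MonoidAlgebra S G)
  have hfsingle : ∀ (c' : C) (r : S), f (MonoidAlgebra.single c' r) = MonoidAlgebra.single (φ c') r := by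
    intro c' r
    simp [f, MonoidAlgebra.mapDomainAlgHom, MonoidAlgebra.mapDomain_single]
  haveI : Module.Free (MonoidAlgebra S C) (MonoidAlgebra S G) := by
    refine free_of_basis_free_action (MonoidAlgebra.basis G S) (fun c' g => φ c' * g) ?_ ?_ ?_ ?_
    · intro g; simp
    · intro c' c'' g; simp [mul_assoc]
    · intro c' g h
      have : φ c' = 1 := by simpa using h
      exact hφ (by rw [this, map_one])
    · intro c' g
      rw [hsmul, hfsingle, MonoidAlgebra.basis_apply, MonoidAlgebra.basis_apply,
        MonoidAlgebra.single_mul_single, mul_one]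
  haveI : IsLocalRing (MonoidAlgebra S C) := isLocalRing_monoidAlgebra p hpS hC
  -- group elements `s` commute with the image of `f`
  have hcomm : ∀ (t : G), (∀ c' : C, Commute t (φ c')) → ∀ a : MonoidAlgebra S C,
      Commute (MonoidAlgebra.single t (1 : S)) (f a) := by
    intro t ht a
    induction a using MonoidAlgebra.induction_linear with
    | zero => simp
    | add a b ha hb => rw [map_add]; exact ha.add_right hb
    | single c' r =>
      rw [hfsingle]
      unfold Commute SemiconjBy
      rw [MonoidAlgebra.single_mul_single, MonoidAlgebra.single_mul_single, (ht c').eq, one_mul,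
        mul_one]
  have hs' : ∀ c' : C, Commute s⁻¹ (φ c') := fun c' => (hs c').inv_left
  let E : Module.End (MonoidAlgebra S C) (MonoidAlgebra S G) :=
    { toFun := fun w => w * e
      map_add' := fun w w' => add_mul w w' e
      map_smul' := fun a w => by simp only [hsmul, RingHom.id_apply, mul_assoc] }
  let d : Module.End (MonoidAlgebra S C) (MonoidAlgebra S G) :=
    { toFun := fun w => MonoidAlgebra.single s (1 : S) * w * MonoidAlgebra.single x⁻¹ (1 : S)
      map_add' := fun w w' => by rw [mul_add, add_mul]
      map_smul' := fun a w => by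
        simp only [hsmul, RingHom.id_apply]
        rw [← mul_assoc, (hcomm s hs a).eq, mul_assoc, mul_assoc, mul_assoc] }
  let d' : Module.End (MonoidAlgebra S C) (MonoidAlgebra S G) :=
    { toFun := fun w => MonoidAlgebra.single s⁻¹ (1 : S) * w * MonoidAlgebra.single x (1 : S)
      map_add' := fun w w' => by rw [mul_add, add_mul]
      map_smul' := fun a w => by
        simp only [hsmul, RingHom.id_apply]
        rw [← mul_assoc, (hcomm s⁻¹ hs' a).eq, mul_assoc, mul_assoc, mul_assoc] }
  have hE : IsIdempotentElem E := by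
    apply LinearMap.ext
    intro w
    change w * e * e = w * e
    rw [mul_assoc, he]
  have hdd' : d' * d = 1 := by
    apply LinearMap.ext
    intro w
    change MonoidAlgebra.single s⁻¹ (1 : S) * (MonoidAlgebra.single s (1 : S) * w *
      MonoidAlgebra.single x⁻¹ (1 : S)) * MonoidAlgebra.single x (1 : S) = w
    rw [mul_assoc, mul_assoc, MonoidAlgebra.single_mul_single, ← mul_assoc, ← mul_assoc,
      MonoidAlgebra.single_mul_single]
    simp [← MonoidAlgebra.one_def]
  have hdE : Commute d' E := by
    apply LinearMap.ext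
    intro w
    change MonoidAlgebra.single s⁻¹ (1 : S) * (w * e) * MonoidAlgebra.single x (1 : S) =
      MonoidAlgebra.single s⁻¹ (1 : S) * w * MonoidAlgebra.single x (1 : S) * e
    rw [mul_assoc, mul_assoc, (hec x).eq, mul_assoc, mul_assoc]
  have hdpow : ∀ k : ℕ, ∀ w, (d' ^ k) w = MonoidAlgebra.single (s⁻¹ ^ k) (1 : S) * w *
      MonoidAlgebra.single (x ^ k) (1 : S) := by
    intro k
    induction k with
    | zero => intro w; simp [← MonoidAlgebra.one_def]
    | succ k ih =>
      intro w
      rw [pow_succ, Module.End.mul_apply, ih]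
      change MonoidAlgebra.single (s⁻¹ ^ k) (1 : S) * (MonoidAlgebra.single s⁻¹ (1 : S) * w *
        MonoidAlgebra.single x (1 : S)) * MonoidAlgebra.single (x ^ k) (1 : S) = _
      rw [mul_assoc, mul_assoc, MonoidAlgebra.single_mul_single, ← mul_assoc, ← mul_assoc,
        MonoidAlgebra.single_mul_single, ← pow_succ, ← pow_succ']
      simp
  have hd'm : d' ^ m = 1 := by
    apply LinearMap.ext
    intro w
    rw [hdpow, inv_pow, hsm, hxm]
    simp [← MonoidAlgebra.one_def]
  have key := trace_single_smul_mul_idempotent E d d' hE hdd' hdE m hm hd'm ζ hζ c hc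
  rw [LinearMap.trace_eq_matrix_trace S (MonoidAlgebra.basis G S), Matrix.trace] at key
  rw [← key]
  apply Finset.sum_congr rfl
  intro g _
  rw [Matrix.diag_apply, LinearMap.toMatrix_apply]
  have h1 : ((MonoidAlgebra.single c (1 : S) : MonoidAlgebra S C) •
      ((d * E).restrictScalars S)) ((MonoidAlgebra.basis G S) g) =
      MonoidAlgebra.single (φ c) (1 : S) * (MonoidAlgebra.single s (1 : S) *
        (MonoidAlgebra.single g (1 : S) * e) * MonoidAlgebra.single x⁻¹ (1 : S)) := by
    rw [LinearMap.smul_apply, hsmul, hfsingle]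
    rfl
  rw [h1]
  change _ = (MonoidAlgebra.single (φ c) (1 : S) * (MonoidAlgebra.single s (1 : S) *
        (MonoidAlgebra.single g (1 : S) * e) * MonoidAlgebra.single x⁻¹ (1 : S))).coeff g
  rw [MonoidAlgebra.coeff_single_mul_apply, MonoidAlgebra.coeff_mul_single_apply,
    MonoidAlgebra.coeff_single_mul_apply, MonoidAlgebra.coeff_single_mul_apply]
  simp only [one_mul, mul_one]
  congr 1
  group

end GroupAlgebra

end Cfsg.Agent.Lib.Helper78
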