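import Mathlib
import Cfsg.Agent.Lib.Helper78.WBOGroupAlg
import Cfsg.Agent.Lib.Helper78.CharValues
import Cfsg.Agent.Lib.Helper16.Osima

/-!
# Weak block orthogonality

`weak_block_orthogonality`: for a `p`-block `B`, a `p`-regular `x` and a `p`-singular `y`,
`∑_{χ ∈ B} χ(y) conj χ(x) = 0`.

Proof: the sum is the trace of `w ↦ y w x⁻¹ f_B` on `S[G]`, `S` the local ring at `M` (the block
idempotent `f_B` is `S`-integral by Osima's theorem, `Helper16.blockCoeff_memLocalRing`), and this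
trace vanishes by `sum_coeff_conj_eq_zero_of_idempotent` (projective = free over `S[⟨u⟩]`).
-/

set_option autoImplicit false
set_option linter.unusedSectionVars false
set_option linter.style.haveILetI false

namespace Cfsg.Agent.Lib.Helper78

open Cfsg MonoidAlgebra
open scoped ComplexConjugate

/-- Decomposition of a `p`-singular element into commuting `p`-part `u ≠ 1` and `p'`-part `s`. -/
theorem exists_pPart_decomposition {G : Type*} [Group G] [Finite G] (p : ℕ) [hp : Fact p.Prime]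
    (y : G) (hy : p ∣ orderOf y) :
    ∃ (u s : G) (k m : ℕ), u * s = y ∧ Commute s u ∧ u ≠ 1 ∧ u ^ (p ^ k) = 1 ∧ s ^ m = 1 ∧
      ¬ p ∣ m := by
  have hn0 : orderOf y ≠ 0 := (orderOf_pos y).ne'
  set n := orderOf y with hn
  set a := n.factorization p with ha
  set q := p ^ a with hq
  set m₁ := n / q with hm₁
  have hqm : q * m₁ = n := Nat.ordProj_mul_ordCompl_eq_self n p
  have hcop : Nat.Coprime q m₁ := by
    apply Nat.Coprime.pow_left
    exact Nat.coprime_ordCompl hp.out hn0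
  have hpm : ¬ p ∣ m₁ := Nat.not_dvd_ordCompl hp.out hn0
  have hbez := Nat.gcd_eq_gcd_ab q m₁
  rw [hcop.gcd_eq_one] at hbez
  have hyn : y ^ (n : ℤ) = 1 := by rw [zpow_natCast, hn, pow_orderOf_eq_one]
  have hprod : y ^ ((m₁ : ℤ) * q.gcdB m₁) * y ^ ((q : ℤ) * q.gcdA m₁) = y := by
    rw [← zpow_add, add_comm, ← hbez]
    simp
  have hu_pow : (y ^ ((m₁ : ℤ) * q.gcdB m₁)) ^ q = 1 := by
    rw [← zpow_natCast, ← zpow_mul]
    have : (m₁ : ℤ) * q.gcdB m₁ * (q : ℤ) = (n : ℤ) * q.gcdB m₁ := by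
      rw [← hqm]; push_cast; ring
    rw [this, zpow_mul, hyn, one_zpow]
  have hs_pow : (y ^ ((q : ℤ) * q.gcdA m₁)) ^ m₁ = 1 := by
    rw [← zpow_natCast, ← zpow_mul]
    have : (q : ℤ) * q.gcdA m₁ * (m₁ : ℤ) = (n : ℤ) * q.gcdA m₁ := by
      rw [← hqm]; push_cast; ring
    rw [this, zpow_mul, hyn, one_zpow]
  refine ⟨y ^ ((m₁ : ℤ) * q.gcdB m₁), y ^ ((q : ℤ) * q.gcdA m₁), a, m₁, hprod, ?_, ?_, hu_pow,
    hs_pow, hpm⟩
  · exact (Commute.refl y).zpow_zpow _ _
  · intro hu
    rw [hu, one_mul] at hprod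
    rw [hprod] at hs_pow
    have h1 : n ∣ m₁ := orderOf_dvd_of_pow_eq_one hs_pow
    exact hpm (hy.trans h1)

section BlockElt

variable {G : Type*} [Group G] [Fintype G]

/-- The sum of the central idempotents of the members of `B`, as an element of `ℂ[G]`. -/
noncomputable def blockElt (B : Set (IrrCharacter G)) : MonoidAlgebra ℂ G :=
  ∑ g : G, MonoidAlgebra.single g (blockCoeff B g)

theorem coeff_blockElt (B : Set (IrrCharacter G)) (g : G) :
    (blockElt B).coeff g = blockCoeff B g := by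
  classical
  unfold blockElt
  simp [MonoidAlgebra.coeff_sum, Finsupp.single_apply]

theorem blockElt_mem_center (B : Set (IrrCharacter G)) :
    blockElt B ∈ Subalgebra.center ℂ (MonoidAlgebra ℂ G) := by
  apply Cfsg.Agent.Lib.Helper16.mem_center_of_coeff_conj
  intro g h
  rw [coeff_blockElt, coeff_blockElt, Cfsg.Agent.Lib.Helper16.blockCoeff_conj]

open scoped Classical in
theorem omega_blockElt (B : Set (IrrCharacter G)) (ψ : IrrCharacter G) :
    Cfsg.Agent.Lib.Helper16.omega (ψ : G → ℂ) (blockElt B) = if ψ ∈ B then 1 else 0 := by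
  classical
  unfold Cfsg.Agent.Lib.Helper16.omega
  simp_rw [coeff_blockElt]
  rw [Cfsg.Agent.Lib.Helper16.sum_blockCoeff_mul]
  have hψ1 : (ψ : G → ℂ) 1 ≠ 0 := Cfsg.Agent.Lib.Helper79.irr_apply_one_ne_zero ψ
  split_ifs
  · exact div_self hψ1
  · exact zero_div _

theorem blockElt_mul_self (B : Set (IrrCharacter G)) : blockElt B * blockElt B = blockElt B := by
  classical
  have hc := blockElt_mem_center B
  have hcc : blockElt B * blockElt B ∈ Subalgebra.center ℂ (MonoidAlgebra ℂ G) :=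
    Subalgebra.mul_mem _ hc hc
  have hf : IsClassFunction G
      (fun g => (blockElt B * blockElt B).coeff g - (blockElt B).coeff g) := by
    intro g h
    simp only [Cfsg.Agent.Lib.Helper16.coeff_conj_of_mem_center hcc,
      Cfsg.Agent.Lib.Helper16.coeff_conj_of_mem_center hc]
  have key := eq_zero_of_forall_sum_mul_irr_eq_zero hf (by
    intro ψ
    have hψ1 : (ψ : G → ℂ) 1 ≠ 0 := Cfsg.Agent.Lib.Helper79.irr_apply_one_ne_zero ψ
    have h1 : ∀ z : MonoidAlgebra ℂ G, ∑ g : G, z.coeff g * (ψ : G → ℂ) g =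
        Cfsg.Agent.Lib.Helper16.omega (ψ : G → ℂ) z * (ψ : G → ℂ) 1 := by
      intro z
      unfold Cfsg.Agent.Lib.Helper16.omega
      field_simp
    simp only [sub_mul, Finset.sum_sub_distrib]
    rw [h1, h1, Cfsg.Agent.Lib.Helper16.omega_mul ψ hc, omega_blockElt]
    split_ifs <;> simp)
  ext g
  have := congrFun key g
  simpa [sub_eq_zero] using this

open IsMulCommutative in
theorem sum_blockCoeff_conj_eq_zero {p : ℕ} [Fact p.Prime] {M : Ideal AlgInt}
    (hM : IsPModular p M) {B : Set (IrrCharacter G)} (hB : IsPBlock M B)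
    (u s x : G) (hu1 : u ≠ 1) (k : ℕ) (hu : u ^ (p ^ k) = 1) (hsu : Commute s u)
    (m : ℕ) (hpm : ¬ p ∣ m) (hsm : s ^ m = 1) (hxm : x ^ m = 1) :
    ∑ g : G, blockCoeff B (g⁻¹ * (u * s)⁻¹ * g * x) = 0 := by
  classical
  haveI hMp : M.IsPrime := Cfsg.Agent.Lib.Helper16.isPModular_isPrime hM
  have hm0 : m ≠ 0 := by
    rintro rfl
    exact hpm (dvd_zero p)
  -- the local ring
  let S := Cfsg.Agent.Lib.Helper16.localSubring M
  have hpS : ((p : ℕ) : S) ∈ IsLocalRing.maximalIdeal S := by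
    rw [Cfsg.Agent.Lib.Helper16.maximalIdeal_localSubring,
      Cfsg.Agent.Lib.Helper16.mem_localIdeal]
    simpa using Cfsg.Agent.Lib.Helper16.memLocalIdeal_p hM
  -- the cyclic p-group
  let C := Subgroup.zpowers u
  have hC : IsPGroup p C := by
    have h1 : orderOf u ∣ p ^ k := orderOf_dvd_of_pow_eq_one hu
    obtain ⟨j, _, hj⟩ := (Nat.dvd_prime_pow (Fact.out)).mp h1
    apply IsPGroup.of_card (n := j)
    rw [Nat.card_zpowers, hj]
  have hs : ∀ c : C, Commute s ((Subgroup.zpowers u).subtype c) := by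
    rintro ⟨c, hc⟩
    obtain ⟨n, rfl⟩ := Subgroup.mem_zpowers_iff.mp hc
    exact hsu.zpow_right n
  -- roots of unity
  let ζ₀ : ℂ := Complex.exp (2 * Real.pi * Complex.I / m)
  have hζ₀ : IsPrimitiveRoot ζ₀ m := Complex.isPrimitiveRoot_exp m hm0
  have hζ₀S : ζ₀ ∈ S :=
    Cfsg.Agent.Lib.Helper16.memLocalRing_of_isIntegral hMp.ne_top
      (hζ₀.isIntegral (Nat.pos_of_ne_zero hm0))
  let ζ : S := ⟨ζ₀, hζ₀S⟩
  have hζ : IsPrimitiveRoot ζ m := by
    have : IsPrimitiveRoot ((Subring.subtype S) ζ) m := hζ₀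
    exact (IsPrimitiveRoot.map_iff_of_injective (f := Subring.subtype S)
      Subtype.val_injective).mp this
  have hm : IsUnit ((m : ℕ) : S) := by
    have hinv : ((m : ℂ))⁻¹ ∈ S := Cfsg.Agent.Lib.Helper16.memLocalRing_inv_natCast hM hpm
    refine ⟨⟨(m : S), ⟨(m : ℂ)⁻¹, hinv⟩, ?_, ?_⟩, rfl⟩
    · apply Subtype.ext
      have : (m : ℂ) ≠ 0 := by exact_mod_cast hm0
      simp [this]
    · apply Subtype.ext
      have : (m : ℂ) ≠ 0 := by exact_mod_cast hm0
      simp [this]
  -- the idempotent over `S`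
  have hcoef : ∀ g : G, blockCoeff B g ∈ S := fun g =>
    Cfsg.Agent.Lib.Helper16.blockCoeff_memLocalRing hB g
  let e : MonoidAlgebra S G := ∑ g : G, MonoidAlgebra.single g (⟨blockCoeff B g, hcoef g⟩ : S)
  have hecoeff : ∀ g : G, ((e.coeff g : S) : ℂ) = blockCoeff B g := by
    intro g
    simp only [e]
    simp [MonoidAlgebra.coeff_sum, Finsupp.single_apply]
  let ι : MonoidAlgebra S G →+* MonoidAlgebra ℂ G := MonoidAlgebra.mapRingHom G (Subring.subtype S)
  have hιinj : Function.Injective ι := by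
    intro a b hab
    ext g
    have := congrArg (fun z => z.coeff g) hab
    simp only [ι, MonoidAlgebra.coeff_mapRingHom] at this
    exact this
  have hιe : ι e = blockElt B := by
    ext g
    rw [MonoidAlgebra.coeff_mapRingHom, coeff_blockElt]
    exact hecoeff g
  have he : e * e = e := by
    apply hιinj
    rw [map_mul, hιe, blockElt_mul_self]
  have hec : ∀ g : G, Commute e (MonoidAlgebra.single g (1 : S)) := by
    intro g
    apply hιinj
    rw [map_mul, map_mul, hιe]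
    have h1 : ι (MonoidAlgebra.single g (1 : S)) = MonoidAlgebra.single g (1 : ℂ) := by
      simp [ι]
    rw [h1]
    exact ((Subalgebra.mem_center_iff.mp (blockElt_mem_center B)) _).symm
  let c : C := ⟨u, Subgroup.mem_zpowers u⟩
  have hc : c ≠ 1 := by
    intro h
    apply hu1
    exact congrArg Subtype.val h
  have key := sum_coeff_conj_eq_zero_of_idempotent (S := S) p hpS hC (Subgroup.zpowers u).subtype
    Subtype.val_injective s x hs m hm hsm hxm ζ hζ e he hec c hc
  have key2 := congrArg (Subring.subtype S) key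
  rw [map_sum, map_zero] at key2
  rw [← key2]
  apply Finset.sum_congr rfl
  intro g _
  exact (hecoeff _).symm

open scoped Classical in
/-- `∑_g f_B(g⁻¹ y⁻¹ g x) = ∑_{χ ∈ B} χ(y) conj χ(x)`. -/
theorem sum_blockCoeff_conj_eq (B : Set (IrrCharacter G)) (x y : G) :
    ∑ g : G, blockCoeff B (g⁻¹ * y⁻¹ * g * x) =
      ∑ χ ∈ Finset.univ.filter (fun χ : IrrCharacter G => χ ∈ B),
        (χ : G → ℂ) y * conj ((χ : G → ℂ) x) := by
  have hG : (Nat.card G : ℂ) ≠ 0 := by exact_mod_cast Nat.card_pos.ne'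
  simp_rw [Cfsg.Agent.Lib.Helper16.blockCoeff_eq_sum, ← Finset.mul_sum]
  rw [Finset.sum_comm, Finset.mul_sum]
  apply Finset.sum_congr rfl
  intro χ _
  have hχ : IsCharacter G (χ : G → ℂ) := IsIrrCharacter.isCharacter χ.2
  have hχ1 : (χ : G → ℂ) 1 ≠ 0 := Cfsg.Agent.Lib.Helper79.irr_apply_one_ne_zero χ
  obtain ⟨n, hn⟩ := IsCharacter.exists_apply_one hχ
  have h1 : ∑ g : G, (χ : G → ℂ) (g⁻¹ * y⁻¹ * g * x) =
      (Nat.card G : ℂ) * (χ : G → ℂ) y⁻¹ * (χ : G → ℂ) x / (χ : G → ℂ) 1 := by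
    rw [← Cfsg.Agent.Lib.Helper79.irr_sum_conj_mul χ y⁻¹ x]
    rw [← Equiv.sum_comp (Equiv.inv G)]
    apply Finset.sum_congr rfl
    intro g _
    simp
  rw [← Finset.mul_sum, ← map_sum, h1, IsCharacter.inv hχ y]
  have hc1 : conj ((χ : G → ℂ) 1) = (χ : G → ℂ) 1 := by rw [hn]; simp
  rw [map_div₀, map_mul, map_mul, hc1, Complex.conj_conj, Complex.conj_natCast]
  field_simp

open scoped Classical in
/-- **Weak block orthogonality** (finite-sum form). -/
theorem weak_block_orthogonality_sum {p : ℕ} [Fact p.Prime] {M : Ideal AlgInt}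
    (hM : IsPModular p M) {B : Set (IrrCharacter G)} (hB : IsPBlock M B)
    (x y : G) (hx : ¬ p ∣ orderOf x) (hy : p ∣ orderOf y) :
    ∑ χ ∈ Finset.univ.filter (fun χ : IrrCharacter G => χ ∈ B),
      (χ : G → ℂ) y * conj ((χ : G → ℂ) x) = 0 := by
  obtain ⟨u, s, k, m, hus, hcomm, hu1, huk, hsm, hpm⟩ := exists_pPart_decomposition p y hy
  have hp : p.Prime := Fact.out
  have hpm' : ¬ p ∣ m * orderOf x := by
    intro h
    rcases hp.dvd_mul.mp h with h | h
    · exact hpm h
    · exact hx h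
  have h1 := sum_blockCoeff_conj_eq_zero hM hB u s x hu1 k huk hcomm (m * orderOf x) hpm'
    (by rw [pow_mul, hsm, one_pow]) (by rw [mul_comm, pow_mul, pow_orderOf_eq_one, one_pow])
  rw [hus, sum_blockCoeff_conj_eq] at h1
  exact h1

/-- **Weak block orthogonality**: `∑ᶠ χ ∈ B, χ x * conj (χ y) = 0` for `x` `p`-regular and
`y` `p`-singular. -/
theorem weak_block_orthogonality {p : ℕ} [Fact p.Prime] {M : Ideal AlgInt}
    (hM : IsPModular p M) {B : Set (IrrCharacter G)} (hB : IsPBlock M B)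
    (x y : G) (hx : ¬ p ∣ orderOf x) (hy : p ∣ orderOf y) :
    ∑ᶠ χ ∈ B, (χ : G → ℂ) x * conj ((χ : G → ℂ) y) = 0 := by
  classical
  have h := weak_block_orthogonality_sum hM hB x y hx hy
  rw [finsum_mem_eq_sum_of_subset (t := Finset.univ.filter (fun χ : IrrCharacter G => χ ∈ B))
    _ (by intro χ hχ; simpa using hχ.1) (by intro χ hχ; simpa using hχ)]
  have h2 := congrArg conj h
  rw [map_sum, map_zero] at h2
  rw [← h2]
  apply Finset.sum_congr rfl
  intro χ _
  rw [map_mul, Complex.conj_conj, mul_comm]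

end BlockElt

end Cfsg.Agent.Lib.Helper78
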