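import Mathlib
import Cfsg.Agent.Lib.Helper78.SMTDecomp
import Cfsg.Agent.Lib.Helper78.WBO
import Cfsg.Agent.Lib.Helper16.Induced

/-!
# Brauer's second main theorem (idempotent form)

`smt_idempotent`: if the block `b` of `H` induces `B`, `h ∈ H` with `C_G(h_p) ≤ H` and `χ ∉ B` then
`∑_{k ∈ H} e_b(k) χ(k h) = 0`.
-/

set_option autoImplicit false
set_option linter.unusedSectionVars false
set_option linter.style.haveILetI false

namespace Cfsg.Agent.Lib.Helper78

open Cfsg MonoidAlgebra Finset Cfsg.Agent.Lib.Helper16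

section Embed

variable {G : Type*} [Group G]

/-- The embedding `ℂ[H] → ℂ[G]`. -/
noncomputable abbrev jH (H : Subgroup G) : MonoidAlgebra ℂ H →+* MonoidAlgebra ℂ G :=
  MonoidAlgebra.mapDomainRingHom ℂ H.subtype

theorem jH_single (H : Subgroup G) (v : H) (c : ℂ) :
    jH H (MonoidAlgebra.single v c) = MonoidAlgebra.single (v : G) c := by
  simp [MonoidAlgebra.mapDomain_single]

theorem coeff_jH_mem (H : Subgroup G) (w : MonoidAlgebra ℂ H) (v : H) :
    (jH H w).coeff (v : G) = w.coeff v := by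
  simp [MonoidAlgebra.coeff_mapDomain]

theorem coeff_jH_not_mem (H : Subgroup G) (w : MonoidAlgebra ℂ H) {k : G} (hk : k ∉ H) :
    (jH H w).coeff k = 0 := by
  rw [MonoidAlgebra.mapDomainRingHom_apply, MonoidAlgebra.coeff_mapDomain]
  apply Finsupp.mapDomain_of_notMem_range
  rintro ⟨v, rfl⟩
  exact hk v.2

variable {M : Ideal AlgInt} [hMp : M.IsPrime]

theorem coeffsInRing_jH (H : Subgroup G) {w : MonoidAlgebra ℂ H} (hw : CoeffsInRing M w) :
    CoeffsInRing M (jH H w) := by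
  intro k
  by_cases hk : k ∈ H
  · have := coeff_jH_mem H w ⟨k, hk⟩
    simp only at this
    rw [this]
    exact hw _
  · rw [coeff_jH_not_mem H w hk]
    exact memLocalRing_zero hMp.ne_top

theorem coeffsInIdeal_jH (H : Subgroup G) {w : MonoidAlgebra ℂ H} (hw : CoeffsInIdeal M w) :
    CoeffsInIdeal M (jH H w) := by
  intro k
  by_cases hk : k ∈ H
  · have := coeff_jH_mem H w ⟨k, hk⟩
    simp only at this
    rw [this]
    exact hw _
  · rw [coeff_jH_not_mem H w hk]
    exact memLocalIdeal_zero hMp.ne_top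

theorem sum_coeff_jH_mul [Fintype G] (H : Subgroup G) [Fintype H] (w : MonoidAlgebra ℂ H)
    (f : G → ℂ) :
    ∑ k : G, (jH H w).coeff k * f k = ∑ v : H, w.coeff v * f (v : G) := by
  classical
  induction w using MonoidAlgebra.induction_linear with
  | zero => simp
  | add a b ha hb =>
    simp only [map_add, MonoidAlgebra.coeff_add, Finsupp.add_apply, add_mul,
      Finset.sum_add_distrib, ha, hb]
  | single v c =>
    rw [jH_single]
    simp only [MonoidAlgebra.coeff_single, Finsupp.single_apply]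
    rw [Finset.sum_eq_single (v : G), Finset.sum_eq_single v]
    · simp
    · intro b _ hb
      simp [hb.symm]
    · intro h; exact absurd (Finset.mem_univ _) h
    · intro b _ hb
      simp [hb.symm]
    · intro h; exact absurd (Finset.mem_univ _) h

end Embed

section Twist

variable {G : Type*} [Group G] [Fintype G]

/-- `∑_u z(u) χ(u y) = ω_χ(z) χ(y)` for central `z`. -/
theorem sum_coeff_mul_irr_mul (χ : IrrCharacter G) {z : MonoidAlgebra ℂ G}
    (hz : z ∈ Subalgebra.center ℂ (MonoidAlgebra ℂ G)) (y : G) :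
    ∑ u : G, z.coeff u * (χ : G → ℂ) (u * y) = omega (χ : G → ℂ) z * (χ : G → ℂ) y := by
  have hχ1 : (χ : G → ℂ) 1 ≠ 0 := Cfsg.Agent.Lib.Helper79.irr_apply_one_ne_zero χ
  have hG : (Nat.card G : ℂ) ≠ 0 := by
    exact_mod_cast Nat.card_pos.ne'
  -- average over conjugation
  have h1 : ∀ a : G, ∑ u : G, z.coeff u * (χ : G → ℂ) (u * y) =
      ∑ u : G, z.coeff u * (χ : G → ℂ) (a * u * a⁻¹ * y) := by
    intro a
    refine Fintype.sum_equiv (MulAut.conj a⁻¹).toEquiv _ _ ?_
    intro u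
    simp only [MulEquiv.toEquiv_eq_coe, EquivLike.coe_coe, MulAut.conj_apply, inv_inv]
    have e1 : z.coeff (a⁻¹ * u * a) = z.coeff u := by
      have := coeff_conj_of_mem_center hz u a⁻¹
      rwa [inv_inv] at this
    rw [e1]
    congr 2
    group
  have h2 : (Nat.card G : ℂ) * ∑ u : G, z.coeff u * (χ : G → ℂ) (u * y) =
      ∑ a : G, ∑ u : G, z.coeff u * (χ : G → ℂ) (a * u * a⁻¹ * y) := by
    rw [← Finset.sum_congr rfl (fun a _ => h1 a), Finset.sum_const, Finset.card_univ,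
      nsmul_eq_mul, Nat.card_eq_fintype_card]
  rw [Finset.sum_comm] at h2
  have h3 : ∀ u : G, ∑ a : G, z.coeff u * (χ : G → ℂ) (a * u * a⁻¹ * y) =
      z.coeff u * ((Nat.card G : ℂ) * (χ : G → ℂ) u * (χ : G → ℂ) y / (χ : G → ℂ) 1) := by
    intro u
    rw [← Finset.mul_sum, Cfsg.Agent.Lib.Helper79.irr_sum_conj_mul]
  rw [Finset.sum_congr rfl (fun u _ => h3 u)] at h2
  have h4 : ∑ u : G, z.coeff u * ((Nat.card G : ℂ) * (χ : G → ℂ) u * (χ : G → ℂ) y /
      (χ : G → ℂ) 1) = (Nat.card G : ℂ) * (omega (χ : G → ℂ) z * (χ : G → ℂ) y) := by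
    unfold omega
    rw [Finset.sum_div, Finset.sum_mul, Finset.mul_sum]
    apply Finset.sum_congr rfl
    intro u _
    field_simp
  rw [h4] at h2
  exact mul_left_cancel₀ hG h2

/-- `∑_k (z w)(k) χ(k y) = ω_χ(z) ∑_k w(k) χ(k y)` for central `z`. -/
theorem sum_coeff_central_mul (χ : IrrCharacter G) {z : MonoidAlgebra ℂ G}
    (hz : z ∈ Subalgebra.center ℂ (MonoidAlgebra ℂ G)) (w : MonoidAlgebra ℂ G) (y : G) :
    ∑ k : G, (z * w).coeff k * (χ : G → ℂ) (k * y) =
      omega (χ : G → ℂ) z * ∑ k : G, w.coeff k * (χ : G → ℂ) (k * y) := by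
  classical
  induction w using MonoidAlgebra.induction_linear with
  | zero => simp
  | add a b ha hb =>
    simp only [mul_add, MonoidAlgebra.coeff_add, Finsupp.add_apply, add_mul,
      Finset.sum_add_distrib, ha, hb]
  | single v c =>
    simp only [MonoidAlgebra.coeff_mul_single_apply]
    have h1 : ∑ k : G, z.coeff (k * v⁻¹) * c * (χ : G → ℂ) (k * y) =
        c * ∑ u : G, z.coeff u * (χ : G → ℂ) (u * (v * y)) := by
      rw [Finset.mul_sum]
      refine Fintype.sum_equiv (Equiv.mulRight v⁻¹) _ _ ?_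
      intro k
      simp only [Equiv.coe_mulRight]
      rw [mul_assoc k v⁻¹, inv_mul_cancel_left]
      ring
    rw [h1, sum_coeff_mul_irr_mul χ hz]
    have h2 : ∑ k : G, (MonoidAlgebra.single v c).coeff k * (χ : G → ℂ) (k * y) =
        c * (χ : G → ℂ) (v * y) := by
      rw [Finset.sum_eq_single v]
      · simp
      · intro b _ hb
        simp [hb.symm]
      · intro h; exact absurd (Finset.mem_univ _) h
    rw [h2]
    ring

end Twist

section Main

variable {G : Type*} [Group G] [Fintype G] {M : Ideal AlgInt} [hMp : M.IsPrime]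

/-- Right multiplication by an element of `ℂ[H]` preserves "vanishing on `H`". -/
theorem coeff_mul_jH_eq_zero (H : Subgroup G) {t : MonoidAlgebra ℂ G}
    (ht : ∀ k ∈ H, t.coeff k = 0) (w : MonoidAlgebra ℂ H) :
    ∀ k ∈ H, (t * jH H w).coeff k = 0 := by
  induction w using MonoidAlgebra.induction_linear with
  | zero => intro k _; simp
  | add a b ha hb =>
    intro k hk
    rw [map_add, mul_add, MonoidAlgebra.coeff_add, Finsupp.add_apply, ha k hk, hb k hk, add_zero]
  | single v c =>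
    intro k hk
    rw [jH_single, MonoidAlgebra.coeff_mul_single_apply, ht _ (H.mul_mem hk (H.inv_mem v.2)),
      zero_mul]

/-- **Brauer's second main theorem, idempotent form.** -/
theorem smt_idempotent {p : ℕ} [hp : Fact p.Prime] (hM : IsPModular p M) (H : Subgroup G)
    [Fintype H] {b : Set (IrrCharacter H)} {B : Set (IrrCharacter G)}
    (hind : IsInducedBlock M H b B) (h : H) {x : G} (hx : IsPPart p (h : G) x)
    (hC : Subgroup.centralizer ({x} : Set G) ≤ H) (χ : IrrCharacter G) (hχ : χ ∉ B) :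
    ∑ k : H, blockCoeff b k * (χ : G → ℂ) ((k : G) * (h : G)) = 0 := by
  classical
  have hb : IsPBlock M b := hind.1
  have hB : IsPBlock M B := hind.2.1
  obtain ⟨B', hB'⟩ : ∃ B' : Set (IrrCharacter G), B' = blockOf M (χ : G → ℂ) := ⟨_, rfl⟩
  have hB'blk : IsPBlock M B' := hB' ▸ isPBlock_blockOf χ
  have hχB' : χ ∈ B' := hB' ▸ self_mem_blockOf hMp.ne_top χ
  -- the block idempotent of `B'`
  obtain ⟨E', hE'⟩ : ∃ E' : MonoidAlgebra ℂ G, E' = blockElt B' := ⟨_, rfl⟩
  have hE'c : E' ∈ Subalgebra.center ℂ (MonoidAlgebra ℂ G) := hE' ▸ blockElt_mem_center B'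
  have hE'R : CoeffsInRing M E' := fun g => by
    rw [hE', coeff_blockElt]; exact blockCoeff_memLocalRing hB'blk g
  have hE'i : E' * E' = E' := by rw [hE']; exact blockElt_mul_self B'
  -- the block idempotent of `b`
  obtain ⟨eb, heb⟩ : ∃ eb : MonoidAlgebra ℂ H, eb = blockElt b := ⟨_, rfl⟩
  have hebc : eb ∈ Subalgebra.center ℂ (MonoidAlgebra ℂ H) := heb ▸ blockElt_mem_center b
  have hebR : CoeffsInRing M eb := fun g => by
    rw [heb, coeff_blockElt]; exact blockCoeff_memLocalRing hb g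
  have hebi : eb * eb = eb := by rw [heb]; exact blockElt_mul_self b
  obtain ⟨ebG, hebG⟩ : ∃ ebG : MonoidAlgebra ℂ G, ebG = jH H eb := ⟨_, rfl⟩
  have hebGR : CoeffsInRing M ebG := hebG ▸ coeffsInRing_jH H hebR
  have hebGi : ebG * ebG = ebG := by rw [hebG, ← map_mul, hebi]
  -- the restriction of `E'`
  obtain ⟨rH, hrH⟩ : ∃ rH : MonoidAlgebra ℂ H, rH = resAlg H E' := ⟨_, rfl⟩
  have hrHc : rH ∈ Subalgebra.center ℂ (MonoidAlgebra ℂ H) := hrH ▸ resAlg_mem_center H hE'c
  have hrHR : CoeffsInRing M rH := fun v => by rw [hrH, coeff_resAlg]; exact hE'R _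
  obtain ⟨r, hr⟩ : ∃ r : MonoidAlgebra ℂ G, r = jH H rH := ⟨_, rfl⟩
  have hrR : CoeffsInRing M r := hr ▸ coeffsInRing_jH H hrHR
  obtain ⟨t, ht⟩ : ∃ t : MonoidAlgebra ℂ G, t = E' - r := ⟨_, rfl⟩
  have htR : CoeffsInRing M t := ht ▸ coeffsInRing_sub hE'R hrR
  -- the group element
  obtain ⟨g, hg⟩ : ∃ g : MonoidAlgebra ℂ G, g = MonoidAlgebra.single (h : G) (1 : ℂ) := ⟨_, rfl⟩
  have hg' : g = jH H (MonoidAlgebra.single h (1 : ℂ)) := by rw [hg, jH_single]
  have hgE' : g * E' = E' * g := (Subalgebra.mem_center_iff.mp hE'c) g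
  have hgr : g * r = r * g := by
    rw [hg', hr, ← map_mul, ← map_mul, (Subalgebra.mem_center_iff.mp hrHc) _]
  have hgeb : g * ebG = ebG * g := by
    rw [hg', hebG, ← map_mul, ← map_mul, (Subalgebra.mem_center_iff.mp hebc) _]
  have hgt : g * t = t * g := by rw [ht, mul_sub, sub_mul, hgE', hgr]
  -- `z` and `t'`
  obtain ⟨z, hz⟩ : ∃ z : MonoidAlgebra ℂ G, z = r * ebG := ⟨_, rfl⟩
  obtain ⟨t', ht'⟩ : ∃ t' : MonoidAlgebra ℂ G, t' = t * ebG := ⟨_, rfl⟩
  obtain ⟨ε, hε⟩ : ∃ ε : MonoidAlgebra ℂ G, ε = E' * ebG := ⟨_, rfl⟩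
  have hεzt : ε = z + t' := by rw [hε, hz, ht', ht]; noncomm_ring
  have hzR : CoeffsInRing M z := hz ▸ coeffsInRing_mul hrR hebGR
  have ht'R : CoeffsInRing M t' := ht' ▸ coeffsInRing_mul htR hebGR
  have hεR : CoeffsInRing M ε := hε ▸ coeffsInRing_mul hE'R hebGR
  have hgz : g * z = z * g := by
    rw [hz, ← mul_assoc, hgr, mul_assoc, hgeb, mul_assoc]
  have hgt' : g * t' = t' * g := by
    rw [ht', ← mul_assoc, hgt, mul_assoc, hgeb, mul_assoc]
  have hgε : g * ε = ε * g := by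
    rw [hε, ← mul_assoc, hgE', mul_assoc, hgeb, mul_assoc]
  have hεi : ε * ε = ε := by
    have hcomm : ebG * E' = E' * ebG := (Subalgebra.mem_center_iff.mp hE'c) ebG
    calc ε * ε = E' * (ebG * E') * ebG := by rw [hε]; noncomm_ring
      _ = (E' * E') * (ebG * ebG) := by rw [hcomm]; noncomm_ring
      _ = ε := by rw [hE'i, hebGi, hε]
  -- `z ^ N` has coefficients in the ideal
  obtain ⟨χ', hχ'⟩ := IsPBlock_nonempty hMp.ne_top hB
  have hχ'B' : χ' ∉ B' := by
    intro hmem
    have := IsPBlock_eq_of_mem hB hB'blk hχ' hmem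
    exact hχ (this ▸ hχB')
  let rC : Subalgebra.center ℂ (MonoidAlgebra ℂ H) := ⟨rH, hrHc⟩
  let ebC : Subalgebra.center ℂ (MonoidAlgebra ℂ H) := ⟨eb, hebc⟩
  let E'C : Subalgebra.center ℂ (MonoidAlgebra ℂ G) := ⟨E', hE'c⟩
  have hrC : rC ∈ centerOrder H M := fun v => hrHR v
  have hebC : ebC ∈ centerOrder H M := fun v => hebR v
  have hE'C : E'C ∈ centerOrder G M := fun v => hE'R v
  have hzC : rC * ebC ∈ centerOrder H M := (centerOrder H M).mul_mem hrC hebC
  have hω : ∀ ξ : IrrCharacter H, MemLocalIdeal M (omegaHom ξ (rC * ebC)) := by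
    intro ξ
    rw [map_mul, omegaHom_apply, omegaHom_apply]
    change MemLocalIdeal M (omega (ξ : H → ℂ) rH * omega (ξ : H → ℂ) eb)
    rw [heb, omega_blockElt]
    split_ifs with hξ
    · rw [mul_one]
      have := isInducedBlock_congr H hind hξ hχ' hE'C
      rw [omegaHom_apply] at this
      change MemLocalIdeal M (omega (ξ : H → ℂ) (resAlg H E') - omega (χ' : G → ℂ) E') at this
      rw [hE', omega_blockElt, if_neg hχ'B', sub_zero, ← hE', ← hrH] at this
      exact this
    · rw [mul_zero]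
      exact memLocalIdeal_zero hMp.ne_top
  have hpowI := exists_pow_coeffsInIdeal hzC hω
  obtain ⟨N, hN⟩ : ∃ N : ℕ, N = Nat.card (IrrCharacter H) := ⟨_, rfl⟩
  rw [← hN] at hpowI
  have hzN : CoeffsInIdeal M (z ^ N) := by
    have e1 : z ^ N = jH H ((rH * eb) ^ N) := by
      rw [map_pow, map_mul, hz, hr, hebG]
    rw [e1]
    apply coeffsInIdeal_jH
    have e2 : (((rC * ebC) ^ N : Subalgebra.center ℂ (MonoidAlgebra ℂ H)) :
        MonoidAlgebra ℂ H) = (rH * eb) ^ N := by
      push_cast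
      rfl
    rw [← e2]
    exact hpowI
  have hzN1 : CoeffsInIdeal M (z ^ (N + 1)) := by
    rw [pow_succ]
    exact CoeffsInIdeal.mul_right hzN hzR
  -- `t'` is a relative trace
  have htH : ∀ k ∈ H, t.coeff k = 0 := by
    intro k hk
    rw [ht, MonoidAlgebra.coeff_sub, Finsupp.sub_apply, hr]
    have := coeff_jH_mem H rH ⟨k, hk⟩
    simp only at this
    rw [this, hrH, coeff_resAlg, sub_self]
  have ht'H : ∀ k ∈ H, t'.coeff k = 0 := by
    rw [ht', hebG]
    exact coeff_mul_jH_eq_zero H htH eb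
  have hg1 : MonoidAlgebra.single (h : G) (1 : ℂ) * t' = t' * MonoidAlgebra.single (h : G) (1 : ℂ) := by
    rw [← hg]; exact hgt'
  have htr : IsRelTr M p (h : G) t' := by
    apply isRelTr_of_support ht'R hg1
    intro k hk
    have hkH : k ∉ H := fun hmem => hk (ht'H k hmem)
    have hkx : ¬ Commute x k := by
      intro hcomm
      apply hkH
      apply hC
      rw [Subgroup.mem_centralizer_iff]
      intro s hs
      rw [Set.mem_singleton_iff] at hs
      rw [hs]
      exact hcomm.eq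
    intro j hj
    exact dvd_of_commute_zpow hx hkx hj
  -- the decomposition of `ε`
  have hg2 : MonoidAlgebra.single (h : G) (1 : ℂ) * z = z * MonoidAlgebra.single (h : G) (1 : ℂ) := by
    rw [← hg]; exact hgz
  obtain ⟨u, hu, hpow⟩ := exists_pow_add_eq hzR hg2 ht'R hg1 htr (N + 1)
  obtain ⟨a, haR, hacomm, rfl⟩ := hu
  have hεpow : ε ^ (N + 1) = ε := IsIdempotentElem.pow_succ_eq N hεi
  have hdec : ε = ∑ i ∈ range p, MonoidAlgebra.single ((h : G) ^ i) (1 : ℂ) * a *
      MonoidAlgebra.single ((h : G) ^ i)⁻¹ (1 : ℂ) + z ^ (N + 1) := by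
    conv_lhs => rw [← hεpow, hεzt, hpow, add_comm]
    rfl
  have hg3 : MonoidAlgebra.single (h : G) (1 : ℂ) * z ^ (N + 1) =
      z ^ (N + 1) * MonoidAlgebra.single (h : G) (1 : ℂ) :=
    (Commute.pow_right (show Commute (MonoidAlgebra.single (h : G) (1 : ℂ)) z from hg2) _).eq
  have hg4 : MonoidAlgebra.single (h : G) (1 : ℂ) * ε = ε * MonoidAlgebra.single (h : G) (1 : ℂ) := by
    rw [← hg]; exact hgε
  have key := sum_coeff_mul_eq_zero_of_relTr hM (h : G) ε a (z ^ (N + 1)) hεR haR hzN1 hεi hg4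
    hacomm hg3 hdec (χ : G → ℂ) (isClassFunction_irr χ)
  -- evaluate
  rw [hε, sum_coeff_central_mul χ hE'c, hE', omega_blockElt, if_pos hχB', one_mul, hebG,
    sum_coeff_jH_mul H eb (fun k => (χ : G → ℂ) (k * (h : G)))] at key
  rw [← key]
  apply Finset.sum_congr rfl
  intro v _
  rw [heb, coeff_blockElt]

end Main

section PPart

variable {G : Type*} [Group G] [Finite G]

/-- Every element of a finite group has a `p`-part. -/
theorem exists_isPPart (p : ℕ) [hp : Fact p.Prime] (g : G) : ∃ x : G, IsPPart p g x := by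
  by_cases hg : p ∣ orderOf g
  · obtain ⟨u, s, k, m, hus, hsu, _, huk, hsm, hpm⟩ := exists_pPart_decomposition p g hg
    refine ⟨u, s, hus, hsu.symm, ?_, ?_⟩
    · obtain ⟨j, _, hj⟩ := (Nat.dvd_prime_pow hp.out).mp (orderOf_dvd_of_pow_eq_one huk)
      exact ⟨j, hj⟩
    · intro hdvd
      exact hpm (hdvd.trans (orderOf_dvd_of_pow_eq_one hsm))
  · exact ⟨1, g, one_mul g, Commute.one_left g, ⟨0, by simp⟩, hg⟩

end PPart

end Cfsg.Agent.Lib.Helper78
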