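import Mathlib
import Cfsg.Agent.Lib.Helper78.SMTMain
import Cfsg.Agent.Lib.Helper78.CharOrtho

/-!
# The block part of a class function via the block idempotent

`blockPart_eq_sum_blockCoeff`: for a class function `ϑ` on a finite group `H` and a set `b` of
irreducible characters, `blockPart b ϑ y = ∑_k e_b(k) ϑ(k y)`.
-/

set_option autoImplicit false
set_option linter.unusedSectionVars false
set_option linter.style.haveILetI false

namespace Cfsg.Agent.Lib.Helper78

open Cfsg MonoidAlgebra Finset Cfsg.Agent.Lib.Helper16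

section BlockPart

variable {H : Type*} [Group H] [inst : Fintype H]

open scoped Classical in
theorem blockPart_apply (b : Set (IrrCharacter H)) (ϑ : H → ℂ) (y : H) :
    blockPart b ϑ y = ∑ ξ ∈ Finset.univ.filter (fun ξ : IrrCharacter H => ξ ∈ b),
      classInner ϑ (ξ : H → ℂ) * (ξ : H → ℂ) y := by
  unfold blockPart
  have hinst : ∀ (i : Fintype H), @classInner H _ i = @classInner H _ inst := by
    intro i
    congr
    exact Subsingleton.elim _ _
  simp only [hinst]
  rw [finsum_mem_eq_sum_of_subset (t := Finset.univ.filter (fun ξ : IrrCharacter H => ξ ∈ b))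
      _ (by intro x hx; simpa using hx.1) (by intro x hx; simpa using hx)]

open scoped Classical in
/-- `∑_u e_b(u) ξ(u y) = [ξ ∈ b] ξ(y)`. -/
theorem sum_blockCoeff_mul_irr_mul (b : Set (IrrCharacter H)) (ξ : IrrCharacter H) (y : H) :
    ∑ u : H, blockCoeff b u * (ξ : H → ℂ) (u * y) = if ξ ∈ b then (ξ : H → ℂ) y else 0 := by
  have := sum_coeff_mul_irr_mul ξ (blockElt_mem_center b) y
  simp only [coeff_blockElt] at this
  rw [this, omega_blockElt]
  split_ifs <;> simp

open scoped Classical in
theorem blockPart_eq_sum_blockCoeff (b : Set (IrrCharacter H)) {ϑ : H → ℂ}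
    (hϑ : IsClassFunction H ϑ) (y : H) :
    blockPart b ϑ y = ∑ k : H, blockCoeff b k * ϑ (k * y) := by
  rw [blockPart_apply]
  have hexp : ∀ c : H, ϑ c = ∑ ξ : IrrCharacter H, classInner ϑ (ξ : H → ℂ) * (ξ : H → ℂ) c := by
    intro c
    have := congrFun (classFunction_eq_sum_irr hϑ) c
    rw [Finset.sum_apply] at this
    simpa using this
  have h1 : ∑ k : H, blockCoeff b k * ϑ (k * y) =
      ∑ ξ : IrrCharacter H, classInner ϑ (ξ : H → ℂ) *
        ∑ k : H, blockCoeff b k * (ξ : H → ℂ) (k * y) := by
    simp_rw [Finset.mul_sum]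
    rw [Finset.sum_comm]
    apply Finset.sum_congr rfl
    intro k _
    rw [hexp (k * y), Finset.mul_sum]
    apply Finset.sum_congr rfl
    intro ξ _
    ring
  rw [h1]
  simp_rw [sum_blockCoeff_mul_irr_mul]
  rw [Finset.sum_filter]
  apply Finset.sum_congr rfl
  intro ξ _
  split_ifs <;> simp

end BlockPart

end Cfsg.Agent.Lib.Helper78
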