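import Mathlib
import Cfsg.Agent.Lib.Helper78.WBO
import Cfsg.Agent.S4969

/-!
# Consequences of weak block orthogonality

* `blockKernel B x y = ∑_{φ ∈ B} φ(x) conj φ(y)` vanishes when exactly one of `x`, `y` is
  `p`-regular; it reproduces the members of `B` on the `p`-regular elements.
* `sum_pRegular_mul_conj_eq_zero`: characters in different blocks are orthogonal on the
  `p`-regular elements (S0952).
-/

set_option autoImplicit false
set_option linter.unusedSectionVars false
set_option linter.style.haveILetI false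

namespace Cfsg.Agent.Lib.Helper78

open Cfsg
open scoped ComplexConjugate

section Kernel

variable {G : Type*} [Group G] [Fintype G]

open scoped Classical in
/-- The block kernel `K_B(x, y) = ∑_{φ ∈ B} φ(x) conj φ(y)`. -/
noncomputable def blockKernel (B : Set (IrrCharacter G)) (x y : G) : ℂ :=
  ∑ φ ∈ Finset.univ.filter (fun φ : IrrCharacter G => φ ∈ B),
    (φ : G → ℂ) x * conj ((φ : G → ℂ) y)

theorem blockKernel_conj (B : Set (IrrCharacter G)) (x y : G) :
    conj (blockKernel B x y) = blockKernel B y x := by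
  unfold blockKernel
  rw [map_sum]
  apply Finset.sum_congr rfl
  intro φ _
  rw [map_mul, Complex.conj_conj, mul_comm]

theorem blockKernel_eq_zero_left {p : ℕ} [Fact p.Prime] {M : Ideal AlgInt}
    (hM : IsPModular p M) {B : Set (IrrCharacter G)} (hB : IsPBlock M B)
    {x y : G} (hx : ¬ p ∣ orderOf x) (hy : p ∣ orderOf y) : blockKernel B y x = 0 :=
  weak_block_orthogonality_sum hM hB x y hx hy

theorem blockKernel_eq_zero_right {p : ℕ} [Fact p.Prime] {M : Ideal AlgInt}
    (hM : IsPModular p M) {B : Set (IrrCharacter G)} (hB : IsPBlock M B)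
    {x y : G} (hx : ¬ p ∣ orderOf x) (hy : p ∣ orderOf y) : blockKernel B x y = 0 := by
  rw [← blockKernel_conj, blockKernel_eq_zero_left hM hB hx hy, map_zero]

open scoped Classical in
/-- First orthogonality for the block kernel. -/
theorem sum_blockKernel_mul_irr (B : Set (IrrCharacter G)) (ψ : IrrCharacter G) (x : G) :
    ∑ y : G, blockKernel B x y * (ψ : G → ℂ) y =
      if ψ ∈ B then (Fintype.card G : ℂ) * (ψ : G → ℂ) x else 0 := by
  unfold blockKernel
  simp_rw [Finset.sum_mul]
  rw [Finset.sum_comm]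
  have h1 : ∀ φ ∈ Finset.univ.filter (fun φ : IrrCharacter G => φ ∈ B),
      ∑ y : G, (φ : G → ℂ) x * conj ((φ : G → ℂ) y) * (ψ : G → ℂ) y =
        if ψ = φ then (Fintype.card G : ℂ) * (ψ : G → ℂ) x else 0 := by
    intro φ _
    have h2 := Cfsg.Agent.S4969.irr_orthogonality ψ φ
    have h3 : ∑ y : G, (φ : G → ℂ) x * conj ((φ : G → ℂ) y) * (ψ : G → ℂ) y =
        (φ : G → ℂ) x * ∑ y : G, (ψ : G → ℂ) y * conj ((φ : G → ℂ) y) := by
      rw [Finset.mul_sum]
      apply Finset.sum_congr rfl
      intro y _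
      ring
    rw [h3, h2]
    split_ifs with h
    · rw [h]; ring
    · ring
  rw [Finset.sum_congr rfl h1, Finset.sum_ite_eq]
  simp only [Finset.mem_filter, Finset.mem_univ, true_and]

open scoped Classical in
/-- The reproducing property on `p`-regular elements. -/
theorem sum_pRegular_blockKernel_mul_irr {p : ℕ} [Fact p.Prime] {M : Ideal AlgInt}
    (hM : IsPModular p M) {B : Set (IrrCharacter G)} (hB : IsPBlock M B)
    (ψ : IrrCharacter G) {x : G} (hx : ¬ p ∣ orderOf x) :
    ∑ y ∈ Finset.univ.filter (fun y : G => ¬ p ∣ orderOf y), blockKernel B x y * (ψ : G → ℂ) y =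
      if ψ ∈ B then (Fintype.card G : ℂ) * (ψ : G → ℂ) x else 0 := by
  rw [← sum_blockKernel_mul_irr B ψ x]
  rw [← Finset.sum_filter_add_sum_filter_not Finset.univ (fun y : G => ¬ p ∣ orderOf y)
    (fun y => blockKernel B x y * (ψ : G → ℂ) y)]
  rw [left_eq_add]
  apply Finset.sum_eq_zero
  intro y hy
  simp only [Finset.mem_filter, Finset.mem_univ, true_and, not_not] at hy
  rw [blockKernel_eq_zero_right hM hB hx hy, zero_mul]

open scoped Classical in
/-- Characters in different blocks are orthogonal on the `p`-regular elements. -/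
theorem sum_pRegular_mul_conj_eq_zero {p : ℕ} [Fact p.Prime] {M : Ideal AlgInt}
    (hM : IsPModular p M) (χ ψ : IrrCharacter G)
    (h : ¬ SameBlock M (χ : G → ℂ) (ψ : G → ℂ)) :
    ∑ x ∈ Finset.univ.filter (fun x : G => ¬ p ∣ orderOf x),
      (χ : G → ℂ) x * conj ((ψ : G → ℂ) x) = 0 := by
  haveI hMp : M.IsPrime := Cfsg.Agent.Lib.Helper16.isPModular_isPrime hM
  set B := blockOf M (ψ : G → ℂ) with hBdef
  have hB : IsPBlock M B := Cfsg.Agent.Lib.Helper16.isPBlock_blockOf ψ
  have hψB : ψ ∈ B := Cfsg.Agent.Lib.Helper16.self_mem_blockOf hMp.ne_top ψ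
  have hχB : χ ∉ B := by
    intro hmem
    exact h (Cfsg.Agent.Lib.Helper16.sameBlock_symm
      (Cfsg.Agent.Lib.Helper16.mem_blockOf_iff.mp hmem))
  have hcard : (Fintype.card G : ℂ) ≠ 0 := by
    exact_mod_cast Fintype.card_ne_zero
  -- conj of the claim
  have key : ∑ x ∈ Finset.univ.filter (fun x : G => ¬ p ∣ orderOf x),
      conj ((χ : G → ℂ) x) * (ψ : G → ℂ) x = 0 := by
    have h1 : ∀ x ∈ Finset.univ.filter (fun x : G => ¬ p ∣ orderOf x),
        conj ((χ : G → ℂ) x) * (ψ : G → ℂ) x = (Fintype.card G : ℂ)⁻¹ *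
          ∑ y ∈ Finset.univ.filter (fun y : G => ¬ p ∣ orderOf y),
            conj ((χ : G → ℂ) x) * blockKernel B x y * (ψ : G → ℂ) y := by
      intro x hx
      simp only [Finset.mem_filter, Finset.mem_univ, true_and] at hx
      have := sum_pRegular_blockKernel_mul_irr hM hB ψ hx
      rw [if_pos hψB] at this
      simp_rw [mul_assoc]
      rw [← Finset.mul_sum, this]
      field_simp
    rw [Finset.sum_congr rfl h1, ← Finset.mul_sum, Finset.sum_comm]
    have h2 : ∀ y ∈ Finset.univ.filter (fun y : G => ¬ p ∣ orderOf y),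
        ∑ x ∈ Finset.univ.filter (fun x : G => ¬ p ∣ orderOf x),
          conj ((χ : G → ℂ) x) * blockKernel B x y * (ψ : G → ℂ) y = 0 := by
      intro y hy
      simp only [Finset.mem_filter, Finset.mem_univ, true_and] at hy
      have h3 := sum_pRegular_blockKernel_mul_irr hM hB χ hy
      rw [if_neg hχB] at h3
      have h4 := congrArg conj h3
      rw [map_sum, map_zero] at h4
      rw [← Finset.sum_mul]
      have h5 : ∑ x ∈ Finset.univ.filter (fun x : G => ¬ p ∣ orderOf x),
          conj ((χ : G → ℂ) x) * blockKernel B x y = 0 := by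
        rw [← h4]
        apply Finset.sum_congr rfl
        intro x _
        rw [map_mul, blockKernel_conj, mul_comm]
      rw [h5, zero_mul]
    rw [Finset.sum_eq_zero h2, mul_zero]
  have key2 := congrArg conj key
  rw [map_sum, map_zero] at key2
  rw [← key2]
  apply Finset.sum_congr rfl
  intro x _
  rw [map_mul, Complex.conj_conj]

end Kernel

end Cfsg.Agent.Lib.Helper78
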