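import Mathlib
import Cfsg.Agent.Lib.Helper78.SMTBlockPart
import Cfsg.Agent.Lib.Helper78.WBOCor

/-!
# Block orthogonality: auxiliary results

* `isPPart_unique`: the `p`-part of an element is unique.
* `isInducedBlock_unique`: a block induces at most one block.
* `sum_eq_zero_of_forall_block`: a sum over a union of blocks vanishes if it vanishes on each block.
* `blockPart_eq_zero_of_vanish_pRegular`: the block part of a class function vanishing on the
  `p`-regular elements vanishes on the `p`-regular elements.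
-/

set_option autoImplicit false
set_option linter.unusedSectionVars false
set_option linter.style.haveILetI false

namespace Cfsg.Agent.Lib.Helper78

open Cfsg MonoidAlgebra Finset Cfsg.Agent.Lib.Helper16
open scoped ComplexConjugate

section PPart

variable {G : Type*} [Group G]

theorem isPPart_mem_zpowers {p : ℕ} [hp : Fact p.Prime] {g x : G} (hx : IsPPart p g x) :
    x ∈ Subgroup.zpowers g := by
  obtain ⟨y, hxy, hcomm, ⟨a, ha⟩, hy⟩ := hx
  set m := orderOf y with hm
  have hpZ : Prime (p : ℤ) := Nat.prime_iff_prime_int.mp hp.out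
  have h2 : IsCoprime (p : ℤ) (m : ℤ) :=
    (Prime.coprime_iff_not_dvd hpZ).mpr (by exact_mod_cast hy)
  have h3 : IsCoprime ((p : ℤ) ^ a) (m : ℤ) := h2.pow_left
  obtain ⟨u, v, huv⟩ := h3
  have hxa : x ^ ((p : ℤ) ^ a) = 1 := by
    have : ((p : ℤ) ^ a) = ((p ^ a : ℕ) : ℤ) := by push_cast; rfl
    rw [this, zpow_natCast, ← ha, pow_orderOf_eq_one]
  have hgm : g ^ (m : ℤ) = x ^ (m : ℤ) := by
    rw [← hxy, hcomm.mul_zpow, zpow_natCast y, hm, pow_orderOf_eq_one, mul_one]
  have e1 : x ^ (u * (p : ℤ) ^ a) = 1 := by rw [zpow_mul', hxa, one_zpow]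
  have e2 : x ^ (u * (p : ℤ) ^ a + v * m) = x := by rw [huv, zpow_one]
  rw [zpow_add, e1, one_mul, mul_comm, zpow_mul, ← hgm, ← zpow_mul] at e2
  rw [← e2]
  exact Subgroup.zpow_mem_zpowers g _

theorem isPPart_unique {p : ℕ} [hp : Fact p.Prime] {g x x' : G} (hx : IsPPart p g x)
    (hx' : IsPPart p g x') : x = x' := by
  have hxg := isPPart_mem_zpowers hx
  have hx'g := isPPart_mem_zpowers hx'
  obtain ⟨y, hxy, hcomm, ⟨a, ha⟩, hy⟩ := hx
  obtain ⟨y', hxy', hcomm', ⟨a', ha'⟩, hy'⟩ := hx'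
  obtain ⟨n, hn⟩ := Subgroup.mem_zpowers_iff.mp hxg
  obtain ⟨n', hn'⟩ := Subgroup.mem_zpowers_iff.mp hx'g
  have hxx' : Commute x x' := by
    rw [← hn, ← hn']
    exact (Commute.refl g).zpow_zpow _ _
  have hy_eq : y = x⁻¹ * g := by rw [← hxy, inv_mul_cancel_left]
  have hy'_eq : y' = x'⁻¹ * g := by rw [← hxy', inv_mul_cancel_left]
  have hxg' : Commute x g := by rw [← hn]; exact (Commute.refl g).zpow_left _
  have hx'g' : Commute x' g := by rw [← hn']; exact (Commute.refl g).zpow_left _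
  have hyy' : Commute y' y := by
    rw [hy_eq, hy'_eq]
    apply Commute.mul_left
    · apply Commute.mul_right
      · exact hxx'.symm.inv_left.inv_right
      · exact hx'g'.inv_left
    · apply Commute.mul_right
      · exact hxg'.symm.inv_right
      · exact Commute.refl g
  -- w = x'⁻¹ x = y' y⁻¹
  have hw : x'⁻¹ * x = y' * y⁻¹ := by
    rw [hy'_eq, hy_eq, mul_inv_rev, inv_inv, mul_assoc, mul_inv_cancel_left]
  have h1 : (x'⁻¹ * x) ^ (p ^ (a + a')) = 1 := by
    rw [hxx'.symm.inv_left.mul_pow, inv_pow]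
    have e1 : x' ^ (p ^ (a + a')) = 1 := by
      rw [add_comm, pow_add, pow_mul, ← ha', pow_orderOf_eq_one, one_pow]
    have e2 : x ^ (p ^ (a + a')) = 1 := by
      rw [pow_add, pow_mul, ← ha, pow_orderOf_eq_one, one_pow]
    rw [e1, e2, inv_one, one_mul]
  have h2 : (x'⁻¹ * x) ^ (orderOf y' * orderOf y) = 1 := by
    rw [hw, hyy'.inv_right.mul_pow, inv_pow]
    have e1 : y' ^ (orderOf y' * orderOf y) = 1 := by
      rw [pow_mul, pow_orderOf_eq_one, one_pow]
    have e2 : y ^ (orderOf y' * orderOf y) = 1 := by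
      rw [mul_comm, pow_mul, pow_orderOf_eq_one, one_pow]
    rw [e1, e2, inv_one, one_mul]
  have hcop : Nat.Coprime (p ^ (a + a')) (orderOf y' * orderOf y) := by
    apply Nat.Coprime.pow_left
    apply Nat.Coprime.mul_right
    · exact (Nat.Prime.coprime_iff_not_dvd hp.out).mpr hy'
    · exact (Nat.Prime.coprime_iff_not_dvd hp.out).mpr hy
  have hord : orderOf (x'⁻¹ * x) = 1 :=
    Nat.eq_one_of_dvd_coprimes hcop (orderOf_dvd_of_pow_eq_one h1) (orderOf_dvd_of_pow_eq_one h2)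
  have := orderOf_eq_one_iff.mp hord
  rw [inv_mul_eq_one] at this
  exact this.symm

theorem orderOf_conj_eq (c y : G) : orderOf (c * y * c⁻¹) = orderOf y :=
  orderOf_injective (MulAut.conj c).toMonoidHom (MulAut.conj c).injective y

theorem isPPart_conj {p : ℕ} {g x : G} (hx : IsPPart p g x) (c : G) :
    IsPPart p (c * g * c⁻¹) (c * x * c⁻¹) := by
  obtain ⟨y, hxy, hcomm, ⟨a, ha⟩, hy⟩ := hx
  refine ⟨c * y * c⁻¹, ?_, ?_, ⟨a, ?_⟩, ?_⟩
  · rw [← hxy]; group
  · exact (Commute.conj_iff c).mpr hcomm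
  · rw [← ha]
    exact orderOf_conj_eq c x
  · rw [orderOf_conj_eq]
    exact hy

end PPart

section Unique

variable {G : Type*} [Group G] {M : Ideal AlgInt} [hMp : M.IsPrime]

theorem isInducedBlock_unique {H : Subgroup G} {b : Set (IrrCharacter H)}
    {B B₁ : Set (IrrCharacter G)} (h : IsInducedBlock M H b B) (h₁ : IsInducedBlock M H b B₁) :
    B = B₁ := by
  obtain ⟨ξ, hξ⟩ := IsPBlock_nonempty hMp.ne_top h.1
  obtain ⟨χ, hχ⟩ := IsPBlock_nonempty hMp.ne_top h.2.1
  obtain ⟨χ₁, hχ₁⟩ := IsPBlock_nonempty hMp.ne_top h₁.2.1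
  have hsame : SameBlock M (χ : G → ℂ) (χ₁ : G → ℂ) := by
    intro g
    have e1 := h.2.2 ξ hξ χ hχ g
    have e2 := h₁.2.2 ξ hξ χ₁ hχ₁ g
    have := memLocalIdeal_sub e2 e1
    have e : inducedCentralChar H (ξ : H → ℂ) g - centralChar (χ₁ : G → ℂ) g -
        (inducedCentralChar H (ξ : H → ℂ) g - centralChar (χ : G → ℂ) g) =
        centralChar (χ : G → ℂ) g - centralChar (χ₁ : G → ℂ) g := by ring
    rwa [e] at this
  have hmem : χ₁ ∈ B := by
    rw [IsPBlock_eq_blockOf h.2.1 hχ]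
    exact hsame
  exact IsPBlock_eq_of_mem h.2.1 h₁.2.1 hmem hχ₁

end Unique

section Partition

variable {H : Type*} [Group H] [Fintype H] {M : Ideal AlgInt} [hMp : M.IsPrime]

/-- The `SameBlock` equivalence relation on the irreducible characters. -/
def sameBlockSetoid (M : Ideal AlgInt) [hMp : M.IsPrime] (H : Type*) [Group H] :
    Setoid (IrrCharacter H) where
  r ξ ξ' := SameBlock M (ξ : H → ℂ) (ξ' : H → ℂ)
  iseqv := ⟨fun ξ => sameBlock_refl hMp.ne_top _, sameBlock_symm, sameBlock_trans⟩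

open scoped Classical in
/-- A sum over a union of blocks vanishes if it vanishes on each of the blocks. -/
theorem sum_eq_zero_of_forall_block (S : Set (IrrCharacter H))
    (hS : ∀ ξ ξ' : IrrCharacter H, ξ ∈ S → SameBlock M (ξ : H → ℂ) (ξ' : H → ℂ) → ξ' ∈ S)
    (f : IrrCharacter H → ℂ)
    (hf : ∀ ξ₀ ∈ S, ∑ ξ ∈ Finset.univ.filter (fun ξ : IrrCharacter H =>
      ξ ∈ blockOf M (ξ₀ : H → ℂ)), f ξ = 0) :
    ∑ ξ ∈ Finset.univ.filter (fun ξ : IrrCharacter H => ξ ∈ S), f ξ = 0 := by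
  rw [Finset.sum_partition (sameBlockSetoid M H)]
  apply Finset.sum_eq_zero
  intro xbar hxbar
  obtain ⟨ξ₀, hξ₀, rfl⟩ := Finset.mem_image.mp hxbar
  have hξ₀S : ξ₀ ∈ S := (Finset.mem_filter.mp hξ₀).2
  rw [← hf ξ₀ hξ₀S]
  apply Finset.sum_congr _ (fun _ _ => rfl)
  ext ξ
  simp only [Finset.mem_filter, Finset.mem_univ, true_and]
  constructor
  · rintro ⟨_, h⟩
    have h' : SameBlock M (ξ : H → ℂ) (ξ₀ : H → ℂ) := Quotient.exact (s := sameBlockSetoid M H) h
    exact sameBlock_symm h'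
  · intro h
    have h' : SameBlock M (ξ₀ : H → ℂ) (ξ : H → ℂ) := h
    exact ⟨hS ξ₀ ξ hξ₀S h', Quotient.sound (s := sameBlockSetoid M H) (sameBlock_symm h')⟩

open scoped Classical in
/-- The block part of a function vanishing on the `p`-regular elements vanishes on the
`p`-regular elements. -/
theorem blockPart_eq_zero_of_vanish_pRegular {p : ℕ} [Fact p.Prime] (hM : IsPModular p M)
    {b : Set (IrrCharacter H)} (hb : IsPBlock M b) {ψ : H → ℂ}
    (hψ : ∀ c : H, ¬ p ∣ orderOf c → ψ c = 0) {y : H} (hy : ¬ p ∣ orderOf y) :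
    blockPart b ψ y = 0 := by
  rw [blockPart_apply]
  have h1 : ∑ ξ ∈ Finset.univ.filter (fun ξ : IrrCharacter H => ξ ∈ b),
      classInner ψ (ξ : H → ℂ) * (ξ : H → ℂ) y =
      (Nat.card H : ℂ)⁻¹ * ∑ c : H, ψ c * blockKernel b y c := by
    have hL : ∀ ξ : IrrCharacter H, classInner ψ (ξ : H → ℂ) * (ξ : H → ℂ) y =
        ∑ c : H, (Nat.card H : ℂ)⁻¹ * ψ c * conj ((ξ : H → ℂ) c) * (ξ : H → ℂ) y := by
      intro ξ
      unfold classInner
      rw [Finset.mul_sum, Finset.sum_mul]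
      apply Finset.sum_congr rfl
      intro c _
      ring
    have hR : ∀ c : H, ψ c * blockKernel b y c =
        ∑ ξ ∈ Finset.univ.filter (fun ξ : IrrCharacter H => ξ ∈ b),
          ψ c * ((ξ : H → ℂ) y * conj ((ξ : H → ℂ) c)) := by
      intro c
      unfold blockKernel
      rw [Finset.mul_sum]
    rw [Finset.sum_congr rfl (fun ξ _ => hL ξ), Finset.sum_comm, Finset.mul_sum]
    apply Finset.sum_congr rfl
    intro c _
    rw [hR, Finset.mul_sum]
    apply Finset.sum_congr rfl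
    intro ξ _
    ring
  rw [h1]
  have h2 : ∀ c : H, ψ c * blockKernel b y c = 0 := by
    intro c
    by_cases hc : p ∣ orderOf c
    · rw [blockKernel_eq_zero_right hM hb hy hc, mul_zero]
    · rw [hψ c hc, zero_mul]
  simp [h2]

end Partition

end Cfsg.Agent.Lib.Helper78
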