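import Mathlib
import Cfsg.Agent.Lib.Helper78.SMTOrtho
import Cfsg.Agent.S0923

/-!
# Block orthogonality (consequence of the second main theorem)

For a `p`-element `z` with centralizer `H`, a block `B` of `G` and `S_B` the union of the blocks of
`H` inducing `B`:  `blockPart S_B (c ↦ ϑ (z c)) y = blockPart B ϑ (z y)` for all class functions `ϑ`
and `p`-regular `y ∈ H` (`blockPart_twist_eq`).  Consequently the `B`-part of a class function
vanishing on the `p`-section of `z` vanishes on that section (`blockPart_eq_zero_of_vanish_section`).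
-/

set_option autoImplicit false
set_option linter.unusedSectionVars false
set_option linter.style.haveILetI false

namespace Cfsg.Agent.Lib.Helper78

open Cfsg MonoidAlgebra Finset Cfsg.Agent.Lib.Helper16
open scoped ComplexConjugate

section Linear

variable {H : Type*} [Group H] [Fintype H]

open scoped Classical in
theorem blockPart_sum_smul {ι : Type*} (s : Finset ι) (a : ι → ℂ) (f : ι → H → ℂ)
    (S : Set (IrrCharacter H)) (y : H) :
    blockPart S (∑ i ∈ s, a i • f i) y = ∑ i ∈ s, a i * blockPart S (f i) y := by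
  simp only [blockPart_apply]
  simp_rw [classInner_sum_left, classInner_smul_left, Finset.sum_mul, Finset.mul_sum]
  rw [Finset.sum_comm]
  apply Finset.sum_congr rfl
  intro i _
  apply Finset.sum_congr rfl
  intro ξ _
  ring

end Linear

section Twist

variable {G : Type*} [Group G] [Fintype G] {M : Ideal AlgInt} [hMp : M.IsPrime]

/-- The union of the blocks of `H` inducing `B`. -/
def inducingSet (M : Ideal AlgInt) (H : Subgroup G) (B : Set (IrrCharacter G)) :
    Set (IrrCharacter H) :=
  {ξ | IsInducedBlock M H (blockOf M (ξ : H → ℂ)) B}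

theorem inducingSet_closed (H : Subgroup G) (B : Set (IrrCharacter G))
    (ξ ξ' : IrrCharacter H) (hξ : ξ ∈ inducingSet M H B)
    (h : SameBlock M (ξ : H → ℂ) (ξ' : H → ℂ)) : ξ' ∈ inducingSet M H B := by
  unfold inducingSet at hξ ⊢
  simp only [Set.mem_ofPred_eq] at hξ ⊢
  rw [← blockOf_eq_of_sameBlock h]
  exact hξ

theorem inducingSet_compl_closed (H : Subgroup G) (B : Set (IrrCharacter G))
    (ξ ξ' : IrrCharacter H) (hξ : ξ ∈ (inducingSet M H B)ᶜ)
    (h : SameBlock M (ξ : H → ℂ) (ξ' : H → ℂ)) : ξ' ∈ (inducingSet M H B)ᶜ := by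
  intro hmem
  exact hξ (inducingSet_closed H B ξ' ξ hmem (sameBlock_symm h))

theorem isClassFunction_twist (z : G) {ϑ : G → ℂ} (hϑ : IsClassFunction G ϑ) :
    IsClassFunction (Subgroup.centralizer ({z} : Set G))
      (fun c : Subgroup.centralizer ({z} : Set G) => ϑ (z * (c : G))) := by
  intro c d
  have hd : Commute z (d : G) := by
    have := d.2
    rw [Subgroup.mem_centralizer_iff] at this
    exact this z (Set.mem_singleton z)
  have h1 := hϑ (z * (c : G)) (d : G)
  simp only [Subgroup.coe_mul, Subgroup.coe_inv]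
  rw [← h1]
  congr 1
  rw [mul_assoc (d : G), ← mul_assoc (d : G) z, ← hd.eq]
  group

open scoped Classical in
/-- Claim B: the `S_B`-part of `χ^z` at a `p`-regular element. -/
theorem blockPart_inducingSet_irr {p : ℕ} [Fact p.Prime] (hM : IsPModular p M) (z : G)
    (hz : ∃ k : ℕ, orderOf z = p ^ k) [Fintype (Subgroup.centralizer ({z} : Set G))]
    {B : Set (IrrCharacter G)} (hB : IsPBlock M B) (χ : IrrCharacter G)
    (y : Subgroup.centralizer ({z} : Set G)) (hy : ¬ p ∣ orderOf y) :
    blockPart (inducingSet M (Subgroup.centralizer ({z} : Set G)) B)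
      (fun c : Subgroup.centralizer ({z} : Set G) => (χ : G → ℂ) (z * (c : G))) y =
      if χ ∈ B then (χ : G → ℂ) (z * (y : G)) else 0 := by
  obtain ⟨ψ, hψ⟩ : ∃ ψ : Subgroup.centralizer ({z} : Set G) → ℂ,
      ψ = fun c : Subgroup.centralizer ({z} : Set G) => (χ : G → ℂ) (z * (c : G)) := ⟨_, rfl⟩
  rw [← hψ]
  have hψcf : IsClassFunction (Subgroup.centralizer ({z} : Set G)) ψ := by
    rw [hψ]; exact isClassFunction_twist z (isClassFunction_irr χ)
  -- vanishing on the blocks not inducing the block of χ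
  have hvan : ∀ (B₁ : Set (IrrCharacter G)), IsPBlock M B₁ → χ ∈ B₁ →
      ∀ ξ₀ : IrrCharacter (Subgroup.centralizer ({z} : Set G)),
      ¬ IsInducedBlock M (Subgroup.centralizer ({z} : Set G))
        (blockOf M (ξ₀ : Subgroup.centralizer ({z} : Set G) → ℂ)) B₁ →
      ∑ ξ ∈ Finset.univ.filter (fun ξ : IrrCharacter (Subgroup.centralizer ({z} : Set G)) =>
          ξ ∈ blockOf M (ξ₀ : Subgroup.centralizer ({z} : Set G) → ℂ)),
        classInner ψ (ξ : Subgroup.centralizer ({z} : Set G) → ℂ) *
          (ξ : Subgroup.centralizer ({z} : Set G) → ℂ) y = 0 := by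
    intro B₁ hB₁ hχ₁ ξ₀ hnot
    have := Cfsg.Agent.S0923.result p M hM z hz B₁ hB₁ χ hχ₁
      (blockOf M (ξ₀ : Subgroup.centralizer ({z} : Set G) → ℂ))
      (isPBlock_blockOf ξ₀) hnot y hy
    rw [blockPart_apply, ← hψ] at this
    exact this
  rw [blockPart_apply]
  split_ifs with hχB
  · -- χ ∈ B
    have hexp : ψ y = ∑ ξ : IrrCharacter (Subgroup.centralizer ({z} : Set G)),
        classInner ψ (ξ : Subgroup.centralizer ({z} : Set G) → ℂ) *
          (ξ : Subgroup.centralizer ({z} : Set G) → ℂ) y := by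
      have := congrFun (classFunction_eq_sum_irr hψcf) y
      rw [Finset.sum_apply] at this
      simpa using this
    have hsplit := Finset.sum_filter_add_sum_filter_not
      (Finset.univ : Finset (IrrCharacter (Subgroup.centralizer ({z} : Set G))))
      (fun ξ => ξ ∈ inducingSet M (Subgroup.centralizer ({z} : Set G)) B)
      (fun ξ => classInner ψ (ξ : Subgroup.centralizer ({z} : Set G) → ℂ) *
        (ξ : Subgroup.centralizer ({z} : Set G) → ℂ) y)
    have hzero := sum_eq_zero_of_forall_block (M := M)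
      (inducingSet M (Subgroup.centralizer ({z} : Set G)) B)ᶜ
      (inducingSet_compl_closed (Subgroup.centralizer ({z} : Set G)) B)
      (fun ξ => classInner ψ (ξ : Subgroup.centralizer ({z} : Set G) → ℂ) *
        (ξ : Subgroup.centralizer ({z} : Set G) → ℂ) y)
      (fun ξ₀ hξ₀ => hvan B hB hχB ξ₀ hξ₀)
    simp only [Set.mem_compl_iff] at hzero
    rw [hzero, add_zero] at hsplit
    rw [hsplit, ← hexp, hψ]
  · -- χ ∉ B
    apply sum_eq_zero_of_forall_block (M := M)
      (inducingSet M (Subgroup.centralizer ({z} : Set G)) B)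
      (inducingSet_closed (Subgroup.centralizer ({z} : Set G)) B)
      (fun ξ => classInner ψ (ξ : Subgroup.centralizer ({z} : Set G) → ℂ) *
        (ξ : Subgroup.centralizer ({z} : Set G) → ℂ) y)
    intro ξ₀ hξ₀
    apply hvan (blockOf M (χ : G → ℂ)) (isPBlock_blockOf χ) (self_mem_blockOf hMp.ne_top χ) ξ₀
    intro hind'
    have hBB : B = blockOf M (χ : G → ℂ) := isInducedBlock_unique hξ₀ hind'
    exact hχB (hBB ▸ self_mem_blockOf hMp.ne_top χ)

open scoped Classical in
/-- Claim C: `blockPart S_B (ϑ^z) y = blockPart B ϑ (z y)` for `p`-regular `y`. -/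
theorem blockPart_twist_eq {p : ℕ} [Fact p.Prime] (hM : IsPModular p M) (z : G)
    (hz : ∃ k : ℕ, orderOf z = p ^ k) [Fintype (Subgroup.centralizer ({z} : Set G))]
    {B : Set (IrrCharacter G)} (hB : IsPBlock M B) {ϑ : G → ℂ} (hϑ : IsClassFunction G ϑ)
    (y : Subgroup.centralizer ({z} : Set G)) (hy : ¬ p ∣ orderOf y) :
    blockPart (inducingSet M (Subgroup.centralizer ({z} : Set G)) B)
      (fun c : Subgroup.centralizer ({z} : Set G) => ϑ (z * (c : G))) y =
      blockPart B ϑ (z * (y : G)) := by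
  have hexp := classFunction_eq_sum_irr hϑ
  have h1 : (fun c : Subgroup.centralizer ({z} : Set G) => ϑ (z * (c : G))) =
      ∑ χ : IrrCharacter G, classInner ϑ (χ : G → ℂ) •
        (fun c : Subgroup.centralizer ({z} : Set G) => (χ : G → ℂ) (z * (c : G))) := by
    funext c
    have := congrFun hexp (z * (c : G))
    rw [Finset.sum_apply] at this ⊢
    simpa using this
  rw [h1, blockPart_sum_smul]
  simp_rw [blockPart_inducingSet_irr hM z hz hB _ y hy]
  rw [blockPart_apply, Finset.sum_filter]
  apply Finset.sum_congr rfl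
  intro χ _
  split_ifs <;> simp

open scoped Classical in
/-- **Block orthogonality, first form**: the block part of a class function vanishing on the
`p`-section of `x` vanishes on that section. -/
theorem blockPart_eq_zero_of_vanish_section {p : ℕ} [Fact p.Prime] (hM : IsPModular p M)
    {ϑ : G → ℂ} (hϑ : IsClassFunction G ϑ) (x : G)
    (hvan : ∀ u z : G, IsPPart p u z → IsConj x z → ϑ u = 0)
    {B : Set (IrrCharacter G)} (hB : IsPBlock M B) (u z : G) (hu : IsPPart p u z)
    (hxz : IsConj x z) : blockPart B ϑ u = 0 := by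
  obtain ⟨y₀, hzy, hcomm, hzord, hy₀⟩ := hu
  haveI : Fintype (Subgroup.centralizer ({z} : Set G)) := Fintype.ofFinite _
  have hmem : y₀ ∈ Subgroup.centralizer ({z} : Set G) := by
    rw [Subgroup.mem_centralizer_iff]
    intro s hs
    rw [Set.mem_singleton_iff] at hs
    rw [hs]
    exact hcomm.eq
  have hy : ¬ p ∣ orderOf (⟨y₀, hmem⟩ : Subgroup.centralizer ({z} : Set G)) := by
    rw [← Subgroup.orderOf_coe]
    exact hy₀
  have key := blockPart_twist_eq hM z hzord hB hϑ ⟨y₀, hmem⟩ hy
  simp only at key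
  rw [← hzy, ← key]
  have hψvan : ∀ c : Subgroup.centralizer ({z} : Set G), ¬ p ∣ orderOf c →
      (fun c : Subgroup.centralizer ({z} : Set G) => ϑ (z * (c : G))) c = 0 := by
    intro c hc
    apply hvan (z * (c : G)) z _ hxz
    refine ⟨(c : G), rfl, ?_, hzord, ?_⟩
    · have := c.2
      rw [Subgroup.mem_centralizer_iff] at this
      exact this z (Set.mem_singleton z)
    · rw [Subgroup.orderOf_coe]
      exact hc
  rw [blockPart_apply]
  apply sum_eq_zero_of_forall_block (M := M)
    (inducingSet M (Subgroup.centralizer ({z} : Set G)) B)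
    (inducingSet_closed (Subgroup.centralizer ({z} : Set G)) B)
    (fun ξ => classInner (fun c : Subgroup.centralizer ({z} : Set G) => ϑ (z * (c : G)))
      (ξ : Subgroup.centralizer ({z} : Set G) → ℂ) *
        (ξ : Subgroup.centralizer ({z} : Set G) → ℂ) ⟨y₀, hmem⟩)
  intro ξ₀ _
  have := blockPart_eq_zero_of_vanish_pRegular hM (isPBlock_blockOf ξ₀) hψvan hy
  rw [blockPart_apply] at this
  exact this

open scoped Classical in
/-- **Block orthogonality, second form.** -/
theorem sum_block_mul_inv_eq_zero {p : ℕ} [Fact p.Prime] (hM : IsPModular p M)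
    {g h x y : G} (hg : IsPPart p g x) (hh : IsPPart p h y) (hxy : ¬ IsConj x y)
    {B : Set (IrrCharacter G)} (hB : IsPBlock M B) :
    ∑ χ ∈ Finset.univ.filter (fun χ : IrrCharacter G => χ ∈ B),
      (χ : G → ℂ) g * (χ : G → ℂ) h⁻¹ = 0 := by
  obtain ⟨ϑ, hϑdef⟩ : ∃ ϑ : G → ℂ,
      ϑ = ∑ χ : IrrCharacter G, (χ : G → ℂ) h⁻¹ • (χ : G → ℂ) := ⟨_, rfl⟩
  have hϑcf : IsClassFunction G ϑ := by
    rw [hϑdef]
    apply isClassFunction_sum
    intro χ _
    exact isClassFunction_smul _ (isClassFunction_irr χ)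
  have hϑval : ∀ u : G, ϑ u = ∑ χ : IrrCharacter G, (χ : G → ℂ) u * conj ((χ : G → ℂ) h) := by
    intro u
    rw [hϑdef, Finset.sum_apply]
    apply Finset.sum_congr rfl
    intro χ _
    rw [Pi.smul_apply, smul_eq_mul, IsCharacter.inv (IsIrrCharacter.isCharacter χ.2), mul_comm]
  have hvan : ∀ u z : G, IsPPart p u z → IsConj x z → ϑ u = 0 := by
    intro u z hu hxz
    rw [hϑval]
    apply second_orthogonality_of_not_isConj
    intro hconj
    obtain ⟨c, hc⟩ := isConj_iff.mp hconj
    have h1 : IsPPart p h (c * z * c⁻¹) := hc ▸ isPPart_conj hu c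
    have h2 : y = c * z * c⁻¹ := isPPart_unique hh h1
    apply hxy
    rw [h2]
    exact hxz.trans (isConj_iff.mpr ⟨c, rfl⟩)
  have key := blockPart_eq_zero_of_vanish_section hM hϑcf x hvan hB g x hg (IsConj.refl x)
  rw [blockPart_apply] at key
  rw [← key]
  apply Finset.sum_congr rfl
  intro χ _
  have hinner : classInner ϑ (χ : G → ℂ) = (χ : G → ℂ) h⁻¹ := by
    rw [hϑdef, classInner_sum_left]
    simp only [classInner_smul_left]
    rw [Finset.sum_eq_single χ]
    · rw [classInner_irr_self χ.2, mul_one]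
    · intro ψ _ hne
      rw [classInner_irr_ne ψ.2 χ.2 (fun h => hne (Subtype.ext h)), mul_zero]
    · intro h; exact absurd (Finset.mem_univ χ) h
  rw [hinner, mul_comm]

end Twist

end Cfsg.Agent.Lib.Helper78
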