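import Mathlib

/-!
# Characters of a finite abelian group (helper78)

For a finite commutative group `A` and `Ψ = A →* ℂˣ`:
* `dual_conj`: `conj (ψ y) = ψ y⁻¹`;
* `dual_sum_mul_conj`: `∑_y ψ y * conj (ψ' y) = |A| [ψ = ψ']`;
* `dual_sum_apply`: `∑_ψ ψ y = |A| [y = 1]`;
* `dual_inversion`: Fourier inversion.
-/

set_option autoImplicit false

namespace Cfsg.Agent.Lib.Helper78

open scoped ComplexConjugate

section Dual

variable {A : Type*} [CommGroup A] [Fintype A]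

theorem dual_norm (ψ : A →* ℂˣ) (y : A) : ‖((ψ y : ℂˣ) : ℂ)‖ = 1 := by
  have h : ((ψ y : ℂˣ) : ℂ) ^ orderOf y = 1 := by
    rw [← Units.val_pow_eq_pow_val, ← map_pow, pow_orderOf_eq_one, map_one, Units.val_one]
  exact Complex.norm_eq_one_of_pow_eq_one h (orderOf_pos y).ne'

theorem dual_conj (ψ : A →* ℂˣ) (y : A) :
    conj ((ψ y : ℂˣ) : ℂ) = ((ψ y⁻¹ : ℂˣ) : ℂ) := by
  rw [map_inv, Units.val_inv_eq_inv_val, Complex.inv_def, Complex.normSq_eq_norm_sq, dual_norm]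
  simp

open scoped Classical in
theorem dual_sum_mul_conj (ψ ψ' : A →* ℂˣ) :
    ∑ y : A, ((ψ y : ℂˣ) : ℂ) * conj ((ψ' y : ℂˣ) : ℂ) =
      if ψ = ψ' then (Fintype.card A : ℂ) else 0 := by
  have h1 : ∀ y : A, ((ψ y : ℂˣ) : ℂ) * conj ((ψ' y : ℂˣ) : ℂ) =
      ((Units.coeHom ℂ).comp (ψ * ψ'⁻¹)) y := by
    intro y
    rw [dual_conj]
    simp
  rw [Finset.sum_congr rfl (fun y _ => h1 y)]
  by_cases h : ψ = ψ'
  · rw [if_pos h, h]
    have h5 : ∀ y : A, ((Units.coeHom ℂ).comp (ψ' * ψ'⁻¹)) y = 1 := by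
      intro y
      simp
    rw [Finset.sum_congr rfl (fun y _ => h5 y)]
    simp
  · rw [if_neg h]
    apply sum_hom_units_eq_zero
    intro h2
    apply h
    ext y
    have h3 := DFunLike.congr_fun h2 y
    simp only [MonoidHom.coe_comp, Units.coeHom_apply, Function.comp_apply, MonoidHom.mul_apply,
      MonoidHom.inv_apply, MonoidHom.one_apply, Units.val_mul, Units.val_inv_eq_inv_val] at h3
    have h4 : ((ψ' y : ℂˣ) : ℂ) ≠ 0 := Units.ne_zero _
    field_simp at h3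
    exact h3

theorem hasEnoughRoots_exponent : HasEnoughRootsOfUnity ℂ (Monoid.exponent A) := by
  have : NeZero ((Monoid.exponent A : ℕ) : ℂ) :=
    ⟨by exact_mod_cast (Monoid.exponent_ne_zero_of_finite (G := A))⟩
  infer_instance

theorem dual_card [Fintype (A →* ℂˣ)] : Fintype.card (A →* ℂˣ) = Fintype.card A := by
  have := hasEnoughRoots_exponent (A := A)
  have := CommGroup.card_monoidHom_of_hasEnoughRootsOfUnity A ℂ
  rwa [Nat.card_eq_fintype_card, Nat.card_eq_fintype_card] at this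

open scoped Classical in
theorem dual_sum_apply [Fintype (A →* ℂˣ)] (y : A) :
    ∑ ψ : A →* ℂˣ, ((ψ y : ℂˣ) : ℂ) = if y = 1 then (Fintype.card A : ℂ) else 0 := by
  by_cases hy : y = 1
  · rw [if_pos hy, hy]
    simp [dual_card]
  · rw [if_neg hy]
    have := hasEnoughRoots_exponent (A := A)
    obtain ⟨φ, hφ⟩ := CommGroup.exists_apply_ne_one_of_hasEnoughRootsOfUnity A ℂ hy
    have h1 : ((φ y : ℂˣ) : ℂ) * ∑ ψ : A →* ℂˣ, ((ψ y : ℂˣ) : ℂ) =
        ∑ ψ : A →* ℂˣ, ((ψ y : ℂˣ) : ℂ) := by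
      rw [Finset.mul_sum]
      refine Fintype.sum_equiv (Equiv.mulLeft φ) _ _ ?_
      intro ψ
      simp
    have h2 : (((φ y : ℂˣ) : ℂ) - 1) * ∑ ψ : A →* ℂˣ, ((ψ y : ℂˣ) : ℂ) = 0 := by
      rw [sub_mul, h1, one_mul, sub_self]
    rcases mul_eq_zero.mp h2 with h3 | h3
    · exfalso
      apply hφ
      apply Units.ext
      rw [Units.val_one]
      exact sub_eq_zero.mp h3
    · exact h3

/-- Fourier inversion on a finite abelian group. -/
theorem dual_inversion [Fintype (A →* ℂˣ)] (f : A → ℂ) (y : A) :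
    f y = ∑ ψ : A →* ℂˣ,
      ((Fintype.card A : ℂ)⁻¹ * ∑ y' : A, f y' * conj ((ψ y' : ℂˣ) : ℂ)) * ((ψ y : ℂˣ) : ℂ) := by
  classical
  have hA : (Fintype.card A : ℂ) ≠ 0 := by exact_mod_cast Fintype.card_ne_zero
  have h1 : ∀ ψ : A →* ℂˣ,
      ((Fintype.card A : ℂ)⁻¹ * ∑ y' : A, f y' * conj ((ψ y' : ℂˣ) : ℂ)) * ((ψ y : ℂˣ) : ℂ) =
      (Fintype.card A : ℂ)⁻¹ * ∑ y' : A, f y' * ((ψ (y'⁻¹ * y) : ℂˣ) : ℂ) := by
    intro ψ
    rw [mul_assoc, Finset.sum_mul]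
    congr 1
    apply Finset.sum_congr rfl
    intro y' _
    rw [dual_conj, map_mul, Units.val_mul]
    ring
  rw [Finset.sum_congr rfl (fun ψ _ => h1 ψ), ← Finset.mul_sum, Finset.sum_comm]
  have h2 : ∀ y' : A, ∑ ψ : A →* ℂˣ, f y' * ((ψ (y'⁻¹ * y) : ℂˣ) : ℂ) =
      if y' = y then f y * (Fintype.card A : ℂ) else 0 := by
    intro y'
    rw [← Finset.mul_sum, dual_sum_apply]
    by_cases h : y' = y
    · rw [if_pos h, if_pos (by rw [h, inv_mul_cancel]), h]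
    · rw [if_neg h, if_neg (fun h' => h (by rw [inv_mul_eq_one] at h'; exact h')), mul_zero]
  rw [Finset.sum_congr rfl (fun y' _ => h2 y'), Finset.sum_ite_eq' Finset.univ y,
    if_pos (Finset.mem_univ y)]
  field_simp

end Dual

end Cfsg.Agent.Lib.Helper78
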