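import Mathlib
import Cfsg.Agent.Lib.Helper78.FiniteAbelianDual

/-!
# A semiregular action on a finite abelian group and on its dual (helper78)

`Γ` acts on the finite abelian group `A` by automorphisms, and `S ≤ Γ` is the common stabilizer of
all non-identity elements.  We study the induced action on `A →* ℂˣ`:

* `dualTwist n ψ = ψ ∘ (n • ·)`;
* `dualTwist_eq_self_iff`: the stabilizer of a nonprincipal `ψ` is `S` too;
* `card_filter_smul_eq`, `card_filter_dualTwist_eq`: the fibres of the orbit maps have `|S|`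
  elements.
-/

set_option autoImplicit false

namespace Cfsg.Agent.Lib.Helper78

open scoped ComplexConjugate

section Twist

variable {A Γ : Type*} [CommGroup A] [Group Γ] [MulDistribMulAction Γ A]

/-- `ψ` precomposed with the action of `n`. -/
def dualTwist (n : Γ) (ψ : A →* ℂˣ) : A →* ℂˣ :=
  ψ.comp (MulDistribMulAction.toMonoidHom A n)

theorem dualTwist_apply (n : Γ) (ψ : A →* ℂˣ) (y : A) : dualTwist n ψ y = ψ (n • y) := rfl

theorem dualTwist_one (ψ : A →* ℂˣ) : dualTwist (1 : Γ) ψ = ψ := by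
  ext y
  rw [dualTwist_apply, one_smul]

theorem dualTwist_mul (n n' : Γ) (ψ : A →* ℂˣ) :
    dualTwist (n * n') ψ = dualTwist n' (dualTwist n ψ) := by
  ext y
  rw [dualTwist_apply, dualTwist_apply, dualTwist_apply, mul_smul]

theorem dualTwist_triv (n : Γ) : dualTwist n (1 : A →* ℂˣ) = 1 := by
  ext y
  rw [dualTwist_apply, MonoidHom.one_apply, MonoidHom.one_apply]

theorem dualTwist_inv_cancel (n : Γ) (ψ : A →* ℂˣ) : dualTwist n⁻¹ (dualTwist n ψ) = ψ := by
  rw [← dualTwist_mul, mul_inv_cancel, dualTwist_one]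

theorem dualTwist_cancel_inv (n : Γ) (ψ : A →* ℂˣ) : dualTwist n (dualTwist n⁻¹ ψ) = ψ := by
  rw [← dualTwist_mul, inv_mul_cancel, dualTwist_one]

theorem dualTwist_ne_one (n : Γ) {ψ : A →* ℂˣ} (hψ : ψ ≠ 1) : dualTwist n ψ ≠ 1 := by
  intro h
  apply hψ
  rw [← dualTwist_inv_cancel n ψ, h, dualTwist_triv]

/-- The orbit relation on the dual group. -/
def dualRel (Γ : Type*) {A : Type*} [CommGroup A] [Group Γ] [MulDistribMulAction Γ A]
    (ψ ψ' : A →* ℂˣ) : Prop :=
  ∃ n : Γ, ∀ y : A, ψ' (n • y) = ψ y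

theorem dualRel_iff (ψ ψ' : A →* ℂˣ) : dualRel Γ ψ ψ' ↔ ∃ n : Γ, dualTwist n ψ' = ψ := by
  constructor
  · rintro ⟨n, hn⟩
    exact ⟨n, MonoidHom.ext hn⟩
  · rintro ⟨n, hn⟩
    exact ⟨n, fun y => by rw [← hn, dualTwist_apply]⟩

theorem dualRel_refl (ψ : A →* ℂˣ) : dualRel Γ ψ ψ :=
  (dualRel_iff ψ ψ).mpr ⟨1, dualTwist_one ψ⟩

theorem dualRel_symm {ψ ψ' : A →* ℂˣ} (h : dualRel Γ ψ ψ') : dualRel Γ ψ' ψ := by
  obtain ⟨n, hn⟩ := (dualRel_iff ψ ψ').mp h
  exact (dualRel_iff ψ' ψ).mpr ⟨n⁻¹, by rw [← hn, dualTwist_inv_cancel]⟩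

theorem dualRel_trans {ψ ψ' ψ'' : A →* ℂˣ} (h : dualRel Γ ψ ψ') (h' : dualRel Γ ψ' ψ'') :
    dualRel Γ ψ ψ'' := by
  obtain ⟨n, hn⟩ := (dualRel_iff ψ ψ').mp h
  obtain ⟨n', hn'⟩ := (dualRel_iff ψ' ψ'').mp h'
  exact (dualRel_iff ψ ψ'').mpr ⟨n' * n, by rw [dualTwist_mul, hn', hn]⟩

theorem dualRel_ne_one {ψ ψ' : A →* ℂˣ} (h : dualRel Γ ψ ψ') (hψ : ψ ≠ 1) : ψ' ≠ 1 := by
  obtain ⟨n, hn⟩ := (dualRel_iff ψ ψ').mp h
  intro h1
  apply hψ
  rw [← hn, h1, dualTwist_triv]

end Twist

section Semiregular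

variable {A Γ : Type*} [CommGroup A] [Group Γ] [MulDistribMulAction Γ A]
  (S : Subgroup Γ) (hS : ∀ y : A, y ≠ 1 → ∀ n : Γ, n • y = y ↔ n ∈ S)

include hS in
theorem smul_eq_self_of_mem {n : Γ} (hn : n ∈ S) (y : A) : n • y = y := by
  by_cases hy : y = 1
  · rw [hy, smul_one]
  · exact (hS y hy n).mpr hn

include hS in
theorem smul_eq_smul_iff {y : A} (hy : y ≠ 1) (n n₀ : Γ) : n • y = n₀ • y ↔ n₀⁻¹ * n ∈ S := by
  rw [← hS y hy, mul_smul, inv_smul_eq_iff]

include hS in
/-- The stabilizer of a nonprincipal character is `S`. -/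
theorem dualTwist_eq_self_iff [Finite A] {ψ : A →* ℂˣ} (hψ : ψ ≠ 1) (n : Γ) :
    dualTwist n ψ = ψ ↔ n ∈ S := by
  constructor
  · intro h
    by_contra hn
    apply hψ
    -- the endomorphism `y ↦ (n • y) * y⁻¹` is injective, hence surjective
    let e : A →* A :=
      { toFun := fun y => (n • y) * y⁻¹
        map_one' := by rw [smul_one, inv_one, mul_one]
        map_mul' := fun y y' => by
          rw [smul_mul', mul_inv]
          exact mul_mul_mul_comm _ _ _ _ }
    have hinj : Function.Injective e := by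
      rw [injective_iff_map_eq_one]
      intro y hy
      by_contra hy1
      apply hn
      rw [← hS y hy1]
      have : (n • y) * y⁻¹ = 1 := hy
      exact mul_inv_eq_one.mp this
    have hsurj : Function.Surjective e := Finite.surjective_of_injective hinj
    ext y
    obtain ⟨x, hx⟩ := hsurj y
    have h1 : ψ (n • x) = ψ x := by rw [← dualTwist_apply, h]
    have h2 : ψ y = ψ (n • x) * (ψ x)⁻¹ := by
      rw [← hx]
      show ψ ((n • x) * x⁻¹) = _
      rw [map_mul, map_inv]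
    rw [h2, h1, mul_inv_cancel, MonoidHom.one_apply]
  · intro hn
    ext y
    rw [dualTwist_apply, smul_eq_self_of_mem S hS hn]

include hS in
theorem dualTwist_eq_dualTwist_iff [Finite A] {ψ : A →* ℂˣ} (hψ : ψ ≠ 1) (n n₀ : Γ) :
    dualTwist n ψ = dualTwist n₀ ψ ↔ n * n₀⁻¹ ∈ S := by
  rw [← dualTwist_eq_self_iff S hS hψ, dualTwist_mul]
  constructor
  · intro h
    rw [h, dualTwist_inv_cancel]
  · intro h
    rw [← dualTwist_cancel_inv n₀ (dualTwist n ψ), h]

end Semiregular

section Card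

variable {Γ : Type*} [Group Γ] [Fintype Γ] (S : Subgroup Γ)

open scoped Classical in
theorem card_filter_inv_mul_mem (n₀ : Γ) :
    (Finset.univ.filter (fun n : Γ => n₀⁻¹ * n ∈ S)).card = Nat.card S := by
  rw [Nat.card_eq_fintype_card, ← Fintype.card_subtype]
  rw [Fintype.card_subtype, Fintype.card_subtype]
  apply Finset.card_bij (fun n _ => n₀⁻¹ * n)
  · intro n hn
    simpa using hn
  · intro a _ b _ hab
    exact mul_left_cancel hab
  · intro b hb
    refine ⟨n₀ * b, ?_, by group⟩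
    simp only [Finset.mem_filter, Finset.mem_univ, true_and] at hb ⊢
    rwa [inv_mul_cancel_left]

open scoped Classical in
theorem card_filter_mul_inv_mem (n₀ : Γ) :
    (Finset.univ.filter (fun n : Γ => n * n₀⁻¹ ∈ S)).card = Nat.card S := by
  rw [Nat.card_eq_fintype_card, ← Fintype.card_subtype]
  rw [Fintype.card_subtype, Fintype.card_subtype]
  apply Finset.card_bij (fun n _ => n * n₀⁻¹)
  · intro n hn
    simpa using hn
  · intro a _ b _ hab
    exact mul_right_cancel hab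
  · intro b hb
    refine ⟨b * n₀, ?_, by group⟩
    simp only [Finset.mem_filter, Finset.mem_univ, true_and] at hb ⊢
    rwa [mul_inv_cancel_right]

end Card

section Fibres

variable {A Γ : Type*} [CommGroup A] [Group Γ] [Fintype Γ] [MulDistribMulAction Γ A]
  (S : Subgroup Γ) (hS : ∀ y : A, y ≠ 1 → ∀ n : Γ, n • y = y ↔ n ∈ S)

include hS in
open scoped Classical in
theorem card_filter_smul_eq {y : A} (hy : y ≠ 1) (y' : A) :
    (Finset.univ.filter (fun n : Γ => n • y = y')).card =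
      if ∃ n : Γ, n • y = y' then Nat.card S else 0 := by
  by_cases h : ∃ n : Γ, n • y = y'
  · rw [if_pos h]
    obtain ⟨n₀, hn₀⟩ := h
    rw [← card_filter_inv_mul_mem S n₀]
    congr 1
    ext n
    simp only [Finset.mem_filter, Finset.mem_univ, true_and]
    rw [← hn₀, smul_eq_smul_iff S hS hy]
  · rw [if_neg h]
    rw [Finset.card_eq_zero, Finset.filter_eq_empty_iff]
    intro n _ hn
    exact h ⟨n, hn⟩

include hS in
open scoped Classical in
theorem card_filter_dualTwist_eq [Finite A] {ψ' : A →* ℂˣ} (hψ' : ψ' ≠ 1) (ψ : A →* ℂˣ) :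
    (Finset.univ.filter (fun n : Γ => dualTwist n ψ' = ψ)).card =
      if dualRel Γ ψ ψ' then Nat.card S else 0 := by
  by_cases h : dualRel Γ ψ ψ'
  · rw [if_pos h]
    obtain ⟨n₀, hn₀⟩ := (dualRel_iff ψ ψ').mp h
    rw [← card_filter_mul_inv_mem S n₀]
    congr 1
    ext n
    simp only [Finset.mem_filter, Finset.mem_univ, true_and]
    rw [← hn₀, dualTwist_eq_dualTwist_iff S hS hψ']
  · rw [if_neg h]
    rw [Finset.card_eq_zero, Finset.filter_eq_empty_iff]
    intro n _ hn
    exact h ((dualRel_iff ψ ψ').mpr ⟨n, hn⟩)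

include hS in
open scoped Classical in
/-- Every orbit on the nonprincipal characters has `|Γ : S|` elements. -/
theorem card_dualRel_class [Fintype A] [Fintype (A →* ℂˣ)] {ψ : A →* ℂˣ} (hψ : ψ ≠ 1) :
    (Finset.univ.filter (fun ψ' : A →* ℂˣ => dualRel Γ ψ ψ')).card * Nat.card S =
      Fintype.card Γ := by
  have h1 : ∑ ψ' : A →* ℂˣ, (Finset.univ.filter (fun n : Γ => dualTwist n ψ' = ψ)).card =
      Fintype.card Γ := by
    simp_rw [Finset.card_filter]
    rw [Finset.sum_comm]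
    rw [Finset.card_univ.symm, Finset.card_eq_sum_ones]
    apply Finset.sum_congr rfl
    intro n _
    rw [Finset.sum_eq_single (dualTwist n⁻¹ ψ)]
    · rw [if_pos (dualTwist_cancel_inv n ψ)]
    · intro ψ' _ hne
      rw [if_neg]
      intro h
      apply hne
      rw [← h, dualTwist_inv_cancel]
    · intro h
      exact absurd (Finset.mem_univ _) h
  rw [← h1, Finset.card_filter, Finset.sum_mul]
  apply Finset.sum_congr rfl
  intro ψ' _
  by_cases h : dualRel Γ ψ ψ'
  · rw [if_pos h, one_mul]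
    have h2 := card_filter_dualTwist_eq S hS (dualRel_ne_one h hψ) ψ
    rw [if_pos h] at h2
    rw [← h2]
    congr
  · rw [if_neg h, zero_mul]
    symm
    rw [Finset.card_eq_zero, Finset.filter_eq_empty_iff]
    intro n _ hn
    exact h ((dualRel_iff ψ ψ').mpr ⟨n, hn⟩)

end Fibres

end Cfsg.Agent.Lib.Helper78
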