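import Mathlib
import Cfsg.Agent.Lib.Helper78.FiniteAbelianDual
import Cfsg.Agent.Lib.Helper78.ExcDual

/-!
# Gram relations for exceptional characters (helper78)

For a function `θ` on a finite abelian group `A` and `ψ : A →* ℂˣ` we put
`gco θ ψ = |A|⁻¹ ∑_y θ y (1 - conj ψ y)` (the multiplicity of the trivial character minus the
multiplicity of `ψ`).

* `gco_dualTwist`: invariance under a group acting on `A` preserving `θ`;
* `eq_neg_sum_gco`: `θ y = - ∑_ψ gco θ ψ * ψ y` for `y ≠ 1`;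
* `sum_gco_mul_eq_zero`: orthogonality to vectors `w` orthogonal to all `θ · y`, `y ≠ 1`;
* `sum_gco_mul_conj_gco`: the Gram matrix `m + [ψ ∼ ψ']` in the semiregular situation.
-/

set_option autoImplicit false

namespace Cfsg.Agent.Lib.Helper78

open scoped ComplexConjugate

section Gco

variable {A : Type*} [CommGroup A] [Fintype A]

/-- `⟨θ, 1⟩ - ⟨θ, ψ⟩`. -/
noncomputable def gco (θ : A → ℂ) (ψ : A →* ℂˣ) : ℂ :=
  (Fintype.card A : ℂ)⁻¹ * ∑ y : A, θ y * (1 - conj ((ψ y : ℂˣ) : ℂ))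

omit [Fintype A] in
theorem one_sub_conj_apply_one (ψ : A →* ℂˣ) : (1 : ℂ) - conj ((ψ 1 : ℂˣ) : ℂ) = 0 := by
  rw [map_one, Units.val_one, map_one, sub_self]

theorem gco_one (θ : A → ℂ) : gco θ (1 : A →* ℂˣ) = 0 := by
  unfold gco
  simp

theorem sum_dual_apply_eq_zero {ψ : A →* ℂˣ} (hψ : ψ ≠ 1) : ∑ y : A, ((ψ y : ℂˣ) : ℂ) = 0 := by
  classical
  have h := dual_sum_mul_conj ψ (1 : A →* ℂˣ)
  rw [if_neg hψ] at h
  rw [← h]
  apply Finset.sum_congr rfl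
  intro y _
  simp

theorem sum_conj_dual_apply_eq_zero {ψ : A →* ℂˣ} (hψ : ψ ≠ 1) :
    ∑ y : A, conj ((ψ y : ℂˣ) : ℂ) = 0 := by
  rw [← map_sum, sum_dual_apply_eq_zero hψ, map_zero]

theorem gco_const {ψ : A →* ℂˣ} (hψ : ψ ≠ 1) (c : ℂ) : gco (fun _ => c) ψ = c := by
  unfold gco
  have hA : (Fintype.card A : ℂ) ≠ 0 := by exact_mod_cast Fintype.card_ne_zero
  rw [← Finset.mul_sum, Finset.sum_sub_distrib, sum_conj_dual_apply_eq_zero hψ]
  simp only [Finset.sum_const, Finset.card_univ, nsmul_eq_mul, mul_one, sub_zero]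
  field_simp

theorem gco_dualTwist {Γ : Type*} [Group Γ] [MulDistribMulAction Γ A] (θ : A → ℂ) (n : Γ)
    (hθ : ∀ y, θ (n • y) = θ y) (ψ : A →* ℂˣ) : gco θ (dualTwist n ψ) = gco θ ψ := by
  unfold gco
  congr 1
  rw [← Equiv.sum_comp (MulAction.toPerm n) (fun y => θ y * (1 - conj ((ψ y : ℂˣ) : ℂ)))]
  apply Finset.sum_congr rfl
  intro y _
  rw [MulAction.toPerm_apply, hθ, dualTwist_apply]

/-- Fourier inversion in terms of `gco`. -/
theorem eq_neg_sum_gco [Fintype (A →* ℂˣ)] (θ : A → ℂ) {y : A} (hy : y ≠ 1) :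
    θ y = - ∑ ψ : A →* ℂˣ, gco θ ψ * ((ψ y : ℂˣ) : ℂ) := by
  classical
  have h1 := dual_inversion θ y
  have h2 := dual_sum_apply (A := A) y
  rw [if_neg hy] at h2
  have h3 : ∀ ψ : A →* ℂˣ, gco θ ψ * ((ψ y : ℂˣ) : ℂ) =
      ((Fintype.card A : ℂ)⁻¹ * ∑ y' : A, θ y') * ((ψ y : ℂˣ) : ℂ) -
      ((Fintype.card A : ℂ)⁻¹ * ∑ y' : A, θ y' * conj ((ψ y' : ℂˣ) : ℂ)) * ((ψ y : ℂˣ) : ℂ) := by
    intro ψ
    unfold gco
    simp only [mul_sub, mul_one, Finset.sum_sub_distrib]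
    ring
  rw [Finset.sum_congr rfl (fun ψ _ => h3 ψ), Finset.sum_sub_distrib, ← Finset.mul_sum, h2,
    mul_zero, zero_sub, neg_neg]
  exact h1

/-- If `w` is orthogonal to all columns `θ · y`, `y ≠ 1`, it is orthogonal to `gco (θ ·) ψ`. -/
theorem sum_gco_mul_eq_zero {I : Type*} [Fintype I] (θ : I → A → ℂ) (w : I → ℂ)
    (hw : ∀ y : A, y ≠ 1 → ∑ i, θ i y * w i = 0) (ψ : A →* ℂˣ) :
    ∑ i, gco (θ i) ψ * w i = 0 := by
  unfold gco
  have h1 : ∀ i, (Fintype.card A : ℂ)⁻¹ * (∑ y : A, θ i y * (1 - conj ((ψ y : ℂˣ) : ℂ))) * w i =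
      (Fintype.card A : ℂ)⁻¹ * ∑ y : A, (1 - conj ((ψ y : ℂˣ) : ℂ)) * (θ i y * w i) := by
    intro i
    rw [mul_assoc, Finset.sum_mul]
    congr 1
    apply Finset.sum_congr rfl
    intro y _
    ring
  rw [Finset.sum_congr rfl (fun i _ => h1 i), ← Finset.mul_sum, Finset.sum_comm]
  have h2 : ∀ y : A, ∑ i, (1 - conj ((ψ y : ℂˣ) : ℂ)) * (θ i y * w i) = 0 := by
    intro y
    rw [← Finset.mul_sum]
    by_cases hy : y = 1
    · rw [hy, one_sub_conj_apply_one, zero_mul]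
    · rw [hw y hy, mul_zero]
  rw [Finset.sum_congr rfl (fun y _ => h2 y), Finset.sum_const_zero, mul_zero]

theorem sum_one_sub_conj_mul_one_sub {ψ φ : A →* ℂˣ} (hψ : ψ ≠ 1) (hφ : φ ≠ 1)
    [Decidable (φ = ψ)] :
    ∑ y : A, (1 - conj ((ψ y : ℂˣ) : ℂ)) * (1 - ((φ y : ℂˣ) : ℂ)) =
      (Fintype.card A : ℂ) * (1 + if φ = ψ then 1 else 0) := by
  classical
  have h1 : ∀ y : A, (1 - conj ((ψ y : ℂˣ) : ℂ)) * (1 - ((φ y : ℂˣ) : ℂ)) =
      1 - conj ((ψ y : ℂˣ) : ℂ) - ((φ y : ℂˣ) : ℂ) +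
        ((φ y : ℂˣ) : ℂ) * conj ((ψ y : ℂˣ) : ℂ) := by
    intro y
    ring
  rw [Finset.sum_congr rfl (fun y _ => h1 y), Finset.sum_add_distrib, Finset.sum_sub_distrib,
    Finset.sum_sub_distrib, sum_conj_dual_apply_eq_zero hψ, sum_dual_apply_eq_zero hφ,
    dual_sum_mul_conj]
  simp only [Finset.sum_const, Finset.card_univ, nsmul_eq_mul, mul_one, sub_zero]
  split_ifs <;> ring

end Gco

section Gram

variable {A Γ I : Type*} [CommGroup A] [Fintype A] [Group Γ] [Fintype Γ]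
  [MulDistribMulAction Γ A] [Fintype I]
  (S : Subgroup Γ) (hS : ∀ y : A, y ≠ 1 → ∀ n : Γ, n • y = y ↔ n ∈ S)

include hS in
open scoped Classical in
/-- **Gram relation.** -/
theorem sum_gco_mul_conj_gco (m : ℕ) (hm : Fintype.card Γ = Nat.card S * m) (θ : I → A → ℂ)
    (hK : ∀ y y' : A, y ≠ 1 → y' ≠ 1 → ∑ i, θ i y * conj (θ i y') =
      if ∃ n : Γ, n • y = y' then (Fintype.card A : ℂ) else 0)
    {ψ ψ' : A →* ℂˣ} (hψ : ψ ≠ 1) (hψ' : ψ' ≠ 1) :
    ∑ i, gco (θ i) ψ * conj (gco (θ i) ψ') =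
      (m : ℂ) + if dualRel Γ ψ ψ' then 1 else 0 := by
  have hA : (Fintype.card A : ℂ) ≠ 0 := by exact_mod_cast Fintype.card_ne_zero
  have hc : (Nat.card S : ℂ) ≠ 0 := by
    have : Nat.card S ≠ 0 := Nat.card_pos.ne'
    exact_mod_cast this
  -- the kernel as a sum over the group
  have hK' : ∀ y y' : A, (1 - conj ((ψ y : ℂˣ) : ℂ)) * (1 - ((ψ' y' : ℂˣ) : ℂ)) *
      ∑ i, θ i y * conj (θ i y') =
      (1 - conj ((ψ y : ℂˣ) : ℂ)) * (1 - ((ψ' y' : ℂˣ) : ℂ)) *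
        ((Fintype.card A : ℂ) * (Nat.card S : ℂ)⁻¹ *
          ∑ n : Γ, if n • y = y' then 1 else 0) := by
    intro y y'
    by_cases hy : y = 1
    · rw [hy, one_sub_conj_apply_one]
      simp only [zero_mul]
    by_cases hy' : y' = 1
    · rw [hy', map_one, Units.val_one, sub_self]
      simp only [mul_zero, zero_mul]
    rw [hK y y' hy hy', Finset.sum_boole, card_filter_smul_eq S hS hy y']
    congr 1
    by_cases h : ∃ n : Γ, n • y = y'
    · rw [if_pos h, if_pos h]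
      field_simp
    · rw [if_neg h, if_neg h]
      simp
  -- expand
  have h1 : ∀ i, gco (θ i) ψ * conj (gco (θ i) ψ') =
      (Fintype.card A : ℂ)⁻¹ * (Fintype.card A : ℂ)⁻¹ * ∑ y : A, ∑ y' : A,
        (1 - conj ((ψ y : ℂˣ) : ℂ)) * (1 - ((ψ' y' : ℂˣ) : ℂ)) * (θ i y * conj (θ i y')) := by
    intro i
    unfold gco
    rw [map_mul, map_inv₀, Complex.conj_natCast, map_sum]
    rw [mul_mul_mul_comm, Finset.sum_mul_sum]
    congr 1
    apply Finset.sum_congr rfl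
    intro y _
    apply Finset.sum_congr rfl
    intro y' _
    rw [map_mul, map_sub, map_one, Complex.conj_conj]
    ring
  rw [Finset.sum_congr rfl (fun i _ => h1 i), ← Finset.mul_sum, Finset.sum_comm]
  have h2 : ∀ y : A, ∑ i, ∑ y' : A,
      (1 - conj ((ψ y : ℂˣ) : ℂ)) * (1 - ((ψ' y' : ℂˣ) : ℂ)) * (θ i y * conj (θ i y')) =
      (Fintype.card A : ℂ) * (Nat.card S : ℂ)⁻¹ * ∑ n : Γ,
        (1 - conj ((ψ y : ℂˣ) : ℂ)) * (1 - ((dualTwist n ψ' y : ℂˣ) : ℂ)) := by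
    intro y
    rw [Finset.sum_comm]
    have h3 : ∀ y' : A, ∑ i, (1 - conj ((ψ y : ℂˣ) : ℂ)) * (1 - ((ψ' y' : ℂˣ) : ℂ)) *
        (θ i y * conj (θ i y')) =
        (Fintype.card A : ℂ) * (Nat.card S : ℂ)⁻¹ * ∑ n : Γ,
          if n • y = y' then (1 - conj ((ψ y : ℂˣ) : ℂ)) * (1 - ((ψ' y' : ℂˣ) : ℂ)) else 0 := by
      intro y'
      rw [← Finset.mul_sum, hK' y y', Finset.mul_sum, Finset.mul_sum, Finset.mul_sum]
      apply Finset.sum_congr rfl
      intro n _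
      split_ifs <;> ring
    rw [Finset.sum_congr rfl (fun y' _ => h3 y'), ← Finset.mul_sum, Finset.sum_comm]
    congr 1
    apply Finset.sum_congr rfl
    intro n _
    rw [Finset.sum_ite_eq Finset.univ (n • y), if_pos (Finset.mem_univ _), dualTwist_apply]
  rw [Finset.sum_congr rfl (fun y _ => h2 y), ← Finset.mul_sum, Finset.sum_comm]
  have h4 : ∀ n : Γ, ∑ y : A,
      (1 - conj ((ψ y : ℂˣ) : ℂ)) * (1 - ((dualTwist n ψ' y : ℂˣ) : ℂ)) =
      (Fintype.card A : ℂ) * (1 + if dualTwist n ψ' = ψ then 1 else 0) :=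
    fun n => sum_one_sub_conj_mul_one_sub hψ (dualTwist_ne_one n hψ')
  have hcard : (Finset.univ.filter (fun n : Γ => dualTwist n ψ' = ψ)).card =
      if dualRel Γ ψ ψ' then Nat.card S else 0 := by
    convert card_filter_dualTwist_eq S hS hψ' ψ
  rw [Finset.sum_congr rfl (fun n _ => h4 n), ← Finset.mul_sum, Finset.sum_add_distrib,
    Finset.sum_boole, hcard]
  simp only [Finset.sum_const, Finset.card_univ, nsmul_eq_mul, mul_one]
  rw [hm]
  push_cast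
  by_cases h : dualRel Γ ψ ψ'
  · rw [if_pos h, if_pos h]
    field_simp
  · rw [if_neg h, if_neg h]
    field_simp
    simp

end Gram

end Cfsg.Agent.Lib.Helper78
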