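import Mathlib

/-!
# Integer vectors in exceptional character theory (helper78)

Pure combinatorics used for coherence of exceptional characters.

* `exists_pm_of_sq_sum_eq_two`: an integer vector of norm `2` orthogonal to a positive vector is a
  difference of two distinct unit vectors.
* `exists_coherent`: a family of integer vectors `g t` (`t : T`, `T` carrying an equivalence
  relation `R` with at least two classes) with Gram matrix `m + [R t t']`, all orthogonal to a
  positive vector, has the shape `g t - g t' = -δ (e_{ζ t} - e_{ζ t'})`.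
-/

set_option autoImplicit false

namespace Cfsg.Agent.Lib.Helper78

section Vectors

variable {I : Type*} [Fintype I] [DecidableEq I]

/-- The difference of two unit vectors. -/
def unitDiff (a b : I) (i : I) : ℤ := (if i = a then 1 else 0) - (if i = b then 1 else 0)

theorem sum_unitDiff_mul (a b : I) (w : I → ℤ) : ∑ i, unitDiff a b i * w i = w a - w b := by
  unfold unitDiff
  simp only [sub_mul, ite_mul, one_mul, zero_mul, Finset.sum_sub_distrib,
    Finset.sum_ite_eq', Finset.mem_univ, if_true]

theorem unitDiff_self_left {a b : I} (hab : a ≠ b) : unitDiff a b a = 1 := by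
  unfold unitDiff
  rw [if_pos rfl, if_neg hab]; ring

theorem unitDiff_self_right {a b : I} (hab : a ≠ b) : unitDiff a b b = -1 := by
  unfold unitDiff
  rw [if_neg (Ne.symm hab), if_pos rfl]; ring

theorem unitDiff_eq_iff {a b a' b' : I} (hab : a ≠ b)
    (h : ∀ i, unitDiff a b i = unitDiff a' b' i) : a = a' ∧ b = b' := by
  have h1 := h a
  have h2 := h b
  rw [unitDiff_self_left hab] at h1
  rw [unitDiff_self_right hab] at h2
  unfold unitDiff at h1 h2
  constructor
  · by_contra hne
    rw [if_neg hne] at h1
    split_ifs at h1 <;> omega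
  · by_contra hne
    rw [if_neg hne] at h2
    split_ifs at h2 <;> omega

/-- An integer vector with square sum `2` orthogonal to a positive vector is `e_a - e_b`. -/
theorem exists_pm_of_sq_sum_eq_two (v deg : I → ℤ) (hdeg : ∀ i, 0 < deg i)
    (h2 : ∑ i, v i ^ 2 = 2) (h0 : ∑ i, v i * deg i = 0) :
    ∃ a b : I, a ≠ b ∧ ∀ i, v i = unitDiff a b i := by
  -- every entry is `-1, 0, 1`
  have hle : ∀ i, v i ^ 2 ≤ 2 := by
    intro i
    rw [← h2]
    exact Finset.single_le_sum (f := fun i => v i ^ 2) (fun j _ => sq_nonneg (v j))
      (Finset.mem_univ i)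
  have hval : ∀ i, v i = -1 ∨ v i = 0 ∨ v i = 1 := by
    intro i
    have h := hle i
    have h1 : -1 ≤ v i := by nlinarith
    have h3 : v i ≤ 1 := by nlinarith
    omega
  have hsq : ∀ i, v i ^ 2 = if v i ≠ 0 then 1 else 0 := by
    intro i
    rcases hval i with h | h | h <;> simp [h]
  have hcard : (Finset.univ.filter (fun i => v i ≠ 0)).card = 2 := by
    have : ∑ i, v i ^ 2 = ((Finset.univ.filter (fun i => v i ≠ 0)).card : ℤ) := by
      rw [Finset.sum_congr rfl (fun i _ => hsq i), Finset.sum_boole]
    rw [h2] at this
    exact_mod_cast this.symm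
  obtain ⟨x, y, hxy, hS⟩ := Finset.card_eq_two.mp hcard
  have hx : v x ≠ 0 := by
    have : x ∈ Finset.univ.filter (fun i => v i ≠ 0) := by rw [hS]; simp
    exact (Finset.mem_filter.mp this).2
  have hy : v y ≠ 0 := by
    have : y ∈ Finset.univ.filter (fun i => v i ≠ 0) := by rw [hS]; simp
    exact (Finset.mem_filter.mp this).2
  have hother : ∀ i, i ≠ x → i ≠ y → v i = 0 := by
    intro i hix hiy
    by_contra hne
    have : i ∈ Finset.univ.filter (fun i => v i ≠ 0) := by simp [hne]
    rw [hS] at this
    simp at this
    rcases this with h | h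
    · exact hix h
    · exact hiy h
  -- the orthogonality relation
  have hsum : v x * deg x + v y * deg y = 0 := by
    rw [← h0, ← Finset.add_sum_erase Finset.univ _ (Finset.mem_univ x),
      ← Finset.add_sum_erase (Finset.univ.erase x) _
        (Finset.mem_erase.mpr ⟨Ne.symm hxy, Finset.mem_univ y⟩)]
    have : ∑ i ∈ (Finset.univ.erase x).erase y, v i * deg i = 0 := by
      apply Finset.sum_eq_zero
      intro i hi
      have hiy : i ≠ y := (Finset.mem_erase.mp hi).1
      have hix : i ≠ x := (Finset.mem_erase.mp (Finset.mem_erase.mp hi).2).1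
      rw [hother i hix hiy, zero_mul]
    rw [this, add_zero]
  have hdx := hdeg x
  have hdy := hdeg y
  rcases hval x with h1 | h1 | h1
  · rcases hval y with h3 | h3 | h3
    · rw [h1, h3] at hsum; nlinarith
    · exact absurd h3 hy
    · refine ⟨y, x, Ne.symm hxy, ?_⟩
      intro i
      unfold unitDiff
      by_cases hiy : i = y
      · subst hiy; rw [if_pos rfl, if_neg (Ne.symm hxy), h3]; ring
      · by_cases hix : i = x
        · subst hix; rw [if_neg hiy, if_pos rfl, h1]; ring
        · rw [if_neg hiy, if_neg hix, hother i hix hiy]; ring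
  · exact absurd h1 hx
  · rcases hval y with h3 | h3 | h3
    · refine ⟨x, y, hxy, ?_⟩
      intro i
      unfold unitDiff
      by_cases hix : i = x
      · subst hix; rw [if_pos rfl, if_neg hxy, h1]; ring
      · by_cases hiy : i = y
        · subst hiy; rw [if_neg hix, if_pos rfl, h3]; ring
        · rw [if_neg hix, if_neg hiy, hother i hix hiy]; ring
    · exact absurd h3 hy
    · rw [h1, h3] at hsum; nlinarith

end Vectors


section Coherence

variable {I T : Type*} [Fintype I] [DecidableEq I]

open scoped Classical in
/-- **Coherence.** -/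
theorem exists_coherent (R : T → T → Prop) (hR : Equivalence R) (g : T → I → ℤ) (deg : I → ℤ)
    (hdeg : ∀ i, 0 < deg i) (m : ℤ) (h1 : ∀ t t', R t t' → g t = g t')
    (h2 : ∀ t t', ∑ i, g t i * g t' i = m + (if R t t' then 1 else 0))
    (h3 : ∀ t, ∑ i, g t i * deg i = 0) (t₁ t₂ : T) (h12 : ¬ R t₁ t₂) :
    ∃ (δ : ℤ) (ζ : T → I), (δ = 1 ∨ δ = -1) ∧ (∀ t t', ζ t = ζ t' ↔ R t t') ∧
      ∀ t t' i, g t i - g t' i = -δ * unitDiff (ζ t) (ζ t') i := by
  -- differences from the base point
  have hpm : ∀ t, ¬ R t₁ t → ∃ a b : I, a ≠ b ∧ ∀ i, g t₁ i - g t i = unitDiff a b i := by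
    intro t ht
    apply exists_pm_of_sq_sum_eq_two _ deg hdeg
    · have e : ∀ i, (g t₁ i - g t i) ^ 2 =
          g t₁ i * g t₁ i - g t₁ i * g t i - g t₁ i * g t i + g t i * g t i := by
        intro i; ring
      rw [Finset.sum_congr rfl (fun i _ => e i), Finset.sum_add_distrib, Finset.sum_sub_distrib,
        Finset.sum_sub_distrib, h2, h2, h2, if_pos (hR.refl t₁), if_neg ht, if_pos (hR.refl t)]
      ring
    · have e : ∀ i, (g t₁ i - g t i) * deg i = g t₁ i * deg i - g t i * deg i := by
        intro i; ring
      rw [Finset.sum_congr rfl (fun i _ => e i), Finset.sum_sub_distrib, h3, h3, sub_zero]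
  obtain ⟨a₂, b₂, hab₂, hg₂⟩ := hpm t₂ h12
  have key : ∀ t, ∃ ab : I × I, ¬ R t₁ t →
      (ab.1 ≠ ab.2 ∧ ∀ i, g t₁ i - g t i = unitDiff ab.1 ab.2 i) := by
    intro t
    by_cases ht : R t₁ t
    · exact ⟨(a₂, a₂), fun h => absurd ht h⟩
    · obtain ⟨a, b, hab, hg⟩ := hpm t ht
      exact ⟨(a, b), fun _ => ⟨hab, hg⟩⟩
  choose ab hab using key
  -- equivalent points give the same pair
  have hsame : ∀ t t', ¬ R t₁ t → R t t' → ab t = ab t' := by
    intro t t' ht htt'
    have ht' : ¬ R t₁ t' := fun h => ht (hR.trans h (hR.symm htt'))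
    obtain ⟨hne, hg⟩ := hab t ht
    obtain ⟨hne', hg'⟩ := hab t' ht'
    have := unitDiff_eq_iff (a' := (ab t').1) (b' := (ab t').2) hne
      (fun i => by rw [← hg i, ← hg' i, h1 t t' htt'])
    exact Prod.ext this.1 this.2
  -- inequivalent points share exactly one entry
  have hshare : ∀ t t', ¬ R t₁ t → ¬ R t₁ t' → ¬ R t t' →
      ((ab t).1 = (ab t').1 ∧ (ab t).2 ≠ (ab t').2) ∨
      ((ab t).2 = (ab t').2 ∧ (ab t).1 ≠ (ab t').1) := by
    intro t t' ht ht' htt'
    obtain ⟨hne, hg⟩ := hab t ht
    obtain ⟨hne', hg'⟩ := hab t' ht'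
    have hinner : ∑ i, (g t₁ i - g t i) * (g t₁ i - g t' i) = 1 := by
      have e : ∀ i, (g t₁ i - g t i) * (g t₁ i - g t' i) =
          g t₁ i * g t₁ i - g t₁ i * g t' i - g t i * g t₁ i + g t i * g t' i := by
        intro i; ring
      rw [Finset.sum_congr rfl (fun i _ => e i), Finset.sum_add_distrib, Finset.sum_sub_distrib,
        Finset.sum_sub_distrib, h2, h2, h2, h2, if_pos (hR.refl t₁), if_neg ht',
        if_neg (fun h => ht (hR.symm h)), if_neg htt']
      ring
    rw [Finset.sum_congr rfl (fun i _ => by rw [hg i, hg' i]), sum_unitDiff_mul] at hinner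
    unfold unitDiff at hinner
    by_cases e1 : (ab t).1 = (ab t').1
    · left
      refine ⟨e1, ?_⟩
      intro e2
      have n1 : ¬ (ab t).1 = (ab t').2 := fun h => hne' (by rw [← e1]; exact h)
      have n2 : ¬ (ab t).2 = (ab t').1 := fun h => hne' (by rw [← e2]; exact h.symm)
      rw [if_pos e1, if_pos e2, if_neg n1, if_neg n2] at hinner
      omega
    · right
      by_cases e2 : (ab t).2 = (ab t').2
      · exact ⟨e2, e1⟩
      · exfalso
        rw [if_neg e1, if_neg e2] at hinner
        split_ifs at hinner <;> omega
  by_cases hA : ∀ t, ¬ R t₁ t → (ab t).1 = a₂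
  · -- all positive parts agree: `δ = -1`
    refine ⟨-1, fun t => if R t₁ t then a₂ else (ab t).2, Or.inr rfl, ?_, ?_⟩
    · intro t t'
      by_cases ht : R t₁ t <;> by_cases ht' : R t₁ t'
      · simp only [if_pos ht, if_pos ht', true_iff]
        exact hR.trans (hR.symm ht) ht'
      · simp only [if_pos ht, if_neg ht']
        constructor
        · intro h
          exact absurd (by rw [hA t' ht', h]) (hab t' ht').1
        · intro h
          exact absurd (hR.trans ht h) ht'
      · simp only [if_neg ht, if_pos ht']
        constructor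
        · intro h
          exact absurd (by rw [hA t ht, ← h]) (hab t ht).1
        · intro h
          exact absurd (hR.trans ht' (hR.symm h)) ht
      · simp only [if_neg ht, if_neg ht']
        constructor
        · intro h
          by_contra htt'
          rcases hshare t t' ht ht' htt' with h' | h'
          · exact h'.2 h
          · exact h'.2 (by rw [hA t ht, hA t' ht'])
        · intro h
          rw [hsame t t' ht h]
    · intro t t' i
      by_cases ht : R t₁ t <;> by_cases ht' : R t₁ t'
      · simp only [if_pos ht, if_pos ht']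
        rw [h1 t t' (hR.trans (hR.symm ht) ht')]
        unfold unitDiff; ring
      · simp only [if_pos ht, if_neg ht']
        rw [← h1 t₁ t ht, (hab t' ht').2 i, hA t' ht']
        ring
      · simp only [if_neg ht, if_pos ht']
        rw [← h1 t₁ t' ht']
        have := (hab t ht).2 i
        rw [hA t ht] at this
        have e : g t i - g t₁ i = -(g t₁ i - g t i) := by ring
        rw [e, this]
        unfold unitDiff; ring
      · simp only [if_neg ht, if_neg ht']
        have e : g t i - g t' i = (g t₁ i - g t' i) - (g t₁ i - g t i) := by ring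
        rw [e, (hab t ht).2 i, (hab t' ht').2 i, hA t ht, hA t' ht']
        unfold unitDiff; ring
  · -- some positive part differs: then all negative parts agree, `δ = 1`
    push Not at hA
    obtain ⟨t₃, ht₃, ha₃⟩ := hA
    have h23 : ¬ R t₂ t₃ := by
      intro h
      have := hsame t₂ t₃ h12 h
      apply ha₃
      rw [← this]
      exact (unitDiff_eq_iff (a' := a₂) (b' := b₂) (hab t₂ h12).1
        (fun i => by rw [← (hab t₂ h12).2 i, hg₂ i])).1
    have hab₂' : ab t₂ = (a₂, b₂) := by
      have := unitDiff_eq_iff (a' := a₂) (b' := b₂) (hab t₂ h12).1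
        (fun i => by rw [← (hab t₂ h12).2 i, hg₂ i])
      exact Prod.ext this.1 this.2
    have hb₃ : (ab t₃).2 = b₂ := by
      rcases hshare t₂ t₃ h12 ht₃ h23 with h | h
      · exact absurd (by rw [← h.1, hab₂']) ha₃
      · rw [← h.1, hab₂']
    have hB : ∀ t, ¬ R t₁ t → (ab t).2 = b₂ := by
      intro t ht
      by_contra hne
      have ht2 : ¬ R t₂ t := by
        intro h
        apply hne
        rw [← hsame t₂ t h12 h, hab₂']
      have ht3 : ¬ R t₃ t := by
        intro h
        apply hne
        rw [← hsame t₃ t ht₃ h, hb₃]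
      have e2 : (ab t).1 = a₂ := by
        rcases hshare t₂ t h12 ht ht2 with h | h
        · rw [← h.1, hab₂']
        · exact absurd (by rw [← h.1, hab₂']) hne
      have e3 : (ab t).1 = (ab t₃).1 := by
        rcases hshare t₃ t ht₃ ht ht3 with h | h
        · exact h.1.symm
        · exact absurd (by rw [← h.1, hb₃]) hne
      exact ha₃ (by rw [← e3, e2])
    refine ⟨1, fun t => if R t₁ t then b₂ else (ab t).1, Or.inl rfl, ?_, ?_⟩
    · intro t t'
      by_cases ht : R t₁ t <;> by_cases ht' : R t₁ t'
      · simp only [if_pos ht, if_pos ht', true_iff]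
        exact hR.trans (hR.symm ht) ht'
      · simp only [if_pos ht, if_neg ht']
        constructor
        · intro h
          exact absurd (by rw [hB t' ht', h]) (hab t' ht').1.symm
        · intro h
          exact absurd (hR.trans ht h) ht'
      · simp only [if_neg ht, if_pos ht']
        constructor
        · intro h
          exact absurd (by rw [hB t ht, ← h]) (hab t ht).1.symm
        · intro h
          exact absurd (hR.trans ht' (hR.symm h)) ht
      · simp only [if_neg ht, if_neg ht']
        constructor
        · intro h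
          by_contra htt'
          rcases hshare t t' ht ht' htt' with h' | h'
          · exact h'.2 (by rw [hB t ht, hB t' ht'])
          · exact h'.2 h
        · intro h
          rw [hsame t t' ht h]
    · intro t t' i
      by_cases ht : R t₁ t <;> by_cases ht' : R t₁ t'
      · simp only [if_pos ht, if_pos ht']
        rw [h1 t t' (hR.trans (hR.symm ht) ht')]
        unfold unitDiff; ring
      · simp only [if_pos ht, if_neg ht']
        rw [← h1 t₁ t ht, (hab t' ht').2 i, hB t' ht']
        unfold unitDiff; ring
      · simp only [if_neg ht, if_pos ht']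
        rw [← h1 t₁ t' ht']
        have := (hab t ht).2 i
        rw [hB t ht] at this
        have e : g t i - g t₁ i = -(g t₁ i - g t i) := by ring
        rw [e, this]
        unfold unitDiff; ring
      · simp only [if_neg ht, if_neg ht']
        have e : g t i - g t' i = (g t₁ i - g t' i) - (g t₁ i - g t i) := by ring
        rw [e, (hab t ht).2 i, (hab t' ht').2 i, hB t ht, hB t' ht']
        unfold unitDiff; ring

end Coherence

end Cfsg.Agent.Lib.Helper78
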