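import Mathlib
import Cfsg.Agent.Lib.Helper78.ExcVectors
import Cfsg.Agent.Lib.Helper78.FiniteAbelianDual
import Cfsg.Agent.Lib.Helper78.ExcDual
import Cfsg.Agent.Lib.Helper78.ExcGram

/-!
# Exceptional characters: the structure of the multiplicity vectors (helper78)

Abstract setting: `Γ` acts semiregularly (stabilizer `S`, index `m`) on the finite abelian group
`A`; `θ i : A → ℂ` (`i : I`) are `Γ`-invariant functions whose differences of multiplicities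
`gco (θ i) ψ` are integers and which satisfy the block orthogonality relations `hK`, `hdeg0`.
`exc_structure` describes the vectors `gco (θ ·) ψ`.
-/

set_option autoImplicit false

namespace Cfsg.Agent.Lib.Helper78

open scoped ComplexConjugate

open scoped Classical in
/-- **Structure of the multiplicity vectors.** -/
theorem exc_structure
    {A Γ I : Type*} [CommGroup A] [Fintype A] [Group Γ] [Fintype Γ] [MulDistribMulAction Γ A]
    [Fintype I] [Fintype (A →* ℂˣ)]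
    (S : Subgroup Γ) (hS : ∀ y : A, y ≠ 1 → ∀ n : Γ, n • y = y ↔ n ∈ S)
    (m : ℕ) (hm : Fintype.card Γ = Nat.card S * m) (hmA : m + 1 < Fintype.card A)
    (θ : I → A → ℂ)
    (hinv : ∀ i (n : Γ) y, θ i (n • y) = θ i y)
    (hint : ∀ i (ψ : A →* ℂˣ), ∃ k : ℤ, gco (θ i) ψ = k)
    (hK : ∀ y y' : A, y ≠ 1 → y' ≠ 1 → ∑ i, θ i y * conj (θ i y') =
      if ∃ n : Γ, n • y = y' then (Fintype.card A : ℂ) else 0)
    (deg : I → ℤ) (hdeg : ∀ i, 0 < deg i)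
    (hdeg0 : ∀ y : A, y ≠ 1 → ∑ i, θ i y * (deg i : ℂ) = 0) :
    ∃ (δ d : ℤ) (ζ : (A →* ℂˣ) → I) (a : I → ℤ) (Y : Finset I),
      (δ = 1 ∨ δ = -1) ∧
      (∀ ψ : A →* ℂˣ, ψ ≠ 1 → ζ ψ ∈ Y) ∧
      (∀ η ∈ Y, ∃ ψ : A →* ℂˣ, ψ ≠ 1 ∧ ζ ψ = η) ∧
      (∀ ψ ψ' : A →* ℂˣ, ψ ≠ 1 → ψ' ≠ 1 → (ζ ψ = ζ ψ' ↔ dualRel Γ ψ ψ')) ∧
      Y.card * m = Fintype.card A - 1 ∧
      (∃ ψ₁ ψ₂ : A →* ℂˣ, ψ₁ ≠ 1 ∧ ψ₂ ≠ 1 ∧ ζ ψ₁ ≠ ζ ψ₂) ∧
      (∀ ψ : A →* ℂˣ, ψ ≠ 1 → ∀ i, gco (θ i) ψ =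
        if i ∈ Y then (d : ℂ) - (δ : ℂ) * (if i = ζ ψ then 1 else 0) else (a i : ℂ)) := by
  choose gk hgk using hint
  obtain ⟨g, hgdef⟩ : ∃ g : {ψ : A →* ℂˣ // ψ ≠ 1} → I → ℤ, g = fun t i => gk i t.1 := ⟨_, rfl⟩
  have hg_cast : ∀ (t : {ψ : A →* ℂˣ // ψ ≠ 1}) (i : I), gco (θ i) t.1 = (g t i : ℂ) := by
    intro t i
    rw [hgdef]
    exact hgk i t.1
  obtain ⟨R, hRdef⟩ : ∃ R : {ψ : A →* ℂˣ // ψ ≠ 1} → {ψ : A →* ℂˣ // ψ ≠ 1} → Prop,
      R = fun t t' => dualRel Γ t.1 t'.1 := ⟨_, rfl⟩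
  have hRiff : ∀ t t', R t t' ↔ dualRel Γ t.1 t'.1 := by
    intro t t'
    rw [hRdef]
  have hR : Equivalence R :=
    ⟨fun t => (hRiff t t).mpr (dualRel_refl _),
      fun {t t'} h => (hRiff t' t).mpr (dualRel_symm ((hRiff t t').mp h)),
      fun {t t' t''} h h' =>
        (hRiff t t'').mpr (dualRel_trans ((hRiff t t').mp h) ((hRiff t' t'').mp h'))⟩
  have h1 : ∀ t t', R t t' → g t = g t' := by
    intro t t' h
    obtain ⟨n, hn⟩ := (dualRel_iff _ _).mp ((hRiff t t').mp h)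
    funext i
    have : (g t i : ℂ) = (g t' i : ℂ) := by
      rw [← hg_cast, ← hg_cast, ← hn, gco_dualTwist _ n (hinv i n)]
    exact_mod_cast this
  have h2 : ∀ t t', ∑ i, g t i * g t' i = (m : ℤ) + (if R t t' then 1 else 0) := by
    intro t t'
    have hG := sum_gco_mul_conj_gco S hS m hm θ hK t.2 t'.2
    have hcast : ((∑ i, g t i * g t' i : ℤ) : ℂ) =
        ∑ i, gco (θ i) t.1 * conj (gco (θ i) t'.1) := by
      push_cast
      apply Finset.sum_congr rfl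
      intro i _
      rw [hg_cast, hg_cast, map_intCast]
    rw [hG] at hcast
    have h' : ((∑ i, g t i * g t' i : ℤ) : ℂ) =
        (((m : ℤ) + (if R t t' then 1 else 0) : ℤ) : ℂ) := by
      rw [hcast]
      by_cases h : R t t'
      · rw [if_pos h, if_pos ((hRiff t t').mp h)]
        push_cast
        ring
      · rw [if_neg h, if_neg (fun h' => h ((hRiff t t').mpr h'))]
        push_cast
        ring
    exact_mod_cast h'
  have h3 : ∀ t, ∑ i, g t i * deg i = 0 := by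
    intro t
    have h0 := sum_gco_mul_eq_zero θ (fun i => (deg i : ℂ)) hdeg0 t.1
    have hcast : ((∑ i, g t i * deg i : ℤ) : ℂ) = 0 := by
      push_cast
      rw [← h0]
      apply Finset.sum_congr rfl
      intro i _
      rw [hg_cast]
    exact_mod_cast hcast
  -- two unrelated characters
  have hdual : Fintype.card (A →* ℂˣ) = Fintype.card A := dual_card
  obtain ⟨ψ₁, hψ₁⟩ : ∃ ψ₁ : A →* ℂˣ, ψ₁ ≠ 1 := by
    by_contra hcon
    push Not at hcon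
    have : Fintype.card (A →* ℂˣ) ≤ 1 :=
      Fintype.card_le_one_iff.mpr (fun a b => by rw [hcon a, hcon b])
    omega
  have hSpos : 0 < Nat.card S := Nat.card_pos
  have hclass : ∀ ψ : A →* ℂˣ, ψ ≠ 1 →
      (Finset.univ.filter (fun ψ' : A →* ℂˣ => dualRel Γ ψ ψ')).card = m := by
    intro ψ hψ
    have h := card_dualRel_class S hS hψ
    rw [hm, mul_comm] at h
    exact Nat.eq_of_mul_eq_mul_left hSpos h
  obtain ⟨ψ₂, hψ₂, h12⟩ : ∃ ψ₂ : A →* ℂˣ, ψ₂ ≠ 1 ∧ ¬ dualRel Γ ψ₁ ψ₂ := by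
    by_contra hcon
    push Not at hcon
    have hsub : (Finset.univ : Finset (A →* ℂˣ)) ⊆
        insert 1 (Finset.univ.filter (fun ψ' : A →* ℂˣ => dualRel Γ ψ₁ ψ')) := by
      intro ψ _
      by_cases h : ψ = 1
      · rw [h]
        exact Finset.mem_insert_self _ _
      · exact Finset.mem_insert_of_mem (Finset.mem_filter.mpr ⟨Finset.mem_univ _, hcon ψ h⟩)
    have hle := Finset.card_le_card hsub
    rw [Finset.card_univ, hdual] at hle
    have h' := Finset.card_insert_le (1 : A →* ℂˣ)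
      (Finset.univ.filter (fun ψ' : A →* ℂˣ => dualRel Γ ψ₁ ψ'))
    rw [hclass ψ₁ hψ₁] at h'
    omega
  have h12' : ¬ R ⟨ψ₁, hψ₁⟩ ⟨ψ₂, hψ₂⟩ := fun h => h12 ((hRiff _ _).mp h)
  obtain ⟨δ, ζ₀, hδ, hζ, hg⟩ :=
    exists_coherent R hR g deg hdeg (m : ℤ) h1 h2 h3 ⟨ψ₁, hψ₁⟩ ⟨ψ₂, hψ₂⟩ h12'
  have hδsq : δ * δ = 1 := by
    rcases hδ with h | h <;> rw [h] <;> norm_num
  have hδ0 : δ ≠ 0 := by
    rcases hδ with h | h <;> rw [h] <;> norm_num
  -- basic facts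
  have hA : ∀ t t' i, i ≠ ζ₀ t → i ≠ ζ₀ t' → g t i = g t' i := by
    intro t t' i hi hi'
    have h := hg t t' i
    unfold unitDiff at h
    rw [if_neg hi, if_neg hi'] at h
    linarith
  have hB1 : ∀ t t', ζ₀ t ≠ ζ₀ t' → g t (ζ₀ t) - g t' (ζ₀ t) = -δ := by
    intro t t' hne
    have h := hg t t' (ζ₀ t)
    rw [unitDiff_self_left hne] at h
    linarith
  have hB2 : ∀ t t', ζ₀ t ≠ ζ₀ t' → g t (ζ₀ t') - g t' (ζ₀ t') = δ := by
    intro t t' hne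
    have h := hg t t' (ζ₀ t')
    rw [unitDiff_self_right hne] at h
    linarith
  have hC : ∀ t t', ζ₀ t ≠ ζ₀ t' → g t (ζ₀ t) - g t (ζ₀ t') = -δ := by
    intro t t' hne
    have hnR : ¬ R t t' := fun h => hne ((hζ t t').mpr h)
    have e1 := h2 t t
    have e2 := h2 t t'
    rw [if_pos (hR.refl t)] at e1
    rw [if_neg hnR] at e2
    have e3 : ∑ i, g t i * (g t i - g t' i) = 1 := by
      simp only [mul_sub, Finset.sum_sub_distrib]
      rw [e1, e2]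
      ring
    have e4 : ∑ i, g t i * (g t i - g t' i) = -δ * (g t (ζ₀ t) - g t (ζ₀ t')) := by
      rw [← sum_unitDiff_mul (ζ₀ t) (ζ₀ t') (g t), Finset.mul_sum]
      apply Finset.sum_congr rfl
      intro i _
      rw [hg t t' i]
      ring
    rw [e3] at e4
    have e5 : δ * 1 = δ * (-δ * (g t (ζ₀ t) - g t (ζ₀ t'))) := by rw [e4]
    have e6 : δ * (-δ * (g t (ζ₀ t) - g t (ζ₀ t'))) =
        -(δ * δ) * (g t (ζ₀ t) - g t (ζ₀ t')) := by ring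
    rw [e6, hδsq] at e5
    linarith
  have hD : ∀ t t', g t (ζ₀ t) = g t' (ζ₀ t') := by
    intro t t'
    by_cases hne : ζ₀ t = ζ₀ t'
    · have hRt : R t t' := (hζ t t').mp hne
      rw [h1 t t' hRt, hne]
    · have e1 := hC t t' hne
      have e2 := hB2 t t' hne
      linarith
  obtain ⟨d, hd⟩ : ∃ d : ℤ, d = g ⟨ψ₁, hψ₁⟩ (ζ₀ ⟨ψ₁, hψ₁⟩) + δ := ⟨_, rfl⟩
  have hE : ∀ t, g t (ζ₀ t) = d - δ := by
    intro t
    rw [hD t ⟨ψ₁, hψ₁⟩, hd]
    ring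
  have hF : ∀ t t', ζ₀ t ≠ ζ₀ t' → g t (ζ₀ t') = d := by
    intro t t' hne
    have e2 := hB2 t t' hne
    rw [hE t'] at e2
    linarith
  -- the data
  obtain ⟨ζ, hζdef⟩ : ∃ ζ : (A →* ℂˣ) → I,
      ζ = fun ψ => if h : ψ ≠ 1 then ζ₀ ⟨ψ, h⟩ else ζ₀ ⟨ψ₁, hψ₁⟩ := ⟨_, rfl⟩
  have hζval : ∀ t : {ψ : A →* ℂˣ // ψ ≠ 1}, ζ t.1 = ζ₀ t := by
    intro t
    rw [hζdef]
    simp only
    rw [dif_pos t.2]
  refine ⟨δ, d, ζ, fun i => g ⟨ψ₁, hψ₁⟩ i, Finset.univ.image ζ₀, hδ, ?_, ?_, ?_, ?_, ?_, ?_⟩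
  · intro ψ hψ
    have e1 := hζval ⟨ψ, hψ⟩
    simp only at e1
    rw [e1]
    exact Finset.mem_image_of_mem _ (Finset.mem_univ _)
  · intro η hη
    obtain ⟨t, _, ht⟩ := Finset.mem_image.mp hη
    exact ⟨t.1, t.2, by rw [hζval, ht]⟩
  · intro ψ ψ' hψ hψ'
    have e1 := hζval ⟨ψ, hψ⟩
    have e2 := hζval ⟨ψ', hψ'⟩
    simp only at e1 e2
    rw [e1, e2, hζ, hRiff]
  · -- counting
    have hT : Fintype.card {ψ : A →* ℂˣ // ψ ≠ 1} = Fintype.card A - 1 := by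
      rw [Fintype.card_subtype, Finset.filter_ne', Finset.card_erase_of_mem (Finset.mem_univ _),
        Finset.card_univ, hdual]
    rw [← hT, ← Finset.card_univ]
    rw [Finset.card_eq_sum_card_fiberwise (f := ζ₀) (t := Finset.univ.image ζ₀)
      (fun t _ => Finset.mem_image_of_mem _ (Finset.mem_univ _))]
    symm
    apply Finset.sum_const_nat
    intro b hb
    obtain ⟨t₀, _, ht₀⟩ := Finset.mem_image.mp hb
    rw [← hclass t₀.1 t₀.2]
    apply Finset.card_bij (fun t _ => t.1)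
    · intro t ht
      simp only [Finset.mem_filter, Finset.mem_univ, true_and] at ht ⊢
      rw [← ht₀] at ht
      exact (hRiff t₀ t).mp ((hζ t₀ t).mp ht.symm)
    · intro t _ t' _ h
      exact Subtype.ext h
    · intro ψ' hψ'
      simp only [Finset.mem_filter, Finset.mem_univ, true_and] at hψ'
      refine ⟨⟨ψ', dualRel_ne_one hψ' t₀.2⟩, ?_, rfl⟩
      simp only [Finset.mem_filter, Finset.mem_univ, true_and]
      rw [← ht₀]
      exact ((hζ t₀ ⟨ψ', dualRel_ne_one hψ' t₀.2⟩).mpr ((hRiff _ _).mpr hψ')).symm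
  · refine ⟨ψ₁, ψ₂, hψ₁, hψ₂, ?_⟩
    have e1 := hζval ⟨ψ₁, hψ₁⟩
    have e2 := hζval ⟨ψ₂, hψ₂⟩
    simp only at e1 e2
    rw [e1, e2]
    intro h
    exact h12' ((hζ _ _).mp h)
  · intro ψ hψ i
    have e1 := hζval ⟨ψ, hψ⟩
    simp only at e1
    have e0 := hg_cast ⟨ψ, hψ⟩ i
    simp only at e0
    rw [e0, e1]
    by_cases hi : i ∈ Finset.univ.image ζ₀
    · rw [if_pos hi]
      obtain ⟨t'', _, ht''⟩ := Finset.mem_image.mp hi
      by_cases hit : i = ζ₀ ⟨ψ, hψ⟩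
      · rw [if_pos hit, hit, hE]
        push_cast
        ring
      · rw [if_neg hit, ← ht'']
        rw [hF ⟨ψ, hψ⟩ t'' (by rw [ht'']; exact fun h => hit h.symm)]
        ring
    · rw [if_neg hi]
      have hi1 : ∀ t, i ≠ ζ₀ t := by
        intro t h
        apply hi
        rw [h]
        exact Finset.mem_image_of_mem _ (Finset.mem_univ _)
      rw [hA ⟨ψ, hψ⟩ ⟨ψ₁, hψ₁⟩ i (hi1 _) (hi1 _)]

end Cfsg.Agent.Lib.Helper78
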