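import Mathlib
import Cfsg.Agent.Lib.Helper78.ExcVectors
import Cfsg.Agent.Lib.Helper78.FiniteAbelianDual
import Cfsg.Agent.Lib.Helper78.ExcDual
import Cfsg.Agent.Lib.Helper78.ExcGram
import Cfsg.Agent.Lib.Helper78.ExcStructure

/-!
# Exceptional characters: the abstract theorem (helper78)

`exceptional_abstract`: in the abstract setting of `exc_structure` the index set splits into the
set `Y` of exceptional indices, in bijection with the `Γ`-orbits of nonprincipal characters of `A`,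
and the non-exceptional ones, constant on `A \ {1}`; values, norm equation and the relations with
vectors orthogonal to the columns of `θ`.
-/

set_option autoImplicit false

namespace Cfsg.Agent.Lib.Helper78

open scoped ComplexConjugate

theorem finsum_mem_eq_sum_filter_of_fintype {α : Type*} {N : Type*} [AddCommMonoid N] [Fintype α]
    (s : Set α) [DecidablePred (· ∈ s)] (f : α → N) :
    ∑ᶠ i ∈ s, f i = ∑ i ∈ Finset.univ.filter (· ∈ s), f i := by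
  apply finsum_mem_eq_sum_of_inter_support_eq
  simp

open scoped Classical in
/-- **Exceptional characters, abstract form.** -/
theorem exceptional_abstract
    {A Γ I : Type*} [CommGroup A] [Fintype A] [Group Γ] [Fintype Γ] [MulDistribMulAction Γ A]
    [Fintype I]
    (S : Subgroup Γ) (hS : ∀ y : A, y ≠ 1 → ∀ n : Γ, n • y = y ↔ n ∈ S)
    (m : ℕ) (hm : Fintype.card Γ = Nat.card S * m) (hmA : m + 1 < Fintype.card A)
    (θ : I → A → ℂ)
    (hinv : ∀ i (n : Γ) y, θ i (n • y) = θ i y)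
    (hint : ∀ i (ψ : A →* ℂˣ), ∃ k : ℤ, gco (θ i) ψ = k)
    (hK : ∀ y y' : A, y ≠ 1 → y' ≠ 1 → ∑ i, θ i y * conj (θ i y') =
      if ∃ n : Γ, n • y = y' then (Fintype.card A : ℂ) else 0)
    (deg : I → ℤ) (hdeg : ∀ i, 0 < deg i)
    (hdeg0 : ∀ y : A, y ≠ 1 → ∑ i, θ i y * (deg i : ℂ) = 0) :
    ∃ (δ d : ℤ) (ζ : (A →* ℂˣ) → I) (a : I → ℤ) (Y : Finset I),
      (δ = 1 ∨ δ = -1) ∧
      (∀ ψ : A →* ℂˣ, ψ ≠ 1 → ζ ψ ∈ Y) ∧
      (∀ η ∈ Y, ∃ ψ : A →* ℂˣ, ψ ≠ 1 ∧ ζ ψ = η) ∧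
      (∀ ψ ψ' : A →* ℂˣ, ψ ≠ 1 → (∃ n : Γ, ∀ y : A, ψ' (n • y) = ψ y) → ζ ψ' = ζ ψ) ∧
      Y.card * m = Fintype.card A - 1 ∧
      (∀ i (c : ℂ), (∀ y, θ i y = c) → i ∉ Y) ∧
      (∀ i, i ∉ Y → ∀ y : A, y ≠ 1 → θ i y = (a i : ℂ)) ∧
      (∀ ψ : A →* ℂˣ, ψ ≠ 1 → ∀ y : A, y ≠ 1 → θ (ζ ψ) y = (d : ℂ) + (δ : ℂ) *
        ∑ᶠ ψ' ∈ {ψ' : A →* ℂˣ | ∃ n : Γ, ∀ y : A, ψ' (n • y) = ψ y}, ((ψ' y : ℂˣ) : ℂ)) ∧
      ((d - δ) ^ 2 + ((Y.card : ℤ) - 1) * d ^ 2 + ∑ i ∈ Finset.univ.filter (· ∉ Y), a i ^ 2 =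
        (m : ℤ) + 1) ∧
      (∀ w : I → ℂ, (∀ y : A, y ≠ 1 → ∑ i, θ i y * w i = 0) →
        (∀ η ∈ Y, ∀ η' ∈ Y, w η = w η') ∧
        ∀ η ∈ Y, ((Y.card : ℂ) * (d : ℂ) - (δ : ℂ)) * w η +
          ∑ i ∈ Finset.univ.filter (· ∉ Y), (a i : ℂ) * w i = 0) := by
  have := Fintype.ofFinite (A →* ℂˣ)
  obtain ⟨δ, d, ζ, a, Y, hδ, hζY, hYsurj, hζR, hYcard, ⟨ψ₁, ψ₂, hψ₁, hψ₂, h12⟩, hgco⟩ :=
    exc_structure S hS m hm hmA θ hinv hint hK deg hdeg hdeg0
  have hδ0 : (δ : ℂ) ≠ 0 := by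
    rcases hδ with h | h <;> rw [h] <;> norm_num
  -- the generic orthogonality relation
  have hE : ∀ w : I → ℂ, (∀ y : A, y ≠ 1 → ∑ i, θ i y * w i = 0) → ∀ ψ : A →* ℂˣ, ψ ≠ 1 →
      (d : ℂ) * ∑ i ∈ Y, w i - (δ : ℂ) * w (ζ ψ) +
        ∑ i ∈ Finset.univ.filter (· ∉ Y), (a i : ℂ) * w i = 0 := by
    intro w hw ψ hψ
    have h0 := sum_gco_mul_eq_zero θ w hw ψ
    rw [← h0, ← Finset.sum_filter_add_sum_filter_not Finset.univ (· ∈ Y)]
    congr 1
    · rw [Finset.filter_mem_eq_inter, Finset.univ_inter]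
      have h1 : ∀ i ∈ Y, gco (θ i) ψ * w i =
          (d : ℂ) * w i - (δ : ℂ) * (if i = ζ ψ then w i else 0) := by
        intro i hi
        rw [hgco ψ hψ i, if_pos hi]
        split_ifs <;> ring
      rw [Finset.sum_congr rfl h1, Finset.sum_sub_distrib, ← Finset.mul_sum, ← Finset.mul_sum,
        Finset.sum_ite_eq' Y (ζ ψ), if_pos (hζY ψ hψ)]
    · apply Finset.sum_congr rfl
      intro i hi
      have hi' : i ∉ Y := (Finset.mem_filter.mp hi).2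
      rw [hgco ψ hψ i, if_neg hi']
  refine ⟨δ, d, ζ, a, Y, hδ, hζY, hYsurj, ?_, hYcard, ?_, ?_, ?_, ?_, ?_⟩
  · intro ψ ψ' hψ hrel
    have hrel' : dualRel Γ ψ ψ' := hrel
    have hψ' := dualRel_ne_one hrel' hψ
    exact ((hζR ψ ψ' hψ hψ').mpr hrel').symm
  · intro i c hc hi
    obtain ⟨ψ', hψ', hζψ'⟩ := hYsurj i hi
    have hθ : θ i = fun _ => c := funext hc
    have hconst : ∀ ψ : A →* ℂˣ, ψ ≠ 1 → gco (θ i) ψ = c := by
      intro ψ hψ
      rw [hθ]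
      exact gco_const hψ c
    obtain ⟨ψ'', hψ'', hne⟩ : ∃ ψ'' : A →* ℂˣ, ψ'' ≠ 1 ∧ ζ ψ'' ≠ i := by
      by_cases h : ζ ψ₁ = i
      · exact ⟨ψ₂, hψ₂, fun h' => h12 (h.trans h'.symm)⟩
      · exact ⟨ψ₁, hψ₁, h⟩
    have e1 := hgco ψ' hψ' i
    have e2 := hgco ψ'' hψ'' i
    rw [if_pos hi, hconst ψ' hψ', if_pos hζψ'.symm] at e1
    rw [if_pos hi, hconst ψ'' hψ'', if_neg (fun h => hne h.symm)] at e2
    apply hδ0
    have : (δ : ℂ) * 1 = 0 := by
      rw [e2] at e1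
      linear_combination e1
    rwa [mul_one] at this
  · intro i hi y hy
    rw [eq_neg_sum_gco (θ i) hy]
    have h1 : ∀ ψ : A →* ℂˣ, gco (θ i) ψ * ((ψ y : ℂˣ) : ℂ) =
        (a i : ℂ) * ((ψ y : ℂˣ) : ℂ) - (if ψ = 1 then (a i : ℂ) else 0) := by
      intro ψ
      by_cases hψ : ψ = 1
      · rw [if_pos hψ, hψ, gco_one, MonoidHom.one_apply, Units.val_one]
        ring
      · rw [if_neg hψ, hgco ψ hψ i, if_neg hi]
        ring
    have h2 := dual_sum_apply (A := A) y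
    rw [if_neg hy] at h2
    rw [Finset.sum_congr rfl (fun ψ _ => h1 ψ), Finset.sum_sub_distrib, ← Finset.mul_sum, h2,
      Finset.sum_ite_eq' Finset.univ (1 : A →* ℂˣ), if_pos (Finset.mem_univ _)]
    ring
  · intro ψ hψ y hy
    rw [eq_neg_sum_gco (θ (ζ ψ)) hy]
    have h1 : ∀ ψ' : A →* ℂˣ, gco (θ (ζ ψ)) ψ' * ((ψ' y : ℂˣ) : ℂ) =
        (d : ℂ) * ((ψ' y : ℂˣ) : ℂ) - (if ψ' = 1 then (d : ℂ) else 0) -
          (δ : ℂ) * (if dualRel Γ ψ ψ' then ((ψ' y : ℂˣ) : ℂ) else 0) := by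
      intro ψ'
      by_cases hψ' : ψ' = 1
      · have hnr : ¬ dualRel Γ ψ ψ' := fun h => dualRel_ne_one h hψ hψ'
        rw [if_pos hψ', if_neg hnr, hψ', gco_one, MonoidHom.one_apply, Units.val_one]
        ring
      · rw [if_neg hψ', hgco ψ' hψ' (ζ ψ), if_pos (hζY ψ hψ)]
        by_cases hr : dualRel Γ ψ ψ'
        · rw [if_pos hr, if_pos ((hζR ψ ψ' hψ hψ').mpr hr)]
          ring
        · rw [if_neg hr, if_neg (fun h => hr ((hζR ψ ψ' hψ hψ').mp h))]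
          ring
    have h2 := dual_sum_apply (A := A) y
    rw [if_neg hy] at h2
    rw [Finset.sum_congr rfl (fun ψ' _ => h1 ψ'), Finset.sum_sub_distrib, Finset.sum_sub_distrib,
      ← Finset.mul_sum, ← Finset.mul_sum, h2,
      Finset.sum_ite_eq' Finset.univ (1 : A →* ℂˣ), if_pos (Finset.mem_univ _),
      ← Finset.sum_filter]
    rw [finsum_mem_eq_sum_filter_of_fintype]
    have hset : Finset.univ.filter (fun ψ' : A →* ℂˣ => dualRel Γ ψ ψ') =
        Finset.univ.filter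
          (· ∈ {ψ' : A →* ℂˣ | ∃ n : Γ, ∀ y : A, ψ' (n • y) = ψ y}) := by
      ext ψ'
      simp only [Finset.mem_filter, Finset.mem_univ, true_and, Set.mem_ofPred_eq]
      rfl
    rw [hset]
    ring
  · -- the norm equation
    have hG := sum_gco_mul_conj_gco S hS m hm θ hK hψ₁ hψ₁
    rw [if_pos (dualRel_refl ψ₁)] at hG
    obtain ⟨v, hv⟩ : ∃ v : I → ℤ, v = fun i =>
        if i ∈ Y then d - δ * (if i = ζ ψ₁ then 1 else 0) else a i := ⟨_, rfl⟩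
    have hvc : ∀ i, gco (θ i) ψ₁ = (v i : ℂ) := by
      intro i
      rw [hgco ψ₁ hψ₁ i, hv]
      simp only
      split_ifs <;> push_cast <;> ring
    have hsum : ∑ i, v i ^ 2 = (m : ℤ) + 1 := by
      have hc : ((∑ i, v i ^ 2 : ℤ) : ℂ) = (((m : ℤ) + 1 : ℤ) : ℂ) := by
        push_cast
        rw [← hG]
        apply Finset.sum_congr rfl
        intro i _
        rw [hvc i, map_intCast]
        ring
      exact_mod_cast hc
    rw [← hsum, ← Finset.sum_filter_add_sum_filter_not Finset.univ (· ∈ Y)]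
    congr 1
    · rw [Finset.filter_mem_eq_inter, Finset.univ_inter,
        ← Finset.add_sum_erase Y _ (hζY ψ₁ hψ₁)]
      congr 1
      · rw [hv]
        simp only
        rw [if_pos (hζY ψ₁ hψ₁), if_pos trivial, mul_one]
      · have h1 : ∀ i ∈ Y.erase (ζ ψ₁), v i ^ 2 = d ^ 2 := by
          intro i hi
          have hne : i ≠ ζ ψ₁ := (Finset.mem_erase.mp hi).1
          have hiY : i ∈ Y := (Finset.mem_erase.mp hi).2
          rw [hv]
          simp only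
          rw [if_pos hiY, if_neg hne, mul_zero, sub_zero]
        rw [Finset.sum_congr rfl h1, Finset.sum_const, Finset.card_erase_of_mem (hζY ψ₁ hψ₁),
          nsmul_eq_mul, Nat.cast_pred (Finset.card_pos.mpr ⟨_, hζY ψ₁ hψ₁⟩)]
    · apply Finset.sum_congr rfl
      intro i hi
      have hi' : i ∉ Y := (Finset.mem_filter.mp hi).2
      rw [hv]
      simp only
      rw [if_neg hi']
  · intro w hw
    have hconst : ∀ η ∈ Y, ∀ η' ∈ Y, w η = w η' := by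
      intro η hη η' hη'
      obtain ⟨ψ, hψ, hζψ⟩ := hYsurj η hη
      obtain ⟨ψ', hψ', hζψ'⟩ := hYsurj η' hη'
      have e1 := hE w hw ψ hψ
      have e2 := hE w hw ψ' hψ'
      rw [hζψ] at e1
      rw [hζψ'] at e2
      have e3 : (δ : ℂ) * (w η - w η') = 0 := by
        linear_combination e2 - e1
      rcases mul_eq_zero.mp e3 with h | h
      · exact absurd h hδ0
      · exact sub_eq_zero.mp h
    refine ⟨hconst, ?_⟩
    intro η hη
    obtain ⟨ψ, hψ, hζψ⟩ := hYsurj η hη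
    have e1 := hE w hw ψ hψ
    rw [hζψ] at e1
    have e2 : ∑ i ∈ Y, w i = (Y.card : ℂ) * w η := by
      rw [Finset.sum_congr rfl (fun i hi => hconst i hi η hη), Finset.sum_const, nsmul_eq_mul]
    rw [e2] at e1
    linear_combination e1

end Cfsg.Agent.Lib.Helper78
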