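import Mathlib
import Cfsg.Prelude.Def_Local
import Cfsg.Prelude.Def_Solvable

/-!
# Abelian Sylow subgroups whose normalizer acts semiregularly (helper78)

Let `P` be an abelian Sylow `p`-subgroup of `G` with `C_G(y) ∩ N_G(P) = C_G(P)` for all
`y ∈ P \ {1}`.  Then `C_G(y)` has a normal `p`-complement (Burnside), so its `p`-regular elements
lie in `O_{p'}(C_G(y))`.
-/

set_option autoImplicit false

namespace Cfsg.Agent.Lib.Helper78

open Cfsg

section Frob

variable {G : Type*} [Group G] [Finite G] {p : ℕ} [Fact p.Prime]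

theorem sylow_le_centralizer_singleton (P : Sylow p G) [IsMulCommutative P] {y : G}
    (hyP : y ∈ (P : Subgroup G)) : (P : Subgroup G) ≤ Subgroup.centralizer ({y} : Set G) := by
  intro a ha
  rw [Subgroup.mem_centralizer_singleton_iff]
  have := mul_comm' (⟨a, ha⟩ : (P : Subgroup G)) ⟨y, hyP⟩
  exact congrArg Subtype.val this

/-- Under the semiregularity hypothesis, the Sylow subgroup of `C_G(y)` is central in its
normalizer there. -/
theorem normalizer_le_centralizer_of_frob (P : Sylow p G) [IsMulCommutative P]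
    (hfrob : ∀ y : G, y ∈ (P : Subgroup G) → y ≠ 1 →
      Subgroup.centralizer ({y} : Set G) ⊓ Subgroup.normalizer ((P : Subgroup G) : Set G) =
        Subgroup.centralizer ((P : Subgroup G) : Set G))
    {y : G} (hyP : y ∈ (P : Subgroup G)) (hy1 : y ≠ 1) :
    Subgroup.normalizer (((P.subtype (sylow_le_centralizer_singleton P hyP) :
      Sylow p (Subgroup.centralizer ({y} : Set G))) :
        Subgroup (Subgroup.centralizer ({y} : Set G))) : Set (Subgroup.centralizer ({y} : Set G))) ≤
    Subgroup.centralizer (((P.subtype (sylow_le_centralizer_singleton P hyP) :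
      Sylow p (Subgroup.centralizer ({y} : Set G))) :
        Subgroup (Subgroup.centralizer ({y} : Set G))) : Set (Subgroup.centralizer ({y} : Set G))) := by
  have hPH := sylow_le_centralizer_singleton P hyP
  intro h hh
  rw [Subgroup.mem_normalizer_iff] at hh
  -- `h` normalizes `P` in `G`
  have hN : (h : G) ∈ Subgroup.normalizer ((P : Subgroup G) : Set G) := by
    rw [Subgroup.mem_normalizer_iff]
    intro x
    constructor
    · intro hx
      have := (hh ⟨x, hPH hx⟩).mp (by
        rw [Sylow.coe_subtype, Subgroup.mem_subgroupOf]; exact hx)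
      rw [Sylow.coe_subtype, Subgroup.mem_subgroupOf] at this
      exact this
    · intro hx
      have hxH : x ∈ Subgroup.centralizer ({y} : Set G) := by
        have h1 : (h : G)⁻¹ * ((h : G) * x * (h : G)⁻¹) * (h : G) ∈
            Subgroup.centralizer ({y} : Set G) :=
          Subgroup.mul_mem _ (Subgroup.mul_mem _ (Subgroup.inv_mem _ h.2) (hPH hx)) h.2
        have h2 : (h : G)⁻¹ * ((h : G) * x * (h : G)⁻¹) * (h : G) = x := by group
        rwa [h2] at h1
      have := (hh ⟨x, hxH⟩).mpr (by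
        rw [Sylow.coe_subtype, Subgroup.mem_subgroupOf]; exact hx)
      rw [Sylow.coe_subtype, Subgroup.mem_subgroupOf] at this
      exact this
  have hC : (h : G) ∈ Subgroup.centralizer ((P : Subgroup G) : Set G) := by
    rw [← hfrob y hyP hy1]
    exact ⟨h.2, hN⟩
  rw [Subgroup.mem_centralizer_iff]
  intro x hx
  rw [SetLike.mem_coe, Sylow.coe_subtype, Subgroup.mem_subgroupOf] at hx
  apply Subtype.ext
  exact (Subgroup.mem_centralizer_iff.mp hC) (x : G) hx

/-- `C_G(y)` has a normal `p`-complement. -/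
theorem exists_normal_pComplement_centralizer_of_frob (P : Sylow p G) [IsMulCommutative P]
    (hfrob : ∀ y : G, y ∈ (P : Subgroup G) → y ≠ 1 →
      Subgroup.centralizer ({y} : Set G) ⊓ Subgroup.normalizer ((P : Subgroup G) : Set G) =
        Subgroup.centralizer ((P : Subgroup G) : Set G))
    {y : G} (hyP : y ∈ (P : Subgroup G)) (hy1 : y ≠ 1) :
    ∃ K : Subgroup (Subgroup.centralizer ({y} : Set G)), K.Normal ∧ (Nat.card K).Coprime p ∧
      ∃ k : ℕ, K.index = p ^ k := by
  have hp : p.Prime := Fact.out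
  have hNC := normalizer_le_centralizer_of_frob P hfrob hyP hy1
  have hcompl := MonoidHom.ker_transferSylow_isComplement' _ hNC
  have hnd := MonoidHom.not_dvd_card_ker_transferSylow _ hNC
  refine ⟨(MonoidHom.transferSylow _ hNC).ker, inferInstance,
    ((Nat.Prime.coprime_iff_not_dvd hp).mpr hnd).symm, ?_⟩
  rw [hcompl.symm.index_eq_card]
  obtain ⟨k, hk⟩ := IsPGroup.iff_card.mp (P.subtype (sylow_le_centralizer_singleton P hyP)).2
  exact ⟨k, hk⟩

theorem exists_index_pPrimeCore_centralizer_of_frob (P : Sylow p G) [IsMulCommutative P]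
    (hfrob : ∀ y : G, y ∈ (P : Subgroup G) → y ≠ 1 →
      Subgroup.centralizer ({y} : Set G) ⊓ Subgroup.normalizer ((P : Subgroup G) : Set G) =
        Subgroup.centralizer ((P : Subgroup G) : Set G))
    {y : G} (hyP : y ∈ (P : Subgroup G)) (hy1 : y ≠ 1) :
    ∃ k : ℕ, (pPrimeCore p (Subgroup.centralizer ({y} : Set G))).index = p ^ k := by
  have hp : p.Prime := Fact.out
  obtain ⟨K, hKn, hKc, k, hk⟩ := exists_normal_pComplement_centralizer_of_frob P hfrob hyP hy1
  have hle : K ≤ pPrimeCore p (Subgroup.centralizer ({y} : Set G)) := le_sSup ⟨hKn, hKc⟩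
  have hdvd := Subgroup.index_dvd_of_le hle
  rw [hk] at hdvd
  obtain ⟨j, _, hj⟩ := (Nat.dvd_prime_pow hp).mp hdvd
  exact ⟨j, hj⟩

/-- The `p`-regular elements of `C_G(y)` lie in `O_{p'}(C_G(y))`. -/
theorem mem_centralizerPPrimeCore_of_frob (P : Sylow p G) [IsMulCommutative P]
    (hfrob : ∀ y : G, y ∈ (P : Subgroup G) → y ≠ 1 →
      Subgroup.centralizer ({y} : Set G) ⊓ Subgroup.normalizer ((P : Subgroup G) : Set G) =
        Subgroup.centralizer ((P : Subgroup G) : Set G))
    {y : G} (hyP : y ∈ (P : Subgroup G)) (hy1 : y ≠ 1) {w : G}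
    (hw : w ∈ Subgroup.centralizer ({y} : Set G)) (hwp : ¬ p ∣ orderOf w) :
    w ∈ centralizerPPrimeCore p y := by
  have hp : p.Prime := Fact.out
  obtain ⟨K, hKn, hKc, k, hk⟩ := exists_normal_pComplement_centralizer_of_frob P hfrob hyP hy1
  have hle : K ≤ pPrimeCore p (Subgroup.centralizer ({y} : Set G)) := le_sSup ⟨hKn, hKc⟩
  have hwK : (⟨w, hw⟩ : Subgroup.centralizer ({y} : Set G)) ∈ K := by
    rw [← QuotientGroup.eq_one_iff (N := K)]
    have h1 : orderOf (((⟨w, hw⟩ : Subgroup.centralizer ({y} : Set G)) :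
        Subgroup.centralizer ({y} : Set G) ⧸ K)) ∣ orderOf w := by
      have := orderOf_map_dvd (QuotientGroup.mk' K) (⟨w, hw⟩ : Subgroup.centralizer ({y} : Set G))
      rwa [Subgroup.orderOf_mk] at this
    have h2 : orderOf (((⟨w, hw⟩ : Subgroup.centralizer ({y} : Set G)) :
        Subgroup.centralizer ({y} : Set G) ⧸ K)) ∣ p ^ k := by
      rw [← hk, Subgroup.index_eq_card]; exact orderOf_dvd_natCard _
    have hcop : (orderOf w).Coprime (p ^ k) :=
      Nat.Coprime.pow_right _ ((Nat.Prime.coprime_iff_not_dvd hp).mpr hwp).symm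
    have h3 := Nat.dvd_gcd h1 h2
    rw [Nat.Coprime] at hcop
    rw [hcop] at h3
    exact orderOf_eq_one_iff.mp (Nat.dvd_one.mp h3)
  unfold centralizerPPrimeCore
  exact Subgroup.mem_map.mpr ⟨⟨w, hw⟩, hle hwK, rfl⟩

end Frob

end Cfsg.Agent.Lib.Helper78
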