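import Mathlib
import Cfsg.Agent.Lib.Helper78.WBOCor
import Cfsg.Prelude.Def_BlockRank

/-!
# The `p`-regular rank of a block

`blockRegProj p B` is the projection of `G → ℂ` onto the span of the `p`-regular parts of the
members of the block `B`; its trace gives `|G| l(B) = ∑_{x p-regular} ∑_{χ ∈ B} |χ(x)|²` (S4667).
-/

set_option autoImplicit false
set_option linter.unusedSectionVars false
set_option linter.style.haveILetI false

namespace Cfsg.Agent.Lib.Helper78

open Cfsg
open scoped ComplexConjugate

section Rank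

variable {G : Type*} [Group G] [Fintype G]

theorem pRegularPart_apply_of_regular (p : ℕ) (χ : G → ℂ) {x : G} (hx : ¬ p ∣ orderOf x) :
    pRegularPart p χ x = χ x := by
  unfold pRegularPart
  simp [IsPRegular, hx]

theorem pRegularPart_apply_of_singular (p : ℕ) (χ : G → ℂ) {x : G} (hx : p ∣ orderOf x) :
    pRegularPart p χ x = 0 := by
  unfold pRegularPart
  simp [IsPRegular, hx]

/-- The functional `f ↦ ∑_y f(y) conj (g y)`. -/
noncomputable def pairingFunctional (g : G → ℂ) : (G → ℂ) →ₗ[ℂ] ℂ where
  toFun f := ∑ y : G, f y * conj (g y)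
  map_add' f f' := by simp [add_mul, Finset.sum_add_distrib]
  map_smul' c f := by simp [Finset.mul_sum, mul_assoc]

open scoped Classical in
/-- The projection onto the span of the `p`-regular parts of the members of `B`. -/
noncomputable def blockRegProj (p : ℕ) (B : Set (IrrCharacter G)) : (G → ℂ) →ₗ[ℂ] (G → ℂ) :=
  (Fintype.card G : ℂ)⁻¹ • ∑ φ ∈ Finset.univ.filter (fun φ : IrrCharacter G => φ ∈ B),
    (pairingFunctional (pRegularPart p (φ : G → ℂ))).smulRight (pRegularPart p (φ : G → ℂ))

open scoped Classical in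
theorem blockRegProj_apply (p : ℕ) (B : Set (IrrCharacter G)) (f : G → ℂ) (x : G) :
    blockRegProj p B f x = (Fintype.card G : ℂ)⁻¹ *
      ∑ φ ∈ Finset.univ.filter (fun φ : IrrCharacter G => φ ∈ B),
        (∑ y : G, f y * conj (pRegularPart p (φ : G → ℂ) y)) * pRegularPart p (φ : G → ℂ) x := by
  simp [blockRegProj, pairingFunctional, Finset.sum_apply]

open scoped Classical in
theorem blockRegProj_pRegularPart {p : ℕ} [Fact p.Prime] {M : Ideal AlgInt}
    (hM : IsPModular p M) {B : Set (IrrCharacter G)} (hB : IsPBlock M B)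
    {ψ : IrrCharacter G} (hψ : ψ ∈ B) :
    blockRegProj p B (pRegularPart p (ψ : G → ℂ)) = pRegularPart p (ψ : G → ℂ) := by
  funext x
  rw [blockRegProj_apply]
  have hcard : (Fintype.card G : ℂ) ≠ 0 := by exact_mod_cast Fintype.card_ne_zero
  by_cases hx : p ∣ orderOf x
  · rw [pRegularPart_apply_of_singular p _ hx]
    rw [Finset.sum_eq_zero, mul_zero]
    intro φ _
    rw [pRegularPart_apply_of_singular p _ hx, mul_zero]
  · rw [pRegularPart_apply_of_regular p _ hx]
    have h1 := sum_pRegular_blockKernel_mul_irr hM hB ψ hx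
    rw [if_pos hψ] at h1
    have h2 : ∑ φ ∈ Finset.univ.filter (fun φ : IrrCharacter G => φ ∈ B),
        (∑ y : G, pRegularPart p (ψ : G → ℂ) y * conj (pRegularPart p (φ : G → ℂ) y)) *
          pRegularPart p (φ : G → ℂ) x =
        ∑ y ∈ Finset.univ.filter (fun y : G => ¬ p ∣ orderOf y),
          blockKernel B x y * (ψ : G → ℂ) y := by
      unfold blockKernel
      simp_rw [Finset.sum_mul]
      rw [Finset.sum_comm]
      rw [Finset.sum_filter]
      apply Finset.sum_congr rfl
      intro y _
      split_ifs with hy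
      · apply Finset.sum_eq_zero
        intro φ _
        rw [pRegularPart_apply_of_singular p _ hy, zero_mul, zero_mul]
      · apply Finset.sum_congr rfl
        intro φ _
        rw [pRegularPart_apply_of_regular p _ hy, pRegularPart_apply_of_regular p _ hy,
          pRegularPart_apply_of_regular p _ hx]
        ring
    rw [h2, h1]
    field_simp

open scoped Classical in
theorem blockRegProj_isProj {p : ℕ} [Fact p.Prime] {M : Ideal AlgInt}
    (hM : IsPModular p M) {B : Set (IrrCharacter G)} (hB : IsPBlock M B) :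
    LinearMap.IsProj
      (Submodule.span ℂ ((fun χ : IrrCharacter G => pRegularPart p (χ : G → ℂ)) '' B))
      (blockRegProj p B) := by
  constructor
  · intro f
    unfold blockRegProj
    rw [LinearMap.smul_apply, LinearMap.sum_apply]
    apply Submodule.smul_mem
    apply Submodule.sum_mem
    intro φ hφ
    simp only [Finset.mem_filter, Finset.mem_univ, true_and] at hφ
    rw [LinearMap.smulRight_apply]
    apply Submodule.smul_mem
    exact Submodule.subset_span ⟨φ, hφ, rfl⟩
  · intro f hf
    induction hf using Submodule.span_induction with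
    | mem f hf =>
      obtain ⟨ψ, hψ, rfl⟩ := hf
      exact blockRegProj_pRegularPart hM hB hψ
    | zero => exact map_zero _
    | add f g _ _ hf hg => rw [map_add, hf, hg]
    | smul c f _ hf => rw [map_smul, hf]

open scoped Classical in
theorem trace_blockRegProj (p : ℕ) (B : Set (IrrCharacter G)) :
    LinearMap.trace ℂ (G → ℂ) (blockRegProj p B) = (Fintype.card G : ℂ)⁻¹ *
      ∑ φ ∈ Finset.univ.filter (fun φ : IrrCharacter G => φ ∈ B),
        ∑ y : G, pRegularPart p (φ : G → ℂ) y * conj (pRegularPart p (φ : G → ℂ) y) := by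
  unfold blockRegProj
  rw [map_smul, map_sum, smul_eq_mul]
  congr 1
  apply Finset.sum_congr rfl
  intro φ _
  rw [LinearMap.trace_smulRight]
  rfl

/-- `|G| l(B) = ∑_{x p-regular} ∑_{χ ∈ B} χ(x) χ(x⁻¹)`. -/
theorem card_mul_blockRank {p : ℕ} [Fact p.Prime] {M : Ideal AlgInt}
    (hM : IsPModular p M) {B : Set (IrrCharacter G)} (hB : IsPBlock M B) :
    (Nat.card G : ℂ) * (blockRank p B : ℂ) =
      ∑ x : G, ∑ᶠ χ ∈ B, pRegularPart p (χ : G → ℂ) x * (χ : G → ℂ) x⁻¹ := by
  classical
  have hcard : (Fintype.card G : ℂ) ≠ 0 := by exact_mod_cast Fintype.card_ne_zero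
  have h1 := (blockRegProj_isProj hM hB).trace
  rw [trace_blockRegProj] at h1
  unfold blockRank
  rw [← h1, Nat.card_eq_fintype_card, ← mul_assoc, mul_inv_cancel₀ hcard, one_mul,
    Finset.sum_comm]
  apply Finset.sum_congr rfl
  intro x _
  rw [finsum_mem_eq_sum_of_subset (t := Finset.univ.filter (fun χ : IrrCharacter G => χ ∈ B))
    _ (by intro χ hχ; simpa using hχ.1) (by intro χ hχ; simpa using hχ)]
  apply Finset.sum_congr rfl
  intro χ _
  have hχ : IsCharacter G (χ : G → ℂ) := IsIrrCharacter.isCharacter χ.2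
  rw [IsCharacter.inv hχ x]
  by_cases hx : p ∣ orderOf x
  · rw [pRegularPart_apply_of_singular p _ hx, zero_mul, zero_mul]
  · rw [pRegularPart_apply_of_regular p _ hx]

end Rank

end Cfsg.Agent.Lib.Helper78
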