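import Mathlib
import Cfsg.Agent.Lib.Helper78.SMTOrtho2
import Cfsg.Agent.Lib.Helper78.WBORank
import Cfsg.Agent.S0919
import Cfsg.Prelude.Def_BrauerPairs
import Cfsg.Prelude.Def_BlockRank

/-!
# Subsections: the sum of the norms of the `(u, e)`-parts

For a `p`-element `u` with centralizer `H`, a block `e` of `H` inducing the block `B` of `G`:
`∑_{χ ∈ B} ∑_{s ∈ H p-regular} |χ^{(u,e)}(s)|² = |H| l(e)`.
-/

set_option autoImplicit false
set_option linter.unusedSectionVars false
set_option linter.style.haveILetI false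

namespace Cfsg.Agent.Lib.Helper78

open Cfsg MonoidAlgebra Finset Cfsg.Agent.Lib.Helper16
open scoped ComplexConjugate

section Basic

variable {G : Type*} [Group G]

theorem mem_centralizer_zpowers_iff (u g : G) :
    g ∈ Subgroup.centralizer (Subgroup.zpowers u : Set G) ↔ Commute u g := by
  rw [Subgroup.mem_centralizer_iff]
  constructor
  · intro h
    exact h u (Subgroup.mem_zpowers u)
  · intro h s hs
    obtain ⟨n, rfl⟩ := Subgroup.mem_zpowers_iff.mp hs
    exact (h.zpow_left n).eq

theorem commute_of_commute_mul {p : ℕ} [Fact p.Prime] {u c g : G} (huc : IsPPart p (u * c) u)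
    (hg : Commute g (u * c)) : Commute g u ∧ Commute g c := by
  have hu : u ∈ Subgroup.zpowers (u * c) := isPPart_mem_zpowers huc
  obtain ⟨n, hn⟩ := Subgroup.mem_zpowers_iff.mp hu
  have h1 : Commute g u := by
    rw [← hn]
    exact hg.zpow_right n
  refine ⟨h1, ?_⟩
  have : c = u⁻¹ * (u * c) := by rw [inv_mul_cancel_left]
  rw [this]
  exact h1.inv_right.mul_right hg

end Basic

section Sub

variable {G : Type*} [Group G] [Fintype G] {M : Ideal AlgInt} [hMp : M.IsPrime]

theorem isPPart_mul_of_mem {p : ℕ} (u : G) (hu : ∃ k : ℕ, orderOf u = p ^ k)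
    (c : Subgroup.centralizer (Subgroup.zpowers u : Set G)) (hc : ¬ p ∣ orderOf c) :
    IsPPart p (u * (c : G)) u := by
  refine ⟨(c : G), rfl, (mem_centralizer_zpowers_iff u c).mp c.2, hu, ?_⟩
  rw [Subgroup.orderOf_coe]
  exact hc

/-- Lemma B: conjugacy in the section. -/
theorem isConj_mul_iff {p : ℕ} [Fact p.Prime] (u : G) (hu : ∃ k : ℕ, orderOf u = p ^ k)
    (c c' : Subgroup.centralizer (Subgroup.zpowers u : Set G)) (hc : ¬ p ∣ orderOf c)
    (hc' : ¬ p ∣ orderOf c') :
    IsConj (u * (c' : G)) (u * (c : G)) ↔ IsConj c' c := by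
  constructor
  · intro h
    obtain ⟨g, hg⟩ := isConj_iff.mp h
    have h1 : IsPPart p (u * (c : G)) (g * u * g⁻¹) :=
      hg ▸ isPPart_conj (isPPart_mul_of_mem u hu c' hc') g
    have h2 : g * u * g⁻¹ = u := isPPart_unique h1 (isPPart_mul_of_mem u hu c hc)
    have hgu : Commute u g := by
      unfold Commute SemiconjBy
      calc u * g = (g * u * g⁻¹) * g := by rw [h2]
        _ = g * u := by group
    have hgH : g ∈ Subgroup.centralizer (Subgroup.zpowers u : Set G) :=
      (mem_centralizer_zpowers_iff u g).mpr hgu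
    apply isConj_iff.mpr
    refine ⟨⟨g, hgH⟩, ?_⟩
    apply Subtype.ext
    simp only [Subgroup.coe_mul, Subgroup.coe_inv]
    have : g * (u * (c' : G)) * g⁻¹ = u * (g * (c' : G) * g⁻¹) := by
      rw [← mul_assoc, ← hgu.eq]
      group
    rw [this] at hg
    exact mul_left_cancel hg
  · intro h
    obtain ⟨d, hd⟩ := isConj_iff.mp h
    apply isConj_iff.mpr
    refine ⟨(d : G), ?_⟩
    have hdu : Commute u (d : G) := (mem_centralizer_zpowers_iff u d).mp d.2
    have hd' : (d : G) * (c' : G) * (d : G)⁻¹ = (c : G) := by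
      have := congrArg Subtype.val hd
      simpa using this
    rw [← hd', ← mul_assoc, ← hdu.eq]
    group

/-- Lemma A: centralizer orders in the section. -/
theorem card_centralizer_mul_eq {p : ℕ} [Fact p.Prime] (u : G) (hu : ∃ k : ℕ, orderOf u = p ^ k)
    (c : Subgroup.centralizer (Subgroup.zpowers u : Set G)) (hc : ¬ p ∣ orderOf c) :
    Nat.card (Subgroup.centralizer ({u * (c : G)} : Set G)) =
      Nat.card (Subgroup.centralizer ({c} : Set (Subgroup.centralizer
        (Subgroup.zpowers u : Set G)))) := by
  have hpp := isPPart_mul_of_mem u hu c hc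
  have hcu : Commute u (c : G) := (mem_centralizer_zpowers_iff u c).mp c.2
  apply Nat.card_congr
  refine
    { toFun := fun g => ⟨⟨(g : G), ?_⟩, ?_⟩
      invFun := fun k => ⟨((k : Subgroup.centralizer (Subgroup.zpowers u : Set G)) : G), ?_⟩
      left_inv := fun g => rfl
      right_inv := fun k => rfl }
  · have hg : Commute (g : G) (u * (c : G)) := by
      have := g.2
      rw [Subgroup.mem_centralizer_iff] at this
      exact (this _ (Set.mem_singleton _)).symm
    exact (mem_centralizer_zpowers_iff u g).mpr (commute_of_commute_mul hpp hg).1.symm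
  · have hg : Commute (g : G) (u * (c : G)) := by
      have := g.2
      rw [Subgroup.mem_centralizer_iff] at this
      exact (this _ (Set.mem_singleton _)).symm
    rw [Subgroup.mem_centralizer_iff]
    intro s hs
    rw [Set.mem_singleton_iff] at hs
    rw [hs]
    apply Subtype.ext
    exact (commute_of_commute_mul hpp hg).2.symm.eq
  · have hk := k.2
    rw [Subgroup.mem_centralizer_iff] at hk
    have hkc : (c : G) * (k : Subgroup.centralizer (Subgroup.zpowers u : Set G)) =
        (k : Subgroup.centralizer (Subgroup.zpowers u : Set G)) * (c : G) := by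
      have := congrArg Subtype.val (hk c (Set.mem_singleton c))
      simpa using this
    have hku : Commute u ((k : Subgroup.centralizer (Subgroup.zpowers u : Set G)) : G) :=
      (mem_centralizer_zpowers_iff u _).mp (k : Subgroup.centralizer
        (Subgroup.zpowers u : Set G)).2
    rw [Subgroup.mem_centralizer_iff]
    intro s hs
    rw [Set.mem_singleton_iff] at hs
    rw [hs, mul_assoc, hkc, ← mul_assoc, hku.eq, mul_assoc]

/-- Lemma C: the second orthogonality sums of `G` on the section and of `H` agree. -/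
theorem sum_irr_section_eq {p : ℕ} [Fact p.Prime] (u : G) (hu : ∃ k : ℕ, orderOf u = p ^ k)
    [Fintype (Subgroup.centralizer (Subgroup.zpowers u : Set G))]
    (c c' : Subgroup.centralizer (Subgroup.zpowers u : Set G)) (hc : ¬ p ∣ orderOf c)
    (hc' : ¬ p ∣ orderOf c') :
    ∑ χ : IrrCharacter G, (χ : G → ℂ) (u * (c : G)) * conj ((χ : G → ℂ) (u * (c' : G))) =
      ∑ ξ : IrrCharacter (Subgroup.centralizer (Subgroup.zpowers u : Set G)),
        (ξ : Subgroup.centralizer (Subgroup.zpowers u : Set G) → ℂ) c *
          conj ((ξ : Subgroup.centralizer (Subgroup.zpowers u : Set G) → ℂ) c') := by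
  classical
  rw [sum_irr_mul_conj_eq, sum_irr_mul_conj_eq, card_centralizer_mul_eq u hu c' hc']
  congr 1
  unfold classIndicator
  by_cases h : IsConj c' c
  · rw [if_pos h, if_pos ((isConj_mul_iff u hu c c' hc hc').mpr h)]
  · rw [if_neg h, if_neg (fun h' => h ((isConj_mul_iff u hu c c' hc hc').mp h'))]

theorem isClassFunction_twist' (u : G) {ϑ : G → ℂ} (hϑ : IsClassFunction G ϑ) :
    IsClassFunction (Subgroup.centralizer (Subgroup.zpowers u : Set G))
      (fun c : Subgroup.centralizer (Subgroup.zpowers u : Set G) => ϑ (u * (c : G))) := by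
  intro c d
  have hd : Commute u (d : G) := (mem_centralizer_zpowers_iff u d).mp d.2
  have h1 := hϑ (u * (c : G)) (d : G)
  simp only [Subgroup.coe_mul, Subgroup.coe_inv]
  rw [← h1]
  congr 1
  rw [mul_assoc (d : G), ← mul_assoc (d : G) u, ← hd.eq]
  group

/-- Lemma D: the second main theorem for `H = C_G(⟨u⟩)`. -/
theorem blockPart_twist_eq_zero_of_not_mem {p : ℕ} [Fact p.Prime] (hM : IsPModular p M) (u : G)
    (hu : ∃ k : ℕ, orderOf u = p ^ k)
    [Fintype (Subgroup.centralizer (Subgroup.zpowers u : Set G))]
    {B : Set (IrrCharacter G)}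
    {e : Set (IrrCharacter (Subgroup.centralizer (Subgroup.zpowers u : Set G)))}
    (hind : IsInducedBlock M (Subgroup.centralizer (Subgroup.zpowers u : Set G)) e B)
    (χ : IrrCharacter G) (hχ : χ ∉ B)
    (s : Subgroup.centralizer (Subgroup.zpowers u : Set G)) (hs : ¬ p ∣ orderOf s) :
    blockPart e (fun c : Subgroup.centralizer (Subgroup.zpowers u : Set G) =>
      (χ : G → ℂ) (u * (c : G))) s = 0 := by
  have huH : u ∈ Subgroup.centralizer (Subgroup.zpowers u : Set G) :=
    (mem_centralizer_zpowers_iff u u).mpr (Commute.refl u)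
  have hpp : IsPPart p (((⟨u, huH⟩ : Subgroup.centralizer (Subgroup.zpowers u : Set G)) * s :
      Subgroup.centralizer (Subgroup.zpowers u : Set G)) : G) u :=
    isPPart_mul_of_mem u hu s hs
  have hC : Subgroup.centralizer ({u} : Set G) ≤
      Subgroup.centralizer (Subgroup.zpowers u : Set G) := by
    intro g hg
    rw [Subgroup.mem_centralizer_iff] at hg
    exact (mem_centralizer_zpowers_iff u g).mpr (hg u (Set.mem_singleton u))
  have key := smt_idempotent hM _ hind (⟨u, huH⟩ * s) hpp hC χ hχ
  rw [blockPart_eq_sum_blockCoeff e (isClassFunction_twist' u (isClassFunction_irr χ)) s, ← key]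
  apply Finset.sum_congr rfl
  intro k _
  have hk : Commute u (k : G) := (mem_centralizer_zpowers_iff u k).mp k.2
  simp only [Subgroup.coe_mul]
  have e1 : u * ((k : G) * (s : G)) = (k : G) * (u * (s : G)) := by
    rw [← mul_assoc, hk.eq, mul_assoc]
  rw [e1]

open scoped Classical in
/-- Lemma E: a Brauer pair `(⟨u⟩, e)` of `B` gives `e^G = B`. -/
theorem isInducedBlock_of_isBrauerPairOf {p : ℕ} [Fact p.Prime] (hM : IsPModular p M) (u : G)
    {B : Set (IrrCharacter G)}
    {e : Set (IrrCharacter (Subgroup.centralizer (Subgroup.zpowers u : Set G)))}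
    (hBe : IsBrauerPairOf p M B (Subgroup.zpowers u) e) :
    IsInducedBlock M (Subgroup.centralizer (Subgroup.zpowers u : Set G)) e B := by
  haveI : Fintype (Subgroup.centralizer (Subgroup.zpowers u : Set G)) := Fintype.ofFinite _
  obtain ⟨⟨hQ, he⟩, hB, hω⟩ := hBe
  have hPH : Subgroup.zpowers u ≤ Subgroup.centralizer (Subgroup.zpowers u : Set G) := by
    rw [Subgroup.zpowers_le]
    exact (mem_centralizer_zpowers_iff u u).mpr (Commute.refl u)
  obtain ⟨B₁, hind⟩ := Cfsg.Agent.S0919.result p M hM (Subgroup.zpowers u)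
    (Subgroup.centralizer (Subgroup.zpowers u : Set G)) hQ hPH le_rfl
    (Subgroup.centralizer_le_normalizer _) e he
  obtain ⟨ξ, hξ⟩ := IsPBlock_nonempty hMp.ne_top he
  obtain ⟨χ₁, hχ₁⟩ := IsPBlock_nonempty hMp.ne_top hind.2.1
  have hzc : blockElt B ∈ Subalgebra.center ℂ (MonoidAlgebra ℂ G) := blockElt_mem_center B
  have hzo : (⟨blockElt B, hzc⟩ : Subalgebra.center ℂ (MonoidAlgebra ℂ G)) ∈ centerOrder G M := by
    intro g
    show MemLocalRing M ((blockElt B).coeff g)
    rw [coeff_blockElt]
    exact blockCoeff_memLocalRing hB g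
  have h1 := isInducedBlock_congr _ hind hξ hχ₁ hzo
  rw [omegaHom_apply] at h1
  change MemLocalIdeal M (omega (ξ : Subgroup.centralizer (Subgroup.zpowers u : Set G) → ℂ)
    (resAlg _ (blockElt B)) - omega (χ₁ : G → ℂ) (blockElt B)) at h1
  have h2 : omega (ξ : Subgroup.centralizer (Subgroup.zpowers u : Set G) → ℂ)
      (resAlg _ (blockElt B)) = brauerOmega (Subgroup.zpowers u) (blockCoeff B)
        (ξ : Subgroup.centralizer (Subgroup.zpowers u : Set G) → ℂ) := by
    unfold omega brauerOmega
    rw [finsum_eq_sum_of_fintype, Finset.sum_div]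
    apply Finset.sum_congr rfl
    intro x _
    rw [coeff_resAlg, coeff_blockElt]
  rw [h2, omega_blockElt] at h1
  have h3 := hω ξ hξ
  by_cases hmem : χ₁ ∈ B
  · have := IsPBlock_eq_of_mem hind.2.1 hB hχ₁ hmem
    exact this ▸ hind
  · exfalso
    rw [if_neg hmem, sub_zero] at h1
    have := memLocalIdeal_sub h1 h3
    rw [sub_sub_cancel] at this
    exact one_not_memLocalIdeal this

end Sub

section Kernel

variable {H : Type*} [Group H] [Fintype H]

open scoped Classical in
theorem blockPart_eq_sum_blockKernel (b : Set (IrrCharacter H)) (ψ : H → ℂ) (y : H) :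
    blockPart b ψ y = (Nat.card H : ℂ)⁻¹ * ∑ c : H, ψ c * blockKernel b y c := by
  rw [blockPart_apply]
  have hL : ∀ ξ : IrrCharacter H, classInner ψ (ξ : H → ℂ) * (ξ : H → ℂ) y =
      ∑ c : H, (Nat.card H : ℂ)⁻¹ * ψ c * conj ((ξ : H → ℂ) c) * (ξ : H → ℂ) y := by
    intro ξ
    unfold classInner
    rw [Finset.mul_sum, Finset.sum_mul]
    apply Finset.sum_congr rfl
    intro c _
    ring
  have hR : ∀ c : H, ψ c * blockKernel b y c =
      ∑ ξ ∈ Finset.univ.filter (fun ξ : IrrCharacter H => ξ ∈ b),
        ψ c * ((ξ : H → ℂ) y * conj ((ξ : H → ℂ) c)) := by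
    intro c
    unfold blockKernel
    rw [Finset.mul_sum]
  rw [Finset.sum_congr rfl (fun ξ _ => hL ξ), Finset.sum_comm, Finset.mul_sum]
  apply Finset.sum_congr rfl
  intro c _
  rw [hR, Finset.mul_sum]
  apply Finset.sum_congr rfl
  intro ξ _
  ring

theorem blockKernel_inv_inv (b : Set (IrrCharacter H)) (x y : H) :
    blockKernel b x⁻¹ y⁻¹ = blockKernel b y x := by
  unfold blockKernel
  apply Finset.sum_congr rfl
  intro ξ _
  rw [IsCharacter.inv (IsIrrCharacter.isCharacter ξ.2) x,
    IsCharacter.inv (IsIrrCharacter.isCharacter ξ.2) y, Complex.conj_conj, mul_comm]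

end Kernel

section Sub2

variable {G : Type*} [Group G] [Fintype G] {M : Ideal AlgInt} [hMp : M.IsPrime]

/-- Lemma G: the `(u⁻¹, e)`-part at `s⁻¹` is the conjugate of the `(u, e)`-part at `s`. -/
theorem blockPart_twist_inv (u : G)
    [Fintype (Subgroup.centralizer (Subgroup.zpowers u : Set G))]
    (e : Set (IrrCharacter (Subgroup.centralizer (Subgroup.zpowers u : Set G))))
    (χ : IrrCharacter G) (s : Subgroup.centralizer (Subgroup.zpowers u : Set G)) :
    blockPart e (fun c : Subgroup.centralizer (Subgroup.zpowers u : Set G) =>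
      (χ : G → ℂ) (u⁻¹ * (c : G))) s⁻¹ =
    conj (blockPart e (fun c : Subgroup.centralizer (Subgroup.zpowers u : Set G) =>
      (χ : G → ℂ) (u * (c : G))) s) := by
  rw [blockPart_eq_sum_blockKernel, blockPart_eq_sum_blockKernel, map_mul, map_sum]
  have h1 : conj ((Nat.card (Subgroup.centralizer (Subgroup.zpowers u : Set G)) : ℂ)⁻¹) =
      (Nat.card (Subgroup.centralizer (Subgroup.zpowers u : Set G)) : ℂ)⁻¹ := by
    rw [map_inv₀, Complex.conj_natCast]
  rw [h1]
  congr 1
  refine Fintype.sum_equiv (Equiv.inv _) _ _ ?_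
  intro c
  simp only [Equiv.inv_apply]
  have hc : Commute u (c : G) := (mem_centralizer_zpowers_iff u c).mp c.2
  rw [map_mul, blockKernel_conj, ← blockKernel_inv_inv e s c⁻¹, inv_inv,
    ← IsCharacter.inv (IsIrrCharacter.isCharacter χ.2)]
  congr 2
  simp only [Subgroup.coe_inv]
  rw [mul_inv_rev, inv_inv, (hc.inv_left).eq]

open scoped Classical in
/-- Lemma F: the kernel identity. -/
theorem sum_irr_blockPart_twist_mul_conj {p : ℕ} [Fact p.Prime] (hM : IsPModular p M) (u : G)
    (hu : ∃ k : ℕ, orderOf u = p ^ k)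
    [Fintype (Subgroup.centralizer (Subgroup.zpowers u : Set G))]
    {e : Set (IrrCharacter (Subgroup.centralizer (Subgroup.zpowers u : Set G)))}
    (he : IsPBlock M e)
    (s : Subgroup.centralizer (Subgroup.zpowers u : Set G)) (hs : ¬ p ∣ orderOf s) :
    ∑ χ : IrrCharacter G,
      blockPart e (fun c : Subgroup.centralizer (Subgroup.zpowers u : Set G) =>
        (χ : G → ℂ) (u * (c : G))) s *
      conj (blockPart e (fun c : Subgroup.centralizer (Subgroup.zpowers u : Set G) =>
        (χ : G → ℂ) (u * (c : G))) s) = blockKernel e s s := by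
  obtain ⟨N, hN⟩ : ∃ N : ℂ, N = (Nat.card (Subgroup.centralizer (Subgroup.zpowers u : Set G)) : ℂ) :=
    ⟨_, rfl⟩
  have hN0 : N ≠ 0 := by
    rw [hN]
    exact_mod_cast Nat.card_pos.ne'
  have hNc : conj N⁻¹ = N⁻¹ := by rw [hN, map_inv₀, Complex.conj_natCast]
  -- expand
  have hexp : ∀ χ : IrrCharacter G,
      blockPart e (fun c : Subgroup.centralizer (Subgroup.zpowers u : Set G) =>
        (χ : G → ℂ) (u * (c : G))) s *
      conj (blockPart e (fun c : Subgroup.centralizer (Subgroup.zpowers u : Set G) =>
        (χ : G → ℂ) (u * (c : G))) s) =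
      N⁻¹ * N⁻¹ * ∑ c : Subgroup.centralizer (Subgroup.zpowers u : Set G),
        ∑ c' : Subgroup.centralizer (Subgroup.zpowers u : Set G),
          blockKernel e s c * conj (blockKernel e s c') *
            ((χ : G → ℂ) (u * (c : G)) * conj ((χ : G → ℂ) (u * (c' : G)))) := by
    intro χ
    rw [blockPart_eq_sum_blockKernel, ← hN, map_mul, hNc, map_sum]
    rw [mul_mul_mul_comm, Finset.sum_mul_sum]
    congr 1
    apply Finset.sum_congr rfl
    intro c _
    apply Finset.sum_congr rfl
    intro c' _
    rw [map_mul]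
    ring
  rw [Finset.sum_congr rfl (fun χ _ => hexp χ), ← Finset.mul_sum]
  -- replace the orthogonality sums
  have hrepl : ∀ c c' : Subgroup.centralizer (Subgroup.zpowers u : Set G),
      blockKernel e s c * conj (blockKernel e s c') *
        ∑ χ : IrrCharacter G, (χ : G → ℂ) (u * (c : G)) * conj ((χ : G → ℂ) (u * (c' : G))) =
      blockKernel e s c * conj (blockKernel e s c') *
        ∑ ξ : IrrCharacter (Subgroup.centralizer (Subgroup.zpowers u : Set G)),
          (ξ : Subgroup.centralizer (Subgroup.zpowers u : Set G) → ℂ) c *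
            conj ((ξ : Subgroup.centralizer (Subgroup.zpowers u : Set G) → ℂ) c') := by
    intro c c'
    by_cases hc : p ∣ orderOf c
    · rw [blockKernel_eq_zero_right hM he hs hc, zero_mul, zero_mul, zero_mul]
    · by_cases hc' : p ∣ orderOf c'
      · rw [blockKernel_eq_zero_right hM he hs hc', map_zero, mul_zero, zero_mul, zero_mul]
      · rw [sum_irr_section_eq u hu c c' hc hc']
  have hswap : ∑ χ : IrrCharacter G,
      ∑ c : Subgroup.centralizer (Subgroup.zpowers u : Set G),
        ∑ c' : Subgroup.centralizer (Subgroup.zpowers u : Set G),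
          blockKernel e s c * conj (blockKernel e s c') *
            ((χ : G → ℂ) (u * (c : G)) * conj ((χ : G → ℂ) (u * (c' : G)))) =
      ∑ c : Subgroup.centralizer (Subgroup.zpowers u : Set G),
        ∑ c' : Subgroup.centralizer (Subgroup.zpowers u : Set G),
          blockKernel e s c * conj (blockKernel e s c') *
            ∑ ξ : IrrCharacter (Subgroup.centralizer (Subgroup.zpowers u : Set G)),
              (ξ : Subgroup.centralizer (Subgroup.zpowers u : Set G) → ℂ) c *
                conj ((ξ : Subgroup.centralizer (Subgroup.zpowers u : Set G) → ℂ) c') := by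
    rw [Finset.sum_comm]
    apply Finset.sum_congr rfl
    intro c _
    rw [Finset.sum_comm]
    apply Finset.sum_congr rfl
    intro c' _
    rw [← Finset.mul_sum]
    exact hrepl c c'
  rw [hswap]
  -- collect
  have hcollect : ∑ c : Subgroup.centralizer (Subgroup.zpowers u : Set G),
      ∑ c' : Subgroup.centralizer (Subgroup.zpowers u : Set G),
        blockKernel e s c * conj (blockKernel e s c') *
          ∑ ξ : IrrCharacter (Subgroup.centralizer (Subgroup.zpowers u : Set G)),
            (ξ : Subgroup.centralizer (Subgroup.zpowers u : Set G) → ℂ) c *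
              conj ((ξ : Subgroup.centralizer (Subgroup.zpowers u : Set G) → ℂ) c') =
      ∑ ξ : IrrCharacter (Subgroup.centralizer (Subgroup.zpowers u : Set G)),
        (∑ c : Subgroup.centralizer (Subgroup.zpowers u : Set G), blockKernel e s c *
          (ξ : Subgroup.centralizer (Subgroup.zpowers u : Set G) → ℂ) c) *
        conj (∑ c' : Subgroup.centralizer (Subgroup.zpowers u : Set G), blockKernel e s c' *
          (ξ : Subgroup.centralizer (Subgroup.zpowers u : Set G) → ℂ) c') := by
    have hR : ∀ ξ : IrrCharacter (Subgroup.centralizer (Subgroup.zpowers u : Set G)),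
        (∑ c : Subgroup.centralizer (Subgroup.zpowers u : Set G), blockKernel e s c *
          (ξ : Subgroup.centralizer (Subgroup.zpowers u : Set G) → ℂ) c) *
        conj (∑ c' : Subgroup.centralizer (Subgroup.zpowers u : Set G), blockKernel e s c' *
          (ξ : Subgroup.centralizer (Subgroup.zpowers u : Set G) → ℂ) c') =
        ∑ c : Subgroup.centralizer (Subgroup.zpowers u : Set G),
          ∑ c' : Subgroup.centralizer (Subgroup.zpowers u : Set G),
            blockKernel e s c * conj (blockKernel e s c') *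
              ((ξ : Subgroup.centralizer (Subgroup.zpowers u : Set G) → ℂ) c *
                conj ((ξ : Subgroup.centralizer (Subgroup.zpowers u : Set G) → ℂ) c')) := by
      intro ξ
      rw [map_sum, Finset.sum_mul_sum]
      apply Finset.sum_congr rfl
      intro c _
      apply Finset.sum_congr rfl
      intro c' _
      rw [map_mul]
      ring
    rw [Finset.sum_congr rfl (fun ξ _ => hR ξ)]
    symm
    rw [Finset.sum_comm]
    apply Finset.sum_congr rfl
    intro c _
    rw [Finset.sum_comm]
    apply Finset.sum_congr rfl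
    intro c' _
    rw [Finset.mul_sum]
  rw [hcollect]
  simp_rw [sum_blockKernel_mul_irr]
  unfold blockKernel
  rw [Finset.sum_filter, Finset.mul_sum]
  apply Finset.sum_congr rfl
  intro ξ _
  split_ifs with hξ
  · rw [map_mul, ← Nat.card_eq_fintype_card, ← hN]
    have : conj N = N := by rw [hN, Complex.conj_natCast]
    rw [this]
    field_simp
  · simp

open scoped Classical in
/-- **Subsection norms.** -/
theorem sum_subsection_norms {p : ℕ} [Fact p.Prime] (hM : IsPModular p M) (u : G)
    (hu : ∃ k : ℕ, orderOf u = p ^ k)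
    [Fintype (Subgroup.centralizer (Subgroup.zpowers u : Set G))]
    {B : Set (IrrCharacter G)}
    {e : Set (IrrCharacter (Subgroup.centralizer (Subgroup.zpowers u : Set G)))}
    (hBe : IsBrauerPairOf p M B (Subgroup.zpowers u) e) :
    ∑ χ ∈ Finset.univ.filter (fun χ : IrrCharacter G => χ ∈ B),
      ∑ s : Subgroup.centralizer (Subgroup.zpowers u : Set G),
        pRegularPart p (blockPart e (fun c : Subgroup.centralizer (Subgroup.zpowers u : Set G) =>
          (χ : G → ℂ) (u * (c : G)))) s *
        blockPart e (fun c : Subgroup.centralizer (Subgroup.zpowers u : Set G) =>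
          (χ : G → ℂ) (u⁻¹ * (c : G))) s⁻¹ =
      (Nat.card (Subgroup.centralizer (Subgroup.zpowers u : Set G)) : ℂ) * (blockRank p e : ℂ) := by
  have hind := isInducedBlock_of_isBrauerPairOf hM u hBe
  have he : IsPBlock M e := hBe.1.2
  -- the summand
  have hterm : ∀ (χ : IrrCharacter G) (s : Subgroup.centralizer (Subgroup.zpowers u : Set G)),
      pRegularPart p (blockPart e (fun c : Subgroup.centralizer (Subgroup.zpowers u : Set G) =>
          (χ : G → ℂ) (u * (c : G)))) s *
        blockPart e (fun c : Subgroup.centralizer (Subgroup.zpowers u : Set G) =>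
          (χ : G → ℂ) (u⁻¹ * (c : G))) s⁻¹ =
      if p ∣ orderOf s then 0 else
        blockPart e (fun c : Subgroup.centralizer (Subgroup.zpowers u : Set G) =>
          (χ : G → ℂ) (u * (c : G))) s *
        conj (blockPart e (fun c : Subgroup.centralizer (Subgroup.zpowers u : Set G) =>
          (χ : G → ℂ) (u * (c : G))) s) := by
    intro χ s
    split_ifs with hs
    · rw [pRegularPart_apply_of_singular p _ hs, zero_mul]
    · rw [pRegularPart_apply_of_regular p _ hs, blockPart_twist_inv]
  simp_rw [hterm]
  rw [Finset.sum_comm]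
  -- extend the sum over `B` to all irreducible characters
  have hext : ∀ s : Subgroup.centralizer (Subgroup.zpowers u : Set G),
      ∑ χ ∈ Finset.univ.filter (fun χ : IrrCharacter G => χ ∈ B),
        (if p ∣ orderOf s then 0 else
          blockPart e (fun c : Subgroup.centralizer (Subgroup.zpowers u : Set G) =>
            (χ : G → ℂ) (u * (c : G))) s *
          conj (blockPart e (fun c : Subgroup.centralizer (Subgroup.zpowers u : Set G) =>
            (χ : G → ℂ) (u * (c : G))) s)) =
      if p ∣ orderOf s then 0 else blockKernel e s s := by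
    intro s
    split_ifs with hs
    · simp
    · rw [← sum_irr_blockPart_twist_mul_conj hM u hu he s hs, Finset.sum_filter]
      apply Finset.sum_congr rfl
      intro χ _
      split_ifs with hχ
      · rfl
      · rw [blockPart_twist_eq_zero_of_not_mem hM u hu hind χ hχ s hs, zero_mul]
  rw [Finset.sum_congr rfl (fun s _ => hext s), card_mul_blockRank hM he]
  apply Finset.sum_congr rfl
  intro s _
  rw [finsum_mem_eq_sum_of_subset (t := Finset.univ.filter (fun ξ : IrrCharacter
      (Subgroup.centralizer (Subgroup.zpowers u : Set G)) => ξ ∈ e))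
    _ (by intro χ hχ; simpa using hχ.1) (by intro χ hχ; simpa using hχ)]
  split_ifs with hs
  · symm
    apply Finset.sum_eq_zero
    intro ξ _
    rw [pRegularPart_apply_of_singular p _ hs, zero_mul]
  · unfold blockKernel
    apply Finset.sum_congr rfl
    intro ξ _
    rw [pRegularPart_apply_of_regular p _ hs, IsCharacter.inv (IsIrrCharacter.isCharacter ξ.2)]

end Sub2

end Cfsg.Agent.Lib.Helper78
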