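import Mathlib
import Cfsg.Agent.Lib.Helper78.SMTOrtho2
import Cfsg.Agent.Lib.Helper78.AbelianSylowFrob
import Cfsg.Agent.Lib.Helper78.CharMore
import Cfsg.Agent.Lib.Helper78.BlockSums
import Cfsg.Agent.Lib.Helper78.ExcGram
import Cfsg.Agent.Lib.Helper74.PrincipalSMT
import Cfsg.Agent.Lib.Helper74.PrincipalNonvanish
import Cfsg.Agent.Lib.Helper80.CharBasic
import Cfsg.Agent.S0947
import Cfsg.Agent.S0942

/-!
# Principal block of a group with an abelian Sylow subgroup acted on semiregularly (helper78)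

Block-theoretic inputs for the theory of exceptional characters: `P` is an abelian Sylow
`p`-subgroup of `G` with `C_G(y) ∩ N_G(P) = C_G(P)` for all `1 ≠ y ∈ P`.

* `sum_principalBlock_mul_conj`: `∑_{χ ∈ B₀} χ(y) conj χ(y') = |P|` or `0` according as `y, y'`
  are `N_G(P)`-conjugate or not (`y, y' ∈ P \ {1}`);
* `sum_principalBlock_mul_pRegular`: `∑_{χ ∈ B₀} χ(y) χ(g) = 0` for `p`-regular `g`;
* `principalBlock_apply_eq_of_isPPart`: `χ(z) = χ(y)` if `y` is the `p`-part of `z`;
* `principalBlock_apply_ne_zero`; `exists_int_gco_restrict`.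
-/

set_option autoImplicit false
set_option linter.unusedSectionVars false

namespace Cfsg.Agent.Lib.Helper78

open Cfsg
open scoped ComplexConjugate

universe u

section Basic

variable {G : Type u} [Group G] {p : ℕ} [Fact p.Prime]

theorem exists_orderOf_eq_of_mem_sylow (P : Sylow p G) {y : G} (hy : y ∈ (P : Subgroup G)) :
    ∃ k : ℕ, orderOf y = p ^ k := by
  obtain ⟨k, hk⟩ := (IsPGroup.iff_orderOf.mp P.isPGroup') ⟨y, hy⟩
  exact ⟨k, by rw [← hk, Subgroup.orderOf_mk]⟩

theorem isPPart_self_of_orderOf {y : G} (hy : ∃ k : ℕ, orderOf y = p ^ k) : IsPPart p y y := by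
  refine ⟨1, mul_one y, Commute.one_right y, hy, ?_⟩
  rw [orderOf_one]
  exact (Fact.out : p.Prime).one_lt.ne' ∘ Nat.dvd_one.mp

theorem isPPart_one_of_not_dvd {g : G} (hg : ¬ p ∣ orderOf g) : IsPPart p g 1 := by
  refine ⟨g, one_mul g, Commute.one_left g, ⟨0, ?_⟩, hg⟩
  rw [orderOf_one, pow_zero]

theorem not_isConj_one_of_ne_one {y : G} (hy : y ≠ 1) : ¬ IsConj y 1 := by
  intro h
  exact hy (isConj_one_left.mp h)

end Basic

section Block

variable {G : Type u} [Group G] [Finite G] {p : ℕ} [Fact p.Prime] {M : Ideal AlgInt}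

theorem card_sylow_eq_pow_factorization_centralizer (P : Sylow p G) [IsMulCommutative P] {y : G}
    (hyP : y ∈ (P : Subgroup G)) :
    p ^ (Nat.card (Subgroup.centralizer ({y} : Set G))).factorization p = Nat.card P := by
  have hp : p.Prime := Fact.out
  rw [Sylow.card_eq_multiplicity P]
  congr 1
  have h1 : Nat.card P ∣ Nat.card (Subgroup.centralizer ({y} : Set G)) :=
    Subgroup.card_dvd_of_le (sylow_le_centralizer_singleton P hyP)
  have h2 : Nat.card (Subgroup.centralizer ({y} : Set G)) ∣ Nat.card G :=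
    Subgroup.card_subgroup_dvd_card _
  have hC0 : Nat.card (Subgroup.centralizer ({y} : Set G)) ≠ 0 := Nat.card_pos.ne'
  have hG0 : Nat.card G ≠ 0 := Nat.card_pos.ne'
  rw [Sylow.card_eq_multiplicity P] at h1
  apply le_antisymm
  · exact (Nat.factorization_le_iff_dvd hC0 hG0).mpr h2 p
  · exact (hp.pow_dvd_iff_le_factorization hC0).mp h1

open scoped Classical in
theorem sum_principalBlock_norm_sq (hM : IsPModular p M) (P : Sylow p G) [IsMulCommutative P]
    (hfrob : ∀ y : G, y ∈ (P : Subgroup G) → y ≠ 1 →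
      Subgroup.centralizer ({y} : Set G) ⊓ Subgroup.normalizer ((P : Subgroup G) : Set G) =
        Subgroup.centralizer ((P : Subgroup G) : Set G))
    {y : G} (hyP : y ∈ (P : Subgroup G)) (hy1 : y ≠ 1) :
    ∑ χ ∈ Finset.univ.filter (fun χ : IrrCharacter G => χ ∈ principalBlock M G),
      (χ : G → ℂ) y * conj ((χ : G → ℂ) y) = (Nat.card P : ℂ) := by
  have hp : p.Prime := Fact.out
  have hyk := exists_orderOf_eq_of_mem_sylow P hyP
  have h1 : ¬ p ∣ orderOf (1 : Subgroup.centralizer ({y} : Set G)) := by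
    rw [orderOf_one]
    exact hp.one_lt.ne' ∘ Nat.dvd_one.mp
  have h := (Cfsg.Agent.S0947.result p M hM y hyk hy1 1 h1).2
    (exists_index_pPrimeCore_centralizer_of_frob P hfrob hyP hy1)
  rw [card_sylow_eq_pow_factorization_centralizer P hyP, finsum_mem_eq_sum_filter_univ] at h
  have h2 : ((∑ ζ ∈ Finset.univ.filter (· ∈ principalBlock M G),
      ‖(ζ : G → ℂ) (y * ((1 : Subgroup.centralizer ({y} : Set G)) : G))‖ ^ 2 : ℝ) : ℂ) =
      ((Nat.card P : ℝ) : ℂ) := by
    rw [h]
  rw [Complex.ofReal_natCast] at h2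
  rw [← h2]
  push_cast
  apply Finset.sum_congr rfl
  intro χ _
  rw [mul_one, Complex.mul_conj']

open scoped Classical in
/-- **The kernel relation.** -/
theorem sum_principalBlock_mul_conj (hM : IsPModular p M) (P : Sylow p G) [IsMulCommutative P]
    (hfrob : ∀ y : G, y ∈ (P : Subgroup G) → y ≠ 1 →
      Subgroup.centralizer ({y} : Set G) ⊓ Subgroup.normalizer ((P : Subgroup G) : Set G) =
        Subgroup.centralizer ((P : Subgroup G) : Set G))
    (y y' : (P : Subgroup G)) (hy : y ≠ 1) (hy' : y' ≠ 1) :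
    ∑ χ ∈ Finset.univ.filter (fun χ : IrrCharacter G => χ ∈ principalBlock M G),
      (χ : G → ℂ) y * conj ((χ : G → ℂ) y') =
      if ∃ n : Subgroup.normalizer ((P : Subgroup G) : Set G), n • y = y' then
        (Nat.card P : ℂ) else 0 := by
  have := Fintype.ofFinite G
  have hMp : M.IsPrime := Cfsg.Agent.Lib.Helper16.isPModular_isPrime hM
  have hy1 : (y : G) ≠ 1 := fun h => hy (Subtype.ext h)
  have hy'1 : (y' : G) ≠ 1 := fun h => hy' (Subtype.ext h)
  by_cases h : ∃ n : Subgroup.normalizer ((P : Subgroup G) : Set G), n • y = y'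
  · rw [if_pos h]
    obtain ⟨n, hn⟩ := h
    have hval : (y' : G) = (n : G) * (y : G) * (n : G)⁻¹ := by
      rw [← hn]
      rfl
    rw [← sum_principalBlock_norm_sq hM P hfrob y.2 hy1]
    apply Finset.sum_congr rfl
    intro χ _
    rw [hval, isClassFunction_irr χ (y : G) (n : G)]
  · rw [if_neg h]
    have hnc : ¬ IsConj (y : G) (y' : G) := by
      intro hc
      obtain ⟨c, hc⟩ := isConj_iff.mp hc
      have hmem : (c⁻¹)⁻¹ * (y : G) * c⁻¹ ∈ (P : Subgroup G) := by
        rw [inv_inv, hc]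
        exact y'.2
      obtain ⟨n, hn, hn'⟩ := Sylow.conj_eq_normalizer_conj_of_mem P (y : G) c⁻¹ y.2 hmem
      rw [inv_inv, hc] at hn'
      apply h
      refine ⟨⟨n⁻¹, inv_mem hn⟩, ?_⟩
      apply Subtype.ext
      show n⁻¹ * (y : G) * (n⁻¹)⁻¹ = (y' : G)
      rw [inv_inv, hn']
    have hz := sum_block_mul_inv_eq_zero hM
      (isPPart_self_of_orderOf (exists_orderOf_eq_of_mem_sylow P y.2))
      (isPPart_self_of_orderOf (exists_orderOf_eq_of_mem_sylow P y'.2)) hnc
      (Cfsg.Agent.Lib.Helper74.isPBlock_principalBlock G M)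
    rw [← hz]
    apply Finset.sum_congr rfl
    intro χ _
    rw [IsCharacter.inv (IsIrrCharacter.isCharacter χ.2)]

open scoped Classical in
theorem sum_principalBlock_mul_pRegular (hM : IsPModular p M) (P : Sylow p G)
    {y : G} (hyP : y ∈ (P : Subgroup G)) (hy1 : y ≠ 1) {g : G} (hg : ¬ p ∣ orderOf g) :
    ∑ χ ∈ Finset.univ.filter (fun χ : IrrCharacter G => χ ∈ principalBlock M G),
      (χ : G → ℂ) y * (χ : G → ℂ) g = 0 := by
  have := Fintype.ofFinite G
  have hMp : M.IsPrime := Cfsg.Agent.Lib.Helper16.isPModular_isPrime hM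
  have hg' : ¬ p ∣ orderOf g⁻¹ := by rwa [orderOf_inv]
  have hz := sum_block_mul_inv_eq_zero hM
    (isPPart_self_of_orderOf (exists_orderOf_eq_of_mem_sylow P hyP))
    (isPPart_one_of_not_dvd hg') (not_isConj_one_of_ne_one hy1)
    (Cfsg.Agent.Lib.Helper74.isPBlock_principalBlock G M)
  rw [inv_inv] at hz
  exact hz

theorem principalBlock_apply_eq_of_isPPart (hM : IsPModular p M) (P : Sylow p G)
    [IsMulCommutative P]
    (hfrob : ∀ y : G, y ∈ (P : Subgroup G) → y ≠ 1 →
      Subgroup.centralizer ({y} : Set G) ⊓ Subgroup.normalizer ((P : Subgroup G) : Set G) =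
        Subgroup.centralizer ((P : Subgroup G) : Set G))
    {χ : IrrCharacter G} (hχ : χ ∈ principalBlock M G) {z y : G} (hzy : IsPPart p z y)
    (hyP : y ∈ (P : Subgroup G)) (hy1 : y ≠ 1) : (χ : G → ℂ) z = (χ : G → ℂ) y := by
  obtain ⟨w, hw, hcomm, hyk, hwp⟩ := hzy
  have hwc : w ∈ Subgroup.centralizer ({y} : Set G) := by
    rw [Subgroup.mem_centralizer_singleton_iff]
    exact hcomm.eq.symm
  have hw' := mem_centralizerPPrimeCore_of_frob P hfrob hyP hy1 hwc hwp
  rw [← hw]
  exact Cfsg.Agent.S0942.result p M hM y hyk w hw' χ hχ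

theorem principalBlock_apply_ne_zero (hM : IsPModular p M) (P : Sylow p G) [IsMulCommutative P]
    {χ : IrrCharacter G} (hχ : χ ∈ principalBlock M G) {y : G} (hyP : y ∈ (P : Subgroup G)) :
    (χ : G → ℂ) y ≠ 0 := by
  apply Cfsg.Agent.Lib.Helper74.apply_ne_zero_of_mem_principalBlock hM χ hχ y
  intro hdvd
  have h1 : (Subgroup.centralizer ({y} : Set G)).index ∣ (P : Subgroup G).index :=
    Subgroup.index_dvd_of_le (sylow_le_centralizer_singleton P hyP)
  exact P.not_dvd_index (hdvd.trans h1)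

end Block

section Integrality

variable {G : Type u} [Group G] [Finite G]

open scoped IsMulCommutative in
/-- The multiplicity differences of a restricted character are integers. -/
theorem exists_int_gco_restrict (H : Subgroup G) [IsMulCommutative H] [Fintype H]
    {χ : G → ℂ} (hχ : IsCharacter G χ) (ψ : H →* ℂˣ) :
    ∃ k : ℤ, gco (fun y : H => χ (y : G)) ψ = (k : ℂ) := by
  have hres : IsCharacter H (fun y : H => χ (y : G)) :=
    Cfsg.Agent.Lib.Helper80.isCharacter_restrict H hχ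
  obtain ⟨n₁, hn₁⟩ := IsCharacter.exists_nat_classInner hres
    ⟨fun _ => 1, Cfsg.Agent.Lib.Helper80.isIrrCharacter_one⟩
  obtain ⟨n₂, hn₂⟩ := IsCharacter.exists_nat_classInner hres
    ⟨fun y => ((ψ y : ℂˣ) : ℂ), Cfsg.Agent.Lib.Helper80.isIrrCharacter_of_hom ψ⟩
  refine ⟨(n₁ : ℤ) - (n₂ : ℤ), ?_⟩
  push_cast
  rw [← hn₁, ← hn₂]
  unfold gco classInner
  rw [Nat.card_eq_fintype_card, ← mul_sub, ← Finset.sum_sub_distrib]
  congr 1
  apply Finset.sum_congr rfl
  intro y _
  simp only [map_one]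
  ring

end Integrality

end Cfsg.Agent.Lib.Helper78
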