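import Cfsg.Agent.Lib.Helper78.CharMore
import Cfsg.Agent.Lib.Helper78.CharValues
import Cfsg.Agent.Lib.Helper77.CenterIrr
import Cfsg.Agent.Lib.Helper77.Linear
import Cfsg.Agent.Lib.Helper79.Integrality
import Cfsg.Agent.Lib.Helper16.LocalRing

/-!
# Twisting a character by a central element and restricting to a `p`-subgroup (helper78)

* `irr_mul_central`: for `y` central, `ψ (c * y) = ε * ψ c` with `ε` an algebraic integer.
* `isIntegral_classInner_twist`: the function `x ↦ η (x * y)` on a subgroup `Q`, for a character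
  `η` and a central element `y`, has algebraic-integer multiplicities.
* `exists_linear_constituent`: a class function on a `p`-group with algebraic-integer
  multiplicities whose value at `1` is outside the local ideal has a linear constituent.
-/

set_option autoImplicit false

namespace Cfsg.Agent.Lib.Helper78

open Cfsg Cfsg.Agent.Lib.Helper16
open scoped ComplexConjugate commutatorElement

universe u

section Central

variable {K : Type u} [Group K] [Fintype K]

omit [Fintype K] in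
theorem center_le_irrCenter (ψ : IrrCharacter K) :
    Subgroup.center K ≤ Cfsg.Agent.Lib.Helper77.irrCenter ψ := by
  intro g hg
  rw [Cfsg.Agent.Lib.Helper77.mem_irrCenter_iff_commutator]
  intro h
  have : ⁅g, h⁆ = 1 := by
    rw [commutatorElement_eq_one_iff_mul_comm]
    exact (Subgroup.mem_center_iff.mp hg h).symm
  rw [this]
  exact Subgroup.one_mem _

/-- A central element acts on an irreducible character by an algebraic-integer scalar. -/
theorem irr_mul_central (ψ : IrrCharacter K) {y : K} (hy : y ∈ Subgroup.center K) :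
    ∃ ε : ℂ, IsIntegral ℤ ε ∧ ∀ c : K, (ψ : K → ℂ) (c * y) = ε * (ψ : K → ℂ) c := by
  obtain ⟨z, hz⟩ : ∃ z : Cfsg.Agent.Lib.Helper77.irrCenter ψ, (z : K) = y :=
    ⟨⟨y, center_le_irrCenter ψ hy⟩, rfl⟩
  refine ⟨Cfsg.Agent.Lib.Helper77.irrCenterScalar ψ z, ?_, fun c => ?_⟩
  · have hpos : 0 < orderOf z := orderOf_pos z
    apply IsIntegral.of_pow hpos
    rw [← map_pow, pow_orderOf_eq_one, map_one]
    exact isIntegral_one
  · have h1 := Cfsg.Agent.Lib.Helper77.irr_center_mul ψ z c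
    rw [hz] at h1
    rw [← h1, Subgroup.mem_center_iff.mp hy c]

/-- A character twisted by a central element is an algebraic-integer combination of
irreducible characters. -/
theorem exists_twist_central_eq_sum {η : K → ℂ} (hη : IsCharacter K η) {y : K}
    (hy : y ∈ Subgroup.center K) :
    ∃ a : IrrCharacter K → ℂ, (∀ ψ, IsIntegral ℤ (a ψ)) ∧
      ∀ c : K, η (c * y) = ∑ ψ : IrrCharacter K, a ψ * (ψ : K → ℂ) c := by
  classical
  obtain ⟨m, hm⟩ := (isCharacter_iff_exists_nat_combination η).mp hη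
  choose ε hεint hε using fun ψ : IrrCharacter K => irr_mul_central ψ hy
  refine ⟨fun ψ => (m ψ : ℂ) * ε ψ, fun ψ => ?_, fun c => ?_⟩
  · have h1 : IsIntegral ℤ ((m ψ : ℂ)) := by
      have := isIntegral_algebraMap (R := ℤ) (A := ℂ) (x := (m ψ : ℤ))
      simpa using this
    exact IsIntegral.mul h1 (hεint ψ)
  · rw [hm]
    simp only [Finset.sum_apply, Pi.smul_apply, smul_eq_mul]
    apply Finset.sum_congr rfl
    intro ψ _
    rw [hε ψ c]
    ring

/-- If `χ z = χ 1 * l` for a central `z`, then `χ (z g) = l χ g`. -/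
theorem irr_center_mul_of_apply (χ : IrrCharacter K) {z : K} (hz : z ∈ Subgroup.center K) (l : ℂ)
    (h : (χ : K → ℂ) z = (χ : K → ℂ) 1 * l) (g : K) :
    (χ : K → ℂ) (z * g) = l * (χ : K → ℂ) g := by
  have h1 := Cfsg.Agent.Lib.Helper77.irr_center_mul χ ⟨z, center_le_irrCenter χ hz⟩ g
  rw [Cfsg.Agent.Lib.Helper77.irrCenterScalar_apply] at h1
  have hne : (χ : K → ℂ) 1 ≠ 0 := by
    rw [Cfsg.Agent.Lib.Helper77.irr_apply_one]
    exact_mod_cast Cfsg.Agent.Lib.Helper77.irrDim_ne_zero χ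
  simp only at h1
  rw [h1, h, mul_div_cancel_left₀ l hne]

omit [Fintype K] in
theorem isCharacter_subgroup_res (Q : Subgroup K) {η : K → ℂ} (hη : IsCharacter K η) :
    IsCharacter Q (fun x : Q => η (x : K)) := by
  obtain ⟨n, ρ, rfl⟩ := hη
  exact ⟨n, MonoidHom.comp ρ Q.subtype, rfl⟩

/-- The function `x ↦ η (x * y)` on a subgroup `Q`, for a character `η` and a central element
`y`, has algebraic-integer multiplicities. -/
theorem isIntegral_classInner_twist {η : K → ℂ} (hη : IsCharacter K η) {y : K}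
    (hy : y ∈ Subgroup.center K) (Q : Subgroup K) [Fintype Q] (θ : IrrCharacter Q) :
    IsIntegral ℤ (classInner (fun x : Q => η ((x : K) * y)) (θ : Q → ℂ)) := by
  classical
  obtain ⟨a, haint, ha⟩ := exists_twist_central_eq_sum hη hy
  have h1 : (fun x : Q => η ((x : K) * y)) =
      ∑ ψ : IrrCharacter K, a ψ • (fun x : Q => (ψ : K → ℂ) (x : K)) := by
    funext x
    rw [ha]
    simp only [Finset.sum_apply, Pi.smul_apply, smul_eq_mul]
  rw [h1, classInner_sum_left]
  apply IsIntegral.sum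
  intro ψ _
  rw [classInner_smul_left]
  apply IsIntegral.mul (haint ψ)
  obtain ⟨n, hn⟩ := IsCharacter.exists_nat_classInner
    (isCharacter_subgroup_res Q (IsIrrCharacter.isCharacter ψ.2)) θ
  rw [hn]
  have := isIntegral_algebraMap (R := ℤ) (A := ℂ) (x := (n : ℤ))
  simpa using this

end Central

section PGroup

variable {Q : Type u} [Group Q] [Fintype Q] {M : Ideal AlgInt}

/-- A class function on a `p`-group with algebraic-integer multiplicities whose value at `1` is
outside the local ideal has a linear constituent. -/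
theorem exists_linear_constituent {p : ℕ} [Fact p.Prime] (hM : IsPModular p M)
    (hQ : IsPGroup p Q) {f : Q → ℂ} (hf : IsClassFunction Q f)
    (hint : ∀ θ : IrrCharacter Q, IsIntegral ℤ (classInner f (θ : Q → ℂ)))
    (h1 : ¬ MemLocalIdeal M (f 1)) :
    ∃ θ : IrrCharacter Q, (θ : Q → ℂ) 1 = 1 ∧ classInner f (θ : Q → ℂ) ≠ 0 := by
  classical
  have hMp := isPModular_isPrime hM
  by_contra hcon
  push Not at hcon
  apply h1
  have hexp := congrFun (classFunction_eq_sum_irr hf) 1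
  rw [hexp]
  simp only [Finset.sum_apply, Pi.smul_apply, smul_eq_mul]
  apply memLocalIdeal_sum
  intro θ _
  by_cases hθ : (θ : Q → ℂ) 1 = 1
  · rw [hcon θ hθ, zero_mul]
    exact memLocalIdeal_zero hMp.ne_top
  · apply memLocalIdeal_mul_left (memLocalRing_of_isIntegral hMp.ne_top (hint θ))
    rw [IsCharacter.apply_one_eq_charDegree (IsIrrCharacter.isCharacter θ.2)] at hθ ⊢
    rw [memLocalIdeal_natCast_iff hM]
    have hdvd := Cfsg.Agent.Lib.Helper79.irr_charDegree_dvd_card θ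
    obtain ⟨k, hk⟩ := IsPGroup.iff_card.mp hQ
    rw [hk] at hdvd
    obtain ⟨j, _, hj⟩ := (Nat.dvd_prime_pow (Fact.out : p.Prime)).mp hdvd
    rw [hj] at hθ ⊢
    have hj0 : j ≠ 0 := by
      rintro rfl
      apply hθ
      simp
    exact dvd_pow_self p hj0

omit [Fintype Q] in
theorem isClassFunction_twist_central {K : Type u} [Group K] {η : K → ℂ}
    (hη : IsClassFunction K η) {y : K} (hy : y ∈ Subgroup.center K) (Q : Subgroup K) :
    IsClassFunction Q (fun x : Q => η ((x : K) * y)) := by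
  intro g h
  have e : ((h * g * h⁻¹ : Q) : K) * y = (h : K) * ((g : K) * y) * (h : K)⁻¹ := by
    have hc := Subgroup.mem_center_iff.mp hy (h : K)⁻¹
    push_cast
    calc (h : K) * (g : K) * (h : K)⁻¹ * y = (h : K) * (g : K) * ((h : K)⁻¹ * y) := by group
      _ = (h : K) * (g : K) * (y * (h : K)⁻¹) := by rw [hc]
      _ = (h : K) * ((g : K) * y) * (h : K)⁻¹ := by group
  show η (((h * g * h⁻¹ : Q) : K) * y) = η ((g : K) * y)
  rw [e]
  exact hη _ _

/-- If `f (z₀ x) = l f x` and the linear character `μ₀` is a constituent of `f`, then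
`μ₀ z₀ = l`. -/
theorem linear_constituent_scalar {f : Q → ℂ} (μ₀ : Q →* ℂˣ) (z₀ : Q) (l : ℂ)
    (hf : ∀ x, f (z₀ * x) = l * f x)
    (hne : classInner f (fun x => ((μ₀ x : ℂˣ) : ℂ)) ≠ 0) : ((μ₀ z₀ : ℂˣ) : ℂ) = l := by
  classical
  have hsum : ∑ x : Q, f x * conj (((μ₀ x : ℂˣ) : ℂ)) =
      l * conj (((μ₀ z₀ : ℂˣ) : ℂ)) * ∑ x : Q, f x * conj (((μ₀ x : ℂˣ) : ℂ)) := by
    conv_lhs => rw [← Equiv.sum_comp (Equiv.mulLeft z₀)]
    rw [Finset.mul_sum]
    apply Finset.sum_congr rfl
    intro x _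
    simp only [Equiv.coe_mulLeft, map_mul, Units.val_mul]
    rw [hf x]
    ring
  have hS : ∑ x : Q, f x * conj (((μ₀ x : ℂˣ) : ℂ)) ≠ 0 := by
    intro h0
    apply hne
    unfold classInner
    rw [h0, mul_zero]
  have h1 : l * conj (((μ₀ z₀ : ℂˣ) : ℂ)) = 1 := by
    have h2 : (l * conj (((μ₀ z₀ : ℂˣ) : ℂ)) - 1) *
        ∑ x : Q, f x * conj (((μ₀ x : ℂˣ) : ℂ)) = 0 := by
      rw [sub_mul, one_mul, ← hsum, sub_self]
    rcases mul_eq_zero.mp h2 with h3 | h3
    · exact sub_eq_zero.mp h3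
    · exact absurd h3 hS
  -- `μ₀ z₀` has norm one
  have hpow : (((μ₀ z₀ : ℂˣ) : ℂ)) ^ orderOf z₀ = 1 := by
    rw [← Units.val_pow_eq_pow_val, ← map_pow, pow_orderOf_eq_one, map_one, Units.val_one]
  have hnorm : ‖(((μ₀ z₀ : ℂˣ) : ℂ))‖ = 1 :=
    Complex.norm_eq_one_of_pow_eq_one hpow (orderOf_pos z₀).ne'
  have hconj : conj (((μ₀ z₀ : ℂˣ) : ℂ)) * (((μ₀ z₀ : ℂˣ) : ℂ)) = 1 := by
    rw [mul_comm, Complex.mul_conj, Complex.normSq_eq_norm_sq, hnorm]
    simp
  calc (((μ₀ z₀ : ℂˣ) : ℂ)) = (l * conj (((μ₀ z₀ : ℂˣ) : ℂ))) * (((μ₀ z₀ : ℂˣ) : ℂ)) := by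
        rw [h1, one_mul]
    _ = l * (conj (((μ₀ z₀ : ℂˣ) : ℂ)) * (((μ₀ z₀ : ℂˣ) : ℂ))) := by ring
    _ = l := by rw [hconj, mul_one]

end PGroup

end Cfsg.Agent.Lib.Helper78
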