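import Mathlib
import Cfsg.Agent.Lib.Helper78.SubsectionNorm

/-!
# Subsections for a general subgroup `H` with `g ∈ H ↔ Commute u g`

Generalizations of the lemmas of `SubsectionNorm.lean` (there for `C_G(⟨u⟩)`) to any subgroup `H`
equal to the centralizer of `u` (for instance `Subgroup.centralizer {u}`), and of the kernel identity
to arbitrary sets `S` of irreducible characters of `H` whose kernel vanishes at `p`-singular elements.
-/

set_option autoImplicit false
set_option linter.unusedSectionVars false
set_option linter.style.haveILetI false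

namespace Cfsg.Agent.Lib.Helper78

open Cfsg MonoidAlgebra Finset Cfsg.Agent.Lib.Helper16
open scoped ComplexConjugate

section Gen

variable {G : Type*} [Group G] [Fintype G] {M : Ideal AlgInt} [hMp : M.IsPrime]

theorem isPPart_mul_of_mem_gen {p : ℕ} (u : G) (hu : ∃ k : ℕ, orderOf u = p ^ k) (H : Subgroup G)
    (hH : ∀ g : G, g ∈ H ↔ Commute u g)
    (c : H) (hc : ¬ p ∣ orderOf c) :
    IsPPart p (u * (c : G)) u := by
  refine ⟨(c : G), rfl, (hH c).mp c.2, hu, ?_⟩
  rw [Subgroup.orderOf_coe]
  exact hc

/-- Lemma B: conjugacy in the section. -/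
theorem isConj_mul_iff_gen {p : ℕ} [Fact p.Prime] (u : G) (hu : ∃ k : ℕ, orderOf u = p ^ k) (H : Subgroup G)
    (hH : ∀ g : G, g ∈ H ↔ Commute u g)
    (c c' : H) (hc : ¬ p ∣ orderOf c)
    (hc' : ¬ p ∣ orderOf c') :
    IsConj (u * (c' : G)) (u * (c : G)) ↔ IsConj c' c := by
  constructor
  · intro h
    obtain ⟨g, hg⟩ := isConj_iff.mp h
    have h1 : IsPPart p (u * (c : G)) (g * u * g⁻¹) :=
      hg ▸ isPPart_conj (isPPart_mul_of_mem_gen u hu H hH c' hc') g
    have h2 : g * u * g⁻¹ = u := isPPart_unique h1 (isPPart_mul_of_mem_gen u hu H hH c hc)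
    have hgu : Commute u g := by
      unfold Commute SemiconjBy
      calc u * g = (g * u * g⁻¹) * g := by rw [h2]
        _ = g * u := by group
    have hgH : g ∈ H :=
      (hH g).mpr hgu
    apply isConj_iff.mpr
    refine ⟨⟨g, hgH⟩, ?_⟩
    apply Subtype.ext
    simp only [Subgroup.coe_mul, Subgroup.coe_inv]
    have : g * (u * (c' : G)) * g⁻¹ = u * (g * (c' : G) * g⁻¹) := by
      rw [← mul_assoc, ← hgu.eq]
      group
    rw [this] at hg
    exact mul_left_cancel hg
  · intro h
    obtain ⟨d, hd⟩ := isConj_iff.mp h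
    apply isConj_iff.mpr
    refine ⟨(d : G), ?_⟩
    have hdu : Commute u (d : G) := (hH d).mp d.2
    have hd' : (d : G) * (c' : G) * (d : G)⁻¹ = (c : G) := by
      have := congrArg Subtype.val hd
      simpa using this
    rw [← hd', ← mul_assoc, ← hdu.eq]
    group

/-- Lemma A: centralizer orders in the section. -/
theorem card_centralizer_mul_eq_gen {p : ℕ} [Fact p.Prime] (u : G) (hu : ∃ k : ℕ, orderOf u = p ^ k) (H : Subgroup G)
    (hH : ∀ g : G, g ∈ H ↔ Commute u g)
    (c : H) (hc : ¬ p ∣ orderOf c) :
    Nat.card (Subgroup.centralizer ({u * (c : G)} : Set G)) =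
      Nat.card (Subgroup.centralizer ({c} : Set (H))) := by
  have hpp := isPPart_mul_of_mem_gen u hu H hH c hc
  have hcu : Commute u (c : G) := (hH c).mp c.2
  apply Nat.card_congr
  refine
    { toFun := fun g => ⟨⟨(g : G), ?_⟩, ?_⟩
      invFun := fun k => ⟨((k : H) : G), ?_⟩
      left_inv := fun g => rfl
      right_inv := fun k => rfl }
  · have hg : Commute (g : G) (u * (c : G)) := by
      have := g.2
      rw [Subgroup.mem_centralizer_iff] at this
      exact (this _ (Set.mem_singleton _)).symm
    exact (hH g).mpr (commute_of_commute_mul hpp hg).1.symm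
  · have hg : Commute (g : G) (u * (c : G)) := by
      have := g.2
      rw [Subgroup.mem_centralizer_iff] at this
      exact (this _ (Set.mem_singleton _)).symm
    rw [Subgroup.mem_centralizer_iff]
    intro s hs
    rw [Set.mem_singleton_iff] at hs
    rw [hs]
    apply Subtype.ext
    exact (commute_of_commute_mul hpp hg).2.symm.eq
  · have hk := k.2
    rw [Subgroup.mem_centralizer_iff] at hk
    have hkc : (c : G) * (k : H) =
        (k : H) * (c : G) := by
      have := congrArg Subtype.val (hk c (Set.mem_singleton c))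
      simpa using this
    have hku : Commute u ((k : H) : G) :=
      (hH _).mp (k : H).2
    rw [Subgroup.mem_centralizer_iff]
    intro s hs
    rw [Set.mem_singleton_iff] at hs
    rw [hs, mul_assoc, hkc, ← mul_assoc, hku.eq, mul_assoc]

/-- Lemma C: the second orthogonality sums of `G` on the section and of `H` agree. -/
theorem sum_irr_section_eq_gen {p : ℕ} [Fact p.Prime] (u : G) (hu : ∃ k : ℕ, orderOf u = p ^ k) (H : Subgroup G)
    (hH : ∀ g : G, g ∈ H ↔ Commute u g)
    [Fintype H]
    (c c' : H) (hc : ¬ p ∣ orderOf c)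
    (hc' : ¬ p ∣ orderOf c') :
    ∑ χ : IrrCharacter G, (χ : G → ℂ) (u * (c : G)) * conj ((χ : G → ℂ) (u * (c' : G))) =
      ∑ ξ : IrrCharacter (H),
        (ξ : H → ℂ) c *
          conj ((ξ : H → ℂ) c') := by
  classical
  rw [sum_irr_mul_conj_eq, sum_irr_mul_conj_eq, card_centralizer_mul_eq_gen u hu H hH c' hc']
  congr 1
  unfold classIndicator
  by_cases h : IsConj c' c
  · rw [if_pos h, if_pos ((isConj_mul_iff_gen u hu H hH c c' hc hc').mpr h)]
  · rw [if_neg h, if_neg (fun h' => h ((isConj_mul_iff_gen u hu H hH c c' hc hc').mp h'))]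

open scoped Classical in
/-- Lemma F: the kernel identity. -/
theorem sum_irr_blockPart_twist_mul_conj_gen {p : ℕ} [Fact p.Prime] (u : G)
    (hu : ∃ k : ℕ, orderOf u = p ^ k) (H : Subgroup G)
    (hH : ∀ g : G, g ∈ H ↔ Commute u g)
    [Fintype H]
    {e : Set (IrrCharacter H)}
    (s : H) (hs : ¬ p ∣ orderOf s)
    (he : ∀ c : H, p ∣ orderOf c → blockKernel e s c = 0) :
    ∑ χ : IrrCharacter G,
      blockPart e (fun c : H =>
        (χ : G → ℂ) (u * (c : G))) s *
      conj (blockPart e (fun c : H =>
        (χ : G → ℂ) (u * (c : G))) s) = blockKernel e s s := by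
  obtain ⟨N, hN⟩ : ∃ N : ℂ, N = (Nat.card (H) : ℂ) :=
    ⟨_, rfl⟩
  have hN0 : N ≠ 0 := by
    rw [hN]
    exact_mod_cast Nat.card_pos.ne'
  have hNc : conj N⁻¹ = N⁻¹ := by rw [hN, map_inv₀, Complex.conj_natCast]
  -- expand
  have hexp : ∀ χ : IrrCharacter G,
      blockPart e (fun c : H =>
        (χ : G → ℂ) (u * (c : G))) s *
      conj (blockPart e (fun c : H =>
        (χ : G → ℂ) (u * (c : G))) s) =
      N⁻¹ * N⁻¹ * ∑ c : H,
        ∑ c' : H,
          blockKernel e s c * conj (blockKernel e s c') *
            ((χ : G → ℂ) (u * (c : G)) * conj ((χ : G → ℂ) (u * (c' : G)))) := by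
    intro χ
    rw [blockPart_eq_sum_blockKernel, ← hN, map_mul, hNc, map_sum]
    rw [mul_mul_mul_comm, Finset.sum_mul_sum]
    congr 1
    apply Finset.sum_congr rfl
    intro c _
    apply Finset.sum_congr rfl
    intro c' _
    rw [map_mul]
    ring
  rw [Finset.sum_congr rfl (fun χ _ => hexp χ), ← Finset.mul_sum]
  -- replace the orthogonality sums
  have hrepl : ∀ c c' : H,
      blockKernel e s c * conj (blockKernel e s c') *
        ∑ χ : IrrCharacter G, (χ : G → ℂ) (u * (c : G)) * conj ((χ : G → ℂ) (u * (c' : G))) =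
      blockKernel e s c * conj (blockKernel e s c') *
        ∑ ξ : IrrCharacter (H),
          (ξ : H → ℂ) c *
            conj ((ξ : H → ℂ) c') := by
    intro c c'
    by_cases hc : p ∣ orderOf c
    · rw [he c hc, zero_mul, zero_mul, zero_mul]
    · by_cases hc' : p ∣ orderOf c'
      · rw [he c' hc', map_zero, mul_zero, zero_mul, zero_mul]
      · rw [sum_irr_section_eq_gen u hu H hH c c' hc hc']
  have hswap : ∑ χ : IrrCharacter G,
      ∑ c : H,
        ∑ c' : H,
          blockKernel e s c * conj (blockKernel e s c') *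
            ((χ : G → ℂ) (u * (c : G)) * conj ((χ : G → ℂ) (u * (c' : G)))) =
      ∑ c : H,
        ∑ c' : H,
          blockKernel e s c * conj (blockKernel e s c') *
            ∑ ξ : IrrCharacter (H),
              (ξ : H → ℂ) c *
                conj ((ξ : H → ℂ) c') := by
    rw [Finset.sum_comm]
    apply Finset.sum_congr rfl
    intro c _
    rw [Finset.sum_comm]
    apply Finset.sum_congr rfl
    intro c' _
    rw [← Finset.mul_sum]
    exact hrepl c c'
  rw [hswap]
  -- collect
  have hcollect : ∑ c : H,
      ∑ c' : H,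
        blockKernel e s c * conj (blockKernel e s c') *
          ∑ ξ : IrrCharacter (H),
            (ξ : H → ℂ) c *
              conj ((ξ : H → ℂ) c') =
      ∑ ξ : IrrCharacter (H),
        (∑ c : H, blockKernel e s c *
          (ξ : H → ℂ) c) *
        conj (∑ c' : H, blockKernel e s c' *
          (ξ : H → ℂ) c') := by
    have hR : ∀ ξ : IrrCharacter (H),
        (∑ c : H, blockKernel e s c *
          (ξ : H → ℂ) c) *
        conj (∑ c' : H, blockKernel e s c' *
          (ξ : H → ℂ) c') =
        ∑ c : H,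
          ∑ c' : H,
            blockKernel e s c * conj (blockKernel e s c') *
              ((ξ : H → ℂ) c *
                conj ((ξ : H → ℂ) c')) := by
      intro ξ
      rw [map_sum, Finset.sum_mul_sum]
      apply Finset.sum_congr rfl
      intro c _
      apply Finset.sum_congr rfl
      intro c' _
      rw [map_mul]
      ring
    rw [Finset.sum_congr rfl (fun ξ _ => hR ξ)]
    symm
    rw [Finset.sum_comm]
    apply Finset.sum_congr rfl
    intro c _
    rw [Finset.sum_comm]
    apply Finset.sum_congr rfl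
    intro c' _
    rw [Finset.mul_sum]
  rw [hcollect]
  simp_rw [sum_blockKernel_mul_irr]
  unfold blockKernel
  rw [Finset.sum_filter, Finset.mul_sum]
  apply Finset.sum_congr rfl
  intro ξ _
  split_ifs with hξ
  · rw [map_mul, ← Nat.card_eq_fintype_card, ← hN]
    have : conj N = N := by rw [hN, Complex.conj_natCast]
    rw [this]
    field_simp
  · simp


end Gen

end Cfsg.Agent.Lib.Helper78
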