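import Mathlib
import Cfsg.Agent.Lib.Helper78.WBO
import Cfsg.Agent.Lib.Helper78.CharValues
import Cfsg.Agent.Lib.Helper16.DefectClass

/-!
# The order of a defect group

`card_defectGroup`: a defect group `D` of the `p`-block `B` (a Sylow `p`-subgroup of the
centraliser of a defect class) has order `p ^ blockDefect p B` (S0908).
-/

set_option autoImplicit false
set_option linter.unusedSectionVars false
set_option linter.style.haveILetI false

namespace Cfsg.Agent.Lib.Helper78

open Cfsg Cfsg.Agent.Lib.Helper16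
open scoped ComplexConjugate

/-- An endomorphism of a finite-dimensional complex vector space with `T^(2k) = T^k` (`k ≥ 1`)
has trace an algebraic integer (its eigenvalues are `0` or roots of unity). -/
theorem isIntegral_trace_of_pow_eq {V : Type*} [AddCommGroup V] [Module ℂ V]
    [FiniteDimensional ℂ V] (T : Module.End ℂ V) (k : ℕ) (hk : 0 < k)
    (hT : T ^ (2 * k) = T ^ k) : IsIntegral ℤ (LinearMap.trace ℂ V T) := by
  rw [Module.End.trace_eq_sum_roots_charpoly_of_splits (IsAlgClosed.splits _)]
  apply IsIntegral.multiset_sum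
  intro μ hμ
  have hroot : T.charpoly.IsRoot μ := (Polynomial.mem_roots'.mp hμ).2
  have hev : T.HasEigenvalue μ := (Module.End.hasEigenvalue_iff_isRoot_charpoly T μ).mpr hroot
  obtain ⟨x, hx⟩ := hev.exists_hasEigenvector
  have hpow : ∀ j : ℕ, (T ^ j) x = μ ^ j • x := by
    intro j
    induction j with
    | zero => simp
    | succ j ih =>
      rw [pow_succ, Module.End.mul_apply, hx.apply_eq_smul, map_smul, ih, smul_smul, pow_succ, mul_comm]
  have h1 : μ ^ (2 * k) • x = μ ^ k • x := by
    rw [← hpow, ← hpow, hT]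
  have h2 : μ ^ (2 * k) = μ ^ k := by
    have := sub_eq_zero.mpr h1
    rw [← sub_smul] at this
    rcases smul_eq_zero.mp this with h | h
    · exact sub_eq_zero.mp h
    · exact absurd h hx.2
  have h3 : μ ^ k * (μ ^ k - 1) = 0 := by
    rw [mul_sub, mul_one, ← pow_add, ← two_mul, h2, sub_self]
  rcases mul_eq_zero.mp h3 with h | h
  · rw [pow_eq_zero_iff hk.ne'] at h
    rw [h]
    exact isIntegral_zero
  · have h4 : μ ^ k = 1 := sub_eq_zero.mp h
    exact IsIntegral.of_pow hk (h4 ▸ isIntegral_one)

/-- The average of a character over a coset `h Q` of a subgroup centralised by `h` is an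
algebraic integer (it is the trace of `h` on the `Q`-fixed space). -/
theorem isIntegral_average_coset {G : Type*} [Group G] [Finite G] {V : Type*} [AddCommGroup V]
    [Module ℂ V] [FiniteDimensional ℂ V] (ρ : Representation ℂ G V) (Q : Subgroup G) [Fintype Q]
    (h : G) (hh : ∀ u ∈ Q, Commute h u) :
    IsIntegral ℤ ((Fintype.card Q : ℂ)⁻¹ * ∑ u : Q, ρ.character (h * u)) := by
  classical
  have hQ0 : (Fintype.card Q : ℂ) ≠ 0 := by exact_mod_cast Fintype.card_ne_zero
  let π : Module.End ℂ V := (Fintype.card Q : ℂ)⁻¹ • ∑ u : Q, ρ (u : G)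
  have hρπ : ∀ v : Q, ρ (v : G) * π = π := by
    intro v
    simp only [π]
    rw [mul_smul_comm, Finset.mul_sum]
    congr 1
    simp_rw [← map_mul]
    exact Fintype.sum_equiv (Equiv.mulLeft v) _ _ (fun u => by simp)
  have hππ : π * π = π := by
    conv_lhs => rw [show π = (Fintype.card Q : ℂ)⁻¹ • ∑ u : Q, ρ (u : G) from rfl]
    rw [smul_mul_assoc, Finset.sum_mul, Finset.sum_congr rfl (fun v _ => hρπ v)]
    rw [Finset.sum_const, Finset.card_univ, ← Nat.cast_smul_eq_nsmul ℂ, smul_smul,
      inv_mul_cancel₀ hQ0, one_smul]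
  have hcomm : Commute (ρ h) π := by
    simp only [π]
    apply Commute.smul_right
    apply Commute.sum_right
    intro u _
    unfold Commute SemiconjBy
    rw [← map_mul, ← map_mul, (hh u u.2).eq]
  -- `ρ h` has finite order
  have hk : 0 < orderOf h := orderOf_pos h
  have hρk : ρ h ^ orderOf h = 1 := by
    rw [← map_pow, pow_orderOf_eq_one, map_one]
  have hπpow : ∀ j : ℕ, 0 < j → π ^ j = π := by
    intro j hj
    induction j with
    | zero => omega
    | succ j ih =>
      rcases Nat.eq_zero_or_pos j with rfl | hj'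
      · simp
      · rw [pow_succ, ih hj', hππ]
  let T : Module.End ℂ V := ρ h * π
  have hTk : T ^ orderOf h = π := by
    simp only [T]
    rw [hcomm.mul_pow, hρk, one_mul, hπpow _ hk]
  have hT : T ^ (2 * orderOf h) = T ^ orderOf h := by
    rw [two_mul, pow_add, hTk, hππ]
  have key := isIntegral_trace_of_pow_eq T (orderOf h) hk hT
  have htr : LinearMap.trace ℂ V T = (Fintype.card Q : ℂ)⁻¹ * ∑ u : Q, ρ.character (h * u) := by
    simp only [T, π]
    rw [mul_smul_comm, map_smul, Finset.mul_sum, map_sum, smul_eq_mul]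
    congr 1
    apply Finset.sum_congr rfl
    intro u _
    rw [← map_mul]
    rfl
  rw [← htr]
  exact key

section Val

variable {M : Ideal AlgInt} {p : ℕ}

/-- A quotient of naturals whose numerator has larger `p`-adic valuation lies in the local
ideal. -/
theorem memLocalIdeal_natCast_div_of_factorization_lt (hM : IsPModular p M) {N D : ℕ}
    (hD : D ≠ 0) (h : D.factorization p < N.factorization p) :
    MemLocalIdeal M ((N : ℂ) / (D : ℂ)) := by
  haveI hMp := isPModular_isPrime hM
  have hp := isPModular_prime hM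
  have hN : N ≠ 0 := by
    rintro rfl
    simp at h
  have hNd := Nat.ordProj_mul_ordCompl_eq_self N p
  have hDd := Nat.ordProj_mul_ordCompl_eq_self D p
  have hD' := Nat.not_dvd_ordCompl hp hD
  set j := N.factorization p
  set k := D.factorization p
  set N' := N / p ^ j
  set D' := D / p ^ k
  have hpc : (p : ℂ) ≠ 0 := by exact_mod_cast hp.ne_zero
  have hD'c : (D' : ℂ) ≠ 0 := by
    have : D' ≠ 0 := fun h0 => hD' (h0 ▸ dvd_zero p)
    exact_mod_cast this
  have h1 : ((p ^ k * D' : ℕ) : ℂ) = (D : ℂ) := by exact_mod_cast congrArg (Nat.cast (R := ℂ)) hDd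
  have h2 : ((p ^ j * N' : ℕ) : ℂ) = (N : ℂ) := by exact_mod_cast congrArg (Nat.cast (R := ℂ)) hNd
  push_cast at h1 h2
  have hj : j = k + (j - k) := by omega
  have key : (N : ℂ) / (D : ℂ) = (p : ℂ) ^ (j - k) * ((N' : ℂ) * ((D' : ℂ))⁻¹) := by
    rw [← h1, ← h2, hj, pow_add]
    have hpk : (p : ℂ) ^ k ≠ 0 := pow_ne_zero _ hpc
    have : k + (j - k) - k = j - k := by omega
    rw [this]
    field_simp
  rw [key]
  apply memLocalIdeal_mul_right
  · rw [memLocalIdeal_pow_iff (memLocalRing_natCast hMp.ne_top p) (by omega)]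
    exact memLocalIdeal_p hM
  · exact memLocalRing_mul (memLocalRing_natCast hMp.ne_top N') (memLocalRing_inv_natCast hM hD')

/-- If a quotient of nonzero naturals is a local integer then the `p`-adic valuation of the
denominator is at most that of the numerator. -/
theorem factorization_le_of_memLocalRing_div (hM : IsPModular p M) {N D : ℕ}
    (hN : N ≠ 0) (hD : D ≠ 0) (h : MemLocalRing M ((N : ℂ) / (D : ℂ))) :
    D.factorization p ≤ N.factorization p := by
  haveI hMp := isPModular_isPrime hM
  by_contra hlt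
  push Not at hlt
  have h1 := memLocalIdeal_natCast_div_of_factorization_lt hM hN hlt
  have h2 : MemLocalIdeal M (((D : ℂ) / (N : ℂ)) * ((N : ℂ) / (D : ℂ))) :=
    memLocalIdeal_mul_right h1 h
  have hNc : (N : ℂ) ≠ 0 := by exact_mod_cast hN
  have hDc : (D : ℂ) ≠ 0 := by exact_mod_cast hD
  have h3 : ((D : ℂ) / (N : ℂ)) * ((N : ℂ) / (D : ℂ)) = 1 := by field_simp
  rw [h3] at h2
  exact one_not_memLocalIdeal h2

end Val

section DefectGroupOrder

variable {G : Type*} [Group G] [Fintype G]

/-- A defect class consists of `p`-regular elements. -/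
theorem IsDefectClass.not_dvd_orderOf {p : ℕ} [Fact p.Prime] {M : Ideal AlgInt}
    (hM : IsPModular p M) {B : Set (IrrCharacter G)} (hB : IsPBlock M B) {g : G}
    (hg : IsDefectClass M B g) : ¬ p ∣ orderOf g := by
  classical
  haveI hMp := isPModular_isPrime hM
  intro hdiv
  have h1 := weak_block_orthogonality hM hB (1 : G) g (by simp [(Fact.out : p.Prime).one_lt.ne'])
    hdiv
  have h2 : blockCoeff B g = 0 := by
    unfold blockCoeff
    rw [h1, mul_zero]
  apply hg.2.1
  rw [h2]
  exact memLocalIdeal_zero hMp.ne_top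

/-- First half: every member of `B` has degree divisible by `p ^ (a - δ)`. -/
theorem factorization_index_le_charDegree {p : ℕ} [Fact p.Prime] {M : Ideal AlgInt}
    (hM : IsPModular p M) {B : Set (IrrCharacter G)} {g : G}
    (hg : IsDefectClass M B g) {χ : IrrCharacter G} (hχ : χ ∈ B) :
    ((Subgroup.centralizer ({g} : Set G)).index).factorization p ≤
      (charDegree (χ : G → ℂ)).factorization p := by
  haveI hMp := isPModular_isPrime hM
  have hω : ¬ MemLocalIdeal M (centralChar (χ : G → ℂ) g) := hg.2.2 χ hχ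
  have hωS : MemLocalRing M (centralChar (χ : G → ℂ) g) :=
    memLocalRing_of_isIntegral hMp.ne_top (Cfsg.Agent.Lib.Helper79.isIntegral_centralChar χ g)
  have hχc : IsCharacter G (χ : G → ℂ) := IsIrrCharacter.isCharacter χ.2
  have hχg : MemLocalRing M ((χ : G → ℂ) g) :=
    memLocalRing_of_isIntegral hMp.ne_top (IsCharacter.isIntegral hχc g)
  have hdeg : (χ : G → ℂ) 1 = (charDegree (χ : G → ℂ) : ℂ) :=
    IsCharacter.apply_one_eq_charDegree hχc
  have hdeg0 : charDegree (χ : G → ℂ) ≠ 0 := (IsIrrCharacter.charDegree_pos χ.2).ne'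
  have hidx0 : (Subgroup.centralizer ({g} : Set G)).index ≠ 0 := Subgroup.index_ne_zero_of_finite
  have hω0 : centralChar (χ : G → ℂ) g ≠ 0 := ne_zero_of_not_memLocalIdeal hω
  have hq := memLocalRing_div hχg hωS hω
  have heq : (χ : G → ℂ) g / centralChar (χ : G → ℂ) g =
      (charDegree (χ : G → ℂ) : ℂ) / ((Subgroup.centralizer ({g} : Set G)).index : ℂ) := by
    have hχg0 : (χ : G → ℂ) g ≠ 0 := by
      intro h0
      apply hω0
      unfold centralChar
      rw [h0, mul_zero, zero_div]
    have hdegc : (charDegree (χ : G → ℂ) : ℂ) ≠ 0 := by exact_mod_cast hdeg0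
    have hidxc : ((Subgroup.centralizer ({g} : Set G)).index : ℂ) ≠ 0 := by exact_mod_cast hidx0
    unfold centralChar
    rw [hdeg]
    field_simp
  rw [heq] at hq
  exact factorization_le_of_memLocalRing_div hM hdeg0 hidx0 hq




open scoped Classical in
/-- Second half: some member of `B` has degree with `p`-part at most `p ^ (a - δ)`. -/
theorem exists_charDegree_factorization_le {p : ℕ} [Fact p.Prime] {M : Ideal AlgInt}
    (hM : IsPModular p M) {B : Set (IrrCharacter G)} (hB : IsPBlock M B) {g : G}
    (hg : IsDefectClass M B g) :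
    ∃ χ ∈ B, (charDegree (χ : G → ℂ)).factorization p +
      (Nat.card (Subgroup.centralizer ({g} : Set G))).factorization p ≤
        (Nat.card G).factorization p := by
  haveI hMp := isPModular_isPrime hM
  have hp : p.Prime := Fact.out
  by_contra hcon
  push Not at hcon
  have hgreg : ¬ p ∣ orderOf g := IsDefectClass.not_dvd_orderOf hM hB hg
  -- a Sylow subgroup of the centraliser
  obtain ⟨P⟩ : Nonempty (Sylow p (Subgroup.centralizer ({g} : Set G))) := inferInstance
  let Q : Subgroup G := (P : Subgroup (Subgroup.centralizer ({g} : Set G))).map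
    (Subgroup.centralizer ({g} : Set G)).subtype
  have hQcard : Nat.card Q = p ^ (Nat.card (Subgroup.centralizer ({g} : Set G))).factorization p := by
    rw [Subgroup.card_map_of_injective (Subgroup.subtype_injective _)]
    exact Sylow.card_eq_multiplicity P
  have hQcomm : ∀ u ∈ Q, Commute g u := by
    rintro u ⟨⟨v, hv⟩, _, rfl⟩
    exact ((Subgroup.mem_centralizer_singleton_iff.mp hv)).symm
  have hQp : ∀ u ∈ Q, ∃ k, orderOf u = p ^ k := by
    rintro u ⟨v, hv, rfl⟩
    obtain ⟨k, hk⟩ := (IsPGroup.iff_orderOf.mp P.isPGroup') ⟨v, hv⟩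
    refine ⟨k, ?_⟩
    rw [← hk]
    simp
  have hsing : ∀ u ∈ Q, u ≠ 1 → p ∣ orderOf (g * u) := by
    intro u hu hu1
    obtain ⟨k, hk⟩ := hQp u hu
    have hk0 : k ≠ 0 := by
      rintro rfl
      rw [pow_zero, orderOf_eq_one_iff] at hk
      exact hu1 hk
    have hcop : (orderOf g).Coprime (orderOf u) := by
      rw [hk]
      apply Nat.Coprime.pow_right
      exact ((Nat.Prime.coprime_iff_not_dvd hp).mpr hgreg).symm
    rw [(hQcomm u hu).orderOf_mul_eq_mul_orderOf_of_coprime hcop, hk]
    exact Dvd.dvd.mul_left (dvd_pow_self p hk0) _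
  -- the key identity
  have hG0 : (Nat.card G : ℂ) ≠ 0 := by exact_mod_cast Nat.card_pos.ne'
  have hkey : blockCoeff B g = ∑ χ ∈ Finset.univ.filter (fun χ : IrrCharacter G => χ ∈ B),
      ((charDegree (χ : G → ℂ) * Nat.card Q : ℕ) : ℂ) / (Nat.card G : ℂ) *
        conj ((Fintype.card Q : ℂ)⁻¹ * ∑ u : Q, (χ : G → ℂ) (g * u)) := by
    have hQ0 : (Fintype.card Q : ℂ) ≠ 0 := by exact_mod_cast Fintype.card_ne_zero
    have h1 : ∀ u : Q, (u : G) ≠ 1 →
        ∑ χ ∈ Finset.univ.filter (fun χ : IrrCharacter G => χ ∈ B),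
          (χ : G → ℂ) 1 * conj ((χ : G → ℂ) (g * u)) = 0 := by
      intro u hu1
      have h2 := weak_block_orthogonality_sum hM hB (1 : G) (g * u)
        (by simp [hp.one_lt.ne']) (hsing u u.2 hu1)
      have h3 := congrArg conj h2
      rw [map_sum, map_zero] at h3
      rw [← h3]
      apply Finset.sum_congr rfl
      intro χ _
      rw [map_mul, Complex.conj_conj, mul_comm]
    have h4 : ∑ u : Q, ∑ χ ∈ Finset.univ.filter (fun χ : IrrCharacter G => χ ∈ B),
        (χ : G → ℂ) 1 * conj ((χ : G → ℂ) (g * u)) =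
        ∑ χ ∈ Finset.univ.filter (fun χ : IrrCharacter G => χ ∈ B),
          (χ : G → ℂ) 1 * conj ((χ : G → ℂ) g) := by
      rw [Finset.sum_eq_single (1 : Q)]
      · simp
      · intro u _ hu
        apply h1
        intro h
        apply hu
        exact Subtype.ext h
      · intro h; exact absurd (Finset.mem_univ _) h
    rw [Cfsg.Agent.Lib.Helper16.blockCoeff_eq_sum, ← h4, Finset.sum_comm, Finset.mul_sum]
    apply Finset.sum_congr rfl
    intro χ _
    have hχc : IsCharacter G (χ : G → ℂ) := IsIrrCharacter.isCharacter χ.2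
    rw [IsCharacter.apply_one_eq_charDegree hχc, map_mul, map_inv₀, Complex.conj_natCast,
      map_sum, ← Finset.mul_sum, Nat.card_eq_fintype_card (α := Q)]
    push_cast
    field_simp
  -- every term lies in the local ideal
  apply hg.2.1
  rw [hkey]
  apply memLocalIdeal_sum
  intro χ hχ
  simp only [Finset.mem_filter, Finset.mem_univ, true_and] at hχ
  apply memLocalIdeal_mul_right
  · apply memLocalIdeal_natCast_div_of_factorization_lt hM Nat.card_pos.ne'
    have hdeg0 : charDegree (χ : G → ℂ) ≠ 0 := (IsIrrCharacter.charDegree_pos χ.2).ne'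
    rw [Nat.factorization_mul hdeg0 Nat.card_pos.ne', hQcard]
    simp only [Finsupp.coe_add, Pi.add_apply, hp.factorization_pow, Finsupp.single_eq_same]
    exact hcon χ hχ
  · apply memLocalRing_of_isIntegral hMp.ne_top
    apply map_isIntegral_int
    obtain ⟨n, ρ, hρ, hρχ⟩ := χ.2
    have := isIntegral_average_coset ρ Q g hQcomm
    rw [hρχ] at this
    exact this

/-- The `p`-adic valuation of the order of the centraliser of a defect class is the defect. -/
theorem factorization_card_centralizer_eq_blockDefect {p : ℕ} [Fact p.Prime] {M : Ideal AlgInt}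
    (hM : IsPModular p M) {B : Set (IrrCharacter G)} (hB : IsPBlock M B) {g : G}
    (hg : IsDefectClass M B g) :
    (Nat.card (Subgroup.centralizer ({g} : Set G))).factorization p = blockDefect p B := by
  have hp : p.Prime := Fact.out
  obtain ⟨χ₀, hχ₀, hle⟩ := exists_charDegree_factorization_le hM hB hg
  have hlb' : ∀ χ ∈ B, (Subgroup.centralizer ({g} : Set G)).index.factorization p ≤
      (charDegree (χ : G → ℂ)).factorization p := fun χ hχ =>
    factorization_index_le_charDegree hM hg hχ
  set C := Subgroup.centralizer ({g} : Set G) with hC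
  have hmul : Nat.card C * C.index = Nat.card G := Subgroup.card_mul_index C
  have hC0 : Nat.card C ≠ 0 := Nat.card_pos.ne'
  have hidx0 : C.index ≠ 0 := Subgroup.index_ne_zero_of_finite
  have hfac : (Nat.card G).factorization p =
      (Nat.card C).factorization p + C.index.factorization p := by
    rw [← hmul, Nat.factorization_mul hC0 hidx0]
    rfl
  set S : Set ℕ := (fun χ : IrrCharacter G => (charDegree (χ : G → ℂ)).factorization p) '' B
    with hS
  have hlb : ∀ n ∈ S, C.index.factorization p ≤ n := by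
    rintro n ⟨χ, hχ, rfl⟩
    exact hlb' χ hχ
  have hmem : C.index.factorization p ∈ S := by
    refine ⟨χ₀, hχ₀, ?_⟩
    have h1 := hlb' χ₀ hχ₀
    show (charDegree (χ₀ : G → ℂ)).factorization p = C.index.factorization p
    omega
  have hinf : sInf S = C.index.factorization p := by
    apply le_antisymm
    · exact Nat.sInf_le hmem
    · exact hlb _ (Nat.sInf_mem ⟨_, hmem⟩)
  unfold blockDefect
  rw [← hS, hinf, hfac]
  omega

/-- **The order of a defect group** is `p ^ d(B)`. -/
theorem card_defectGroup {p : ℕ} [Fact p.Prime] {M : Ideal AlgInt}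
    (hM : IsPModular p M) {B : Set (IrrCharacter G)} (hB : IsPBlock M B) {D : Subgroup G}
    (hD : IsDefectGroup p M B D) : Nat.card D = p ^ blockDefect p B := by
  obtain ⟨g, hg, P, rfl⟩ := hD
  rw [Subgroup.card_map_of_injective (Subgroup.subtype_injective _), Sylow.card_eq_multiplicity,
    factorization_card_centralizer_eq_blockDefect hM hB hg]

end DefectGroupOrder

end Cfsg.Agent.Lib.Helper78
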