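import Mathlib
import Cfsg.Agent.Lib.Helper78.DefectOrder
import Cfsg.Agent.Lib.Helper78.BlockSums
import Cfsg.Agent.S0911

/-!
# Counting blocks by defect

`card_blocks_le_card_classes`: for an order-convex set `𝒟` of natural numbers, the number of
`p`-blocks with defect in `𝒟` is at most the number of `p`-regular classes with defect in `𝒟`
(S0962 with `𝒟 = {n | d ≤ n}`, S4505 with `𝒟 = {σ}`).  Uses the min–max theorem (helper16's S0911),
the order of a defect group, and `ω_{B'}(f_B) = δ_{B B'}` read modulo the local ideal.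
-/

set_option autoImplicit false
set_option linter.unusedSectionVars false
set_option linter.style.haveILetI false

namespace Cfsg.Agent.Lib.Helper78

open Cfsg Cfsg.Agent.Lib.Helper16
open scoped ComplexConjugate

/-- Rows with a "dual" family over a field: at most as many rows as columns. -/
theorem card_le_card_of_dual_family {F : Type*} [Field F] {ι κ : Type*} [Fintype ι] [Fintype κ]
    [DecidableEq ι] (A N : ι → κ → F)
    (h : ∀ i i', ∑ k, A i k * N i' k = if i = i' then 1 else 0) :
    Fintype.card ι ≤ Fintype.card κ := by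
  classical
  have h1 : Matrix.of A * (Matrix.of N).transpose = (1 : Matrix ι ι F) := by
    ext i i'
    rw [Matrix.mul_apply, Matrix.one_apply]
    simp only [Matrix.of_apply, Matrix.transpose_apply]
    exact h i i'
  have h2 : (Matrix.of A * (Matrix.of N).transpose).rank ≤ (Matrix.of A).rank :=
    Matrix.rank_mul_le_left _ _
  rw [h1, Matrix.rank_one] at h2
  exact h2.trans (Matrix.rank_le_card_width _)

section

variable {G : Type*} [Group G] [Fintype G]

open Classical in
theorem sum_conjClasses_blockCoeff_mul_centralChar_of_not_mem (B : Set (IrrCharacter G))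
    {χ : IrrCharacter G} (hχ : χ ∉ B) :
    ∑ c : ConjClasses G, blockCoeff B (Quotient.out c) * centralChar (χ : G → ℂ) (Quotient.out c)
      = 0 := by
  have h1 := sum_blockCoeff_mul_irr_of_not_mem B hχ
  have hcf : IsClassFunction G (fun g => blockCoeff B g * (χ : G → ℂ) g) := by
    intro g x
    simp only [isClassFunction_blockCoeff B g x, isClassFunction_irr χ g x]
  rw [sum_eq_sum_conjClasses hcf] at h1
  have hne : (χ : G → ℂ) 1 ≠ 0 := IsIrrCharacter.apply_one_ne_zero χ.2
  have : ∑ c : ConjClasses G, blockCoeff B (Quotient.out c) *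
      centralChar (χ : G → ℂ) (Quotient.out c) =
      (∑ c : ConjClasses G, ((Subgroup.centralizer ({Quotient.out c} : Set G)).index : ℂ) *
        (blockCoeff B (Quotient.out c) * (χ : G → ℂ) (Quotient.out c))) / (χ : G → ℂ) 1 := by
    rw [Finset.sum_div]
    apply Finset.sum_congr rfl
    intro c _
    unfold centralChar
    ring
  rw [this, h1, zero_div]

/-- Min–max, part (a), numerically. -/
theorem factorization_card_centralizer_le_blockDefect {p : ℕ} [Fact p.Prime] {M : Ideal AlgInt}
    (hM : IsPModular p M) {B : Set (IrrCharacter G)} (hB : IsPBlock M B) {h : G}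
    (hh : ¬ MemLocalIdeal M (blockCoeff B h)) :
    (Nat.card (Subgroup.centralizer ({h} : Set G))).factorization p ≤ blockDefect p B := by
  haveI hMp := isPModular_isPrime hM
  have hp : p.Prime := Fact.out
  obtain ⟨g, hg⟩ := exists_isDefectClass hB
  obtain ⟨D⟩ : Nonempty (Sylow p (Subgroup.centralizer ({g} : Set G))) := inferInstance
  obtain ⟨x, Q, hQ⟩ := (Cfsg.Agent.S0911.result p M hM B hB g hg D h).1
    (blockCoeff_memLocalRing hB h) hh
  have h1 := Subgroup.card_le_of_le hQ
  rw [Subgroup.card_map_of_injective (Subgroup.subtype_injective _),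
    Subgroup.card_map_of_injective (MulAut.conj x).injective,
    Subgroup.card_map_of_injective (Subgroup.subtype_injective _),
    Sylow.card_eq_multiplicity, Sylow.card_eq_multiplicity,
    factorization_card_centralizer_eq_blockDefect hM hB hg] at h1
  exact (Nat.pow_le_pow_iff_right hp.one_lt).mp h1

/-- Min–max, part (b), numerically. -/
theorem blockDefect_le_factorization_card_centralizer {p : ℕ} [Fact p.Prime] {M : Ideal AlgInt}
    (hM : IsPModular p M) {B : Set (IrrCharacter G)} (hB : IsPBlock M B) {h : G}
    {χ : IrrCharacter G} (hχ : χ ∈ B) (hh : ¬ MemLocalIdeal M (centralChar (χ : G → ℂ) h)) :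
    blockDefect p B ≤ (Nat.card (Subgroup.centralizer ({h} : Set G))).factorization p := by
  haveI hMp := isPModular_isPrime hM
  have hp : p.Prime := Fact.out
  obtain ⟨g, hg⟩ := exists_isDefectClass hB
  obtain ⟨D⟩ : Nonempty (Sylow p (Subgroup.centralizer ({g} : Set G))) := inferInstance
  obtain ⟨x, Q, hQ⟩ := (Cfsg.Agent.S0911.result p M hM B hB g hg D h).2 ⟨χ, hχ, hh⟩
  have h1 := Subgroup.card_le_of_le hQ
  rw [Subgroup.card_map_of_injective (Subgroup.subtype_injective _),
    Subgroup.card_map_of_injective (MulAut.conj x).injective,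
    Subgroup.card_map_of_injective (Subgroup.subtype_injective _),
    Sylow.card_eq_multiplicity, Sylow.card_eq_multiplicity,
    factorization_card_centralizer_eq_blockDefect hM hB hg] at h1
  exact (Nat.pow_le_pow_iff_right hp.one_lt).mp h1

/-- **Counting blocks by defect**: for an order-convex set `𝒟` of defects, there are at most as
many blocks with defect in `𝒟` as `p`-regular classes with defect in `𝒟`. -/
theorem card_blocks_le_card_classes {p : ℕ} [Fact p.Prime] {M : Ideal AlgInt}
    (hM : IsPModular p M) (𝒟 : Set ℕ)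
    (h𝒟 : ∀ a b c : ℕ, a ∈ 𝒟 → c ∈ 𝒟 → a ≤ b → b ≤ c → b ∈ 𝒟) :
    Nat.card {B : Set (IrrCharacter G) // IsPBlock M B ∧ blockDefect p B ∈ 𝒟} ≤
      Nat.card {C : ConjClasses G // ∃ g : G, ConjClasses.mk g = C ∧ ¬ p ∣ orderOf g ∧
        (Nat.card (Subgroup.centralizer ({g} : Set G))).factorization p ∈ 𝒟} := by
  classical
  haveI hMp := isPModular_isPrime hM
  have hp : p.Prime := Fact.out
  haveI : Finite (IrrCharacter G) := finite_irrCharacter
  let ι := {B : Set (IrrCharacter G) // IsPBlock M B ∧ blockDefect p B ∈ 𝒟}
  let κ := {C : ConjClasses G // ∃ g : G, ConjClasses.mk g = C ∧ ¬ p ∣ orderOf g ∧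
        (Nat.card (Subgroup.centralizer ({g} : Set G))).factorization p ∈ 𝒟}
  haveI : Fintype ι := Fintype.ofFinite ι
  haveI : Fintype κ := Fintype.ofFinite κ
  rw [Nat.card_eq_fintype_card, Nat.card_eq_fintype_card]
  let S := localSubring M
  let res := IsLocalRing.residue S
  -- representatives
  have hne : ∀ B : ι, ∃ χ : IrrCharacter G, χ ∈ B.1 := fun B =>
    IsPBlock_nonempty hMp.ne_top B.2.1
  choose χ hχ using hne
  let fS : ι → ConjClasses G → S := fun B c =>
    ⟨blockCoeff B.1 (Quotient.out c), blockCoeff_memLocalRing B.2.1 _⟩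
  let wS : ι → ConjClasses G → S := fun B c =>
    ⟨centralChar (χ B : G → ℂ) (Quotient.out c), memLocalRing_of_isIntegral hMp.ne_top
      (Cfsg.Agent.Lib.Helper79.isIntegral_centralChar (χ B) _)⟩
  apply card_le_card_of_dual_family (F := IsLocalRing.ResidueField S)
    (fun B C => res (fS B C.1)) (fun B C => res (wS B C.1))
  intro B B'
  -- the full sum
  have hfull : ∑ c : ConjClasses G, fS B c * wS B' c = if B = B' then 1 else 0 := by
    apply Subtype.val_injective
    show (Subring.subtype S) (∑ c : ConjClasses G, fS B c * wS B' c) =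
      (Subring.subtype S) (if B = B' then 1 else 0)
    rw [map_sum]
    simp only [fS, wS, map_mul, Subring.subtype_apply]
    split_ifs with hBB
    · subst hBB
      rw [sum_conjClasses_blockCoeff_mul_centralChar B.1 (hχ B)]
      rfl
    · have hnot : χ B' ∉ B.1 := by
        intro hmem
        apply hBB
        apply Subtype.ext
        exact IsPBlock_eq_of_mem B.2.1 B'.2.1 hmem (hχ B')
      rw [sum_conjClasses_blockCoeff_mul_centralChar_of_not_mem B.1 hnot]
      rfl
  have hres := congrArg res hfull
  rw [map_sum] at hres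
  have hzero : ∀ c : ConjClasses G, ¬ (∃ g : G, ConjClasses.mk g = c ∧ ¬ p ∣ orderOf g ∧
        (Nat.card (Subgroup.centralizer ({g} : Set G))).factorization p ∈ 𝒟) →
      res (fS B c * wS B' c) = 0 := by
    intro c hc
    rw [IsLocalRing.residue_eq_zero_iff, maximalIdeal_localSubring, mem_localIdeal]
    simp only [fS, wS, Subring.coe_mul]
    set x := Quotient.out c with hx
    have hxc : ConjClasses.mk x = c := Quotient.out_eq c
    by_contra hnot
    have hf : ¬ MemLocalIdeal M (blockCoeff B.1 x) := fun h =>
      hnot (memLocalIdeal_mul_right h (memLocalRing_of_isIntegral hMp.ne_top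
        (Cfsg.Agent.Lib.Helper79.isIntegral_centralChar (χ B') _)))
    have hw : ¬ MemLocalIdeal M (centralChar (χ B' : G → ℂ) x) := fun h =>
      hnot (memLocalIdeal_mul_left (blockCoeff_memLocalRing B.2.1 _) h)
    apply hc
    refine ⟨x, hxc, ?_, ?_⟩
    · -- `x` is `p`-regular since the idempotent coefficient does not vanish
      intro hdiv
      apply hf
      have h1 := weak_block_orthogonality hM B.2.1 (1 : G) x (by simp [hp.one_lt.ne']) hdiv
      have h2 : blockCoeff B.1 x = 0 := by
        unfold blockCoeff
        rw [h1, mul_zero]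
      rw [h2]
      exact memLocalIdeal_zero hMp.ne_top
    · exact h𝒟 _ _ _ B'.2.2 B.2.2
        (blockDefect_le_factorization_card_centralizer hM B'.2.1 (hχ B') hw)
        (factorization_card_centralizer_le_blockDefect hM B.2.1 hf)
  have hsplit : ∑ c : ConjClasses G, res (fS B c * wS B' c) =
      ∑ C : κ, res (fS B C.1) * res (wS B' C.1) := by
    rw [← Finset.sum_filter_add_sum_filter_not Finset.univ (fun c : ConjClasses G => ∃ g : G,
      ConjClasses.mk g = c ∧ ¬ p ∣ orderOf g ∧
        (Nat.card (Subgroup.centralizer ({g} : Set G))).factorization p ∈ 𝒟)]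
    have h2 : ∑ c ∈ Finset.univ.filter (fun c : ConjClasses G => ¬ ∃ g : G,
        ConjClasses.mk g = c ∧ ¬ p ∣ orderOf g ∧
          (Nat.card (Subgroup.centralizer ({g} : Set G))).factorization p ∈ 𝒟),
        res (fS B c * wS B' c) = 0 :=
      Finset.sum_eq_zero (fun c hc => hzero c (Finset.mem_filter.mp hc).2)
    rw [h2, add_zero]
    rw [Finset.sum_subtype (p := fun c : ConjClasses G => ∃ g : G,
      ConjClasses.mk g = c ∧ ¬ p ∣ orderOf g ∧
        (Nat.card (Subgroup.centralizer ({g} : Set G))).factorization p ∈ 𝒟)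
      (Finset.univ.filter _) (by intro c; simp)]
    apply Finset.sum_congr rfl
    intro C _
    rw [map_mul]
  rw [← hsplit, hres]
  split_ifs <;> simp

end

end Cfsg.Agent.Lib.Helper78
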