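import Mathlib
import Cfsg.Agent.Lib.Helper78.DefectOrder
import Cfsg.Agent.Lib.Helper78.BlockCount
import Cfsg.Agent.Lib.Helper76.PRegular

/-!
# Values of height-zero characters on `p`-sections of defect classes (S0927)

Let `y` represent a defect class of the block `B` and let `P` be a Sylow `p`-subgroup of `C_G(y)`.
* `irr_not_memLocalIdeal_of_degree_le`: if `ν_p(χ(1)) ≤ ν_p |G : C_G(y)|` then `χ(y)` is a unit mod
  the local ideal; the same holds for `χ(x y)`, `x` a `p`-element commuting with `y`.
* `centralChar_mul_not_memLocalIdeal`: if `x ∈ Z(P)` then `ω_χ(x y)` is a unit for all `χ ∈ B`.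
-/

set_option autoImplicit false
set_option linter.unusedSectionVars false
set_option linter.style.haveILetI false

namespace Cfsg.Agent.Lib.Helper78

open Cfsg Cfsg.Agent.Lib.Helper16
open scoped ComplexConjugate

section Val

variable {M : Ideal AlgInt} {p : ℕ}

/-- A quotient of naturals whose denominator has `p`-adic valuation at most that of the numerator
is a local integer. -/
theorem memLocalRing_natCast_div_of_factorization_le (hM : IsPModular p M) {N D : ℕ}
    (hD : D ≠ 0) (h : D.factorization p ≤ N.factorization p) :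
    MemLocalRing M ((N : ℂ) / (D : ℂ)) := by
  haveI hMp := isPModular_isPrime hM
  have hp := isPModular_prime hM
  by_cases hN : N = 0
  · subst hN
    simp only [Nat.cast_zero, zero_div]
    exact memLocalRing_zero hMp.ne_top
  have hNd := Nat.ordProj_mul_ordCompl_eq_self N p
  have hDd := Nat.ordProj_mul_ordCompl_eq_self D p
  have hD' := Nat.not_dvd_ordCompl hp hD
  set j := N.factorization p
  set k := D.factorization p
  set N' := N / p ^ j
  set D' := D / p ^ k
  have hpc : (p : ℂ) ≠ 0 := by exact_mod_cast hp.ne_zero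
  have hD'c : (D' : ℂ) ≠ 0 := by
    have : D' ≠ 0 := fun h0 => hD' (h0 ▸ dvd_zero p)
    exact_mod_cast this
  have h1 : ((p ^ k * D' : ℕ) : ℂ) = (D : ℂ) := by exact_mod_cast congrArg (Nat.cast (R := ℂ)) hDd
  have h2 : ((p ^ j * N' : ℕ) : ℂ) = (N : ℂ) := by exact_mod_cast congrArg (Nat.cast (R := ℂ)) hNd
  push_cast at h1 h2
  have hj : j = k + (j - k) := by omega
  have key : (N : ℂ) / (D : ℂ) = (p : ℂ) ^ (j - k) * ((N' : ℂ) * ((D' : ℂ))⁻¹) := by
    rw [← h1, ← h2, hj, pow_add]
    have hpk : (p : ℂ) ^ k ≠ 0 := pow_ne_zero _ hpc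
    have : k + (j - k) - k = j - k := by omega
    rw [this]
    field_simp
  rw [key]
  apply memLocalRing_mul
  · exact memLocalRing_pow (memLocalRing_natCast hMp.ne_top p) _
  · exact memLocalRing_mul (memLocalRing_natCast hMp.ne_top N') (memLocalRing_inv_natCast hM hD')

end Val

variable {G : Type*} [Group G] [Fintype G]

/-- The central character of an irreducible character as (class size / degree) times the value. -/
theorem centralChar_eq_natCast_div_mul (χ : IrrCharacter G) (g : G) :
    centralChar (χ : G → ℂ) g =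
      (((Subgroup.centralizer ({g} : Set G)).index : ℂ) / (charDegree (χ : G → ℂ) : ℂ)) *
        (χ : G → ℂ) g := by
  unfold centralChar
  rw [← IsCharacter.apply_one_eq_charDegree (IsIrrCharacter.isCharacter χ.2)]
  ring

/-- If `y` represents a defect class of `B` and `χ ∈ B` has `ν_p(χ(1)) ≤ ν_p |G : C_G(y)|`, then
`χ y` is not in the local ideal. -/
theorem irr_not_memLocalIdeal_of_degree_le {p : ℕ} [Fact p.Prime] {M : Ideal AlgInt}
    (hM : IsPModular p M) {B : Set (IrrCharacter G)} {y : G}
    (hy : IsDefectClass M B y) {χ : IrrCharacter G} (hχ : χ ∈ B)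
    (hdeg : (charDegree (χ : G → ℂ)).factorization p ≤
      ((Subgroup.centralizer ({y} : Set G)).index).factorization p) :
    ¬ MemLocalIdeal M ((χ : G → ℂ) y) := by
  haveI hMp := isPModular_isPrime hM
  intro hmem
  apply hy.2.2 χ hχ
  rw [centralChar_eq_natCast_div_mul]
  apply memLocalIdeal_mul_left _ hmem
  exact memLocalRing_natCast_div_of_factorization_le hM
    (IsIrrCharacter.charDegree_pos χ.2).ne' hdeg

/-- The same for `χ (x * y)` with `x` a `p`-element commuting with `y`. -/
theorem irr_mul_not_memLocalIdeal_of_degree_le {p : ℕ} [Fact p.Prime] {M : Ideal AlgInt}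
    (hM : IsPModular p M) {B : Set (IrrCharacter G)} (hB : IsPBlock M B) {y : G}
    (hy : IsDefectClass M B y) {χ : IrrCharacter G} (hχ : χ ∈ B)
    (hdeg : (charDegree (χ : G → ℂ)).factorization p ≤
      ((Subgroup.centralizer ({y} : Set G)).index).factorization p)
    {x : G} (hxy : Commute x y) (hx : ∃ k : ℕ, orderOf x = p ^ k) :
    ¬ MemLocalIdeal M ((χ : G → ℂ) (x * y)) := by
  haveI hMp := isPModular_isPrime hM
  intro hmem
  apply irr_not_memLocalIdeal_of_degree_le hM hy hχ hdeg
  have hpp : IsPPart p (x * y) x :=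
    ⟨y, rfl, hxy, hx, IsDefectClass.not_dvd_orderOf hM hB hy⟩
  have h1 := Cfsg.Agent.Lib.Helper76.memLocalIdeal_irr_sub_pPart p M hM χ (x * y) x hpp
  rw [inv_mul_cancel_left] at h1
  have h2 := memLocalIdeal_sub hmem h1
  rwa [sub_sub_cancel] at h2

/-- A character in `B` whose degree has minimal `p`-part. -/
theorem exists_charDegree_factorization_le_index {p : ℕ} [Fact p.Prime] {M : Ideal AlgInt}
    (hM : IsPModular p M) {B : Set (IrrCharacter G)} (hB : IsPBlock M B) {y : G}
    (hy : IsDefectClass M B y) :
    ∃ χ ∈ B, (charDegree (χ : G → ℂ)).factorization p ≤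
      ((Subgroup.centralizer ({y} : Set G)).index).factorization p := by
  have hp : p.Prime := Fact.out
  obtain ⟨χ, hχ, hle⟩ := exists_charDegree_factorization_le hM hB hy
  refine ⟨χ, hχ, ?_⟩
  set C := Subgroup.centralizer ({y} : Set G) with hC
  have hmul : Nat.card C * C.index = Nat.card G := Subgroup.card_mul_index C
  have hc0 : Nat.card C ≠ 0 := Nat.card_pos.ne'
  have hi0 : C.index ≠ 0 := Subgroup.index_ne_zero_of_finite
  have := congrArg (fun n => n.factorization p) hmul
  simp only [Nat.factorization_mul hc0 hi0, Finsupp.coe_add, Pi.add_apply] at this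
  omega

/-- Height zero gives the degree bound. -/
theorem charDegree_factorization_le_index_of_blockHeight_eq_zero {p : ℕ} [Fact p.Prime]
    {M : Ideal AlgInt} (hM : IsPModular p M) {B : Set (IrrCharacter G)} (hB : IsPBlock M B)
    {y : G} (hy : IsDefectClass M B y) {χ : IrrCharacter G}
    (hht : blockHeight p B (χ : G → ℂ) = 0) :
    (charDegree (χ : G → ℂ)).factorization p ≤
      ((Subgroup.centralizer ({y} : Set G)).index).factorization p := by
  obtain ⟨χ₀, hχ₀, hle⟩ := exists_charDegree_factorization_le_index hM hB hy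
  unfold blockHeight at hht
  have h1 : sInf ((fun ψ : IrrCharacter G => (charDegree (ψ : G → ℂ)).factorization p) '' B) ≤
      (charDegree (χ₀ : G → ℂ)).factorization p := Nat.sInf_le ⟨χ₀, hχ₀, rfl⟩
  omega

/-- If `x` is central in a Sylow `p`-subgroup of `C_G(y)`, then `C_G(x y)` has the same `p`-part
as `C_G(y)`, at least. -/
theorem factorization_index_centralizer_mul_le {p : ℕ} [Fact p.Prime] {y : G}
    (P : Sylow p (Subgroup.centralizer ({y} : Set G)))
    (x : Subgroup.centralizer ({y} : Set G))
    (hxZ : ∀ w ∈ (P : Subgroup (Subgroup.centralizer ({y} : Set G))), x * w = w * x) :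
    ((Subgroup.centralizer ({(x : G) * y} : Set G)).index).factorization p ≤
      ((Subgroup.centralizer ({y} : Set G)).index).factorization p := by
  have hp : p.Prime := Fact.out
  have hPle : (P : Subgroup (Subgroup.centralizer ({y} : Set G))).map
      (Subgroup.centralizer ({y} : Set G)).subtype ≤
      Subgroup.centralizer ({(x : G) * y} : Set G) := by
    rintro _ ⟨w, hw, rfl⟩
    rw [Subgroup.mem_centralizer_singleton_iff]
    have h1 : (w : G) * y = y * w := by
      have := w.2
      rw [Subgroup.mem_centralizer_singleton_iff] at this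
      exact this
    have h2 : (x : G) * w = w * x := by
      have := congrArg (Subtype.val : Subgroup.centralizer ({y} : Set G) → G) (hxZ w hw)
      simpa using this
    simp only [Subgroup.subtype_apply]
    calc (w : G) * ((x : G) * y) = ((w : G) * x) * y := by group
      _ = ((x : G) * w) * y := by rw [h2]
      _ = (x : G) * ((w : G) * y) := by group
      _ = (x : G) * (y * w) := by rw [h1]
      _ = (x : G) * y * w := by group
  have hcardP : Nat.card ((P : Subgroup (Subgroup.centralizer ({y} : Set G))).map
      (Subgroup.centralizer ({y} : Set G)).subtype) =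
      p ^ (Nat.card (Subgroup.centralizer ({y} : Set G))).factorization p := by
    rw [Subgroup.card_map_of_injective (Subgroup.subtype_injective _)]
    exact P.card_eq_multiplicity
  have hdvd : p ^ (Nat.card (Subgroup.centralizer ({y} : Set G))).factorization p ∣
      Nat.card (Subgroup.centralizer ({(x : G) * y} : Set G)) := by
    rw [← hcardP]
    exact Subgroup.card_dvd_of_le hPle
  have hc0 : Nat.card (Subgroup.centralizer ({y} : Set G)) ≠ 0 := Nat.card_pos.ne'
  have hc0' : Nat.card (Subgroup.centralizer ({(x : G) * y} : Set G)) ≠ 0 := Nat.card_pos.ne'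
  have hi0 : (Subgroup.centralizer ({y} : Set G)).index ≠ 0 := Subgroup.index_ne_zero_of_finite
  have hi0' : (Subgroup.centralizer ({(x : G) * y} : Set G)).index ≠ 0 :=
    Subgroup.index_ne_zero_of_finite
  have hle : (Nat.card (Subgroup.centralizer ({y} : Set G))).factorization p ≤
      (Nat.card (Subgroup.centralizer ({(x : G) * y} : Set G))).factorization p :=
    (hp.pow_dvd_iff_le_factorization hc0').mp hdvd
  have hmul := Subgroup.card_mul_index (Subgroup.centralizer ({y} : Set G))
  have hmul' := Subgroup.card_mul_index (Subgroup.centralizer ({(x : G) * y} : Set G))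
  have e1 := congrArg (fun n => n.factorization p) hmul
  have e2 := congrArg (fun n => n.factorization p) hmul'
  simp only [Nat.factorization_mul hc0 hi0, Nat.factorization_mul hc0' hi0', Finsupp.coe_add,
    Pi.add_apply] at e1 e2
  omega

/-- If `y` represents a defect class of `B`, `P` is a Sylow `p`-subgroup of `C_G(y)` and
`x ∈ Z(P)`, then `ω_χ(x y)` is not in the local ideal, for every `χ ∈ B`. -/
theorem centralChar_mul_not_memLocalIdeal {p : ℕ} [Fact p.Prime] {M : Ideal AlgInt}
    (hM : IsPModular p M) {B : Set (IrrCharacter G)} (hB : IsPBlock M B) {y : G}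
    (hy : IsDefectClass M B y) (P : Sylow p (Subgroup.centralizer ({y} : Set G)))
    (x : Subgroup.centralizer ({y} : Set G))
    (hx : x ∈ (P : Subgroup (Subgroup.centralizer ({y} : Set G))))
    (hxZ : ∀ w ∈ (P : Subgroup (Subgroup.centralizer ({y} : Set G))), x * w = w * x)
    {χ : IrrCharacter G} (hχ : χ ∈ B) :
    ¬ MemLocalIdeal M (centralChar (χ : G → ℂ) ((x : G) * y)) := by
  haveI hMp := isPModular_isPrime hM
  obtain ⟨χ₀, hχ₀, hle⟩ := exists_charDegree_factorization_le_index hM hB hy
  have hxy : Commute (x : G) y := by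
    have := x.2
    rw [Subgroup.mem_centralizer_singleton_iff] at this
    exact this
  have hxord : ∃ k : ℕ, orderOf (x : G) = p ^ k := by
    obtain ⟨k, hk⟩ := (P.2 ⟨x, hx⟩)
    have h1 : x ^ p ^ k = 1 := by
      have := congrArg (Subtype.val) hk
      simpa using this
    have h2 : (x : G) ^ p ^ k = 1 := by
      have := congrArg (Subtype.val) h1
      simpa using this
    exact (Nat.dvd_prime_pow (Fact.out : p.Prime)).mp (orderOf_dvd_of_pow_eq_one h2) |>.imp
      fun j hj => hj.2
  have h0 := irr_mul_not_memLocalIdeal_of_degree_le hM hB hy hχ₀ hle hxy hxord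
  -- the central character of `χ₀` at `x y`
  have hω₀ : ¬ MemLocalIdeal M (centralChar (χ₀ : G → ℂ) ((x : G) * y)) := by
    intro hmem
    apply h0
    have hle2 := factorization_index_le_charDegree hM hy hχ₀
    have hle3 := factorization_index_centralizer_mul_le P x hxZ
    have hS : MemLocalRing M (((charDegree (χ₀ : G → ℂ) : ℕ) : ℂ) /
        (((Subgroup.centralizer ({(x : G) * y} : Set G)).index : ℕ) : ℂ)) :=
      memLocalRing_natCast_div_of_factorization_le hM Subgroup.index_ne_zero_of_finite
        (hle3.trans hle2)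
    have h3 := memLocalIdeal_mul_left hS hmem
    rw [centralChar_eq_natCast_div_mul] at h3
    have hd0 : ((charDegree (χ₀ : G → ℂ) : ℕ) : ℂ) ≠ 0 := by
      exact_mod_cast (IsIrrCharacter.charDegree_pos χ₀.2).ne'
    have hi0 : (((Subgroup.centralizer ({(x : G) * y} : Set G)).index : ℕ) : ℂ) ≠ 0 := by
      exact_mod_cast (Subgroup.index_ne_zero_of_finite)
    have : ((charDegree (χ₀ : G → ℂ) : ℕ) : ℂ) /
        (((Subgroup.centralizer ({(x : G) * y} : Set G)).index : ℕ) : ℂ) *
        ((((Subgroup.centralizer ({(x : G) * y} : Set G)).index : ℕ) : ℂ) /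
          ((charDegree (χ₀ : G → ℂ) : ℕ) : ℂ) * (χ₀ : G → ℂ) ((x : G) * y)) =
        (χ₀ : G → ℂ) ((x : G) * y) := by
      field_simp
    rwa [this] at h3
  intro hmem
  apply hω₀
  have hsb := sameBlock_of_mem hB hχ₀ hχ ((x : G) * y)
  have := memLocalIdeal_add hsb hmem
  rwa [sub_add_cancel] at this

end Cfsg.Agent.Lib.Helper78
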