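import Mathlib
import Cfsg.Agent.Lib.Helper78.WBORank
import Cfsg.Agent.Lib.Helper78.DefectOrder
import Cfsg.Agent.S0914

/-!
# `l(B) ≤ k(B)` and the characterisation of defect zero by `k(B) = l(B)` (S4733)
-/

set_option autoImplicit false
set_option linter.unusedSectionVars false
set_option linter.style.haveILetI false

namespace Cfsg.Agent.Lib.Helper78

open Cfsg Cfsg.Agent.Lib.Helper16
open scoped ComplexConjugate

theorem not_dvd_div_iff_factorization_eq {p d n : ℕ} (hp : p.Prime) (hd : d ∣ n) (hn : n ≠ 0) :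
    ¬ p ∣ n / d ↔ d.factorization p = n.factorization p := by
  have hd0 : d ≠ 0 := fun h => hn (by rw [h] at hd; exact zero_dvd_iff.mp hd)
  have hq0 : n / d ≠ 0 := by
    obtain ⟨q, rfl⟩ := hd
    rw [Nat.mul_div_cancel_left _ (Nat.pos_of_ne_zero hd0)]
    intro h
    rw [h, mul_zero] at hn
    exact hn rfl
  have hle : d.factorization p ≤ n.factorization p :=
    (Nat.factorization_le_iff_dvd hd0 hn).mpr hd p
  have hfac : (n / d).factorization p = n.factorization p - d.factorization p := by
    rw [Nat.factorization_div hd]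
    rfl
  constructor
  · intro h
    have := Nat.factorization_eq_zero_of_not_dvd h
    omega
  · intro h hdiv
    have := hp.factorization_pos_of_dvd hq0 hdiv
    omega

section

variable {G : Type*} [Group G] [Fintype G]

/-- `blockDefect p B = 0` iff every member of `B` has degree divisible by the full `p`-part. -/
theorem blockDefect_eq_zero_iff {p : ℕ} [Fact p.Prime] {M : Ideal AlgInt}
    (hM : IsPModular p M) {B : Set (IrrCharacter G)} (hB : IsPBlock M B) :
    blockDefect p B = 0 ↔ ∀ χ ∈ B, ¬ p ∣ Nat.card G / charDegree (χ : G → ℂ) := by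
  haveI hMp := isPModular_isPrime hM
  have hp : p.Prime := Fact.out
  have hne : ((fun χ : IrrCharacter G => (charDegree (χ : G → ℂ)).factorization p) '' B).Nonempty :=
    (IsPBlock_nonempty hMp.ne_top hB).image _
  have hdvd : ∀ χ : IrrCharacter G, charDegree (χ : G → ℂ) ∣ Nat.card G :=
    fun χ => Cfsg.Agent.Lib.Helper79.irr_charDegree_dvd_card χ
  have hle : ∀ χ : IrrCharacter G, (charDegree (χ : G → ℂ)).factorization p ≤
      (Nat.card G).factorization p := fun χ =>
    (Nat.factorization_le_iff_dvd (IsIrrCharacter.charDegree_pos χ.2).ne' Nat.card_pos.ne').mpr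
      (hdvd χ) p
  unfold blockDefect
  constructor
  · intro h χ hχ
    rw [not_dvd_div_iff_factorization_eq hp (hdvd χ) Nat.card_pos.ne']
    have h1 : sInf ((fun χ : IrrCharacter G => (charDegree (χ : G → ℂ)).factorization p) '' B) ≤
        (charDegree (χ : G → ℂ)).factorization p := Nat.sInf_le ⟨χ, hχ, rfl⟩
    have := hle χ
    omega
  · intro h
    obtain ⟨χ, hχ, hχeq⟩ := Nat.sInf_mem hne
    have := (not_dvd_div_iff_factorization_eq hp (hdvd χ) Nat.card_pos.ne').mp (h χ hχ)
    simp only at hχeq
    omega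

theorem blockRank_le_card (p : ℕ) (B : Set (IrrCharacter G)) :
    blockRank p B ≤ Nat.card B := by
  classical
  haveI : Finite (IrrCharacter G) := finite_irrCharacter
  have hBfin : B.Finite := Set.toFinite B
  have himfin : ((fun χ : IrrCharacter G => pRegularPart p (χ : G → ℂ)) '' B).Finite :=
    hBfin.image _
  haveI := himfin.fintype
  unfold blockRank
  refine (finrank_span_le_card _).trans ?_
  rw [← Set.ncard_eq_toFinset_card', Nat.card_coe_set_eq]
  exact Set.ncard_image_le hBfin

theorem pRegularPart_ne_zero (p : ℕ) [Fact p.Prime] (χ : IrrCharacter G) :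
    pRegularPart p (χ : G → ℂ) ≠ 0 := by
  intro h
  have h1 := congrFun h 1
  rw [pRegularPart_apply_of_regular p _
    (by rw [orderOf_one]; exact (Fact.out : p.Prime).one_lt.ne' ∘ Nat.dvd_one.mp)] at h1
  exact Cfsg.Agent.Lib.Helper79.irr_apply_one_ne_zero χ h1

/-- Defect zero: the block is a singleton. -/
theorem eq_singleton_of_blockDefect_eq_zero {p : ℕ} [Fact p.Prime] {M : Ideal AlgInt}
    (hM : IsPModular p M) {B : Set (IrrCharacter G)} (hB : IsPBlock M B)
    (h : blockDefect p B = 0) : ∃ χ : IrrCharacter G, B = {χ} := by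
  haveI hMp := isPModular_isPrime hM
  obtain ⟨χ, hχ⟩ := IsPBlock_nonempty hMp.ne_top hB
  refine ⟨χ, ?_⟩
  rw [IsPBlock_eq_blockOf hB hχ]
  exact Cfsg.Agent.S0914.block_singleton_of_defect_zero p M hM χ
    ((blockDefect_eq_zero_iff hM hB).mp h χ hχ)

theorem blockRank_singleton (p : ℕ) [Fact p.Prime] (χ : IrrCharacter G) :
    blockRank p ({χ} : Set (IrrCharacter G)) = 1 := by
  unfold blockRank
  rw [Set.image_singleton]
  exact finrank_span_singleton (pRegularPart_ne_zero p χ)

open scoped Classical in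
/-- If the `p`-regular parts of the members of `B` are linearly independent (`k(B) = l(B)`), then
every member of `B` vanishes on the `p`-singular elements. -/
theorem vanish_of_card_eq_blockRank {p : ℕ} [Fact p.Prime] {M : Ideal AlgInt}
    (hM : IsPModular p M) {B : Set (IrrCharacter G)} (hB : IsPBlock M B)
    (hkl : Nat.card B = blockRank p B) {χ : IrrCharacter G} (hχ : χ ∈ B) {y : G}
    (hy : p ∣ orderOf y) : (χ : G → ℂ) y = 0 := by
  haveI : Finite (IrrCharacter G) := finite_irrCharacter
  haveI : Fintype B := Fintype.ofFinite B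
  have hcard : (Fintype.card G : ℂ) ≠ 0 := by exact_mod_cast Fintype.card_ne_zero
  let b : B → (G → ℂ) := fun φ => pRegularPart p ((φ : IrrCharacter G) : G → ℂ)
  have hrange : Set.range b = (fun χ : IrrCharacter G => pRegularPart p (χ : G → ℂ)) '' B := by
    ext f
    constructor
    · rintro ⟨φ, rfl⟩
      exact ⟨φ.1, φ.2, rfl⟩
    · rintro ⟨φ, hφ, rfl⟩
      exact ⟨⟨φ, hφ⟩, rfl⟩
  have hli : LinearIndependent ℂ b := by
    rw [linearIndependent_iff_card_eq_finrank_span, ← Nat.card_eq_fintype_card, hkl]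
    unfold blockRank Set.finrank
    rw [hrange]
  -- the projection fixes `χ°`
  have hproj := blockRegProj_pRegularPart hM hB hχ
  have hexp : ∀ f : G → ℂ, blockRegProj p B f = ∑ φ : B, ((Fintype.card G : ℂ)⁻¹ *
      ∑ z : G, f z * conj (pRegularPart p ((φ : IrrCharacter G) : G → ℂ) z)) • b φ := by
    intro f
    funext x
    rw [blockRegProj_apply, Finset.sum_apply, Finset.mul_sum]
    rw [Finset.sum_subtype (p := fun φ : IrrCharacter G => φ ∈ B)
      (Finset.univ.filter (fun φ : IrrCharacter G => φ ∈ B)) (by intro φ; simp)]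
    apply Finset.sum_congr rfl
    intro φ _
    simp only [Pi.smul_apply, smul_eq_mul, b]
    ring
  have hzero : ∑ φ : B, (((Fintype.card G : ℂ)⁻¹ *
      ∑ z : G, pRegularPart p (χ : G → ℂ) z * conj (pRegularPart p ((φ : IrrCharacter G) : G → ℂ) z)) -
        (if φ = ⟨χ, hχ⟩ then 1 else 0)) • b φ = 0 := by
    simp_rw [sub_smul]
    rw [Finset.sum_sub_distrib, ← hexp, hproj]
    simp only [ite_smul, one_smul, zero_smul, Finset.sum_ite_eq', Finset.mem_univ, if_true, b]
    exact sub_self _
  have hcoef := (Fintype.linearIndependent_iff.mp hli) _ hzero ⟨χ, hχ⟩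
  rw [if_pos rfl, sub_eq_zero] at hcoef
  -- hence the norm over p-regular elements is the full norm
  have hfull := Cfsg.Agent.S4969.irr_orthogonality χ χ
  rw [if_pos rfl] at hfull
  have hreg : ∑ z : G, pRegularPart p (χ : G → ℂ) z * conj (pRegularPart p (χ : G → ℂ) z) =
      (Fintype.card G : ℂ) := by
    have := congrArg (fun t => (Fintype.card G : ℂ) * t) hcoef
    simp only [mul_one] at this
    rw [← mul_assoc, mul_inv_cancel₀ hcard, one_mul] at this
    exact this
  have hdiff : ∑ z : G, ((χ : G → ℂ) z * conj ((χ : G → ℂ) z) -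
      pRegularPart p (χ : G → ℂ) z * conj (pRegularPart p (χ : G → ℂ) z)) = 0 := by
    rw [Finset.sum_sub_distrib, hfull, hreg, sub_self]
  -- all terms are nonnegative reals
  have hterm : ∀ z : G, (χ : G → ℂ) z * conj ((χ : G → ℂ) z) -
      pRegularPart p (χ : G → ℂ) z * conj (pRegularPart p (χ : G → ℂ) z) =
      ((if p ∣ orderOf z then Complex.normSq ((χ : G → ℂ) z) else 0 : ℝ) : ℂ) := by
    intro z
    by_cases hz : p ∣ orderOf z
    · rw [pRegularPart_apply_of_singular p _ hz, if_pos hz, zero_mul, sub_zero, Complex.mul_conj]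
    · rw [pRegularPart_apply_of_regular p _ hz, if_neg hz, sub_self]
      simp
  simp_rw [hterm] at hdiff
  rw [← Complex.ofReal_sum] at hdiff
  have hdiff' : ∑ z : G, (if p ∣ orderOf z then Complex.normSq ((χ : G → ℂ) z) else 0 : ℝ) = 0 := by
    exact_mod_cast hdiff
  have hnonneg : ∀ z ∈ (Finset.univ : Finset G),
      0 ≤ (if p ∣ orderOf z then Complex.normSq ((χ : G → ℂ) z) else 0 : ℝ) := by
    intro z _
    split_ifs
    · exact Complex.normSq_nonneg _
    · exact le_refl _
  have := (Finset.sum_eq_zero_iff_of_nonneg hnonneg).mp hdiff' y (Finset.mem_univ _)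
  rw [if_pos hy] at this
  exact Complex.normSq_eq_zero.mp this

/-- S4733. -/
theorem blockRank_card_defect_zero {p : ℕ} [Fact p.Prime] {M : Ideal AlgInt}
    (hM : IsPModular p M) {B : Set (IrrCharacter G)} (hB : IsPBlock M B) :
    blockRank p B ≤ Nat.card B ∧
      (blockDefect p B = 0 ↔ (Nat.card B = 1 ∧ blockRank p B = 1)) ∧
      (blockDefect p B = 0 ↔ Nat.card B = blockRank p B) := by
  have h1 : blockDefect p B = 0 → (Nat.card B = 1 ∧ blockRank p B = 1) := by
    intro h
    obtain ⟨χ, rfl⟩ := eq_singleton_of_blockDefect_eq_zero hM hB h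
    exact ⟨by simp, blockRank_singleton p χ⟩
  have h2 : Nat.card B = blockRank p B → blockDefect p B = 0 := by
    intro hkl
    rw [blockDefect_eq_zero_iff hM hB]
    intro χ hχ
    exact Cfsg.Agent.S0914.defect_zero_of_vanish p χ
      (fun y hy => vanish_of_card_eq_blockRank hM hB hkl hχ hy)
  refine ⟨blockRank_le_card p B, ⟨h1, fun h => h2 (by rw [h.1, h.2])⟩, ⟨fun h => ?_, h2⟩⟩
  obtain ⟨hk, hl⟩ := h1 h
  rw [hk, hl]

end

end Cfsg.Agent.Lib.Helper78
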