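import Mathlib
import Cfsg.Agent.Lib.Helper16.PIndex
import Cfsg.Agent.Lib.Helper16.Covering
import Cfsg.Agent.Lib.Helper78.BlockSums
import Cfsg.Agent.Lib.Helper78.CharOrtho
import Cfsg.Prelude.Def_BrauerPairs
import Cfsg.Prelude.Def_BlockLocal

/-!
# A `G`-stable block of a normal subgroup (towards S4672)

* `exists_card_mul_centralChar_congr`: if `c` is a `G`-stable block of the normal subgroup `N`,
  `θ ∈ c` and `n ∈ N`, the induced central character of `θ` at `n` is congruent to
  `r · ω_θ(n)` where `r` is the number of `N`-classes in the `G`-class of `n`,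
  `r · |N : C_N(n)| = |G : C_G(n)|`.
-/

set_option autoImplicit false
set_option linter.unusedSectionVars false
set_option linter.style.haveILetI false

namespace Cfsg.Agent.Lib.Helper78

open Cfsg Cfsg.Agent.Lib.Helper16 MonoidAlgebra
open scoped ComplexConjugate

universe u

variable {G : Type u} [Group G] [Fintype G] (N : Subgroup G) [hN : N.Normal] [Fintype N]

open scoped Classical in
omit [Fintype G] hN in
/-- Class size, with the classical decidability instance of this file. -/
theorem card_filter_isConj_eq_index (h₀ : N) :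
    (Finset.univ.filter (fun h : N => IsConj h₀ h)).card =
      (Subgroup.centralizer ({h₀} : Set N)).index := by
  convert card_isConj_eq_index h₀

open scoped Classical in
/-- Class size, with the classical decidability instance of this file. -/
theorem card_filter_isConj_eq_index' (g : G) :
    (Finset.univ.filter (fun h : G => IsConj g h)).card =
      (Subgroup.centralizer ({g} : Set G)).index := by
  convert card_isConj_eq_index g

open scoped Classical in
omit [Fintype G] hN in
/-- The sum of `θ h / θ 1` over the `N`-class of `h₀` is the central character of `θ` at `h₀`. -/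
theorem sum_class_div_eq_centralChar (θ : IrrCharacter N) (h₀ : N) :
    ∑ h ∈ Finset.univ.filter (fun h : N => IsConj h₀ h), (θ : N → ℂ) h / (θ : N → ℂ) 1 =
      centralChar (θ : N → ℂ) h₀ := by
  have h1 : ∀ h ∈ Finset.univ.filter (fun h : N => IsConj h₀ h),
      (θ : N → ℂ) h / (θ : N → ℂ) 1 = (θ : N → ℂ) h₀ / (θ : N → ℂ) 1 := by
    intro h hh
    obtain ⟨x, hx⟩ := isConj_iff.mp (Finset.mem_filter.mp hh).2
    rw [← hx, irr_conj]
  rw [Finset.sum_congr rfl h1, Finset.sum_const, card_filter_isConj_eq_index, nsmul_eq_mul]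
  unfold centralChar
  ring

open scoped Classical in
/-- **Key congruence.** -/
theorem exists_card_mul_centralChar_congr {M : Ideal AlgInt} [hMp : M.IsPrime]
    {c : Set (IrrCharacter N)} (hc : IsPBlock M c) (hst : IsGStable N c)
    {θ : IrrCharacter N} (hθ : θ ∈ c) (n : N) :
    ∃ r : ℕ, r * (Subgroup.centralizer ({n} : Set N)).index =
        (Subgroup.centralizer ({(n : G)} : Set G)).index ∧
      MemLocalIdeal M (inducedCentralChar N (θ : N → ℂ) (n : G) -
        (r : ℂ) * centralChar (θ : N → ℂ) n) := by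
  set S : Finset N := Finset.univ.filter (fun h : N => IsConj (n : G) (h : G)) with hS
  set T : Finset (ConjClasses N) := S.image ConjClasses.mk with hT
  have hmaps : ∀ h ∈ S, ConjClasses.mk h ∈ T := fun h hh => Finset.mem_image_of_mem _ hh
  -- each fibre is an `N`-class
  have hfib : ∀ h₀ ∈ S, S.filter (fun h => ConjClasses.mk h = ConjClasses.mk h₀) =
      Finset.univ.filter (fun h : N => IsConj h₀ h) := by
    intro h₀ hh₀
    ext h
    simp only [Finset.mem_filter, Finset.mem_univ, true_and]
    constructor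
    · rintro ⟨_, h2⟩
      exact (ConjClasses.mk_eq_mk_iff_isConj.mp h2).symm
    · intro h2
      refine ⟨?_, (ConjClasses.mk_eq_mk_iff_isConj.mpr h2).symm⟩
      rw [hS, Finset.mem_filter] at hh₀ ⊢
      refine ⟨Finset.mem_univ _, hh₀.2.trans ?_⟩
      obtain ⟨x, hx⟩ := isConj_iff.mp h2
      exact isConj_iff.mpr ⟨(x : G), by rw [← hx]; simp⟩
  -- conjugates of `n` have congruent central characters and the same class size
  have hconj : ∀ h₀ ∈ S, MemLocalIdeal M (centralChar (θ : N → ℂ) h₀ - centralChar (θ : N → ℂ) n) ∧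
      (Subgroup.centralizer ({h₀} : Set N)).index = (Subgroup.centralizer ({n} : Set N)).index := by
    intro h₀ hh₀
    rw [hS, Finset.mem_filter] at hh₀
    obtain ⟨x, hx⟩ := isConj_iff.mp hh₀.2
    have hh₀eq : h₀ = ⟨x * n * x⁻¹, hN.conj_mem n n.2 x⟩ := Subtype.ext hx.symm
    constructor
    · rw [hh₀eq, ← centralChar_conjIrrN]
      exact sameBlock_of_mem hc (hst θ hθ x) hθ n
    · rw [hh₀eq]
      exact index_centralizer_conjNormal N x n
  refine ⟨T.card, ?_, ?_⟩
  · -- counting
    have h1 : S.card = ∑ C ∈ T, (S.filter (fun h => ConjClasses.mk h = C)).card :=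
      Finset.card_eq_sum_card_fiberwise hmaps
    have h2 : ∀ C ∈ T, (S.filter (fun h => ConjClasses.mk h = C)).card =
        (Subgroup.centralizer ({n} : Set N)).index := by
      intro C hC
      obtain ⟨h₀, hh₀, rfl⟩ := Finset.mem_image.mp hC
      rw [hfib h₀ hh₀, card_filter_isConj_eq_index, (hconj h₀ hh₀).2]
    rw [Finset.sum_congr rfl h2, Finset.sum_const, smul_eq_mul] at h1
    rw [← h1, ← card_filter_isConj_eq_index' (n : G)]
    -- `S` is in bijection with the `G`-class of `n`
    rw [← Finset.card_image_of_injective S Subtype.val_injective]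
    congr 1
    ext g
    simp only [Finset.mem_image, Finset.mem_filter, Finset.mem_univ, true_and, hS]
    constructor
    · rintro ⟨h, hh, rfl⟩
      exact hh
    · intro hg
      obtain ⟨x, hx⟩ := isConj_iff.mp hg
      exact ⟨⟨g, hx ▸ hN.conj_mem n n.2 x⟩, hg, rfl⟩
  · -- the congruence
    have h1 : inducedCentralChar N (θ : N → ℂ) (n : G) =
        ∑ h ∈ S, (θ : N → ℂ) h / (θ : N → ℂ) 1 := by
      unfold inducedCentralChar
      rw [finsum_mem_eq_sum_of_subset (t := S) _ (by intro x hx; simpa [hS] using hx.1)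
        (by intro x hx; simpa [hS] using hx)]
    rw [h1, ← Finset.sum_fiberwise_of_maps_to hmaps]
    have h2 : (T.card : ℂ) * centralChar (θ : N → ℂ) n =
        ∑ C ∈ T, centralChar (θ : N → ℂ) n := by
      rw [Finset.sum_const, nsmul_eq_mul]
    rw [h2, ← Finset.sum_sub_distrib]
    apply memLocalIdeal_sum
    intro C hC
    obtain ⟨h₀, hh₀, rfl⟩ := Finset.mem_image.mp hC
    rw [hfib h₀ hh₀, sum_class_div_eq_centralChar]
    exact (hconj h₀ hh₀).1

omit [Fintype G] [Fintype N] in
/-- Stability in the sense of the statements gives `IsGStable`. -/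
theorem isGStable_of_stabilizesBlock {c : Set (IrrCharacter N)}
    (hst : ∀ x : G, StabilizesBlock N c x) : IsGStable N c := by
  intro θ hθ g
  obtain ⟨-, h⟩ := hst g⁻¹
  obtain ⟨θ', hθ', hconj⟩ := h θ hθ
  have : conjIrrN N g θ = θ' := by
    apply Subtype.ext
    funext n
    rw [conjIrrN_apply]
    symm
    apply hconj
    simp only [inv_inv]
    group
  rw [this]
  exact hθ'

omit [Fintype G] hN [Fintype N] in
theorem subgroupBlockCoeff_apply_mem (c : Set (IrrCharacter N)) {g : G} (hg : g ∈ N) :
    subgroupBlockCoeff N c g = blockCoeff c ⟨g, hg⟩ := by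
  unfold subgroupBlockCoeff
  rw [dif_pos hg]

omit [Fintype G] hN [Fintype N] in
theorem subgroupBlockCoeff_apply_not_mem (c : Set (IrrCharacter N)) {g : G} (hg : g ∉ N) :
    subgroupBlockCoeff N c g = 0 := by
  unfold subgroupBlockCoeff
  rw [dif_neg hg]

omit [Fintype G] hN in
theorem coeff_stableElt_eq_subgroupBlockCoeff (c : Set (IrrCharacter N)) (g : G) :
    (stableElt N c).coeff g = subgroupBlockCoeff N c g := by
  by_cases hg : g ∈ N
  · rw [subgroupBlockCoeff_apply_mem N c hg]
    exact coeff_stableElt_coe N c ⟨g, hg⟩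
  · rw [subgroupBlockCoeff_apply_not_mem N c hg, coeff_stableElt_of_not_mem N c hg]

/-- `∑ z(g) χ(g) = ω_χ(z) χ(1)`. -/
theorem sum_coeff_mul_irr (z : MonoidAlgebra ℂ G) (χ : IrrCharacter G) :
    ∑ g : G, z.coeff g * (χ : G → ℂ) g = omega (χ : G → ℂ) z * (χ : G → ℂ) 1 := by
  unfold omega
  rw [div_mul_cancel₀ _ (Cfsg.Agent.Lib.Helper79.irr_apply_one_ne_zero χ)]

open scoped Classical in
/-- A set of irreducible characters whose idempotent is that of the stable set `c` consists of the
characters lying over `c`. -/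
theorem mem_iff_constituent_mem_of_blockCoeff_eq {c : Set (IrrCharacter N)} (hst : IsGStable N c)
    {B : Set (IrrCharacter G)} (hBc : ∀ g : G, blockCoeff B g = (stableElt N c).coeff g)
    (χ : IrrCharacter G) (θ : IrrCharacter N)
    (hθ : classInner (fun n : N => (χ : G → ℂ) n) (θ : N → ℂ) ≠ 0) : χ ∈ B ↔ θ ∈ c := by
  have h1 := sum_coeff_mul_irr (stableElt N c) χ
  rw [omega_stableElt N hst χ θ hθ] at h1
  simp only [← hBc] at h1
  have hχ1 : (χ : G → ℂ) 1 ≠ 0 := Cfsg.Agent.Lib.Helper79.irr_apply_one_ne_zero χ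
  constructor
  · intro hχ
    by_contra hθc
    rw [sum_blockCoeff_mul_irr B hχ, if_neg hθc, zero_mul] at h1
    exact hχ1 h1
  · intro hθc
    by_contra hχ
    rw [sum_blockCoeff_mul_irr_of_not_mem B hχ, if_pos hθc, one_mul] at h1
    exact hχ1 h1.symm

open scoped Classical in
/-- **Part 1 of S4672.**  A `G`-stable block of a normal subgroup of `p`-power index has a block
idempotent of `G` as its idempotent. -/
theorem exists_block_eq_stableElt {p : ℕ} [Fact p.Prime] {M : Ideal AlgInt}
    (hM : IsPModular p M) {k : ℕ} (hidx : N.index = p ^ k) {c : Set (IrrCharacter N)}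
    (hc : IsPBlock M c) (hst : IsGStable N c) :
    ∃ B : Set (IrrCharacter G), IsPBlock M B ∧
      ∀ g : G, blockCoeff B g = (stableElt N c).coeff g := by
  haveI hMp := isPModular_isPrime hM
  obtain ⟨θ₀, hθ₀⟩ := IsPBlock_nonempty hMp.ne_top hc
  obtain ⟨χ₀, hχ₀⟩ := exists_irr_over N θ₀
  refine ⟨blockOf M (χ₀ : G → ℂ), ⟨χ₀, rfl⟩, ?_⟩
  set B := blockOf M (χ₀ : G → ℂ) with hB
  have hR : ∀ n : N, MemLocalRing M (blockCoeff c n) := fun n => blockCoeff_memLocalRing hc n
  -- membership in `B` is lying over `c`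
  have hmem : ∀ (χ : IrrCharacter G) (θ : IrrCharacter N),
      classInner (fun n : N => (χ : G → ℂ) n) (θ : N → ℂ) ≠ 0 → (χ ∈ B ↔ θ ∈ c) := by
    intro χ θ hθ
    constructor
    · intro hχ
      exact (constituent_mem_iff_of_sameBlock (M := M) N hst hR hχ hχ₀ hθ).mp hθ₀
    · intro hθc
      exact sameBlock_of_constituents_sameBlock N hM hidx hχ₀ hθ (sameBlock_of_mem hc hθ₀ hθc)
  have hf : IsClassFunction G (fun g => (stableElt N c).coeff g - blockCoeff B g) := by
    intro g h
    show (stableElt N c).coeff (h * g * h⁻¹) - blockCoeff B (h * g * h⁻¹) = _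
    rw [coeff_conj_of_mem_center (stableElt_mem_center N hst), isClassFunction_blockCoeff B g h]
  have h0 := eq_zero_of_forall_sum_mul_irr_eq_zero hf (by
    intro χ
    simp only [sub_mul, Finset.sum_sub_distrib]
    obtain ⟨θ, hθ⟩ := exists_constituent N χ
    rw [sum_coeff_mul_irr, omega_stableElt N hst χ θ hθ]
    by_cases hχ : χ ∈ B
    · rw [sum_blockCoeff_mul_irr B hχ, if_pos ((hmem χ θ hθ).mp hχ), one_mul, sub_self]
    · rw [sum_blockCoeff_mul_irr_of_not_mem B hχ, if_neg (fun h => hχ ((hmem χ θ hθ).mpr h)),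
        zero_mul, sub_self])
  intro g
  have := congrFun h0 g
  simp only [Pi.zero_apply] at this
  exact (sub_eq_zero.mp this).symm

omit [Fintype G] hN [Fintype N] in
/-- The centralizer in `N` has order dividing that of the centralizer in `G`. -/
theorem card_centralizer_subgroup_dvd (n : N) :
    Nat.card (Subgroup.centralizer ({n} : Set N)) ∣
      Nat.card (Subgroup.centralizer ({(n : G)} : Set G)) := by
  have hle : (Subgroup.centralizer ({n} : Set N)).map N.subtype ≤
      Subgroup.centralizer ({(n : G)} : Set G) := by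
    rintro _ ⟨w, hw, rfl⟩
    rw [SetLike.mem_coe, Subgroup.mem_centralizer_singleton_iff] at hw
    rw [Subgroup.mem_centralizer_singleton_iff]
    have := congrArg (Subtype.val : N → G) hw
    simpa using this
  have := Subgroup.card_dvd_of_le hle
  rwa [Subgroup.card_map_of_injective (Subgroup.subtype_injective _)] at this

open scoped Classical in
/-- **Part 2 of S4672, the defect class.**  A defect class of a block of `G` whose idempotent is
that of the `G`-stable block `c` of `N` lies in `N`, is a defect class of `c`, and its `G`-class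
is a single `N`-class. -/
theorem isDefectClass_of_blockCoeff_eq {p : ℕ} [Fact p.Prime] {M : Ideal AlgInt}
    (hM : IsPModular p M) {k : ℕ} (hidx : N.index = p ^ k) {c : Set (IrrCharacter N)}
    (hc : IsPBlock M c) (hst : IsGStable N c) {B : Set (IrrCharacter G)} (hB : IsPBlock M B)
    (hBc : ∀ g : G, blockCoeff B g = (stableElt N c).coeff g) {g : G}
    (hg : IsDefectClass M B g) :
    ∃ hgN : g ∈ N, IsDefectClass M c ⟨g, hgN⟩ ∧
      (Subgroup.centralizer ({(⟨g, hgN⟩ : N)} : Set N)).index =
        (Subgroup.centralizer ({g} : Set G)).index := by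
  haveI hMp := isPModular_isPrime hM
  have hp : p.Prime := Fact.out
  have hgN : g ∈ N := by
    by_contra hgN
    apply hg.2.1
    rw [hBc, coeff_stableElt_of_not_mem N c hgN]
    exact memLocalIdeal_zero hMp.ne_top
  refine ⟨hgN, ?_⟩
  set n : N := ⟨g, hgN⟩ with hn
  have hcoeff : blockCoeff c n = blockCoeff B g := by
    rw [hBc]
    exact (coeff_stableElt_coe N c n).symm
  obtain ⟨χ, hχ⟩ := IsPBlock_nonempty hMp.ne_top hB
  obtain ⟨θ₀, hθ₀⟩ := exists_constituent N χ
  have hθ₀c : θ₀ ∈ c := (mem_iff_constituent_mem_of_blockCoeff_eq N hst hBc χ θ₀ hθ₀).mp hχ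
  have hω : ¬ MemLocalIdeal M (inducedCentralChar N (θ₀ : N → ℂ) (n : G)) := by
    rw [← centralChar_eq_inducedCentralChar_of_constituent N χ θ₀ hθ₀ n]
    exact hg.2.2 χ hχ
  obtain ⟨r, hr, hcong⟩ := exists_card_mul_centralChar_congr N hc hst hθ₀c n
  have hωS : MemLocalRing M (centralChar (θ₀ : N → ℂ) n) :=
    memLocalRing_of_isIntegral hMp.ne_top (Cfsg.Agent.Lib.Helper79.isIntegral_centralChar θ₀ n)
  have hrω : ¬ MemLocalIdeal M ((r : ℂ) * centralChar (θ₀ : N → ℂ) n) := by
    intro hmem
    apply hω
    have := memLocalIdeal_add hcong hmem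
    rwa [sub_add_cancel] at this
  have hω₀ : ¬ MemLocalIdeal M (centralChar (θ₀ : N → ℂ) n) := fun hmem =>
    hrω (memLocalIdeal_mul_left (memLocalRing_natCast hMp.ne_top r) hmem)
  have hpr : ¬ p ∣ r := fun hdiv =>
    hrω (memLocalIdeal_mul_right ((memLocalIdeal_natCast_iff hM r).mpr hdiv) hωS)
  -- `r` divides `p ^ k`
  have hr1 : r = 1 := by
    have h1 := (Subgroup.centralizer ({n} : Set N)).card_mul_index
    have h2 := (Subgroup.centralizer ({(n : G)} : Set G)).card_mul_index
    have h3 := N.card_mul_index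
    obtain ⟨j, hj⟩ := card_centralizer_subgroup_dvd N n
    have hcn0 : Nat.card (Subgroup.centralizer ({n} : Set N)) ≠ 0 := Nat.card_pos.ne'
    have hin0 : (Subgroup.centralizer ({n} : Set N)).index ≠ 0 := Subgroup.index_ne_zero_of_finite
    have hkey : r * j = p ^ k := by
      have e : (Nat.card (Subgroup.centralizer ({n} : Set N)) *
          (Subgroup.centralizer ({n} : Set N)).index) * (r * j) =
          (Nat.card (Subgroup.centralizer ({n} : Set N)) *
          (Subgroup.centralizer ({n} : Set N)).index) * p ^ k := by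
        calc (Nat.card (Subgroup.centralizer ({n} : Set N)) *
              (Subgroup.centralizer ({n} : Set N)).index) * (r * j)
            = (Nat.card (Subgroup.centralizer ({n} : Set N)) * j) *
              (r * (Subgroup.centralizer ({n} : Set N)).index) := by ring
          _ = Nat.card (Subgroup.centralizer ({(n : G)} : Set G)) *
              (Subgroup.centralizer ({(n : G)} : Set G)).index := by rw [← hj, hr]
          _ = Nat.card G := h2
          _ = Nat.card N * N.index := h3.symm
          _ = _ := by rw [h1, hidx]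
      exact Nat.eq_of_mul_eq_mul_left (Nat.pos_of_ne_zero (mul_ne_zero hcn0 hin0)) e
    have hdvd : r ∣ p ^ k := ⟨j, hkey.symm⟩
    obtain ⟨i, _, hi⟩ := (Nat.dvd_prime_pow hp).mp hdvd
    rw [hi] at hpr ⊢
    rcases Nat.eq_zero_or_pos i with h0 | h0
    · rw [h0, pow_zero]
    · exact absurd (dvd_pow_self p h0.ne') hpr
  refine ⟨⟨?_, ?_, ?_⟩, ?_⟩
  · rw [hcoeff]; exact hg.1
  · rw [hcoeff]; exact hg.2.1
  · intro θ hθ hmem
    apply hω₀
    have := memLocalIdeal_add (sameBlock_of_mem hc hθ₀c hθ n) hmem
    rwa [sub_add_cancel] at this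
  · rw [← hr, hr1, one_mul]

omit [Fintype N] in
/-- **Part 2 of S4672, the group theory.**  If `N` is normal of `p`-power index, `n ∈ N` has the
same class size in `N` and in `G`, and `P` is a Sylow `p`-subgroup of `C_G(n)`, then `G = N P` and
`P ∩ N` is a Sylow `p`-subgroup of `C_N(n)`. -/
theorem sup_eq_top_and_exists_sylow {p : ℕ} [Fact p.Prime] {k : ℕ} (hidx : N.index = p ^ k)
    (n : N)
    (hind : (Subgroup.centralizer ({n} : Set N)).index =
      (Subgroup.centralizer ({(n : G)} : Set G)).index)
    (Psyl : Sylow p (Subgroup.centralizer ({(n : G)} : Set G))) :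
    N ⊔ (Psyl : Subgroup (Subgroup.centralizer ({(n : G)} : Set G))).map
        (Subgroup.centralizer ({(n : G)} : Set G)).subtype = ⊤ ∧
      ∃ Q : Sylow p (Subgroup.centralizer ({n} : Set N)),
        (((Psyl : Subgroup (Subgroup.centralizer ({(n : G)} : Set G))).map
          (Subgroup.centralizer ({(n : G)} : Set G)).subtype) ⊓ N).subgroupOf N =
          (Q : Subgroup (Subgroup.centralizer ({n} : Set N))).map
            (Subgroup.centralizer ({n} : Set N)).subtype := by
  have hp : p.Prime := Fact.out
  obtain ⟨P, hPdef⟩ : ∃ P : Subgroup G, P = (Psyl : Subgroup (Subgroup.centralizer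
      ({(n : G)} : Set G))).map (Subgroup.centralizer ({(n : G)} : Set G)).subtype := ⟨_, rfl⟩
  rw [← hPdef]
  obtain ⟨CN, hCN⟩ : ∃ CN : Subgroup N, CN = Subgroup.centralizer ({n} : Set N) := ⟨_, rfl⟩
  obtain ⟨C, hC⟩ : ∃ C : Subgroup G, C = Subgroup.centralizer ({(n : G)} : Set G) := ⟨_, rfl⟩
  -- (F1)
  have hF1 : Nat.card C = Nat.card CN * p ^ k := by
    have h1 := CN.card_mul_index
    have h2 := C.card_mul_index
    have h3 := N.card_mul_index
    have hi0 : C.index ≠ 0 := Subgroup.index_ne_zero_of_finite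
    have hind' : CN.index = C.index := by rw [hCN, hC]; exact hind
    have e : Nat.card C * C.index = (Nat.card CN * p ^ k) * C.index := by
      calc Nat.card C * C.index = Nat.card G := h2
        _ = Nat.card N * N.index := h3.symm
        _ = (Nat.card CN * CN.index) * p ^ k := by rw [h1, hidx]
        _ = _ := by rw [hind']; ring
    exact Nat.eq_of_mul_eq_mul_right (Nat.pos_of_ne_zero hi0) e
  have hCN0 : Nat.card CN ≠ 0 := Nat.card_pos.ne'
  -- (F2)
  have hF2 : Nat.card P = p ^ (k + (Nat.card CN).factorization p) := by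
    rw [hPdef, Subgroup.card_map_of_injective (Subgroup.subtype_injective _),
      Psyl.card_eq_multiplicity, ← hC, hF1,
      Nat.factorization_mul hCN0 (pow_ne_zero _ hp.ne_zero)]
    simp only [Finsupp.coe_add, Pi.add_apply, Nat.factorization_pow, Finsupp.coe_smul,
      Pi.smul_apply, smul_eq_mul, hp.factorization_self, mul_one]
    rw [add_comm]
  have hPle : P ≤ C := by
    rw [hPdef, hC]
    rintro _ ⟨w, _, rfl⟩
    exact w.2
  have hPp : IsPGroup p P := by
    rw [hPdef]
    exact Psyl.2.map _
  -- (F3)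
  set A : Subgroup G := P ⊓ N with hA
  have hAN : A ≤ N := inf_le_right
  have hAP : A ≤ P := inf_le_left
  have hAle : A.subgroupOf N ≤ CN := by
    intro a ha
    rw [hCN, Subgroup.mem_centralizer_singleton_iff]
    have h1 : (a : G) ∈ C := hPle (hAP (Subgroup.mem_subgroupOf.mp ha))
    rw [hC, Subgroup.mem_centralizer_singleton_iff] at h1
    exact Subtype.ext (by simpa using h1)
  have hcardA1 : Nat.card (A.subgroupOf N) = Nat.card A :=
    Nat.card_congr (Subgroup.subgroupOfEquivOfLe hAN).toEquiv
  have hAp : IsPGroup p A := hPp.to_le hAP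
  obtain ⟨i, hi⟩ := IsPGroup.iff_card.mp hAp
  have hile : i ≤ (Nat.card CN).factorization p := by
    have h1 : Nat.card A ∣ Nat.card CN := by
      rw [← hcardA1]
      exact Subgroup.card_dvd_of_le hAle
    rw [hi] at h1
    exact (hp.pow_dvd_iff_le_factorization hCN0).mp h1
  -- (F4)
  have hF4 : Nat.card A * N.relIndex P = Nat.card P := by
    have h1 := (A.subgroupOf P).card_mul_index
    have h2 : Nat.card (A.subgroupOf P) = Nat.card A :=
      Nat.card_congr (Subgroup.subgroupOfEquivOfLe hAP).toEquiv
    have h3 : (A.subgroupOf P).index = N.relIndex P := by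
      show A.relIndex P = N.relIndex P
      rw [hA, Subgroup.inf_relIndex_left]
    rw [h2, h3] at h1
    exact h1
  have hrel : N.relIndex P ∣ p ^ k := by
    rw [← hidx]
    exact Subgroup.relIndex_dvd_index_of_normal N P
  obtain ⟨i', hi'k, hi'⟩ := (Nat.dvd_prime_pow hp).mp hrel
  -- (F5)
  have hF5 : i + i' = k + (Nat.card CN).factorization p := by
    have := hF4
    rw [hi, hi', hF2, ← pow_add] at this
    exact Nat.pow_right_injective hp.two_le this
  have hi_eq : i = (Nat.card CN).factorization p := by omega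
  have hi'_eq : i' = k := by omega
  constructor
  · -- (F6)
    rw [← Subgroup.index_eq_one]
    have h1 := Subgroup.relIndex_mul_index (le_sup_left : N ≤ N ⊔ P)
    rw [Subgroup.relIndex_sup_left, hi', hi'_eq, hidx] at h1
    have hpk : 0 < p ^ k := pow_pos hp.pos k
    exact Nat.eq_of_mul_eq_mul_left hpk (by rw [h1, mul_one])
  · -- (F7)
    have hcard : Nat.card ((A.subgroupOf N).subgroupOf (Subgroup.centralizer ({n} : Set N))) =
        p ^ (Nat.card (Subgroup.centralizer ({n} : Set N))).factorization p := by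
      rw [← hCN, Nat.card_congr (Subgroup.subgroupOfEquivOfLe hAle).toEquiv, hcardA1, hi, hi_eq]
    refine ⟨Sylow.ofCard _ hcard, ?_⟩
    rw [Sylow.coe_ofCard, Subgroup.subgroupOf_map_subtype, ← hCN, inf_of_le_left hAle]

end Cfsg.Agent.Lib.Helper78
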