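import Mathlib
import Cfsg.Agent.Lib.Helper78.SMTOrtho
import Cfsg.Agent.Lib.Helper78.CharOrtho

/-!
# Summation over a finite group by `p`-sections

`sum_eq_sum_sections`: for a class function `F` and a set `X` of representatives of the classes of
`p`-elements, `∑_g F g = ∑_{x ∈ X} |G : C_G(x)| ∑_{s ∈ C_G(x) p-regular} F (x s)`.
-/

set_option autoImplicit false
set_option linter.unusedSectionVars false
set_option linter.style.haveILetI false

namespace Cfsg.Agent.Lib.Helper78

open Cfsg Finset

section

variable {G : Type*} [Group G] [Fintype G]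

theorem isPPart_conj_iff {p : ℕ} (g x a : G) :
    IsPPart p (a * g * a⁻¹) (a * x * a⁻¹) ↔ IsPPart p g x := by
  constructor
  · intro h
    have := isPPart_conj h a⁻¹
    have e1 : a⁻¹ * (a * g * a⁻¹) * a⁻¹⁻¹ = g := by group
    have e2 : a⁻¹ * (a * x * a⁻¹) * a⁻¹⁻¹ = x := by group
    rwa [e1, e2] at this
  · intro h
    exact isPPart_conj h a

open scoped Classical in
/-- The sum of `F` over the elements with `p`-part `x'`. -/
noncomputable def sectionSum (p : ℕ) (F : G → ℂ) (x' : G) : ℂ :=
  ∑ g : G, if IsPPart p g x' then F g else 0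

open scoped Classical in
theorem sum_eq_sum_sectionSum {p : ℕ} [Fact p.Prime] (F : G → ℂ) :
    ∑ g : G, F g = ∑ x' : G, sectionSum p F x' := by
  unfold sectionSum
  rw [Finset.sum_comm]
  apply Finset.sum_congr rfl
  intro g _
  obtain ⟨x, hx⟩ := exists_isPPart p g
  rw [Finset.sum_eq_single x]
  · rw [if_pos hx]
  · intro x' _ hne
    rw [if_neg]
    intro hx'
    exact hne (isPPart_unique hx' hx)
  · intro h
    exact absurd (Finset.mem_univ x) h

open scoped Classical in
theorem sectionSum_conj {p : ℕ} {F : G → ℂ} (hF : IsClassFunction G F) (x' a : G) :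
    sectionSum p F (a * x' * a⁻¹) = sectionSum p F x' := by
  unfold sectionSum
  symm
  refine Fintype.sum_equiv (MulAut.conj a).toEquiv
    (fun g => if IsPPart p g x' then F g else 0)
    (fun g => if IsPPart p g (a * x' * a⁻¹) then F g else 0) ?_
  intro g
  show (if IsPPart p g x' then F g else 0) =
    if IsPPart p (a * g * a⁻¹) (a * x' * a⁻¹) then F (a * g * a⁻¹) else 0
  rw [hF g a]
  by_cases h : IsPPart p g x'
  · rw [if_pos h, if_pos ((isPPart_conj_iff g x' a).mpr h)]
  · rw [if_neg h, if_neg (fun h' => h ((isPPart_conj_iff g x' a).mp h'))]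

open scoped Classical in
theorem sectionSum_eq_zero {p : ℕ} (F : G → ℂ) {x' : G} (hx' : ¬ ∃ k : ℕ, orderOf x' = p ^ k) :
    sectionSum p F x' = 0 := by
  unfold sectionSum
  apply Finset.sum_eq_zero
  intro g _
  rw [if_neg]
  rintro ⟨y, _, _, hk, _⟩
  exact hx' hk

open scoped Classical in
/-- The section sum at `x` as a sum over the `p`-regular elements of the centralizer. -/
theorem sectionSum_eq_sum_centralizer {p : ℕ} (F : G → ℂ) {x : G}
    (hx : ∃ k : ℕ, orderOf x = p ^ k) [Fintype (Subgroup.centralizer ({x} : Set G))] :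
    sectionSum p F x = ∑ s : Subgroup.centralizer ({x} : Set G),
      if p ∣ orderOf s then 0 else F (x * (s : G)) := by
  unfold sectionSum
  have hiff : ∀ g' : G, IsPPart p (x * g') x ↔
      g' ∈ Subgroup.centralizer ({x} : Set G) ∧ ¬ p ∣ orderOf g' := by
    intro g'
    constructor
    · rintro ⟨y, hxy, hcomm, _, hy⟩
      have : y = g' := mul_left_cancel hxy
      subst this
      refine ⟨?_, hy⟩
      rw [Subgroup.mem_centralizer_iff]
      intro s hs
      rw [Set.mem_singleton_iff] at hs
      rw [hs]
      exact hcomm.eq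
    · rintro ⟨hmem, hreg⟩
      rw [Subgroup.mem_centralizer_iff] at hmem
      exact ⟨g', rfl, hmem x (Set.mem_singleton x), hx, hreg⟩
  have h1 : ∑ g : G, (if IsPPart p g x then F g else 0) =
      ∑ g' : G, if IsPPart p (x * g') x then F (x * g') else 0 := by
    symm
    exact Fintype.sum_equiv (Equiv.mulLeft x) _ _ (fun g' => rfl)
  rw [h1]
  have h2 : ∑ g' : G, (if IsPPart p (x * g') x then F (x * g') else 0) =
      ∑ g' ∈ Finset.univ.filter (fun g' : G => g' ∈ Subgroup.centralizer ({x} : Set G)),
        if p ∣ orderOf g' then 0 else F (x * g') := by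
    rw [Finset.sum_filter]
    apply Finset.sum_congr rfl
    intro g' _
    by_cases hmem : g' ∈ Subgroup.centralizer ({x} : Set G)
    · rw [if_pos hmem]
      by_cases hreg : p ∣ orderOf g'
      · rw [if_pos hreg, if_neg]
        intro h
        exact ((hiff g').mp h).2 hreg
      · rw [if_neg hreg, if_pos ((hiff g').mpr ⟨hmem, hreg⟩)]
    · rw [if_neg hmem, if_neg]
      intro h
      exact hmem ((hiff g').mp h).1
  rw [h2, Finset.sum_subtype (p := fun g' : G => g' ∈ Subgroup.centralizer ({x} : Set G))
    (Finset.univ.filter (fun g' : G => g' ∈ Subgroup.centralizer ({x} : Set G))) (by simp)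
    (fun g' => if p ∣ orderOf g' then 0 else F (x * g'))]
  apply Finset.sum_congr rfl
  intro s _
  rw [Subgroup.orderOf_coe]

open scoped Classical in
/-- **Summation by sections.** -/
theorem sum_eq_sum_sections {p : ℕ} [Fact p.Prime] (X : Finset G)
    (hXrep : ∀ g : G, (∃ k : ℕ, orderOf g = p ^ k) → ∃! x, x ∈ X ∧ IsConj g x)
    {F : G → ℂ} (hF : IsClassFunction G F) :
    ∑ g : G, F g = ∑ x ∈ X, ((Subgroup.centralizer ({x} : Set G)).index : ℂ) *
      sectionSum p F x := by
  rw [sum_eq_sum_sectionSum (p := p) F]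
  -- group the p-elements by their representative
  have h1 : ∑ x' : G, sectionSum p F x' =
      ∑ x ∈ X, ∑ x' : G, if IsConj x' x then sectionSum p F x' else 0 := by
    rw [Finset.sum_comm]
    apply Finset.sum_congr rfl
    intro x' _
    by_cases hx' : ∃ k : ℕ, orderOf x' = p ^ k
    · obtain ⟨x, ⟨hxX, hxc⟩, huniq⟩ := hXrep x' hx'
      rw [Finset.sum_eq_single x]
      · rw [if_pos hxc]
      · intro y hy hne
        rw [if_neg]
        intro hc
        exact hne (huniq y ⟨hy, hc⟩)
      · intro h
        exact absurd hxX h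
    · rw [sectionSum_eq_zero F hx']
      simp
  rw [h1]
  apply Finset.sum_congr rfl
  intro x _
  have h2 : ∀ x' : G, (if IsConj x' x then sectionSum p F x' else 0) =
      if IsConj x x' then sectionSum p F x else 0 := by
    intro x'
    by_cases hc : IsConj x x'
    · rw [if_pos hc, if_pos hc.symm]
      obtain ⟨a, ha⟩ := isConj_iff.mp hc
      rw [← ha, sectionSum_conj hF]
    · rw [if_neg hc, if_neg (fun h => hc h.symm)]
  rw [Finset.sum_congr rfl (fun x' _ => h2 x'), ← Finset.sum_filter, Finset.sum_const,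
    card_isConj_eq_index, nsmul_eq_mul]

end

end Cfsg.Agent.Lib.Helper78
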