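import Mathlib
import Cfsg.Agent.Lib.Helper78.SectionSum
import Cfsg.Agent.Lib.Helper78.SubsectionNorm2
import Cfsg.Agent.S4969

/-!
# Brauer's count `k(B) = ∑_x ∑_{b^G = B} l(b)`
-/

set_option autoImplicit false
set_option linter.unusedSectionVars false
set_option linter.style.haveILetI false

namespace Cfsg.Agent.Lib.Helper78

open Cfsg MonoidAlgebra Finset Cfsg.Agent.Lib.Helper16
open scoped ComplexConjugate

section Kernel

variable {H : Type*} [Group H] [Fintype H] {M : Ideal AlgInt} [hMp : M.IsPrime]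

open scoped Classical in
/-- Weak block orthogonality for a union of blocks. -/
theorem blockKernel_union_eq_zero {p : ℕ} [Fact p.Prime] (hM : IsPModular p M)
    (S : Set (IrrCharacter H))
    (hS : ∀ ξ ξ' : IrrCharacter H, ξ ∈ S → SameBlock M (ξ : H → ℂ) (ξ' : H → ℂ) → ξ' ∈ S)
    {s c : H} (hs : ¬ p ∣ orderOf s) (hc : p ∣ orderOf c) : blockKernel S s c = 0 := by
  unfold blockKernel
  apply sum_eq_zero_of_forall_block (M := M) S hS
    (fun ξ => (ξ : H → ℂ) s * conj ((ξ : H → ℂ) c))
  intro ξ₀ _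
  have := blockKernel_eq_zero_right hM (isPBlock_blockOf ξ₀) hs hc
  unfold blockKernel at this
  exact this

open scoped Classical in
/-- Part 3: the `p`-regular norm of a union of blocks is `|H|` times the sum of their ranks. -/
theorem sum_pRegular_blockKernel_family {p : ℕ} [Fact p.Prime] (hM : IsPModular p M)
    (𝓑 : Set (Set (IrrCharacter H))) (h𝓑 : ∀ b ∈ 𝓑, IsPBlock M b) :
    ∑ s : H, (if p ∣ orderOf s then 0 else
        blockKernel {ξ : IrrCharacter H | blockOf M (ξ : H → ℂ) ∈ 𝓑} s s) =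
      (Nat.card H : ℂ) * ∑ᶠ b ∈ 𝓑, (blockRank p b : ℂ) := by
  have hfin : 𝓑.Finite := Set.toFinite 𝓑
  rw [finsum_mem_eq_finite_toFinset_sum _ hfin, Finset.mul_sum]
  -- the norm of a single character
  obtain ⟨g, hg⟩ : ∃ g : IrrCharacter H → ℂ, g = fun ξ : IrrCharacter H => ∑ s : H,
      if p ∣ orderOf s then 0 else (ξ : H → ℂ) s * conj ((ξ : H → ℂ) s) := ⟨_, rfl⟩
  have h1 : ∑ s : H, (if p ∣ orderOf s then 0 else
        blockKernel {ξ : IrrCharacter H | blockOf M (ξ : H → ℂ) ∈ 𝓑} s s) =
      ∑ ξ ∈ Finset.univ.filter (fun ξ : IrrCharacter H => blockOf M (ξ : H → ℂ) ∈ 𝓑), g ξ := by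
    rw [hg]
    rw [Finset.sum_comm]
    apply Finset.sum_congr rfl
    intro s _
    split_ifs with hs
    · simp
    · unfold blockKernel
      apply Finset.sum_congr _ (fun _ _ => rfl)
      apply Finset.ext
      intro ξ
      simp
  rw [h1]
  have hmaps : ∀ ξ ∈ Finset.univ.filter (fun ξ : IrrCharacter H => blockOf M (ξ : H → ℂ) ∈ 𝓑),
      blockOf M (ξ : H → ℂ) ∈ hfin.toFinset := by
    intro ξ hξ
    rw [Set.Finite.mem_toFinset]
    exact (Finset.mem_filter.mp hξ).2
  rw [← Finset.sum_fiberwise_of_maps_to hmaps]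
  apply Finset.sum_congr rfl
  intro b hb
  rw [Set.Finite.mem_toFinset] at hb
  have hbB := h𝓑 b hb
  rw [card_mul_blockRank hM hbB, hg]
  -- the fibre is `b`
  have hfib : (Finset.univ.filter (fun ξ : IrrCharacter H => blockOf M (ξ : H → ℂ) ∈ 𝓑)).filter
      (fun ξ : IrrCharacter H => blockOf M (ξ : H → ℂ) = b) =
      Finset.univ.filter (fun ξ : IrrCharacter H => ξ ∈ b) := by
    apply Finset.ext
    intro ξ
    simp only [Finset.mem_filter, Finset.mem_univ, true_and]
    constructor
    · rintro ⟨_, h⟩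
      rw [← h]
      exact self_mem_blockOf hMp.ne_top ξ
    · intro h
      have hbb : blockOf M (ξ : H → ℂ) = b := (IsPBlock_eq_blockOf hbB h).symm
      refine ⟨?_, hbb⟩
      rw [hbb]
      exact hb
  rw [hfib, Finset.sum_comm]
  apply Finset.sum_congr rfl
  intro s _
  rw [finsum_mem_eq_sum_of_subset (t := Finset.univ.filter (fun ξ : IrrCharacter H => ξ ∈ b))
    _ (by intro χ hχ; simpa using hχ.1) (by intro χ hχ; simpa using hχ)]
  apply Finset.sum_congr rfl
  intro ξ _
  split_ifs with hs
  · rw [pRegularPart_apply_of_singular p _ hs, zero_mul]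
  · rw [pRegularPart_apply_of_regular p _ hs, IsCharacter.inv (IsIrrCharacter.isCharacter ξ.2)]

end Kernel

section Count

variable {G : Type*} [Group G] [Fintype G] {M : Ideal AlgInt} [hMp : M.IsPrime]

open scoped Classical in
/-- Part 2: `∑_{χ ∈ B} |χ(x s)|² = K_{S_B}(s, s)`. -/
theorem sum_block_norm_section {p : ℕ} [Fact p.Prime] (hM : IsPModular p M) (x : G)
    (hx : ∃ k : ℕ, orderOf x = p ^ k) [Fintype (Subgroup.centralizer ({x} : Set G))]
    {B : Set (IrrCharacter G)} (hB : IsPBlock M B)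
    (s : Subgroup.centralizer ({x} : Set G)) (hs : ¬ p ∣ orderOf s) :
    ∑ χ ∈ Finset.univ.filter (fun χ : IrrCharacter G => χ ∈ B),
      (χ : G → ℂ) (x * (s : G)) * conj ((χ : G → ℂ) (x * (s : G))) =
      blockKernel (inducingSet M (Subgroup.centralizer ({x} : Set G)) B) s s := by
  have hH : ∀ g : G, g ∈ Subgroup.centralizer ({x} : Set G) ↔ Commute x g := by
    intro g
    rw [Subgroup.mem_centralizer_iff]
    constructor
    · intro h
      exact h x (Set.mem_singleton x)
    · intro h t ht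
      rw [Set.mem_singleton_iff] at ht
      rw [ht]
      exact h.eq
  have key := sum_irr_blockPart_twist_mul_conj_gen x hx
    (Subgroup.centralizer ({x} : Set G)) hH
    (e := inducingSet M (Subgroup.centralizer ({x} : Set G)) B) s hs
    (fun c hc => blockKernel_union_eq_zero hM _
      (inducingSet_closed (Subgroup.centralizer ({x} : Set G)) B) hs hc)
  rw [← key, Finset.sum_filter]
  apply Finset.sum_congr rfl
  intro χ _
  rw [blockPart_inducingSet_irr hM x hx hB χ s hs]
  split_ifs <;> simp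

open scoped Classical in
/-- **Brauer's count** `k(B) = ∑_x ∑_{b^G = B} l(b)`. -/
theorem brauer_count {p : ℕ} [Fact p.Prime] (hM : IsPModular p M)
    {B : Set (IrrCharacter G)} (hB : IsPBlock M B) (X : Finset G)
    (hX : ∀ x ∈ X, ∃ k : ℕ, orderOf x = p ^ k)
    (hXrep : ∀ g : G, (∃ k : ℕ, orderOf g = p ^ k) → ∃! x, x ∈ X ∧ IsConj g x) :
    (Nat.card B : ℂ) = ∑ x ∈ X, ∑ᶠ b ∈ {b : Set (IrrCharacter (Subgroup.centralizer
      ({x} : Set G))) | IsInducedBlock M (Subgroup.centralizer ({x} : Set G)) b B},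
        (blockRank p b : ℂ) := by
  obtain ⟨F, hFdef⟩ : ∃ F : G → ℂ, F = fun g =>
      ∑ χ ∈ Finset.univ.filter (fun χ : IrrCharacter G => χ ∈ B),
        (χ : G → ℂ) g * conj ((χ : G → ℂ) g) := ⟨_, rfl⟩
  have hFcf : IsClassFunction G F := by
    intro g a
    rw [hFdef]
    apply Finset.sum_congr rfl
    intro χ _
    rw [isClassFunction_irr χ g a]
  have hG : (Nat.card G : ℂ) ≠ 0 := by exact_mod_cast Nat.card_pos.ne'
  -- (1)
  have h1 : ∑ g : G, F g = (Nat.card G : ℂ) * (Nat.card B : ℂ) := by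
    rw [hFdef, Finset.sum_comm]
    have : ∀ χ ∈ Finset.univ.filter (fun χ : IrrCharacter G => χ ∈ B),
        ∑ g : G, (χ : G → ℂ) g * conj ((χ : G → ℂ) g) = (Nat.card G : ℂ) := by
      intro χ _
      rw [Cfsg.Agent.S4969.irr_orthogonality χ χ, if_pos rfl, Nat.card_eq_fintype_card]
    rw [Finset.sum_congr rfl this, Finset.sum_const, nsmul_eq_mul, mul_comm]
    congr 2
    rw [Nat.card_eq_fintype_card, Fintype.card_subtype]
  -- (2)-(6)
  have h2 := sum_eq_sum_sections (p := p) X hXrep hFcf
  have h3 : ∀ x ∈ X, ((Subgroup.centralizer ({x} : Set G)).index : ℂ) * sectionSum p F x =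
      (Nat.card G : ℂ) * ∑ᶠ b ∈ {b : Set (IrrCharacter (Subgroup.centralizer
      ({x} : Set G))) | IsInducedBlock M (Subgroup.centralizer ({x} : Set G)) b B},
        (blockRank p b : ℂ) := by
    intro x hxX
    haveI : Fintype (Subgroup.centralizer ({x} : Set G)) := Fintype.ofFinite _
    have hx := hX x hxX
    rw [sectionSum_eq_sum_centralizer F hx]
    have h4 : ∀ s : Subgroup.centralizer ({x} : Set G),
        (if p ∣ orderOf s then 0 else F (x * (s : G))) =
        if p ∣ orderOf s then 0 else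
          blockKernel {ξ : IrrCharacter (Subgroup.centralizer ({x} : Set G)) |
            blockOf M (ξ : Subgroup.centralizer ({x} : Set G) → ℂ) ∈
              {b : Set (IrrCharacter (Subgroup.centralizer ({x} : Set G))) |
                IsInducedBlock M (Subgroup.centralizer ({x} : Set G)) b B}} s s := by
      intro s
      split_ifs with hs
      · rfl
      · rw [hFdef]
        exact sum_block_norm_section hM x hx hB s hs
    rw [Finset.sum_congr rfl (fun s _ => h4 s),
      sum_pRegular_blockKernel_family hM _ (fun b hb => hb.1), ← mul_assoc]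
    congr 1
    have := (Subgroup.centralizer ({x} : Set G)).index_mul_card
    rw [← this]
    push_cast
    ring
  rw [h1, Finset.sum_congr rfl h3, ← Finset.mul_sum] at h2
  exact mul_left_cancel₀ hG h2

end Count

end Cfsg.Agent.Lib.Helper78
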