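import Mathlib
import Cfsg.Agent.Lib.Helper74.InvolCols
import Cfsg.Agent.Lib.Helper81.BrauerPerm

/-!
# Products of two conjugate involutions landing in an inverted subgroup (helper78)

Let `t` invert the subgroup `A` of odd order.  Then the coset `t A` consists of conjugates of `t`,
and if the conjugates `s` of `t` with `s⁻¹ y` conjugate to `t` are exactly the elements of `t A`,
the number of pairs `(a, b)` with `a t a⁻¹ * b t b⁻¹ = y` is `|C_G(t)|² * |A|`.
-/

set_option autoImplicit false
set_option linter.unusedSectionVars false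

namespace Cfsg.Agent.Lib.Helper78

open Cfsg Cfsg.Agent.Lib.Helper74

section Count

variable {G : Type*} [Group G]

/-- In a group of odd order every element is a square. -/
theorem exists_sq_eq_of_odd_card [Finite G] (A : Subgroup G) (hodd : Odd (Nat.card A)) {w : G}
    (hw : w ∈ A) : ∃ v ∈ A, v * v = w := by
  have hcop : (Nat.card A).Coprime 2 := Nat.Coprime.symm (Nat.coprime_two_left.mpr hodd)
  obtain ⟨v, hv⟩ := (powCoprime hcop).surjective ⟨w, hw⟩
  refine ⟨v.1, v.2, ?_⟩
  have h1 : v ^ 2 = ⟨w, hw⟩ := hv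
  have h2 := congrArg Subtype.val h1
  rw [← pow_two]
  exact h2

/-- If `t` inverts the subgroup `A` of odd order, the coset `t A` consists of conjugates of `t`. -/
theorem isConj_mul_of_inverts [Finite G] (A : Subgroup G) (hodd : Odd (Nat.card A)) {t : G}
    (hinv : ∀ w ∈ A, t * w * t⁻¹ = w⁻¹) {w : G} (hw : w ∈ A) : IsConj t (t * w) := by
  obtain ⟨v, hv, hvv⟩ := exists_sq_eq_of_odd_card A hodd (inv_mem hw)
  rw [isConj_iff]
  refine ⟨v, ?_⟩
  have h1 : v * t = t * v⁻¹ := by
    have h2 := hinv v⁻¹ (inv_mem hv)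
    rw [inv_inv] at h2
    calc v * t = t * v⁻¹ * t⁻¹ * t := by rw [h2]
      _ = t * v⁻¹ := by group
  calc v * t * v⁻¹ = t * v⁻¹ * v⁻¹ := by rw [h1]
    _ = t * (v * v)⁻¹ := by group
    _ = t * w := by rw [hvv, inv_inv]

open scoped Classical in
/-- The number of conjugators of `t` to `z`, as a complex sum. -/
theorem sum_ite_conj_eq [Fintype G] (t z : G) :
    (∑ b : G, if b * t * b⁻¹ = z then (1 : ℂ) else 0) =
      if IsConj t z then (Nat.card (Subgroup.centralizer ({t} : Set G)) : ℂ) else 0 := by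
  have h0 : (∑ b : G, if b * t * b⁻¹ = z then (1 : ℂ) else 0) =
      (Nat.card {b : G // b * t * b⁻¹ = z} : ℂ) := by
    rw [Finset.sum_boole, Nat.card_eq_fintype_card, Fintype.card_subtype]
  rw [h0]
  by_cases hc : IsConj t z
  · rw [if_pos hc, Cfsg.Agent.Lib.Helper81.card_conjugators_of_isConj hc]
  · rw [if_neg hc]
    have : IsEmpty {b : G // b * t * b⁻¹ = z} :=
      ⟨fun b => hc (isConj_iff.mpr ⟨b.1, b.2⟩)⟩
    rw [Nat.card_of_isEmpty]
    simp

open scoped Classical in
/-- The count of products of two conjugates of `t` equal to `y`, when the admissible first factors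
form the coset `t A`. -/
theorem conjProdCount_eq_of_coset [Fintype G] (A : Subgroup G) {t y : G}
    (hA : ∀ s : G, IsConj t s → (IsConj t (s⁻¹ * y) ↔ t⁻¹ * s ∈ A))
    (hA' : ∀ w ∈ A, IsConj t (t * w)) :
    conjProdCount t t y =
      (Nat.card (Subgroup.centralizer ({t} : Set G)) : ℂ) ^ 2 * (Nat.card A : ℂ) := by
  obtain ⟨c, hc⟩ : ∃ c : ℂ, c = (Nat.card (Subgroup.centralizer ({t} : Set G)) : ℂ) := ⟨_, rfl⟩
  rw [← hc]
  have hfinA : Fintype ↥A := Fintype.ofFinite _
  unfold conjProdCount
  -- inner sum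
  have h1 : ∀ a : G, (∑ b : G, if a * t * a⁻¹ * (b * t * b⁻¹) = y then (1 : ℂ) else 0) =
      if t⁻¹ * (a * t * a⁻¹) ∈ A then c else 0 := by
    intro a
    have h2 : ∀ b : G, (a * t * a⁻¹ * (b * t * b⁻¹) = y) ↔
        (b * t * b⁻¹ = (a * t * a⁻¹)⁻¹ * y) := by
      intro b
      constructor
      · intro h
        rw [← h]
        group
      · intro h
        rw [h]
        group
    simp_rw [h2]
    rw [sum_ite_conj_eq, ← hc]
    have h3 := hA (a * t * a⁻¹) (isConj_iff.mpr ⟨a, rfl⟩)
    by_cases h4 : t⁻¹ * (a * t * a⁻¹) ∈ A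
    · rw [if_pos h4, if_pos (h3.mpr h4)]
    · rw [if_neg h4, if_neg (fun h => h4 (h3.mp h))]
  simp_rw [h1]
  -- decompose along the coset
  have h5 : ∀ a : G, (if t⁻¹ * (a * t * a⁻¹) ∈ A then c else 0) =
      ∑ w : ↥A, if a * t * a⁻¹ = t * (w : G) then c else 0 := by
    intro a
    by_cases h4 : t⁻¹ * (a * t * a⁻¹) ∈ A
    · rw [if_pos h4]
      rw [Finset.sum_eq_single (⟨t⁻¹ * (a * t * a⁻¹), h4⟩ : ↥A)]
      · rw [if_pos]
        group
      · intro w _ hw
        rw [if_neg]
        intro h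
        apply hw
        apply Subtype.ext
        show (w : G) = t⁻¹ * (a * t * a⁻¹)
        rw [h]
        group
      · intro h
        exact absurd (Finset.mem_univ _) h
    · rw [if_neg h4]
      symm
      apply Finset.sum_eq_zero
      intro w _
      rw [if_neg]
      intro h
      apply h4
      rw [h]
      have : t⁻¹ * (t * (w : G)) = (w : G) := by group
      rw [this]
      exact w.2
  simp_rw [h5]
  rw [Finset.sum_comm]
  have h6 : ∀ w : ↥A, (∑ a : G, if a * t * a⁻¹ = t * (w : G) then c else 0) = c * c := by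
    intro w
    have h7 : ∀ a : G, (if a * t * a⁻¹ = t * (w : G) then c else 0) =
        c * (if a * t * a⁻¹ = t * (w : G) then (1 : ℂ) else 0) := by
      intro a
      split_ifs <;> simp
    simp_rw [h7]
    rw [← Finset.mul_sum, sum_ite_conj_eq, if_pos (hA' w w.2), ← hc]
  simp_rw [h6]
  rw [Finset.sum_const, Finset.card_univ, nsmul_eq_mul, Nat.card_eq_fintype_card]
  ring

end Count

end Cfsg.Agent.Lib.Helper78
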