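import Mathlib
import Cfsg.Agent.Lib.Helper78.DihedralCount

/-!
# A Sylow subgroup of prime order with dihedral normalizer: group theory (helper78)

`P` is a Sylow `p`-subgroup of prime order `p ≠ 2` with `C_G(P) = P` and `|N_G(P)| = 2p`, and
`t ∈ N_G(P)` is an involution.  Then `t` inverts `P`, and for `1 ≠ y ∈ P` the pairs of conjugates
of `t` with product `y` are the `(s, s⁻¹ y)` with `s ∈ t P`; their number, counted with
conjugators, is `|C_G(t)|² p`.
-/

set_option autoImplicit false
set_option linter.unusedSectionVars false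

namespace Cfsg.Agent.Lib.Helper78

open Cfsg Cfsg.Agent.Lib.Helper74

section Group

variable {G : Type*} [Group G] [Finite G] {p : ℕ} [Fact p.Prime]

/-- A nonidentity element of a subgroup of prime order generates it. -/
theorem zpowers_eq_of_card_eq_prime (P : Subgroup G) (hP : Nat.card P = p) {y : G} (hy : y ∈ P)
    (hy1 : y ≠ 1) : Subgroup.zpowers y = P := by
  have hp : p.Prime := Fact.out
  have hle : Subgroup.zpowers y ≤ P := (Subgroup.zpowers_le).mpr hy
  apply Subgroup.eq_of_le_of_card_ge hle
  rw [Nat.card_zpowers, hP]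
  have hdvd : orderOf y ∣ p := by
    rw [← hP]
    have h1 := Subgroup.card_dvd_of_le hle
    rwa [Nat.card_zpowers] at h1
  rcases (Nat.dvd_prime hp).mp hdvd with h | h
  · exact absurd (orderOf_eq_one_iff.mp h) hy1
  · rw [h]

/-- `C_G(y) = C_G(P)` for a nonidentity element of a subgroup of prime order. -/
theorem centralizer_singleton_eq_of_card_eq_prime (P : Subgroup G) (hP : Nat.card P = p) {y : G}
    (hy : y ∈ P) (hy1 : y ≠ 1) :
    Subgroup.centralizer ({y} : Set G) = Subgroup.centralizer (P : Set G) := by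
  apply le_antisymm
  · intro g hg
    rw [Subgroup.mem_centralizer_singleton_iff] at hg
    rw [Subgroup.mem_centralizer_iff]
    intro w hw
    have hw' : w ∈ Subgroup.zpowers y := by
      rw [zpowers_eq_of_card_eq_prime P hP hy hy1]
      exact hw
    obtain ⟨k, hk⟩ := Subgroup.mem_zpowers_iff.mp hw'
    have hc : Commute g y := hg
    rw [← hk]
    exact (hc.zpow_right k).eq.symm
  · exact Subgroup.centralizer_le (by simpa using hy)

/-- The Frobenius-type hypothesis holds for a Sylow subgroup of prime order. -/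
theorem frob_of_card_eq_prime (P : Sylow p G) (hP : Nat.card (P : Subgroup G) = p) :
    ∀ y : G, y ∈ (P : Subgroup G) → y ≠ 1 →
      Subgroup.centralizer ({y} : Set G) ⊓ Subgroup.normalizer ((P : Subgroup G) : Set G) =
        Subgroup.centralizer ((P : Subgroup G) : Set G) := by
  intro y hy hy1
  rw [centralizer_singleton_eq_of_card_eq_prime (P : Subgroup G) hP hy hy1]
  exact inf_eq_left.mpr (Subgroup.centralizer_le_normalizer _)

/-- An involution is not in a subgroup of odd prime order. -/
theorem not_mem_of_orderOf_two (P : Subgroup G) (hP : Nat.card P = p) (hp2 : p ≠ 2) {s : G}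
    (hs : orderOf s = 2) : s ∉ P := by
  have hp : p.Prime := Fact.out
  intro hsP
  have h1 : orderOf s ∣ Nat.card P := by
    have := orderOf_dvd_natCard (⟨s, hsP⟩ : P)
    rwa [Subgroup.orderOf_mk] at this
  rw [hs, hP] at h1
  exact hp2 ((Nat.prime_dvd_prime_iff_eq Nat.prime_two hp).mp h1).symm

/-- An involution of `N_G(P)` inverts `P`. -/
theorem inverts_of_dihedral (P : Sylow p G) (hP : Nat.card (P : Subgroup G) = p) (hp2 : p ≠ 2)
    (hC : Subgroup.centralizer ((P : Subgroup G) : Set G) = (P : Subgroup G))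
    {t : G} (ht : orderOf t = 2) (htN : t ∈ Subgroup.normalizer ((P : Subgroup G) : Set G)) :
    ∀ w ∈ (P : Subgroup G), t * w * t⁻¹ = w⁻¹ := by
  intro w hw
  have htt : t * t = 1 := by
    rw [← pow_two, ← ht]
    exact pow_orderOf_eq_one t
  have htinv : t⁻¹ = t := inv_eq_of_mul_eq_one_left htt
  have htP : t ∉ (P : Subgroup G) := not_mem_of_orderOf_two (P : Subgroup G) hP hp2 ht
  have hw' : t * w * t⁻¹ ∈ (P : Subgroup G) := (Subgroup.mem_normalizer_iff.mp htN w).mp hw
  have hcomm : w * (t * w * t⁻¹) = (t * w * t⁻¹) * w := by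
    have h1 : w ∈ Subgroup.centralizer ((P : Subgroup G) : Set G) := by
      rw [hC]
      exact hw
    rw [Subgroup.mem_centralizer_iff] at h1
    exact (h1 _ hw').symm
  by_contra hne
  have hz1 : w * (t * w * t⁻¹) ≠ 1 := by
    intro h
    apply hne
    exact (inv_eq_of_mul_eq_one_right h).symm
  have hzP : w * (t * w * t⁻¹) ∈ (P : Subgroup G) := mul_mem hw hw'
  have htz : t ∈ Subgroup.centralizer ({w * (t * w * t⁻¹)} : Set G) := by
    rw [Subgroup.mem_centralizer_singleton_iff]
    calc t * (w * (t * w * t⁻¹)) = (t * w * t⁻¹) * (t * t) * w * t⁻¹ := by group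
      _ = (t * w * t⁻¹) * w * t := by rw [htt, mul_one, htinv]
      _ = w * (t * w * t⁻¹) * t := by rw [hcomm]
  rw [centralizer_singleton_eq_of_card_eq_prime (P : Subgroup G) hP hzP hz1, hC] at htz
  exact htP htz

/-- The relative index of `P` in its normalizer. -/
theorem relIndex_normalizer_eq_two (P : Sylow p G) (hP : Nat.card (P : Subgroup G) = p)
    (hN : Nat.card (Subgroup.normalizer ((P : Subgroup G) : Set G)) = 2 * p) :
    (P : Subgroup G).relIndex (Subgroup.normalizer ((P : Subgroup G) : Set G)) = 2 := by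
  have hp : p.Prime := Fact.out
  have h2 := Subgroup.relIndex_mul_relIndex (⊥ : Subgroup G) (P : Subgroup G)
    (Subgroup.normalizer ((P : Subgroup G) : Set G)) bot_le Subgroup.le_normalizer
  rw [Subgroup.relIndex_bot_left, Subgroup.relIndex_bot_left, hP, hN] at h2
  have h3 : p * (P : Subgroup G).relIndex (Subgroup.normalizer ((P : Subgroup G) : Set G)) =
      p * 2 := by rw [h2]; ring
  exact Nat.eq_of_mul_eq_mul_left hp.pos h3

/-- The conjugates `s` of `t` with `s⁻¹ y` conjugate to `t` are the elements of `t P`. -/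
theorem dihedral_conj_iff (P : Sylow p G) (hP : Nat.card (P : Subgroup G) = p) (hp2 : p ≠ 2)
    (hC : Subgroup.centralizer ((P : Subgroup G) : Set G) = (P : Subgroup G))
    (hN : Nat.card (Subgroup.normalizer ((P : Subgroup G) : Set G)) = 2 * p)
    {t : G} (ht : orderOf t = 2) (htN : t ∈ Subgroup.normalizer ((P : Subgroup G) : Set G))
    {y : G} (hy : y ∈ (P : Subgroup G)) (hy1 : y ≠ 1) (s : G) (hs : IsConj t s) :
    IsConj t (s⁻¹ * y) ↔ t⁻¹ * s ∈ (P : Subgroup G) := by
  have hp : p.Prime := Fact.out
  have htt : t * t = 1 := by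
    rw [← pow_two, ← ht]
    exact pow_orderOf_eq_one t
  have htinv : t⁻¹ = t := inv_eq_of_mul_eq_one_left htt
  have hinv := inverts_of_dihedral P hP hp2 hC ht htN
  have hodd : Odd (Nat.card (P : Subgroup G)) := by
    rw [hP]
    exact hp.odd_of_ne_two hp2
  constructor
  · intro hs'
    obtain ⟨a, ha⟩ := isConj_iff.mp hs
    obtain ⟨b, hb⟩ := isConj_iff.mp hs'
    have hss : s * s = 1 := by
      rw [← ha]
      exact conj_mul_self_of_mul_self htt a
    have hss' : s⁻¹ * y * (s⁻¹ * y) = 1 := by
      rw [← hb]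
      exact conj_mul_self_of_mul_self htt b
    have hsinv : s⁻¹ = s := inv_eq_of_mul_eq_one_left hss
    have hsord : orderOf s = 2 := by
      rw [← ha, ← ht]
      have h1 : a * t * a⁻¹ = MulAut.conj a t := rfl
      rw [h1, MulEquiv.orderOf_eq]
    -- `s` inverts `y`
    have hsy : s * y * s⁻¹ = y⁻¹ := by
      rw [hsinv] at hss' ⊢
      have h1 : (s * y * s) * y = 1 := by
        rw [← hss']
        simp only [mul_assoc]
      exact eq_inv_of_mul_eq_one_left h1
    have hzp := zpowers_eq_of_card_eq_prime (P : Subgroup G) hP hy hy1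
    have hfwd : ∀ h : G, h ∈ (P : Subgroup G) → s * h * s⁻¹ ∈ (P : Subgroup G) := by
      intro h hh
      rw [← hzp] at hh
      obtain ⟨k, hk⟩ := Subgroup.mem_zpowers_iff.mp hh
      rw [← hk, ← conj_zpow, hsy]
      exact zpow_mem (inv_mem hy) k
    have hsN : s ∈ Subgroup.normalizer ((P : Subgroup G) : Set G) := by
      rw [Subgroup.mem_normalizer_iff]
      intro h
      constructor
      · exact hfwd h
      · intro hh
        have h1 := hfwd _ hh
        rw [hsinv] at h1
        have h2 : s * (s * h * s) * s = h := by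
          calc s * (s * h * s) * s = (s * s) * h * (s * s) := by simp only [mul_assoc]
            _ = h := by rw [hss, one_mul, mul_one]
        rwa [h2] at h1
    have hidx : ((P : Subgroup G).subgroupOf
        (Subgroup.normalizer ((P : Subgroup G) : Set G))).index = 2 :=
      relIndex_normalizer_eq_two P hP hN
    have htP : t⁻¹ ∉ (P : Subgroup G) := by
      rw [htinv]
      exact not_mem_of_orderOf_two (P : Subgroup G) hP hp2 ht
    have hsP : s ∉ (P : Subgroup G) := not_mem_of_orderOf_two (P : Subgroup G) hP hp2 hsord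
    have h3 := (Subgroup.mul_mem_iff_of_index_two hidx
      (a := (⟨t⁻¹, inv_mem htN⟩ : Subgroup.normalizer ((P : Subgroup G) : Set G)))
      (b := ⟨s, hsN⟩)).mpr (by
        rw [Subgroup.mem_subgroupOf, Subgroup.mem_subgroupOf]
        exact iff_of_false htP hsP)
    rw [Subgroup.mem_subgroupOf] at h3
    exact h3
  · intro hw
    have h1 : s⁻¹ * y = t * ((t⁻¹ * s) * y) := by
      have h2 := hinv _ hw
      have h3 : (t⁻¹ * s)⁻¹ * t = t * (t⁻¹ * s) := by
        rw [← h2]
        group
      have h4 : (t⁻¹ * s)⁻¹ * t * y = s⁻¹ * (t * t) * y := by group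
      calc s⁻¹ * y = (t⁻¹ * s)⁻¹ * t * y := by rw [h4, htt, mul_one]
        _ = t * ((t⁻¹ * s) * y) := by rw [h3, mul_assoc]
    rw [h1]
    exact isConj_mul_of_inverts (P : Subgroup G) hodd hinv (mul_mem hw hy)

open scoped Classical in
/-- The class multiplication count for a dihedral Sylow normalizer. -/
theorem conjProdCount_dihedral [Fintype G] (P : Sylow p G) (hP : Nat.card (P : Subgroup G) = p)
    (hp2 : p ≠ 2)
    (hC : Subgroup.centralizer ((P : Subgroup G) : Set G) = (P : Subgroup G))
    (hN : Nat.card (Subgroup.normalizer ((P : Subgroup G) : Set G)) = 2 * p)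
    {t : G} (ht : orderOf t = 2) (htN : t ∈ Subgroup.normalizer ((P : Subgroup G) : Set G))
    {y : G} (hy : y ∈ (P : Subgroup G)) (hy1 : y ≠ 1) :
    conjProdCount t t y =
      (Nat.card (Subgroup.centralizer ({t} : Set G)) : ℂ) ^ 2 * (p : ℂ) := by
  have hp : p.Prime := Fact.out
  have hodd : Odd (Nat.card (P : Subgroup G)) := by
    rw [hP]
    exact hp.odd_of_ne_two hp2
  have h1 := conjProdCount_eq_of_coset (P : Subgroup G) (t := t) (y := y)
    (dihedral_conj_iff P hP hp2 hC hN ht htN hy hy1)
    (fun w hw => isConj_mul_of_inverts (P : Subgroup G) hodd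
      (inverts_of_dihedral P hP hp2 hC ht htN) hw)
  rw [h1, hP]

end Group

end Cfsg.Agent.Lib.Helper78
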