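import Mathlib
import Cfsg.Agent.S0925
import Cfsg.Agent.Lib.Helper74.InvolCols
import Cfsg.Agent.Lib.Helper74.PrincipalSMT
import Cfsg.Agent.Lib.Helper78.AbelianSylowFrob

/-!
# Involutions and `p`-sections for an abelian Sylow subgroup with automizer of order 3 (helper78)

`P` an abelian Sylow `p`-subgroup, `|N_G(P) : C_G(P)| = 3`, and `C_G(y) ∩ N_G(P) = C_G(P)` for all
`1 ≠ y ∈ P`.  For an involution `t` and `1 ≠ y ∈ P` not conjugate to `t`, no product of two
conjugates of `t` lies in the `p`-section of `y`; hence the column relation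
`∑_{χ ∈ B₀} conj (χ t ^ 2 / χ 1) * χ y = 0`.
-/

set_option autoImplicit false
set_option linter.unusedSectionVars false

namespace Cfsg.Agent.Lib.Helper78

open Cfsg Cfsg.Agent.Lib.Helper74
open scoped ComplexConjugate Pointwise

section Fusion

variable {G : Type*} [Group G] [Finite G] {p : ℕ} [Fact p.Prime]

/-- Index three: an element of the normalizer whose square centralizes `P` centralizes `P`. -/
theorem mem_centralizer_of_sq_mem (P : Subgroup G)
    (hCN : (Subgroup.centralizer (P : Set G)).relIndex (Subgroup.normalizer (P : Set G)) = 3)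
    {n : G} (hn : n ∈ Subgroup.normalizer (P : Set G))
    (h2 : n * n ∈ Subgroup.centralizer (P : Set G)) :
    n ∈ Subgroup.centralizer (P : Set G) := by
  have h3 : n ^ 3 ∈ Subgroup.centralizer (P : Set G) := by
    have h := Subgroup.pow_index_mem ((Subgroup.centralizer (P : Set G)).subgroupOf
      (Subgroup.normalizer (P : Set G))) ⟨n, hn⟩
    have hidx : ((Subgroup.centralizer (P : Set G)).subgroupOf
      (Subgroup.normalizer (P : Set G))).index = 3 := hCN
    rw [hidx, Subgroup.mem_subgroupOf] at h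
    exact h
  have e : n = n ^ 3 * (n * n)⁻¹ := by group
  rw [e]
  exact mul_mem h3 (inv_mem h2)

theorem pow_three_mem_centralizer (P : Subgroup G)
    (hCN : (Subgroup.centralizer (P : Set G)).relIndex (Subgroup.normalizer (P : Set G)) = 3)
    {n : G} (hn : n ∈ Subgroup.normalizer (P : Set G)) :
    n ^ 3 ∈ Subgroup.centralizer (P : Set G) := by
  have h := Subgroup.pow_index_mem ((Subgroup.centralizer (P : Set G)).subgroupOf
    (Subgroup.normalizer (P : Set G))) ⟨n, hn⟩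
  have hidx : ((Subgroup.centralizer (P : Set G)).subgroupOf
    (Subgroup.normalizer (P : Set G))).index = 3 := hCN
  rw [hidx, Subgroup.mem_subgroupOf] at h
  exact h

/-- No element of `G` inverts an element of `P` of order greater than two. -/
theorem no_inversion_of_frob (P : Sylow p G) [IsMulCommutative P]
    (hCN : (Subgroup.centralizer ((P : Subgroup G) : Set G)).relIndex
      (Subgroup.normalizer ((P : Subgroup G) : Set G)) = 3)
    (hfrob : ∀ y : G, y ∈ (P : Subgroup G) → y ≠ 1 →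
      Subgroup.centralizer ({y} : Set G) ⊓ Subgroup.normalizer ((P : Subgroup G) : Set G) =
        Subgroup.centralizer ((P : Subgroup G) : Set G))
    {y : G} (hyP : y ∈ (P : Subgroup G)) (hyy : y⁻¹ ≠ y) {s : G} (hs : s * y * s⁻¹ = y⁻¹) :
    False := by
  have hy1 : y ≠ 1 := by
    rintro rfl
    exact hyy inv_one
  have hmem : (s⁻¹)⁻¹ * y * s⁻¹ ∈ (P : Subgroup G) := by
    rw [inv_inv, hs]
    exact inv_mem hyP
  obtain ⟨n, hn, hn'⟩ := Sylow.conj_eq_normalizer_conj_of_mem P y s⁻¹ hyP hmem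
  rw [inv_inv, hs] at hn'
  -- `n⁻¹ * y * n = y⁻¹`
  have hnN : n⁻¹ ∈ Subgroup.normalizer ((P : Subgroup G) : Set G) := inv_mem hn
  have h2 : n⁻¹ * n⁻¹ ∈ Subgroup.centralizer ((P : Subgroup G) : Set G) := by
    rw [← hfrob y hyP hy1, Subgroup.mem_inf]
    refine ⟨?_, mul_mem hnN hnN⟩
    rw [Subgroup.mem_centralizer_singleton_iff]
    have e1 : n⁻¹ * n⁻¹ * y = n⁻¹ * (n⁻¹ * y * n) * n⁻¹ := by group
    have e2 : n⁻¹ * y⁻¹ * n = y := by
      have : (n⁻¹ * y * n)⁻¹ = n⁻¹ * y⁻¹ * n := by group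
      rw [← this, ← hn', inv_inv]
    rw [e1, ← hn']
    calc n⁻¹ * y⁻¹ * n⁻¹ = (n⁻¹ * y⁻¹ * n) * (n⁻¹ * n⁻¹) := by group
      _ = y * (n⁻¹ * n⁻¹) := by rw [e2]
  have h1 := mem_centralizer_of_sq_mem (P : Subgroup G) hCN hnN h2
  have h3 : y * n⁻¹ = n⁻¹ * y := (Subgroup.mem_centralizer_iff.mp h1) y hyP
  apply hyy
  rw [hn']
  calc n⁻¹ * y * n = (n⁻¹ * y) * n := rfl
    _ = (y * n⁻¹) * n := by rw [h3]
    _ = y := by group

/-- The product over an orbit of the automizer is trivial. -/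
theorem triple_prod_eq_one_of_frob (P : Sylow p G) [IsMulCommutative P]
    (hCN : (Subgroup.centralizer ((P : Subgroup G) : Set G)).relIndex
      (Subgroup.normalizer ((P : Subgroup G) : Set G)) = 3)
    (hfrob : ∀ y : G, y ∈ (P : Subgroup G) → y ≠ 1 →
      Subgroup.centralizer ({y} : Set G) ⊓ Subgroup.normalizer ((P : Subgroup G) : Set G) =
        Subgroup.centralizer ((P : Subgroup G) : Set G))
    {t : G} (htP : t ∈ (P : Subgroup G)) {n : G}
    (hn : n ∈ Subgroup.normalizer ((P : Subgroup G) : Set G))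
    (hnC : n ∉ Subgroup.centralizer ((P : Subgroup G) : Set G)) :
    t * (n * t * n⁻¹) * (n * n * t * (n * n)⁻¹) = 1 := by
  by_contra hv
  have hconj : ∀ x ∈ (P : Subgroup G), n * x * n⁻¹ ∈ (P : Subgroup G) := by
    intro x hx
    exact (Subgroup.mem_normalizer_iff.mp hn x).mp hx
  have h1P := hconj t htP
  have h2P : n * n * t * (n * n)⁻¹ ∈ (P : Subgroup G) := by
    have := hconj _ h1P
    have e : n * (n * t * n⁻¹) * n⁻¹ = n * n * t * (n * n)⁻¹ := by group
    rwa [e] at this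
  have hvP : t * (n * t * n⁻¹) * (n * n * t * (n * n)⁻¹) ∈ (P : Subgroup G) :=
    mul_mem (mul_mem htP h1P) h2P
  have h3 := pow_three_mem_centralizer (P : Subgroup G) hCN hn
  have h3t : n ^ 3 * t = t * n ^ 3 := ((Subgroup.mem_centralizer_iff.mp h3) t htP).symm
  have hcomm : ∀ a b : G, a ∈ (P : Subgroup G) → b ∈ (P : Subgroup G) → a * b = b * a := by
    intro a b ha hb
    have := mul_comm' (⟨a, ha⟩ : (P : Subgroup G)) ⟨b, hb⟩
    exact congrArg Subtype.val this
  have hnv : n ∈ Subgroup.centralizer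
      ({t * (n * t * n⁻¹) * (n * n * t * (n * n)⁻¹)} : Set G) := by
    rw [Subgroup.mem_centralizer_singleton_iff]
    have e1 : n * (t * (n * t * n⁻¹) * (n * n * t * (n * n)⁻¹)) =
        (n * t * n⁻¹) * (n * n * t * (n * n)⁻¹) * (n ^ 3 * t * (n ^ 3)⁻¹) * n := by group
    have e2 : n ^ 3 * t * (n ^ 3)⁻¹ = t := by rw [h3t]; group
    rw [e1, e2]
    congr 1
    exact (hcomm _ _ (mul_mem h1P h2P) htP).trans (mul_assoc _ _ _).symm
  have := hfrob _ hvP hv
  apply hnC
  rw [← this]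
  exact ⟨hnv, hn⟩

/-- For an involution `t ∈ P` and `n ∈ N_G(P)`: `t * (n t n⁻¹)` is `1` or a conjugate of `t`. -/
theorem mul_conj_eq_one_or_isConj_of_frob (P : Sylow p G) [IsMulCommutative P]
    (hCN : (Subgroup.centralizer ((P : Subgroup G) : Set G)).relIndex
      (Subgroup.normalizer ((P : Subgroup G) : Set G)) = 3)
    (hfrob : ∀ y : G, y ∈ (P : Subgroup G) → y ≠ 1 →
      Subgroup.centralizer ({y} : Set G) ⊓ Subgroup.normalizer ((P : Subgroup G) : Set G) =
        Subgroup.centralizer ((P : Subgroup G) : Set G))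
    {t : G} (htP : t ∈ (P : Subgroup G)) (htt : t * t = 1) {n : G}
    (hn : n ∈ Subgroup.normalizer ((P : Subgroup G) : Set G)) :
    t * (n * t * n⁻¹) = 1 ∨ IsConj t (t * (n * t * n⁻¹)) := by
  by_cases hnC : n ∈ Subgroup.centralizer ((P : Subgroup G) : Set G)
  · left
    have h := (Subgroup.mem_centralizer_iff.mp hnC) t htP
    have e : n * t * n⁻¹ = t := by
      calc n * t * n⁻¹ = (t * n) * n⁻¹ := by rw [h]
        _ = t := by group
    rw [e, htt]
  · right
    have h := triple_prod_eq_one_of_frob P hCN hfrob htP hn hnC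
    have ht_inv : t⁻¹ = t := inv_eq_of_mul_eq_one_left htt
    have h' := eq_inv_of_mul_eq_one_left h
    have e : ∀ a : G, (a * t * a⁻¹)⁻¹ = a * t⁻¹ * a⁻¹ := fun a => by group
    rw [h', e (n * n), ht_inv]
    exact isConj_iff.mpr ⟨n * n, rfl⟩

/-- A `p`-element of a subgroup `H ≥ P` is `H`-conjugate into the Sylow subgroup `P`. -/
theorem exists_conj_mem_sylow_of_le (P : Sylow p G) {H : Subgroup G} (hle : (P : Subgroup G) ≤ H)
    {x : G} (hxH : x ∈ H) {k : ℕ} (hx : orderOf x = p ^ k) :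
    ∃ h ∈ H, h * x * h⁻¹ ∈ (P : Subgroup G) := by
  have hfinH : Finite (Sylow p H) := inferInstance
  obtain ⟨τ, hτ⟩ : ∃ τ : H, τ = ⟨x, hxH⟩ := ⟨_, rfl⟩
  have hoτ : orderOf τ = p ^ k := by
    rw [hτ, ← hx]
    exact Subgroup.orderOf_mk x hxH
  have hpg : IsPGroup p (Subgroup.zpowers τ) := by
    apply IsPGroup.of_card (n := k)
    rw [Nat.card_zpowers, hoτ]
  obtain ⟨Q, hQ⟩ := hpg.exists_le_sylow
  obtain ⟨h, hh⟩ := MulAction.exists_smul_eq H Q (P.subtype hle)
  refine ⟨(h : G), h.2, ?_⟩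
  have h1 : τ ∈ (Q : Subgroup H) := hQ (Subgroup.mem_zpowers τ)
  have h2 : MulAut.conj h • τ ∈ MulAut.conj h • (Q : Subgroup H) :=
    Subgroup.smul_mem_pointwise_smul _ _ _ h1
  rw [← Sylow.pointwise_smul_def, ← Sylow.smul_def, hh, Sylow.coe_subtype,
    Subgroup.mem_subgroupOf] at h2
  rw [hτ] at h2
  simpa using h2

/-- The involution case: two conjugates of `t` cannot multiply into the `2`-section of an
involution `y ∈ P` that is not conjugate to `t`. -/
theorem false_of_prod_involutions_section (P : Sylow p G) [IsMulCommutative P]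
    (hCN : (Subgroup.centralizer ((P : Subgroup G) : Set G)).relIndex
      (Subgroup.normalizer ((P : Subgroup G) : Set G)) = 3)
    (hfrob : ∀ y : G, y ∈ (P : Subgroup G) → y ≠ 1 →
      Subgroup.centralizer ({y} : Set G) ⊓ Subgroup.normalizer ((P : Subgroup G) : Set G) =
        Subgroup.centralizer ((P : Subgroup G) : Set G))
    {t t₁ t₂ u y : G} (ht₁ : IsConj t t₁) (ht₂ : IsConj t t₂) (h1 : t₁ * t₁ = 1)
    (h2 : t₂ * t₂ = 1) (hu : t₁ * t₂ = u) (hz : IsPPart p u y) (hyP : y ∈ (P : Subgroup G))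
    (hy1 : y ≠ 1) (hyy : y⁻¹ = y) (hty : ¬ IsConj t y) : False := by
  have hp : p.Prime := Fact.out
  obtain ⟨w, hyw, hcomm, ⟨k, hk⟩, hw⟩ := id hz
  have hy2 : y * y = 1 := by
    nth_rewrite 1 [← hyy]
    exact inv_mul_cancel y
  have ho : orderOf y = 2 := orderOf_eq_prime (by rw [pow_two]; exact hy2) hy1
  have hp2 : p = 2 := by
    rw [ho] at hk
    have hk0 : k ≠ 0 := by
      rintro rfl
      simp at hk
    have hd : p ∣ 2 := by
      rw [hk]
      exact dvd_pow_self p hk0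
    exact (Nat.prime_dvd_prime_iff_eq hp Nat.prime_two).mp hd
  have hw2 : ¬ 2 ∣ orderOf w := by rwa [hp2] at hw
  have ht₁inv : t₁⁻¹ = t₁ := inv_eq_of_mul_eq_one_left h1
  have hinv_u : t₁ * u * t₁⁻¹ = u⁻¹ := by
    rw [← hu]
    exact conj_mul_of_mul_self h1 h2
  have hinv_y : t₁ * y * t₁⁻¹ = y := by
    have := conj_pPart_eq_inv hz hinv_u
    rwa [hyy] at this
  have hcy : t₁ * y = y * t₁ := by
    calc t₁ * y = (t₁ * y * t₁⁻¹) * t₁ := by group
      _ = y * t₁ := by rw [hinv_y]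
  have hinv_w : t₁ * w * t₁⁻¹ = w⁻¹ := by
    have hw_eq : w = y⁻¹ * u := by rw [← hyw]; group
    have e1 : t₁ * w * t₁⁻¹ = (t₁ * y * t₁⁻¹)⁻¹ * (t₁ * u * t₁⁻¹) := by rw [hw_eq]; group
    rw [e1, hinv_y, hinv_u, ← hyw, mul_inv_rev, hyy]
    calc y * (w⁻¹ * y) = y * (y * w⁻¹) := by rw [(hcomm.inv_right).eq]
      _ = (y * y) * w⁻¹ := by group
      _ = w⁻¹ := by rw [hy2, one_mul]
  -- the square root of `w`
  obtain ⟨m, hm⟩ : ∃ m, m = orderOf w := ⟨_, rfl⟩
  have hmodd : m % 2 = 1 := by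
    rw [hm]
    omega
  obtain ⟨v, hv⟩ : ∃ v, v = w ^ ((m + 1) / 2) := ⟨_, rfl⟩
  have hvv : v * v = w := by
    rw [hv, ← pow_add]
    have : (m + 1) / 2 + (m + 1) / 2 = m + 1 := by omega
    rw [this, pow_succ, hm, pow_orderOf_eq_one, one_mul]
  have hcv : Commute y v := by
    rw [hv]
    exact hcomm.pow_right _
  have hinv_v : t₁ * v * t₁⁻¹ = v⁻¹ := by
    rw [hv, ← conj_pow, hinv_w, inv_pow]
  have key : v⁻¹ * t₁ * v = t₁ * w := by
    have e1 : v⁻¹ * t₁ * v = t₁ * (t₁⁻¹ * v⁻¹ * t₁) * v := by group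
    have e2 : t₁⁻¹ * v⁻¹ * t₁ = v := by
      have : t₁⁻¹ * v⁻¹ * t₁ = (t₁⁻¹ * v * (t₁⁻¹)⁻¹)⁻¹ := by group
      rw [this, ht₁inv, hinv_v, inv_inv]
    rw [e1, e2, mul_assoc, hvv]
  have ht₂eq : t₂ = t₁ * y * w := by
    have : t₂ = t₁⁻¹ * u := by rw [← hu]; group
    rw [this, ht₁inv, ← hyw, mul_assoc]
  have hconj : v⁻¹ * (t₁ * y) * v = t₂ := by
    have e1 : v⁻¹ * (t₁ * y) * v = (v⁻¹ * t₁ * v) * (v⁻¹ * y * v) := by group
    have e2 : v⁻¹ * y * v = y := by
      calc v⁻¹ * y * v = v⁻¹ * (y * v) := by group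
        _ = v⁻¹ * (v * y) := by rw [hcv.eq]
        _ = y := by group
    rw [e1, key, e2, ht₂eq, mul_assoc, mul_assoc, (hcomm.eq : y * w = w * y)]
  have hc12 : IsConj t (t₁ * y) := by
    apply ht₂.trans
    rw [isConj_comm]
    exact isConj_iff.mpr ⟨v⁻¹, by rw [inv_inv]; exact hconj⟩
  -- move `t₁` into `P` inside `C_G(y)`
  have hle := sylow_le_centralizer_singleton P hyP
  have ht₁H : t₁ ∈ Subgroup.centralizer ({y} : Set G) := by
    rw [Subgroup.mem_centralizer_singleton_iff]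
    exact hcy
  have ht₁1 : t₁ ≠ 1 := by
    rintro rfl
    apply hty
    have := hc12
    rw [one_mul] at this
    exact this
  have ho₁ : orderOf t₁ = p ^ 1 := by
    rw [pow_one, hp2]
    exact orderOf_eq_prime (by rw [pow_two]; exact h1) ht₁1
  obtain ⟨h, hhH, hhP⟩ := exists_conj_mem_sylow_of_le P hle ht₁H ho₁
  have hhy : h * y = y * h := Subgroup.mem_centralizer_singleton_iff.mp hhH
  obtain ⟨t₀, ht₀⟩ : ∃ t₀, t₀ = h * t₁ * h⁻¹ := ⟨_, rfl⟩
  rw [← ht₀] at hhP
  have ht₀t : IsConj t t₀ := by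
    apply ht₁.trans
    rw [ht₀]
    exact isConj_iff.mpr ⟨h, rfl⟩
  have ht₀2 : t₀ * t₀ = 1 := by
    rw [ht₀]
    exact conj_mul_self_of_mul_self h1 h
  have ht₀y : t₀ * y = h * (t₁ * y) * h⁻¹ := by
    rw [ht₀]
    calc h * t₁ * h⁻¹ * y = h * t₁ * h⁻¹ * (y * h) * h⁻¹ := by group
      _ = h * t₁ * h⁻¹ * (h * y) * h⁻¹ := by rw [hhy]
      _ = h * (t₁ * y) * h⁻¹ := by group
  have ht₀yt : IsConj t₀ (t₀ * y) := by
    apply ht₀t.symm.trans
    apply hc12.trans
    rw [ht₀y]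
    exact isConj_iff.mpr ⟨h, rfl⟩
  obtain ⟨c, hc⟩ := isConj_iff.mp ht₀yt
  have hmem : (c⁻¹)⁻¹ * t₀ * c⁻¹ ∈ (P : Subgroup G) := by
    rw [inv_inv, hc]
    exact mul_mem hhP hyP
  obtain ⟨n, hn, hn'⟩ := Sylow.conj_eq_normalizer_conj_of_mem P t₀ c⁻¹ hhP hmem
  rw [inv_inv, hc] at hn'
  have hnN : n⁻¹ ∈ Subgroup.normalizer ((P : Subgroup G) : Set G) := inv_mem hn
  have ht₀inv : t₀⁻¹ = t₀ := inv_eq_of_mul_eq_one_left ht₀2
  have hy_eq : y = t₀ * (n⁻¹ * t₀ * (n⁻¹)⁻¹) := by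
    rw [inv_inv, ← hn', ← mul_assoc, ht₀2, one_mul]
  rcases mul_conj_eq_one_or_isConj_of_frob P hCN hfrob hhP ht₀2 hnN with h' | h'
  · exact hy1 (hy_eq.trans h')
  · rw [← hy_eq] at h'
    exact hty (ht₀t.trans h')

end Fusion

section Columns

variable {G : Type*} [Group G] [Fintype G] {p : ℕ} [Fact p.Prime]

open scoped Classical in
/-- No product of two conjugates of the involution `t` lies in the `p`-section of `y ∈ P`,
`y ≠ 1`, `y` not conjugate to `t`. -/
theorem conjProdCount_eq_zero_of_frob (P : Sylow p G) [IsMulCommutative P]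
    (hCN : (Subgroup.centralizer ((P : Subgroup G) : Set G)).relIndex
      (Subgroup.normalizer ((P : Subgroup G) : Set G)) = 3)
    (hfrob : ∀ y : G, y ∈ (P : Subgroup G) → y ≠ 1 →
      Subgroup.centralizer ({y} : Set G) ⊓ Subgroup.normalizer ((P : Subgroup G) : Set G) =
        Subgroup.centralizer ((P : Subgroup G) : Set G))
    {t : G} (ht : t * t = 1) {y : G} (hyP : y ∈ (P : Subgroup G)) (hy1 : y ≠ 1)
    (hty : ¬ IsConj t y) {u z : G} (hz : IsPPart p u z) (hyz : IsConj y z) :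
    conjProdCount t t u = 0 := by
  obtain ⟨c, hc⟩ := isConj_iff.mp hyz
  -- conjugate back to `y`
  have hcf := isClassFunction_conjProdCount t t u c⁻¹
  rw [← hcf]
  have hz' : IsPPart p (c⁻¹ * u * c⁻¹⁻¹) y := by
    have := isPPart_conj hz c⁻¹
    rwa [← hc, show c⁻¹ * (c * y * c⁻¹) * c⁻¹⁻¹ = y by group] at this
  unfold conjProdCount
  apply Finset.sum_eq_zero
  intro a _
  apply Finset.sum_eq_zero
  intro b _
  rw [if_neg]
  intro hab
  have h1 : a * t * a⁻¹ * (a * t * a⁻¹) = 1 := conj_mul_self_of_mul_self ht a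
  have h2 : b * t * b⁻¹ * (b * t * b⁻¹) = 1 := conj_mul_self_of_mul_self ht b
  by_cases hyy : y⁻¹ = y
  · exact false_of_prod_involutions_section P hCN hfrob (isConj_iff.mpr ⟨a, rfl⟩)
      (isConj_iff.mpr ⟨b, rfl⟩) h1 h2 hab hz' hyP hy1 hyy hty
  · have hinv_u : a * t * a⁻¹ * (c⁻¹ * u * c⁻¹⁻¹) * (a * t * a⁻¹)⁻¹ = (c⁻¹ * u * c⁻¹⁻¹)⁻¹ := by
      rw [← hab]
      exact conj_mul_of_mul_self h1 h2
    exact no_inversion_of_frob P hCN hfrob hyP hyy (conj_pPart_eq_inv hz' hinv_u)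

open scoped Classical in
/-- The column relation: `∑_{χ ∈ B₀} conj (χ t * χ t / χ 1) * χ y = 0` for an involution `t` and
`1 ≠ y ∈ P` not conjugate to `t`. -/
theorem sum_principalBlock_sq_div_mul_eq_zero_of_frob {M : Ideal AlgInt} (hM : IsPModular p M)
    (P : Sylow p G) [IsMulCommutative P]
    (hCN : (Subgroup.centralizer ((P : Subgroup G) : Set G)).relIndex
      (Subgroup.normalizer ((P : Subgroup G) : Set G)) = 3)
    (hfrob : ∀ y : G, y ∈ (P : Subgroup G) → y ≠ 1 →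
      Subgroup.centralizer ({y} : Set G) ⊓ Subgroup.normalizer ((P : Subgroup G) : Set G) =
        Subgroup.centralizer ((P : Subgroup G) : Set G))
    {t : G} (ht : t * t = 1) {y : G} (hyP : y ∈ (P : Subgroup G)) (hy1 : y ≠ 1)
    (hty : ¬ IsConj t y) :
    ∑ χ ∈ Finset.univ.filter (fun χ : IrrCharacter G => χ ∈ principalBlock M G),
      conj ((χ : G → ℂ) t * (χ : G → ℂ) t / (χ : G → ℂ) 1) * (χ : G → ℂ) y = 0 := by
  have hp1 : 1 < p := (Fact.out : p.Prime).one_lt
  have hy : ∃ k : ℕ, orderOf y = p ^ k := (IsPGroup.iff_orderOf.mp P.isPGroup') ⟨y, hyP⟩ |>.imp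
    (fun k hk => by rw [← hk]; exact (Subgroup.orderOf_mk y hyP).symm)
  have h1 := (Cfsg.Agent.S0925.result (G := G) p M hM).1 (conjProdCount t t)
    (isClassFunction_conjProdCount t t) y hy (by
      intro u z hz hc
      exact conjProdCount_eq_zero_of_frob P hCN hfrob ht hyP hy1 hty hz hc)
    (principalBlock M G) (isPBlock_principalBlock G M) y y (isPPart_self hp1 hy) (IsConj.refl y)
  rw [blockPart_apply] at h1
  have hG : (Nat.card G : ℂ) ≠ 0 := by exact_mod_cast (Nat.card_pos (α := G)).ne'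
  have h2 : ∑ χ ∈ Finset.univ.filter (fun χ : IrrCharacter G => χ ∈ principalBlock M G),
      classInner (conjProdCount t t) (χ : G → ℂ) * (χ : G → ℂ) y =
      (Nat.card G : ℂ) * ∑ χ ∈ Finset.univ.filter
        (fun χ : IrrCharacter G => χ ∈ principalBlock M G),
        conj ((χ : G → ℂ) t * (χ : G → ℂ) t / (χ : G → ℂ) 1) * (χ : G → ℂ) y := by
    rw [Finset.mul_sum]
    apply Finset.sum_congr rfl
    intro χ _
    rw [classInner_conjProdCount_irr, mul_assoc]
  rw [h2] at h1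
  exact (mul_eq_zero.mp h1).resolve_left hG

end Columns

end Cfsg.Agent.Lib.Helper78
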