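import Mathlib
import Cfsg.Agent.Lib.Helper74.SubgroupAvg
import Cfsg.Agent.Lib.Helper77.Deflation
import Cfsg.Agent.Lib.Helper78.InvolSection
import Cfsg.Agent.Lib.Helper78.ExcDual
import Cfsg.Agent.Lib.Helper80.CharBasic

/-!
# Characters at an element generating the group as a normal subgroup (helper78)

* `irr_apply_ne_of_normal_closure`: a nonprincipal irreducible character does not have `t` in its
  kernel if `t` lies in no proper normal subgroup.
* `card_dvd_degree_sub_of_const`: if `χ` takes the integer value `e` on `P ∖ {1}` then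
  `|P| ∣ χ 1 - e`.
* `exists_mem_sylow_not_isConj`: with `P` abelian Sylow, `|N_G(P) : C_G(P)| = 3` acting
  semiregularly and `|P| > 4`, every element misses some class of `P ∖ {1}`.
-/

set_option autoImplicit false
set_option linter.unusedSectionVars false

namespace Cfsg.Agent.Lib.Helper78

open Cfsg
open scoped ComplexConjugate

section Kernel

variable {G : Type*} [Group G] [Finite G]

/-- An irreducible character that is constant is the principal character. -/
theorem irr_eq_one_of_forall_eq {χ : G → ℂ} (hχ : IsIrrCharacter G χ)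
    (h : ∀ g, χ g = χ 1) : χ = fun _ => 1 := by
  have := Fintype.ofFinite G
  by_contra hne
  have h0 := Cfsg.Agent.Lib.Helper78.classInner_irr_ne hχ
    (Cfsg.Agent.Lib.Helper80.isIrrCharacter_one (G := G)) hne
  unfold classInner at h0
  have hG : (Nat.card G : ℂ) ≠ 0 := by exact_mod_cast (Nat.card_pos (α := G)).ne'
  have h1 : ∑ g : G, χ g * conj ((fun _ => (1 : ℂ)) g) = (Nat.card G : ℂ) * χ 1 := by
    simp only [map_one, mul_one]
    rw [Finset.sum_congr rfl (fun g _ => h g), Finset.sum_const, Finset.card_univ,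
      nsmul_eq_mul, Nat.card_eq_fintype_card]
  rw [h1, ← mul_assoc, inv_mul_cancel₀ hG, one_mul] at h0
  have hpos := IsIrrCharacter.charDegree_pos hχ
  rw [IsCharacter.apply_one_eq_charDegree (IsIrrCharacter.isCharacter hχ)] at h0
  have : charDegree χ = 0 := by exact_mod_cast h0
  omega

/-- A nonprincipal irreducible character does not have in its kernel an element that lies in no
proper normal subgroup. -/
theorem irr_apply_ne_of_normal_closure {χ : G → ℂ} (hχ : IsIrrCharacter G χ)
    (hne : χ ≠ fun _ => 1) {t : G} (ht : ∀ K : Subgroup G, K.Normal → t ∈ K → K = ⊤) :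
    χ t ≠ χ 1 := by
  intro h
  obtain ⟨K, hKn, hK, -, -⟩ :=
    Cfsg.Agent.Lib.Helper77.exists_kernel (IsIrrCharacter.isCharacter hχ)
  have htop := ht K hKn ((hK t).mpr h)
  apply hne
  apply irr_eq_one_of_forall_eq hχ
  intro g
  exact (hK g).mp (by rw [htop]; exact Subgroup.mem_top g)

/-- If `χ` takes the integer value `e` on `P ∖ {1}` then `|P|` divides `χ 1 - e`. -/
theorem card_dvd_degree_sub_of_const {χ : G → ℂ} (hχ : IsCharacter G χ) (P : Subgroup G)
    (e : ℤ) (h : ∀ k ∈ P, k ≠ 1 → χ k = (e : ℂ)) :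
    (Nat.card P : ℤ) ∣ (charDegree χ : ℤ) - e := by
  have : Fintype P := Fintype.ofFinite _
  obtain ⟨n, hn⟩ := Cfsg.Agent.Lib.Helper74.exists_nat_sum_subgroup hχ P
  rw [Cfsg.Agent.Lib.Helper74.sum_subgroup_of_const P χ (e : ℂ) h,
    IsCharacter.apply_one_eq_charDegree hχ] at hn
  refine ⟨n - e, ?_⟩
  have : ((charDegree χ : ℤ) : ℂ) - (e : ℂ) = (Nat.card P : ℂ) * ((n : ℂ) - (e : ℂ)) := by
    push_cast at hn ⊢
    linear_combination hn
  exact_mod_cast this

/-- An integer character value different from the degree is smaller than the degree. -/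
theorem int_lt_charDegree_of_ne {χ : G → ℂ} (hχ : IsCharacter G χ) {g : G} {x : ℤ}
    (hx : χ g = (x : ℂ)) (hne : χ g ≠ χ 1) : x < (charDegree χ : ℤ) := by
  have h1 := Cfsg.Agent.Lib.Helper80.norm_char_le hχ g
  rw [hx] at h1
  have h2 : ‖((x : ℤ) : ℂ)‖ = |(x : ℝ)| := by
    rw [← Complex.ofReal_intCast, Complex.norm_real, Real.norm_eq_abs]
  rw [h2] at h1
  have h3 : (x : ℝ) ≤ (charDegree χ : ℝ) := le_trans (le_abs_self _) h1
  have h4 : x ≤ (charDegree χ : ℤ) := by exact_mod_cast h3
  rcases lt_or_eq_of_le h4 with h5 | h5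
  · exact h5
  · exfalso
    apply hne
    rw [hx, IsCharacter.apply_one_eq_charDegree hχ, h5]
    simp

end Kernel

section Fusion

variable {G : Type*} [Group G] [Finite G] {p : ℕ} [Fact p.Prime]

/-- The stabilizer in `N_G(P)` of a non-identity element of `P` is `C_G(P)`. -/
theorem frob_smul_eq_self_iff (P : Sylow p G)
    (hfrob : ∀ y : G, y ∈ (P : Subgroup G) → y ≠ 1 →
      Subgroup.centralizer ({y} : Set G) ⊓ Subgroup.normalizer ((P : Subgroup G) : Set G) =
        Subgroup.centralizer ((P : Subgroup G) : Set G))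
    (y : ↥(P : Subgroup G)) (hy : y ≠ 1)
    (n : ↥(Subgroup.normalizer ((P : Subgroup G) : Set G))) :
    n • y = y ↔ n ∈ (Subgroup.centralizer ((P : Subgroup G) : Set G)).subgroupOf
      (Subgroup.normalizer ((P : Subgroup G) : Set G)) := by
  have hy1 : (y : G) ≠ 1 := fun h => hy (Subtype.ext h)
  rw [Subgroup.mem_subgroupOf, ← hfrob y y.2 hy1, Subgroup.mem_inf,
    Subgroup.mem_centralizer_singleton_iff]
  constructor
  · intro h
    have h' : (n : G) * (y : G) * (n : G)⁻¹ = (y : G) := congrArg Subtype.val h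
    exact ⟨mul_inv_eq_iff_eq_mul.mp h', n.2⟩
  · rintro ⟨h1, _⟩
    apply Subtype.ext
    show (n : G) * (y : G) * (n : G)⁻¹ = (y : G)
    exact mul_inv_eq_iff_eq_mul.mpr h1

/-- `|N_G(P)| = |C_G(P)| * m`. -/
theorem card_normalizer_eq_of_relIndex (P : Subgroup G) {m : ℕ}
    (hCN : (Subgroup.centralizer (P : Set G)).relIndex (Subgroup.normalizer (P : Set G)) = m) :
    Nat.card ↥(Subgroup.normalizer (P : Set G)) =
      Nat.card ((Subgroup.centralizer (P : Set G)).subgroupOf
        (Subgroup.normalizer (P : Set G))) * m := by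
  have h1 := Subgroup.card_mul_index ((Subgroup.centralizer (P : Set G)).subgroupOf
        (Subgroup.normalizer (P : Set G)))
  have h2 : ((Subgroup.centralizer (P : Set G)).subgroupOf
        (Subgroup.normalizer (P : Set G))).index = m := hCN
  rw [← h1, h2]

open scoped Classical in
/-- With `P` an abelian Sylow subgroup, `|N_G(P) : C_G(P)| = 3` acting semiregularly and
`|P| > 4`, every element misses some class of `P ∖ {1}`. -/
theorem exists_mem_sylow_not_isConj (P : Sylow p G) [IsMulCommutative P]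
    (hCN : (Subgroup.centralizer ((P : Subgroup G) : Set G)).relIndex
      (Subgroup.normalizer ((P : Subgroup G) : Set G)) = 3)
    (hfrob : ∀ y : G, y ∈ (P : Subgroup G) → y ≠ 1 →
      Subgroup.centralizer ({y} : Set G) ⊓ Subgroup.normalizer ((P : Subgroup G) : Set G) =
        Subgroup.centralizer ((P : Subgroup G) : Set G))
    (hm2 : 3 + 1 < Nat.card P) (t : G) :
    ∃ y ∈ (P : Subgroup G), y ≠ 1 ∧ ¬ IsConj t y := by
  let instCG : CommGroup ↥(P : Subgroup G) := IsMulCommutative.instCommGroup
  have hfinP : Fintype ↥(P : Subgroup G) := Fintype.ofFinite _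
  have hfinN : Fintype ↥(Subgroup.normalizer ((P : Subgroup G) : Set G)) := Fintype.ofFinite _
  by_contra hcon
  push Not at hcon
  -- a nontrivial element
  obtain ⟨y₀, hy₀⟩ : ∃ y₀ : ↥(P : Subgroup G), y₀ ≠ 1 := by
    by_contra hc
    push Not at hc
    have : Nat.card ↥(P : Subgroup G) ≤ 1 := by
      rw [Nat.card_eq_fintype_card]
      exact Fintype.card_le_one_iff.mpr (fun a b => by rw [hc a, hc b])
    have h2 : Nat.card ↥(P : Subgroup G) = Nat.card P := rfl
    omega
  have hy₀1 : (y₀ : G) ≠ 1 := fun h => hy₀ (Subtype.ext h)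
  -- every nonidentity element is an `N`-conjugate of `y₀`
  have hall : ∀ y' : ↥(P : Subgroup G), y' ≠ 1 →
      ∃ n : ↥(Subgroup.normalizer ((P : Subgroup G) : Set G)), n • y₀ = y' := by
    intro y' hy'
    have hy'1 : (y' : G) ≠ 1 := fun h => hy' (Subtype.ext h)
    have h1 : IsConj (y₀ : G) (y' : G) :=
      (hcon y₀ y₀.2 hy₀1).symm.trans (hcon y' y'.2 hy'1)
    obtain ⟨c, hc⟩ := isConj_iff.mp h1
    have hmem : c⁻¹⁻¹ * (y₀ : G) * c⁻¹ ∈ (P : Subgroup G) := by
      rw [inv_inv, hc]
      exact y'.2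
    obtain ⟨n, hn, hn'⟩ := Sylow.conj_eq_normalizer_conj_of_mem P (y₀ : G) c⁻¹ y₀.2 hmem
    rw [inv_inv, hc] at hn'
    refine ⟨⟨n⁻¹, inv_mem hn⟩, ?_⟩
    apply Subtype.ext
    show n⁻¹ * (y₀ : G) * n⁻¹⁻¹ = (y' : G)
    rw [inv_inv, hn']
  have hS := frob_smul_eq_self_iff P hfrob
  have hcard := card_normalizer_eq_of_relIndex (P : Subgroup G) hCN
  have hcount := Finset.card_eq_sum_card_fiberwise
    (f := fun n : ↥(Subgroup.normalizer ((P : Subgroup G) : Set G)) => n • y₀)
    (s := Finset.univ) (t := Finset.univ) (fun _ _ => Finset.mem_univ _)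
  have hfib : ∀ y' : ↥(P : Subgroup G),
      (Finset.univ.filter (fun n : ↥(Subgroup.normalizer ((P : Subgroup G) : Set G)) =>
        n • y₀ = y')).card =
      if y' = 1 then 0 else Nat.card ((Subgroup.centralizer ((P : Subgroup G) : Set G)).subgroupOf
        (Subgroup.normalizer ((P : Subgroup G) : Set G))) := by
    intro y'
    have hcf : (Finset.univ.filter
        (fun n : ↥(Subgroup.normalizer ((P : Subgroup G) : Set G)) => n • y₀ = y')).card =
        if ∃ n : ↥(Subgroup.normalizer ((P : Subgroup G) : Set G)), n • y₀ = y' then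
          Nat.card ((Subgroup.centralizer ((P : Subgroup G) : Set G)).subgroupOf
            (Subgroup.normalizer ((P : Subgroup G) : Set G))) else 0 := by
      convert card_filter_smul_eq _ hS hy₀ y'
    rw [hcf]
    by_cases h1 : y' = 1
    · rw [if_pos h1, if_neg]
      rintro ⟨n, hn⟩
      apply hy₀
      rw [h1] at hn
      have : n⁻¹ • (n • y₀) = n⁻¹ • (1 : ↥(P : Subgroup G)) := by rw [hn]
      rwa [inv_smul_smul, smul_one] at this
    · rw [if_neg h1, if_pos (hall y' h1)]
  rw [Finset.sum_congr rfl (fun y' _ => hfib y'), Finset.card_univ, ← Nat.card_eq_fintype_card,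
    hcard, Finset.sum_ite, Finset.sum_const_zero, zero_add, Finset.sum_const, smul_eq_mul,
    Finset.filter_not, Finset.card_sdiff_of_subset (Finset.subset_univ _), Finset.card_univ,
    Finset.filter_eq', if_pos (Finset.mem_univ _), Finset.card_singleton,
    ← Nat.card_eq_fintype_card] at hcount
  have hSpos : 0 < Nat.card ((Subgroup.centralizer ((P : Subgroup G) : Set G)).subgroupOf
        (Subgroup.normalizer ((P : Subgroup G) : Set G))) := Nat.card_pos
  have h2 : Nat.card ↥(P : Subgroup G) = Nat.card P := rfl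
  rw [mul_comm] at hcount
  have h3 := Nat.eq_of_mul_eq_mul_right hSpos hcount
  omega

/-- An element of order `p` is conjugate into any Sylow `p`-subgroup. -/
theorem exists_conj_mem_sylow_of_orderOf_eq (P : Sylow p G) {t : G} (ht : orderOf t = p) :
    ∃ c : G, c * t * c⁻¹ ∈ (P : Subgroup G) := by
  obtain ⟨c, -, hc⟩ := exists_conj_mem_sylow_of_le P (H := ⊤) le_top (Subgroup.mem_top t)
    (k := 1) (by rw [ht, pow_one])
  exact ⟨c, hc⟩

end Fusion

end Cfsg.Agent.Lib.Helper78
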