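import Mathlib
import Cfsg.Agent.S4709
import Cfsg.Agent.Lib.Helper78.InvolKernel
import Cfsg.Agent.Lib.Helper78.DihedralGroup

set_option autoImplicit false
open Cfsg

/-!
# The principal block for a Sylow subgroup of prime order: normalized data (helper78)

`P` is a Sylow `p`-subgroup of order `p`, `e = |N_G(P) : C_G(P)|`.  Assuming the lower bound
`e + (p - 1) / e ≤ k(B₀)` (supplied by the module-theoretic part of the project), the principal
block is `X ∪ Y` with `|X| = e`, `|Y| = (p - 1) / e`; the characters of `X` are constant `±1` on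
`P ∖ 1`, those of `Y` agree on `p`-regular elements, and `ε η(g) = ∑_{χ ∈ X} a_χ χ(g)` for
`p`-regular `g` (`DefectOneData`).

* `defect_one_data_lt`: the case `e + 1 < p` (from `Cfsg.Agent.S4709.main_aux`);
* `defect_one_data_top`: the case `e = p - 1`;
* `defect_one_data`: both.
-/

namespace Cfsg.Agent.Lib.Helper78

open scoped ComplexConjugate

open scoped Classical in
/-- The normalized description of the principal block (Sylow subgroup of prime order). -/
structure DefectOneData {G : Type*} [Group G] [Finite G] (p : ℕ) [Fact p.Prime]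
    (M : Ideal Cfsg.AlgInt) (P : Sylow p G) (e : ℕ) (ε : ℤ) (a : IrrCharacter G → ℤ)
    (X Y : Finset (IrrCharacter G)) : Prop where
  hε : ε = 1 ∨ ε = -1
  hmem : ∀ χ : IrrCharacter G, χ ∈ principalBlock M G ↔ χ ∈ X ∨ χ ∈ Y
  hdisj : Disjoint X Y
  hXcard : X.card = e
  hYcard : Y.card = (p - 1) / e
  haX : ∀ χ ∈ X, a χ = 1 ∨ a χ = -1
  hX : ∀ χ ∈ X, ∀ y : G, y ∈ (P : Subgroup G) → y ≠ 1 → (χ : G → ℂ) y = (a χ : ℂ)
  hregY : ∀ g : G, ¬ p ∣ orderOf g → ∀ η ∈ Y, ∀ η' ∈ Y, (η : G → ℂ) g = (η' : G → ℂ) g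
  hrel : ∀ g : G, ¬ p ∣ orderOf g → ∀ η ∈ Y,
    (ε : ℂ) * (η : G → ℂ) g = ∑ χ ∈ X, (a χ : ℂ) * (χ : G → ℂ) g

/-- The arithmetic of the norm equation when there are at least `e` nonexceptional characters. -/
theorem norm_cases_general {d δ S : ℤ} {t e : ℕ} (hδ : δ = 1 ∨ δ = -1) (ht : 2 ≤ t)
    (hS : (e : ℤ) ≤ S) (h : (d - δ) ^ 2 + ((t : ℤ) - 1) * d ^ 2 + S = (e : ℤ) + 1) :
    S = (e : ℤ) ∧ (d = 0 ∨ (d = δ ∧ t = 2)) := by
  have ht' : (1 : ℤ) ≤ (t : ℤ) - 1 := by
    have : (2 : ℤ) ≤ (t : ℤ) := by exact_mod_cast ht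
    linarith
  have h1 : d ^ 2 ≤ ((t : ℤ) - 1) * d ^ 2 := by nlinarith [sq_nonneg d]
  have h2 : 0 ≤ (d - δ) ^ 2 := sq_nonneg _
  have h3 : d ^ 2 ≤ 1 := by nlinarith
  have h4 : d ≤ 1 ∧ -1 ≤ d := by constructor <;> nlinarith
  obtain ⟨h5, h6⟩ := h4
  have h7 : d = -1 ∨ d = 0 ∨ d = 1 := by omega
  rcases hδ with hδ | hδ <;> rcases h7 with h7 | h7 | h7 <;> rw [hδ, h7] at h
  · exfalso; nlinarith
  · exact ⟨by linarith, Or.inl h7⟩
  · have h8 : ((t : ℤ) - 1) + S = (e : ℤ) + 1 := by linarith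
    have h9 : (t : ℤ) = 2 := by linarith
    exact ⟨by linarith, Or.inr ⟨by rw [h7, hδ], by exact_mod_cast h9⟩⟩
  · have h8 : ((t : ℤ) - 1) + S = (e : ℤ) + 1 := by linarith
    have h9 : (t : ℤ) = 2 := by linarith
    exact ⟨by linarith, Or.inr ⟨by rw [h7, hδ], by exact_mod_cast h9⟩⟩
  · exact ⟨by linarith, Or.inl h7⟩
  · exfalso; nlinarith

open scoped Classical in
/-- The number of characters of the principal block as the cardinality of a `Finset`. -/
theorem card_principalBlock_eq_card_filter {G : Type*} [Group G] [Finite G]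
    (M : Ideal Cfsg.AlgInt) :
    Nat.card (principalBlock M G) =
      (Finset.univ.filter (fun χ : IrrCharacter G => χ ∈ principalBlock M G)).card := by
  rw [Nat.card_eq_fintype_card, Fintype.card_subtype]

open scoped Classical in
/-- **The normalized data, case `e + 1 < p`.** -/
theorem defect_one_data_lt {G : Type*} [Group G] [Finite G] (p : ℕ) [Fact p.Prime]
    (M : Ideal Cfsg.AlgInt) (hM : Cfsg.IsPModular p M) (P : Sylow p G) (hP : Nat.card P = p)
    (e : ℕ)
    (he : (Subgroup.centralizer ((P : Subgroup G) : Set G)).relIndex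
      (Subgroup.normalizer ((P : Subgroup G) : Set G)) = e)
    (hlt : e + 1 < p)
    (hk : e + (p - 1) / e ≤ Nat.card (Cfsg.principalBlock M G)) :
    ∃ (ε : ℤ) (a : IrrCharacter G → ℤ) (X Y : Finset (IrrCharacter G)),
      DefectOneData p M P e ε a X Y := by
  have hp : p.Prime := Fact.out
  have hcyc : IsCyclic P := isCyclic_of_prime_card hP
  have hab : IsMulCommutative P := IsCyclic.isMulCommutative
  have hP' : Nat.card (P : Subgroup G) = p := hP
  have hfrob := frob_of_card_eq_prime P hP'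
  have hm2 : e + 1 < Nat.card P := by rw [hP]; exact hlt
  obtain ⟨δ, d, ζ, a, Y, hδ, hYB, hζY, hYsurj, hζR, hYcard, htriv, haout, hX, hval, hnorm,
    hreg⟩ := Cfsg.Agent.S4709.main_aux p M hM P e hm2 he hfrob
  rw [hP] at hYcard
  -- `e` is positive and `|Y| = (p - 1) / e ≥ 2`
  have he0 : 0 < e := by
    rcases Nat.eq_zero_or_pos e with h | h
    · rw [h, mul_zero] at hYcard
      have := hp.two_le
      omega
    · exact h
  have hYdiv : Y.card = (p - 1) / e := (Nat.div_eq_of_eq_mul_left he0 hYcard.symm).symm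
  have hY2 : 2 ≤ Y.card := by
    by_contra hc
    push Not at hc
    have h1 : Y.card * e ≤ 1 * e := Nat.mul_le_mul_right e (by omega)
    omega
  -- a nontrivial element of `P`
  obtain ⟨y₀, hy₀⟩ : ∃ y₀ : ↥(P : Subgroup G), y₀ ≠ 1 := by
    have hfinP : Fintype ↥(P : Subgroup G) := Fintype.ofFinite _
    by_contra hc
    push Not at hc
    have h1 : Nat.card ↥(P : Subgroup G) ≤ 1 := by
      rw [Nat.card_eq_fintype_card]
      exact Fintype.card_le_one_iff.mpr (fun a b => by rw [hc a, hc b])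
    have := hp.two_le
    omega
  -- the nonexceptional characters
  obtain ⟨X, hXdef⟩ : ∃ X : Finset (IrrCharacter G),
      X = Finset.univ.filter (fun χ => χ ∈ principalBlock M G ∧ χ ∉ Y) := ⟨_, rfl⟩
  have hmemX : ∀ χ, χ ∈ X ↔ χ ∈ principalBlock M G ∧ χ ∉ Y := by
    intro χ
    rw [hXdef]
    simp
  have hdisj : Disjoint X Y := by
    rw [Finset.disjoint_left]
    intro χ hχ
    exact ((hmemX χ).mp hχ).2
  have hunion : Finset.univ.filter (fun χ : IrrCharacter G => χ ∈ principalBlock M G) =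
      X ∪ Y := by
    ext χ
    simp only [Finset.mem_filter, Finset.mem_univ, true_and, Finset.mem_union, hmemX]
    constructor
    · intro h
      by_cases hY : χ ∈ Y
      · exact Or.inr hY
      · exact Or.inl ⟨h, hY⟩
    · rintro (h | h)
      · exact h.1
      · exact hYB χ h
  have hcardB : Nat.card (principalBlock M G) = X.card + Y.card := by
    rw [card_principalBlock_eq_card_filter, hunion, Finset.card_union_of_disjoint hdisj]
  have hXge : e ≤ X.card := by omega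
  -- the values `a χ` are nonzero on `X`
  have haX0 : ∀ χ ∈ X, a χ ≠ 0 := by
    intro χ hχ h0
    have h1 := (hmemX χ).mp hχ
    have h2 := hX χ h1.1 h1.2 y₀ hy₀
    rw [h0] at h2
    exact principalBlock_apply_ne_zero hM P h1.1 y₀.2 (by simpa using h2)
  have hsplit : ∀ {N : Type} [AddCommMonoid N] (f : IrrCharacter G → N),
      (∀ χ, χ ∉ principalBlock M G → f χ = 0) →
      ∑ χ ∈ Finset.univ.filter (· ∉ Y), f χ = ∑ χ ∈ X, f χ := by
    intro N _ f hf
    rw [hXdef]
    symm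
    apply Finset.sum_subset
    · intro χ hχ
      simp only [Finset.mem_filter, Finset.mem_univ, true_and] at hχ ⊢
      exact hχ.2
    · intro χ hχ hχ'
      simp only [Finset.mem_filter, Finset.mem_univ, true_and] at hχ hχ'
      apply hf
      intro hB
      exact hχ' ⟨hB, hχ⟩
  have hSX : ∑ χ ∈ Finset.univ.filter (· ∉ Y), a χ ^ 2 = ∑ χ ∈ X, a χ ^ 2 :=
    hsplit (fun χ => a χ ^ 2) (fun χ hχ => by
      show a χ ^ 2 = 0
      rw [haout χ hχ]
      norm_num)
  have hge1 : ∀ χ ∈ X, 1 ≤ a χ ^ 2 := by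
    intro χ hχ
    rw [one_le_sq_iff_one_le_abs]
    exact Int.one_le_abs (haX0 χ hχ)
  have hSge : (X.card : ℤ) ≤ ∑ χ ∈ X, a χ ^ 2 := by
    have h1 : ∑ χ ∈ X, (1 : ℤ) ≤ ∑ χ ∈ X, a χ ^ 2 := Finset.sum_le_sum hge1
    rw [Finset.sum_const, nsmul_eq_mul, mul_one] at h1
    exact h1
  have hSe : (e : ℤ) ≤ ∑ χ ∈ Finset.univ.filter (· ∉ Y), a χ ^ 2 := by
    rw [hSX]
    have : (e : ℤ) ≤ (X.card : ℤ) := by exact_mod_cast hXge
    linarith
  obtain ⟨hS, hd⟩ := norm_cases_general hδ hY2 hSe hnorm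
  rw [hSX] at hS
  have hXcard : X.card = e := by
    have h1 : (X.card : ℤ) ≤ (e : ℤ) := by linarith
    have h2 : X.card ≤ e := by exact_mod_cast h1
    omega
  have haX1 : ∀ χ ∈ X, a χ ^ 2 = 1 := by
    have h1 : ∑ χ ∈ X, (a χ ^ 2 - 1) = 0 := by
      rw [Finset.sum_sub_distrib, hS, Finset.sum_const, nsmul_eq_mul, mul_one, hXcard]
      ring
    intro χ hχ
    have h2 := (Finset.sum_eq_zero_iff_of_nonneg (fun χ hχ => by
      have := hge1 χ hχ
      linarith)).mp h1 χ hχ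
    linarith
  have haXpm : ∀ χ ∈ X, a χ = 1 ∨ a χ = -1 := by
    intro χ hχ
    have h1 := haX1 χ hχ
    have h3 : a χ ≤ 1 ∧ -1 ≤ a χ := by constructor <;> nlinarith
    obtain ⟨h4, h5⟩ := h3
    have h6 : a χ = -1 ∨ a χ = 0 ∨ a χ = 1 := by omega
    rcases h6 with h6 | h6 | h6
    · exact Or.inr h6
    · rw [h6] at h1
      norm_num at h1
    · exact Or.inl h6
  -- the sign
  obtain ⟨ε, hεdef⟩ : ∃ ε : ℤ, ε = δ - (Y.card : ℤ) * d := ⟨_, rfl⟩
  have hεpm : ε = 1 ∨ ε = -1 := by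
    rcases hd with hd | ⟨hd, hY⟩
    · rw [hεdef, hd, mul_zero, sub_zero]
      exact hδ
    · rw [hεdef, hd, hY]
      rcases hδ with h | h <;> rw [h] <;> norm_num
  refine ⟨ε, a, X, Y, hεpm, ?_, hdisj, hXcard, hYdiv, haXpm, ?_, ?_, ?_⟩
  · intro χ
    have h1 : χ ∈ Finset.univ.filter (fun χ : IrrCharacter G => χ ∈ principalBlock M G) ↔
        χ ∈ X ∪ Y := by rw [hunion]
    simpa using h1
  · intro χ hχ y hy hy1
    have h1 := (hmemX χ).mp hχ
    exact hX χ h1.1 h1.2 ⟨y, hy⟩ (fun h => hy1 (congrArg Subtype.val h))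
  · intro g hg
    exact (hreg g hg).1
  · intro g hg η hη
    have h1 := (hreg g hg).2 η hη
    rw [hsplit (fun χ => (a χ : ℂ) * (χ : G → ℂ) g) (fun χ hχ => by
      show (a χ : ℂ) * (χ : G → ℂ) g = 0
      rw [haout χ hχ]
      simp)] at h1
    rw [hεdef]
    push_cast
    linear_combination -h1

end Cfsg.Agent.Lib.Helper78
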