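import Mathlib
import Cfsg.Agent.Lib.Helper78.SectionSum
import Cfsg.Agent.Lib.Helper77.Deflation
import Cfsg.Agent.Lib.Helper16.DefectClass

set_option autoImplicit false
open Cfsg

/-!
# Blocks of a group with a central Sylow `p`-subgroup: uniqueness of the character with the Sylow
subgroup in its kernel (helper78; module (UNIQ) of the general defect-one project)

If `Q` is a central Sylow `p`-subgroup of `H`, every element of `H` is uniquely `x s` with `x ∈ Q`
and `s` `p`-regular.  For irreducible characters `θ, ψ` with `Q` in their kernels this gives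
`∑_{s p-regular} conj θ(s) ψ(s) = |H : Q| δ_{θψ}`; testing the central characters of a block on the
class function `s ↦ conj θ(s)` (supported on the `p`-regular elements) shows that a block contains
at most one irreducible character with `Q` in its kernel.
-/

namespace Cfsg.Agent.Lib.Helper78

open scoped ComplexConjugate

open scoped Classical in
/-- Summation over a group with a central Sylow `p`-subgroup `Q`. -/
theorem sum_eq_sum_central_sylow {H : Type*} [Group H] [Fintype H] {p : ℕ} [Fact p.Prime]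
    (Q : Sylow p H) (hQ : ∀ x ∈ (Q : Subgroup H), ∀ h : H, h * x = x * h) (F : H → ℂ) :
    ∑ h : H, F h = ∑ x : H, if x ∈ (Q : Subgroup H) then
      ∑ s : H, (if p ∣ orderOf s then 0 else F (x * s)) else 0 := by
  rw [sum_eq_sum_sectionSum (p := p) F]
  apply Finset.sum_congr rfl
  intro x _
  by_cases hx : x ∈ (Q : Subgroup H)
  · rw [if_pos hx]
    unfold sectionSum
    have h1 : ∑ g : H, (if IsPPart p g x then F g else 0) =
        ∑ s : H, if IsPPart p (x * s) x then F (x * s) else 0 := by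
      symm
      exact Fintype.sum_equiv (Equiv.mulLeft x) _ _ (fun s => rfl)
    rw [h1]
    apply Finset.sum_congr rfl
    intro s _
    have hxp : ∃ k : ℕ, orderOf x = p ^ k := by
      obtain ⟨k, hk⟩ := (IsPGroup.iff_orderOf.mp Q.isPGroup') ⟨x, hx⟩
      refine ⟨k, ?_⟩
      rw [← hk, Subgroup.orderOf_mk]
    have hiff : IsPPart p (x * s) x ↔ ¬ p ∣ orderOf s := by
      constructor
      · rintro ⟨y, hxy, _, _, hy⟩
        have : y = s := mul_left_cancel hxy
        rwa [this] at hy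
      · intro hs
        exact ⟨s, rfl, (hQ x hx s).symm, hxp, hs⟩
    by_cases hs : p ∣ orderOf s
    · rw [if_pos hs, if_neg (fun h => (hiff.mp h) hs)]
    · rw [if_neg hs, if_pos (hiff.mpr hs)]
  · rw [if_neg hx]
    apply sectionSum_eq_zero
    rintro ⟨k, hk⟩
    apply hx
    have hpg : IsPGroup p (Subgroup.zpowers x) :=
      IsPGroup.of_card (n := k) (by rw [Nat.card_zpowers, hk])
    obtain ⟨Q', hQ'⟩ := hpg.exists_le_sylow
    have hnormal : (Q : Subgroup H).Normal := by
      refine ⟨fun n hn g => ?_⟩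
      rw [hQ n hn g, mul_assoc, mul_inv_cancel, mul_one]
      exact hn
    have huniq := Sylow.unique_of_normal Q hnormal
    have hQQ : Q' = Q := Subsingleton.elim Q' Q
    rw [← hQQ]
    exact hQ' (Subgroup.mem_zpowers x)


open scoped Classical in
/-- The sum over the `p`-regular elements of `conj θ · ψ` for characters with the central Sylow
subgroup `Q` in their kernels. -/
theorem card_mul_sum_pRegular {H : Type*} [Group H] [Fintype H] {p : ℕ} [Fact p.Prime]
    (Q : Sylow p H) (hQ : ∀ x ∈ (Q : Subgroup H), ∀ h : H, h * x = x * h) (θ ψ : IrrCharacter H)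
    (hθ : ∀ x ∈ (Q : Subgroup H), (θ : H → ℂ) x = (θ : H → ℂ) 1)
    (hψ : ∀ x ∈ (Q : Subgroup H), (ψ : H → ℂ) x = (ψ : H → ℂ) 1) :
    (Nat.card (Q : Subgroup H) : ℂ) *
      ∑ s : H, (if p ∣ orderOf s then 0 else conj ((θ : H → ℂ) s) * (ψ : H → ℂ) s) =
      ∑ h : H, conj ((θ : H → ℂ) h) * (ψ : H → ℂ) h := by
  obtain ⟨Kθ, -, hKθ, -, hKθ'⟩ := Cfsg.Agent.Lib.Helper77.exists_kernel
    (IsIrrCharacter.isCharacter θ.2)
  obtain ⟨Kψ, -, hKψ, -, hKψ'⟩ := Cfsg.Agent.Lib.Helper77.exists_kernel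
    (IsIrrCharacter.isCharacter ψ.2)
  rw [sum_eq_sum_central_sylow Q hQ (fun h => conj ((θ : H → ℂ) h) * (ψ : H → ℂ) h)]
  have h1 : ∀ x : H, (if x ∈ (Q : Subgroup H) then
      ∑ s : H, (if p ∣ orderOf s then 0 else conj ((θ : H → ℂ) (x * s)) * (ψ : H → ℂ) (x * s))
      else 0) = if x ∈ (Q : Subgroup H) then
      ∑ s : H, (if p ∣ orderOf s then 0 else conj ((θ : H → ℂ) s) * (ψ : H → ℂ) s) else 0 := by
    intro x
    by_cases hx : x ∈ (Q : Subgroup H)
    · rw [if_pos hx, if_pos hx]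
      apply Finset.sum_congr rfl
      intro s _
      rw [hKθ' s x ((hKθ x).mpr (hθ x hx)), hKψ' s x ((hKψ x).mpr (hψ x hx))]
    · rw [if_neg hx, if_neg hx]
  rw [Finset.sum_congr rfl (fun x _ => h1 x), ← Finset.sum_filter, Finset.sum_const,
    nsmul_eq_mul]
  congr 2
  rw [Nat.card_eq_fintype_card, Fintype.card_subtype]

open scoped Classical in
/-- **A block of a group with a central Sylow `p`-subgroup `Q` contains at most one irreducible
character with `Q` in its kernel.** -/
theorem eq_of_mem_blockOf_of_central_sylow {H : Type*} [Group H] [Fintype H] {p : ℕ}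
    [Fact p.Prime] {M : Ideal AlgInt} (hM : IsPModular p M)
    (Q : Sylow p H) (hQ : ∀ x ∈ (Q : Subgroup H), ∀ h : H, h * x = x * h) (θ ψ : IrrCharacter H)
    (hθ : ∀ x ∈ (Q : Subgroup H), (θ : H → ℂ) x = (θ : H → ℂ) 1)
    (hψ : ∀ x ∈ (Q : Subgroup H), (ψ : H → ℂ) x = (ψ : H → ℂ) 1)
    (h : ψ ∈ blockOf M (θ : H → ℂ)) : ψ = θ := by
  have hp : p.Prime := Fact.out
  have hMp : M.IsPrime := Cfsg.Agent.Lib.Helper16.isPModular_isPrime hM
  by_contra hne
  have hne' : (θ : H → ℂ) ≠ (ψ : H → ℂ) := fun h' => hne (Subtype.ext h'.symm)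
  have hSB : SameBlock M (θ : H → ℂ) (ψ : H → ℂ) := h
  -- the test function
  obtain ⟨f, hf⟩ : ∃ f : H → ℂ, ∀ g, f g = if p ∣ orderOf g then 0 else conj ((θ : H → ℂ) g) :=
    ⟨_, fun _ => rfl⟩
  have hfconj : ∀ g a : H, f (a * g * a⁻¹) = f g := by
    intro g a
    rw [hf, hf, Cfsg.Agent.Lib.Helper16.irr_conj θ g a]
    have : orderOf (a * g * a⁻¹) = orderOf g := by
      have := orderOf_injective (MulAut.conj a).toMonoidHom (MulAut.conj a).injective g
      simpa using this
    rw [this]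
  have hfR : ∀ g, MemLocalRing M (f g) := by
    intro g
    rw [hf]
    split_ifs
    · exact Cfsg.Agent.Lib.Helper16.memLocalRing_zero hMp.ne_top
    · apply Cfsg.Agent.Lib.Helper16.memLocalRing_of_isIntegral hMp.ne_top
      have h1 := IsCharacter.isIntegral (IsIrrCharacter.isCharacter θ.2) g
      exact (map_isIntegral_int (starRingEnd ℂ)) h1
  -- the weighted sums as combinations of central characters
  have key : ∀ χ : IrrCharacter H, (∑ g : H, f g * (χ : H → ℂ) g) / (χ : H → ℂ) 1 =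
      ∑ c : ConjClasses H, f (Cfsg.Agent.Lib.Helper16.classRep c) *
        centralChar (χ : H → ℂ) (Cfsg.Agent.Lib.Helper16.classRep c) := by
    intro χ
    rw [Cfsg.Agent.Lib.Helper16.sum_eq_sum_classes (fun g => f g * (χ : H → ℂ) g)
      (fun g a => by simp only [hfconj, Cfsg.Agent.Lib.Helper16.irr_conj χ]), Finset.sum_div]
    apply Finset.sum_congr rfl
    intro c _
    unfold centralChar
    ring
  have hdiff : MemLocalIdeal M ((∑ g : H, f g * (θ : H → ℂ) g) / (θ : H → ℂ) 1 -
      (∑ g : H, f g * (ψ : H → ℂ) g) / (ψ : H → ℂ) 1) := by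
    rw [key θ, key ψ, ← Finset.sum_sub_distrib]
    apply Cfsg.Agent.Lib.Helper16.memLocalIdeal_sum
    intro c _
    rw [← mul_sub]
    exact Cfsg.Agent.Lib.Helper16.memLocalIdeal_mul_left (hfR _) (hSB _)
  -- evaluation of the two sums
  have hsumf : ∀ χ : IrrCharacter H, ∑ g : H, f g * (χ : H → ℂ) g =
      ∑ s : H, (if p ∣ orderOf s then 0 else conj ((θ : H → ℂ) s) * (χ : H → ℂ) s) := by
    intro χ
    apply Finset.sum_congr rfl
    intro g _
    rw [hf]
    split_ifs
    · rw [zero_mul]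
    · rfl
  have hcardQ : (Nat.card (Q : Subgroup H) : ℂ) ≠ 0 := by
    exact_mod_cast Nat.card_pos.ne'
  have hcardH : (Nat.card H : ℂ) ≠ 0 := by
    exact_mod_cast Nat.card_pos.ne'
  have hinner : ∀ χ : IrrCharacter H, ∑ g : H, conj ((θ : H → ℂ) g) * (χ : H → ℂ) g =
      (Nat.card H : ℂ) * classInner (χ : H → ℂ) (θ : H → ℂ) := by
    intro χ
    unfold classInner
    rw [← mul_assoc, mul_inv_cancel₀ hcardH, one_mul]
    apply Finset.sum_congr rfl
    intro g _
    ring
  have hθsum : (Nat.card (Q : Subgroup H) : ℂ) * ∑ g : H, f g * (θ : H → ℂ) g =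
      (Nat.card H : ℂ) := by
    rw [hsumf θ, card_mul_sum_pRegular Q hQ θ θ hθ hθ, hinner θ, classInner_irr_self θ.2, mul_one]
  have hψsum : (Nat.card (Q : Subgroup H) : ℂ) * ∑ g : H, f g * (ψ : H → ℂ) g = 0 := by
    rw [hsumf ψ, card_mul_sum_pRegular Q hQ θ ψ hθ hψ, hinner ψ,
      classInner_irr_ne ψ.2 θ.2 (fun h' => hne' h'.symm), mul_zero]
  have hψ0 : ∑ g : H, f g * (ψ : H → ℂ) g = 0 := by
    rcases mul_eq_zero.mp hψsum with h' | h'
    · exact absurd h' hcardQ
    · exact h'
  -- the index of `Q`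
  obtain ⟨m, hm⟩ : ∃ m : ℕ, m = (Q : Subgroup H).index := ⟨_, rfl⟩
  have hmcard : Nat.card (Q : Subgroup H) * m = Nat.card H := by
    rw [hm]
    exact Subgroup.card_mul_index _
  have hpm : ¬ p ∣ m := by
    rw [hm]
    exact Q.not_dvd_index
  have hθm : ∑ g : H, f g * (θ : H → ℂ) g = (m : ℂ) := by
    have h1 : (Nat.card (Q : Subgroup H) : ℂ) * ∑ g : H, f g * (θ : H → ℂ) g =
        (Nat.card (Q : Subgroup H) : ℂ) * (m : ℂ) := by
      rw [hθsum, ← hmcard]
      push_cast
      ring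
    exact mul_left_cancel₀ hcardQ h1
  rw [hθm, hψ0, zero_div, sub_zero] at hdiff
  -- `m / θ(1)` in the local ideal forces `p ∣ m`
  have hθ1 : (θ : H → ℂ) 1 = (charDegree (θ : H → ℂ) : ℂ) :=
    IsCharacter.apply_one_eq_charDegree (IsIrrCharacter.isCharacter θ.2)
  have hd0 : (θ : H → ℂ) 1 ≠ 0 := Cfsg.Agent.Lib.Helper79.irr_apply_one_ne_zero θ
  have hmI : MemLocalIdeal M (m : ℂ) := by
    have h1 : (m : ℂ) = (θ : H → ℂ) 1 * ((m : ℂ) / (θ : H → ℂ) 1) := by
      field_simp
    rw [h1]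
    apply Cfsg.Agent.Lib.Helper16.memLocalIdeal_mul_left _ hdiff
    rw [hθ1]
    exact Cfsg.Agent.Lib.Helper16.memLocalRing_natCast hMp.ne_top _
  exact hpm ((Cfsg.Agent.Lib.Helper16.memLocalIdeal_natCast_iff hM m).mp hmI)


/-- **Module (UNIQ) of the general defect-one project.**  Let `P` be a Sylow `p`-subgroup of
order `p` and `C = C_G(P)`.  A block of `C` contains at most one irreducible character with `P` in
its kernel. -/
theorem UNIQ {G : Type*} [Group G] [Finite G] (p : ℕ) [Fact p.Prime] (M : Ideal AlgInt)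
    (hM : IsPModular p M) (P : Sylow p G) (hP : Nat.card P = p)
    (θ ψ : IrrCharacter ↥(Subgroup.centralizer ((P : Subgroup G) : Set G)))
    (hθP : ∀ x : ↥(Subgroup.centralizer ((P : Subgroup G) : Set G)),
      (x : G) ∈ (P : Subgroup G) →
        (θ : ↥(Subgroup.centralizer ((P : Subgroup G) : Set G)) → ℂ) x =
          (θ : ↥(Subgroup.centralizer ((P : Subgroup G) : Set G)) → ℂ) 1)
    (hψP : ∀ x : ↥(Subgroup.centralizer ((P : Subgroup G) : Set G)),
      (x : G) ∈ (P : Subgroup G) →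
        (ψ : ↥(Subgroup.centralizer ((P : Subgroup G) : Set G)) → ℂ) x =
          (ψ : ↥(Subgroup.centralizer ((P : Subgroup G) : Set G)) → ℂ) 1)
    (h : ψ ∈ blockOf M (θ : ↥(Subgroup.centralizer ((P : Subgroup G) : Set G)) → ℂ)) :
    ψ = θ := by
  have hcyc : IsCyclic P := isCyclic_of_prime_card hP
  have hab : IsMulCommutative P := IsCyclic.isMulCommutative
  have hfinC : Fintype ↥(Subgroup.centralizer ((P : Subgroup G) : Set G)) := Fintype.ofFinite _
  have hle : (P : Subgroup G) ≤ Subgroup.centralizer ((P : Subgroup G) : Set G) := by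
    intro u hu
    rw [Subgroup.mem_centralizer_iff]
    intro v hv
    have h1 : (⟨v, hv⟩ : P) * ⟨u, hu⟩ = ⟨u, hu⟩ * ⟨v, hv⟩ := hab.is_comm.comm _ _
    exact congrArg Subtype.val h1
  have hQ : ∀ x ∈ ((P.subtype hle : Sylow p ↥(Subgroup.centralizer ((P : Subgroup G) : Set G))) :
      Subgroup ↥(Subgroup.centralizer ((P : Subgroup G) : Set G))),
      ∀ c : ↥(Subgroup.centralizer ((P : Subgroup G) : Set G)), c * x = x * c := by
    intro x hx c
    rw [Sylow.coe_subtype, Subgroup.mem_subgroupOf] at hx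
    apply Subtype.ext
    have h1 := c.2
    rw [Subgroup.mem_centralizer_iff] at h1
    exact (h1 (x : G) hx).symm
  apply eq_of_mem_blockOf_of_central_sylow hM (P.subtype hle) hQ θ ψ _ _ h
  · intro x hx
    rw [Sylow.coe_subtype, Subgroup.mem_subgroupOf] at hx
    exact hθP x hx
  · intro x hx
    rw [Sylow.coe_subtype, Subgroup.mem_subgroupOf] at hx
    exact hψP x hx

end Cfsg.Agent.Lib.Helper78
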