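import Mathlib
import Cfsg.Agent.Lib.Helper78.DefectOneData

set_option autoImplicit false
set_option linter.unusedSectionVars false
open Cfsg

/-!
# The principal block for a Sylow subgroup of prime order: the case `e = p - 1` (helper78)

When `|N_G(P) : C_G(P)| = p - 1` all nonidentity elements of `P` are conjugate, the characters of
the principal block take rational integer values on them, and the bound `p ≤ k(B₀)` forces
`k(B₀) = p` with all these values `±1`.  Together with `defect_one_data_lt` this gives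
`defect_one_data` for every `e`.
-/

namespace Cfsg.Agent.Lib.Helper78

open scoped ComplexConjugate

section Orbit

variable {G : Type*} [Group G] [Finite G] {p : ℕ} [Fact p.Prime]

/-- The `N_G(P)`-orbit of a nonidentity element of `P` has `|N_G(P) : C_G(P)|` elements. -/
theorem ncard_orbit_eq_relIndex (P : Sylow p G)
    (hfrob : ∀ y : G, y ∈ (P : Subgroup G) → y ≠ 1 →
      Subgroup.centralizer ({y} : Set G) ⊓ Subgroup.normalizer ((P : Subgroup G) : Set G) =
        Subgroup.centralizer ((P : Subgroup G) : Set G))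
    (y : ↥(P : Subgroup G)) (hy : y ≠ 1) :
    (MulAction.orbit ↥(Subgroup.normalizer ((P : Subgroup G) : Set G)) y).ncard =
      (Subgroup.centralizer ((P : Subgroup G) : Set G)).relIndex
        (Subgroup.normalizer ((P : Subgroup G) : Set G)) := by
  rw [← MulAction.index_stabilizer]
  have hstab : MulAction.stabilizer ↥(Subgroup.normalizer ((P : Subgroup G) : Set G)) y =
      (Subgroup.centralizer ((P : Subgroup G) : Set G)).subgroupOf
        (Subgroup.normalizer ((P : Subgroup G) : Set G)) := by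
    ext n
    rw [MulAction.mem_stabilizer_iff]
    exact frob_smul_eq_self_iff P hfrob y hy n
  rw [hstab]
  rfl

/-- The orbit of a nonidentity element consists of nonidentity elements. -/
theorem orbit_subset_compl_one (P : Sylow p G) (y : ↥(P : Subgroup G)) (hy : y ≠ 1) :
    MulAction.orbit ↥(Subgroup.normalizer ((P : Subgroup G) : Set G)) y ⊆
      ({1} : Set ↥(P : Subgroup G))ᶜ := by
  rintro y' ⟨n, rfl⟩
  rw [Set.mem_compl_iff, Set.mem_singleton_iff]
  intro h
  apply hy
  have h1 : n⁻¹ • (n • y) = n⁻¹ • (1 : ↥(P : Subgroup G)) := congrArg (n⁻¹ • ·) h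
  rwa [inv_smul_smul, smul_one] at h1

/-- `|N_G(P) : C_G(P)| ≤ |P| - 1`. -/
theorem relIndex_le_card_sub_one (P : Sylow p G) (hP : Nat.card P = p)
    (hfrob : ∀ y : G, y ∈ (P : Subgroup G) → y ≠ 1 →
      Subgroup.centralizer ({y} : Set G) ⊓ Subgroup.normalizer ((P : Subgroup G) : Set G) =
        Subgroup.centralizer ((P : Subgroup G) : Set G)) :
    (Subgroup.centralizer ((P : Subgroup G) : Set G)).relIndex
      (Subgroup.normalizer ((P : Subgroup G) : Set G)) ≤ p - 1 := by
  have hp : p.Prime := Fact.out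
  obtain ⟨y₀, hy₀⟩ : ∃ y₀ : ↥(P : Subgroup G), y₀ ≠ 1 := by
    have hfinP : Fintype ↥(P : Subgroup G) := Fintype.ofFinite _
    by_contra hc
    push Not at hc
    have h1 : Nat.card ↥(P : Subgroup G) ≤ 1 := by
      rw [Nat.card_eq_fintype_card]
      exact Fintype.card_le_one_iff.mpr (fun a b => by rw [hc a, hc b])
    have h2 : Nat.card ↥(P : Subgroup G) = Nat.card P := rfl
    have := hp.two_le
    omega
  rw [← ncard_orbit_eq_relIndex P hfrob y₀ hy₀]
  have h1 := Set.ncard_le_ncard (orbit_subset_compl_one P y₀ hy₀)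
  have h2 : (({1} : Set ↥(P : Subgroup G))ᶜ).ncard = p - 1 := by
    rw [Set.ncard_compl, Set.ncard_singleton]
    have h3 : Nat.card ↥(P : Subgroup G) = Nat.card P := rfl
    rw [h3, hP]
  rwa [h2] at h1

/-- If `|N_G(P) : C_G(P)| = |P| - 1` then `N_G(P)` is transitive on `P ∖ 1`. -/
theorem exists_smul_eq_of_relIndex_eq (P : Sylow p G) (hP : Nat.card P = p)
    (hfrob : ∀ y : G, y ∈ (P : Subgroup G) → y ≠ 1 →
      Subgroup.centralizer ({y} : Set G) ⊓ Subgroup.normalizer ((P : Subgroup G) : Set G) =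
        Subgroup.centralizer ((P : Subgroup G) : Set G))
    (he : (Subgroup.centralizer ((P : Subgroup G) : Set G)).relIndex
      (Subgroup.normalizer ((P : Subgroup G) : Set G)) = p - 1)
    (y y' : ↥(P : Subgroup G)) (hy : y ≠ 1) (hy' : y' ≠ 1) :
    ∃ n : ↥(Subgroup.normalizer ((P : Subgroup G) : Set G)), n • y = y' := by
  have h2 : (({1} : Set ↥(P : Subgroup G))ᶜ).ncard = p - 1 := by
    rw [Set.ncard_compl, Set.ncard_singleton]
    have h3 : Nat.card ↥(P : Subgroup G) = Nat.card P := rfl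
    rw [h3, hP]
  have h1 : MulAction.orbit ↥(Subgroup.normalizer ((P : Subgroup G) : Set G)) y =
      ({1} : Set ↥(P : Subgroup G))ᶜ := by
    apply Set.eq_of_subset_of_ncard_le (orbit_subset_compl_one P y hy)
    rw [h2, ncard_orbit_eq_relIndex P hfrob y hy, he]
  have h3 : y' ∈ MulAction.orbit ↥(Subgroup.normalizer ((P : Subgroup G) : Set G)) y := by
    rw [h1]
    simpa using hy'
  exact h3

end Orbit

/-- A complex algebraic integer with a nonzero integer multiple in `ℤ` is in `ℤ`. -/
theorem exists_int_eq_of_natCast_mul_eq {c : ℂ} (hc : IsIntegral ℤ c) {k : ℕ} (hk : k ≠ 0) {z : ℤ}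
    (h : (k : ℂ) * c = (z : ℂ)) : ∃ w : ℤ, c = (w : ℂ) := by
  have hk' : (k : ℂ) ≠ 0 := by exact_mod_cast hk
  have h1 : c = algebraMap ℚ ℂ ((z : ℚ) / (k : ℚ)) := by
    rw [map_div₀]
    simp only [eq_ratCast, Rat.cast_intCast, Rat.cast_natCast]
    field_simp
    linear_combination h
  rw [h1] at hc
  have h2 : IsIntegral ℤ ((z : ℚ) / (k : ℚ)) :=
    (isIntegral_algebraMap_iff (algebraMap ℚ ℂ).injective).mp hc
  obtain ⟨w, hw⟩ := IsIntegrallyClosed.isIntegral_iff.mp h2
  refine ⟨w, ?_⟩
  rw [h1, ← hw]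
  simp

open scoped Classical in
/-- **The normalized data, case `e = p - 1`.** -/
theorem defect_one_data_top {G : Type*} [Group G] [Finite G] (p : ℕ) [Fact p.Prime]
    (M : Ideal Cfsg.AlgInt) (hM : Cfsg.IsPModular p M) (P : Sylow p G) (hP : Nat.card P = p)
    (e : ℕ)
    (he : (Subgroup.centralizer ((P : Subgroup G) : Set G)).relIndex
      (Subgroup.normalizer ((P : Subgroup G) : Set G)) = e)
    (hep : e = p - 1)
    (hk : e + (p - 1) / e ≤ Nat.card (Cfsg.principalBlock M G)) :
    ∃ (ε : ℤ) (a : IrrCharacter G → ℤ) (X Y : Finset (IrrCharacter G)),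
      DefectOneData p M P e ε a X Y := by
  have hp : p.Prime := Fact.out
  have hp2 := hp.two_le
  have hcyc : IsCyclic P := isCyclic_of_prime_card hP
  have hab : IsMulCommutative P := IsCyclic.isMulCommutative
  have hP' : Nat.card (P : Subgroup G) = p := hP
  have hfrob := frob_of_card_eq_prime P hP'
  have hfinP : Fintype ↥(P : Subgroup G) := Fintype.ofFinite _
  -- a nontrivial element of `P`
  obtain ⟨y₀, hy₀⟩ : ∃ y₀ : ↥(P : Subgroup G), y₀ ≠ 1 := by
    by_contra hc
    push Not at hc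
    have h1 : Nat.card ↥(P : Subgroup G) ≤ 1 := by
      rw [Nat.card_eq_fintype_card]
      exact Fintype.card_le_one_iff.mpr (fun a b => by rw [hc a, hc b])
    omega
  have hy₀1 : (y₀ : G) ≠ 1 := fun h => hy₀ (Subtype.ext h)
  -- all nonidentity elements of `P` are conjugate to `y₀`
  have hconj : ∀ χ : IrrCharacter G, ∀ y : G, y ∈ (P : Subgroup G) → y ≠ 1 →
      (χ : G → ℂ) y = (χ : G → ℂ) y₀ := by
    intro χ y hy hy1
    obtain ⟨n, hn⟩ := exists_smul_eq_of_relIndex_eq P hP hfrob (by rw [he, hep]) y₀ ⟨y, hy⟩ hy₀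
      (fun h => hy1 (congrArg Subtype.val h))
    have hval : y = (n : G) * (y₀ : G) * (n : G)⁻¹ := by
      have := congrArg Subtype.val hn
      exact this.symm
    rw [hval, isClassFunction_irr χ (y₀ : G) (n : G)]
  -- the values are integers
  have hint : ∀ χ : IrrCharacter G, ∃ c : ℤ, (χ : G → ℂ) y₀ = (c : ℂ) := by
    intro χ
    have hχ := IsIrrCharacter.isCharacter χ.2
    obtain ⟨n, hn⟩ := Cfsg.Agent.Lib.Helper74.exists_nat_sum_subgroup hχ (P : Subgroup G)
    rw [Cfsg.Agent.Lib.Helper74.sum_subgroup_of_const (P : Subgroup G) (χ : G → ℂ)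
      ((χ : G → ℂ) y₀) (fun k hk hk1 => hconj χ k hk hk1),
      IsCharacter.apply_one_eq_charDegree hχ, hP'] at hn
    apply exists_int_eq_of_natCast_mul_eq (IsCharacter.isIntegral hχ (y₀ : G))
      (k := p - 1) (by omega) (z := (p : ℤ) * (n : ℤ) - (charDegree (χ : G → ℂ) : ℤ))
    have h1 : ((p - 1 : ℕ) : ℂ) = (p : ℂ) - 1 := by
      rw [Nat.cast_sub (by omega)]
      simp
    rw [h1]
    push_cast
    linear_combination hn
  choose a ha using hint
  -- the trivial character
  obtain ⟨triv, htrivdef⟩ : ∃ triv : IrrCharacter G,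
      triv = ⟨fun _ => 1, Cfsg.Agent.Lib.Helper80.isIrrCharacter_one⟩ := ⟨_, rfl⟩
  have htrivB : triv ∈ principalBlock M G := by
    rw [htrivdef]
    exact Cfsg.Agent.Lib.Helper74.one_mem_principalBlock hM G
  have htrivfun : (triv : G → ℂ) = fun _ => 1 := by rw [htrivdef]
  have hatriv : a triv = 1 := by
    have h1 := ha triv
    rw [htrivfun] at h1
    have h2 : (1 : ℂ) = (a triv : ℂ) := h1
    exact_mod_cast h2.symm
  -- the block as a finset
  obtain ⟨B, hBdef⟩ : ∃ B : Finset (IrrCharacter G),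
      B = Finset.univ.filter (fun χ : IrrCharacter G => χ ∈ principalBlock M G) := ⟨_, rfl⟩
  have hmemB : ∀ χ, χ ∈ B ↔ χ ∈ principalBlock M G := by
    intro χ
    rw [hBdef]
    simp
  have hBcard : p ≤ B.card := by
    rw [hBdef, ← card_principalBlock_eq_card_filter]
    have h1 : (p - 1) / e = 1 := by
      rw [hep]
      exact Nat.div_self (by omega)
    omega
  -- the norm relation
  have hnorm : ∑ χ ∈ B, a χ ^ 2 = (p : ℤ) := by
    have h1 := sum_principalBlock_norm_sq hM P hfrob y₀.2 hy₀1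
    rw [← hBdef, hP] at h1
    have h2 : ((∑ χ ∈ B, a χ ^ 2 : ℤ) : ℂ) = ((p : ℤ) : ℂ) := by
      push_cast
      rw [← h1]
      apply Finset.sum_congr rfl
      intro χ _
      rw [ha χ, map_intCast]
      ring
    exact_mod_cast h2
  have haB0 : ∀ χ ∈ B, a χ ≠ 0 := by
    intro χ hχ h0
    have h1 := ha χ
    rw [h0] at h1
    exact principalBlock_apply_ne_zero hM P ((hmemB χ).mp hχ) y₀.2 (by simpa using h1)
  have hge1 : ∀ χ ∈ B, 1 ≤ a χ ^ 2 := by
    intro χ hχ
    rw [one_le_sq_iff_one_le_abs]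
    exact Int.one_le_abs (haB0 χ hχ)
  have hSge : (B.card : ℤ) ≤ ∑ χ ∈ B, a χ ^ 2 := by
    have h1 : ∑ χ ∈ B, (1 : ℤ) ≤ ∑ χ ∈ B, a χ ^ 2 := Finset.sum_le_sum hge1
    rw [Finset.sum_const, nsmul_eq_mul, mul_one] at h1
    exact h1
  have hBcard' : B.card = p := by
    have h1 : (B.card : ℤ) ≤ (p : ℤ) := by linarith
    have h2 : B.card ≤ p := by exact_mod_cast h1
    omega
  have haB1 : ∀ χ ∈ B, a χ ^ 2 = 1 := by
    have h1 : ∑ χ ∈ B, (a χ ^ 2 - 1) = 0 := by
      rw [Finset.sum_sub_distrib, hnorm, Finset.sum_const, nsmul_eq_mul, mul_one, hBcard']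
      ring
    intro χ hχ
    have h2 := (Finset.sum_eq_zero_iff_of_nonneg (fun χ hχ => by
      have := hge1 χ hχ
      linarith)).mp h1 χ hχ
    linarith
  have haBpm : ∀ χ ∈ B, a χ = 1 ∨ a χ = -1 := by
    intro χ hχ
    have h1 := haB1 χ hχ
    have h3 : a χ ≤ 1 ∧ -1 ≤ a χ := by constructor <;> nlinarith
    obtain ⟨h4, h5⟩ := h3
    have h6 : a χ = -1 ∨ a χ = 0 ∨ a χ = 1 := by omega
    rcases h6 with h6 | h6 | h6
    · exact Or.inr h6
    · rw [h6] at h1
      norm_num at h1
    · exact Or.inl h6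
  have htrivmem : triv ∈ B := (hmemB triv).mpr htrivB
  refine ⟨-1, a, B.erase triv, {triv}, Or.inr rfl, ?_, ?_, ?_, ?_, ?_, ?_, ?_, ?_⟩
  · intro χ
    rw [← hmemB, Finset.mem_erase, Finset.mem_singleton]
    constructor
    · intro h
      by_cases h1 : χ = triv
      · exact Or.inr h1
      · exact Or.inl ⟨h1, h⟩
    · rintro (h | h)
      · exact h.2
      · rw [h]
        exact htrivmem
  · rw [Finset.disjoint_singleton_right]
    exact Finset.notMem_erase triv B
  · rw [Finset.card_erase_of_mem htrivmem, hBcard', hep]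
  · rw [Finset.card_singleton, hep]
    exact (Nat.div_self (by omega)).symm
  · intro χ hχ
    exact haBpm χ (Finset.mem_of_mem_erase hχ)
  · intro χ _ y hy hy1
    rw [hconj χ y hy hy1, ha χ]
  · intro g _ η hη η' hη'
    rw [Finset.mem_singleton.mp hη, Finset.mem_singleton.mp hη']
  · intro g hg η hη
    rw [Finset.mem_singleton.mp hη, htrivfun]
    have h1 := sum_principalBlock_mul_pRegular hM P y₀.2 hy₀1 hg
    rw [← hBdef, ← Finset.add_sum_erase B _ htrivmem, htrivfun] at h1
    have h2 : ∑ χ ∈ B.erase triv, (χ : G → ℂ) y₀ * (χ : G → ℂ) g =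
        ∑ χ ∈ B.erase triv, (a χ : ℂ) * (χ : G → ℂ) g := by
      apply Finset.sum_congr rfl
      intro χ _
      rw [ha χ]
    rw [h2] at h1
    push_cast
    linear_combination -h1

open scoped Classical in
/-- **The normalized data for a Sylow subgroup of prime order.** -/
theorem defect_one_data {G : Type*} [Group G] [Finite G] (p : ℕ) [Fact p.Prime]
    (M : Ideal Cfsg.AlgInt) (hM : Cfsg.IsPModular p M) (P : Sylow p G) (hP : Nat.card P = p)
    (e : ℕ)
    (he : (Subgroup.centralizer ((P : Subgroup G) : Set G)).relIndex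
      (Subgroup.normalizer ((P : Subgroup G) : Set G)) = e)
    (hk : e + (p - 1) / e ≤ Nat.card (Cfsg.principalBlock M G)) :
    ∃ (ε : ℤ) (a : IrrCharacter G → ℤ) (X Y : Finset (IrrCharacter G)),
      DefectOneData p M P e ε a X Y := by
  have hp : p.Prime := Fact.out
  have hp2 := hp.two_le
  have hP' : Nat.card (P : Subgroup G) = p := hP
  have hle := relIndex_le_card_sub_one P hP (frob_of_card_eq_prime P hP')
  rw [he] at hle
  by_cases h : e = p - 1
  · exact defect_one_data_top p M hM P hP e he h hk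
  · exact defect_one_data_lt p M hM P hP e he (by omega) hk

end Cfsg.Agent.Lib.Helper78
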