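import Mathlib
import Cfsg.Agent.Lib.Helper78.DefectOneTop

set_option autoImplicit false
open Cfsg

/-!
# Brauer's theorem on the principal block for `|P| = p`: the endgame (helper78)

From the lower bound `hk : e + (p - 1) / e ≤ k(B₀)` we derive the conclusions of the statements
S0960 (`s0960_of_card_le`) and S4441 (`s4441_of_card_le`) verbatim.
-/

namespace Cfsg.Agent.Lib.Helper78

open scoped ComplexConjugate

section Consequences

variable {G : Type*} [Group G] [Finite G] {p : ℕ} [Fact p.Prime] {M : Ideal Cfsg.AlgInt}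
  {P : Sylow p G} {e : ℕ} {ε : ℤ} {a : IrrCharacter G → ℤ} {X Y : Finset (IrrCharacter G)}

open scoped Classical in
theorem DefectOneData.card_principalBlock (D : DefectOneData p M P e ε a X Y) :
    Nat.card (principalBlock M G) = e + (p - 1) / e := by
  have hunion : Finset.univ.filter (fun χ : IrrCharacter G => χ ∈ principalBlock M G) =
      X ∪ Y := by
    ext χ
    simp only [Finset.mem_filter, Finset.mem_univ, true_and, Finset.mem_union]
    exact D.hmem χ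
  rw [card_principalBlock_eq_card_filter, hunion, Finset.card_union_of_disjoint D.hdisj,
    D.hXcard, D.hYcard]

theorem DefectOneData.degree_X (D : DefectOneData p M P e ε a X Y) (hP : Nat.card P = p)
    {χ : IrrCharacter G} (hχ : χ ∈ X) :
    (p : ℤ) ∣ (charDegree (χ : G → ℂ) : ℤ) - a χ := by
  have h1 := card_dvd_degree_sub_of_const (IsIrrCharacter.isCharacter χ.2) (P : Subgroup G)
    (a χ) (D.hX χ hχ)
  have h2 : Nat.card ↥(P : Subgroup G) = Nat.card P := rfl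
  rwa [h2, hP] at h1

theorem DefectOneData.degree_Y (D : DefectOneData p M P e ε a X Y) (hP : Nat.card P = p)
    {θ : IrrCharacter G} (hθ : θ ∈ Y) :
    (p : ℤ) ∣ (charDegree (θ : G → ℂ) : ℤ) - ε * (e : ℤ) := by
  have hp : p.Prime := Fact.out
  have hone : ¬ p ∣ orderOf (1 : G) := by
    rw [orderOf_one]
    exact hp.one_lt.ne' ∘ Nat.dvd_one.mp
  have h1 := D.hrel 1 hone θ hθ
  rw [IsCharacter.apply_one_eq_charDegree (IsIrrCharacter.isCharacter θ.2)] at h1
  have h2 : ε * (charDegree (θ : G → ℂ) : ℤ) = ∑ χ ∈ X, a χ * (charDegree (χ : G → ℂ) : ℤ) := by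
    have h3 : ((ε * (charDegree (θ : G → ℂ) : ℤ) : ℤ) : ℂ) =
        ((∑ χ ∈ X, a χ * (charDegree (χ : G → ℂ) : ℤ) : ℤ) : ℂ) := by
      push_cast
      rw [h1]
      apply Finset.sum_congr rfl
      intro χ _
      rw [IsCharacter.apply_one_eq_charDegree (IsIrrCharacter.isCharacter χ.2)]
    exact_mod_cast h3
  have h4 : (p : ℤ) ∣ ∑ χ ∈ X, a χ * ((charDegree (χ : G → ℂ) : ℤ) - a χ) := by
    apply Finset.dvd_sum
    intro χ hχ
    exact Dvd.dvd.mul_left (D.degree_X hP hχ) _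
  have h5 : ∑ χ ∈ X, a χ * ((charDegree (χ : G → ℂ) : ℤ) - a χ) =
      ε * (charDegree (θ : G → ℂ) : ℤ) - (e : ℤ) := by
    rw [h2]
    have h6 : ∑ χ ∈ X, a χ * a χ = (e : ℤ) := by
      have h7 : ∑ χ ∈ X, a χ * a χ = ∑ χ ∈ X, (1 : ℤ) := by
        apply Finset.sum_congr rfl
        intro χ hχ
        rcases D.haX χ hχ with h | h <;> rw [h] <;> norm_num
      rw [h7, Finset.sum_const, nsmul_eq_mul, mul_one, D.hXcard]
    rw [← h6, ← Finset.sum_sub_distrib]
    apply Finset.sum_congr rfl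
    intro χ _
    ring
  rw [h5] at h4
  have hεsq : ε * ε = 1 := by rcases D.hε with h | h <;> rw [h] <;> norm_num
  have h8 : (charDegree (θ : G → ℂ) : ℤ) - ε * (e : ℤ) =
      ε * (ε * (charDegree (θ : G → ℂ) : ℤ) - (e : ℤ)) := by
    linear_combination (-(charDegree (θ : G → ℂ) : ℤ)) * hεsq
  rw [h8]
  exact Dvd.dvd.mul_left h4 _

end Consequences

open scoped Classical in
/-- **S0960 from the lower bound for `k(B₀)`.** -/
theorem s0960_of_card_le {G : Type*} [Group G] [Finite G] (p : ℕ) [Fact p.Prime]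
    (M : Ideal Cfsg.AlgInt) (hM : Cfsg.IsPModular p M) (P : Sylow p G) (hP : Nat.card P = p)
    (e : ℕ)
    (he : (Subgroup.centralizer ((P : Subgroup G) : Set G)).relIndex
      (Subgroup.normalizer ((P : Subgroup G) : Set G)) = e)
    (hk : e + (p - 1) / e ≤ Nat.card (Cfsg.principalBlock M G)) :
    Nat.card (Cfsg.principalBlock M G) = e + (p - 1) / e ∧
      ∀ χ ∈ Cfsg.principalBlock M G,
        ((Cfsg.charDegree (χ : G → ℂ) : ℤ) ≡ 1 [ZMOD p] ∨
          (Cfsg.charDegree (χ : G → ℂ) : ℤ) ≡ -1 [ZMOD p] ∨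
          (Cfsg.charDegree (χ : G → ℂ) : ℤ) ≡ (e : ℤ) [ZMOD p] ∨
          (Cfsg.charDegree (χ : G → ℂ) : ℤ) ≡ -(e : ℤ) [ZMOD p]) := by
  obtain ⟨ε, a, X, Y, D⟩ := defect_one_data p M hM P hP e he hk
  refine ⟨D.card_principalBlock, ?_⟩
  intro χ hχ
  rcases (D.hmem χ).mp hχ with hX | hY
  · have h1 : (charDegree (χ : G → ℂ) : ℤ) ≡ a χ [ZMOD p] :=
      (Int.modEq_iff_dvd.mpr (D.degree_X hP hX)).symm
    rcases D.haX χ hX with h | h
    · rw [h] at h1
      exact Or.inl h1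
    · rw [h] at h1
      exact Or.inr (Or.inl h1)
  · have h1 : (charDegree (χ : G → ℂ) : ℤ) ≡ ε * (e : ℤ) [ZMOD p] :=
      (Int.modEq_iff_dvd.mpr (D.degree_Y hP hY)).symm
    rcases D.hε with h | h
    · rw [h, one_mul] at h1
      exact Or.inr (Or.inr (Or.inl h1))
    · rw [h, neg_one_mul] at h1
      exact Or.inr (Or.inr (Or.inr h1))

open scoped Classical in
/-- **S4441 from the lower bound for `k(B₀)`.** -/
theorem s4441_of_card_le {G : Type*} [Group G] [Finite G] (p : ℕ) [Fact p.Prime]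
    (M : Ideal Cfsg.AlgInt) (hM : Cfsg.IsPModular p M) (P : Sylow p G) (hP : Nat.card P = p)
    (e : ℕ)
    (he : (Subgroup.centralizer ((P : Subgroup G) : Set G)).relIndex
      (Subgroup.normalizer ((P : Subgroup G) : Set G)) = e)
    (hk : e + (p - 1) / e ≤ Nat.card (Cfsg.principalBlock M G)) :
    ∃ X Y : Set (Cfsg.IrrCharacter G), Cfsg.principalBlock M G = X ∪ Y ∧ Disjoint X Y ∧
      Nat.card X = e ∧ Nat.card Y = (p - 1) / e ∧
      ∃ (εX : Cfsg.IrrCharacter G → ℤ) (ε : ℤ),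
        (∀ χ ∈ X, (εX χ = 1 ∨ εX χ = -1) ∧
          (Cfsg.charDegree (χ : G → ℂ) : ℤ) ≡ εX χ [ZMOD p] ∧
          ∀ x : G, x ∈ (P : Subgroup G) → x ≠ 1 → ∀ y : G,
            y ∈ Subgroup.centralizer ((P : Subgroup G) : Set G) → ¬ p ∣ orderOf y →
              (χ : G → ℂ) (x * y) = (εX χ : ℂ)) ∧
        (ε = 1 ∨ ε = -1) ∧
        (∀ θ ∈ Y, (Cfsg.charDegree (θ : G → ℂ) : ℤ) ≡ ε * (e : ℤ) [ZMOD p]) ∧
        (∀ θ ∈ Y, ∀ θ' ∈ Y, ∀ g : G, ¬ p ∣ orderOf g → (θ : G → ℂ) g = (θ' : G → ℂ) g) ∧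
        ∀ θ ∈ Y, ∀ g : G, ¬ p ∣ orderOf g →
          (ε : ℂ) * (θ : G → ℂ) g = ∑ᶠ χ ∈ X, (εX χ : ℂ) * (χ : G → ℂ) g := by
  obtain ⟨ε, a, X, Y, D⟩ := defect_one_data p M hM P hP e he hk
  have hcyc : IsCyclic P := isCyclic_of_prime_card hP
  have hab : IsMulCommutative P := IsCyclic.isMulCommutative
  have hP' : Nat.card (P : Subgroup G) = p := hP
  have hfrob := frob_of_card_eq_prime P hP'
  refine ⟨(X : Set (IrrCharacter G)), (Y : Set (IrrCharacter G)), ?_, ?_, ?_, ?_, a, ε, ?_, D.hε,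
    ?_, ?_, ?_⟩
  · ext χ
    rw [Set.mem_union, Finset.mem_coe, Finset.mem_coe]
    exact D.hmem χ
  · exact Finset.disjoint_coe.mpr D.hdisj
  · rw [Nat.card_coe_set_eq, Set.ncard_coe_finset, D.hXcard]
  · rw [Nat.card_coe_set_eq, Set.ncard_coe_finset, D.hYcard]
  · intro χ hχ
    have hχX : χ ∈ X := Finset.mem_coe.mp hχ
    have hχB : χ ∈ principalBlock M G := (D.hmem χ).mpr (Or.inl hχX)
    refine ⟨D.haX χ hχX, (Int.modEq_iff_dvd.mpr (D.degree_X hP hχX)).symm, ?_⟩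
    intro x hx hx1 y hy hyp
    have hcomm : Commute x y := by
      rw [Subgroup.mem_centralizer_iff] at hy
      exact hy x hx
    have hpp : IsPPart p (x * y) x :=
      ⟨y, rfl, hcomm, exists_orderOf_eq_of_mem_sylow P hx, hyp⟩
    rw [principalBlock_apply_eq_of_isPPart hM P hfrob hχB hpp hx hx1]
    exact D.hX χ hχX x hx hx1
  · intro θ hθ
    exact (Int.modEq_iff_dvd.mpr (D.degree_Y hP (Finset.mem_coe.mp hθ))).symm
  · intro θ hθ θ' hθ' g hg
    exact D.hregY g hg θ (Finset.mem_coe.mp hθ) θ' (Finset.mem_coe.mp hθ')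
  · intro θ hθ g hg
    rw [finsum_mem_coe_finset]
    exact D.hrel g hg θ (Finset.mem_coe.mp hθ)

end Cfsg.Agent.Lib.Helper78
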