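import Mathlib
import Cfsg.Agent.Lib.Helper77.DefOneGenNil
import Cfsg.Agent.Lib.Helper77.BlockRed
import Cfsg.Agent.Lib.Helper77.NrmAct
import Cfsg.Agent.Lib.Helper75.GaloisStable
import Cfsg.Agent.Lib.Helper78.DefOneUniq

set_option autoImplicit false
set_option linter.unusedSectionVars false

/-!
# Module (EPS-A) of the general defect-one project (helper78)

`P` is a Sylow `p`-subgroup of order `p`, `C = C_G(P)`, `b` a block of `C` containing `θ` with
`P ≤ ker θ`, `T` the stabilizer of `θ` in `N = N_G(P)`.  The block idempotent of `b`, reduced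
modulo `M` and extended by zero to `F[G]`, is an idempotent `ε₀` supported on `C`, fixed by `T`,
orthogonal to its conjugates under `N ∖ T`, and `σ_P ε₀ ≠ 0`.
-/

namespace Cfsg.Agent.Lib.Helper78

open Cfsg MonoidAlgebra Cfsg.Agent.Lib.Helper16 Cfsg.Agent.Lib.Helper77
  Cfsg.Agent.Lib.Helper77.GrpRed Cfsg.Agent.Lib.Helper77.Modular
  Cfsg.Agent.Lib.Helper77.BlockRed Cfsg.Agent.Lib.Helper77.DefOne
  Cfsg.Agent.Lib.Helper77.BlockDimC

section ExtZero

variable {k : Type*} [CommSemiring k] {G : Type*} [Group G] (C : Subgroup G)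

theorem coeff_extZero (a : MonoidAlgebra k C) (c : C) :
    (MonoidAlgebra.mapDomainAlgHom k k C.subtype a).coeff (c : G) = a.coeff c := by
  rw [MonoidAlgebra.mapDomainAlgHom_apply]
  show (Finsupp.mapDomain C.subtype a.coeff) (C.subtype c) = a.coeff c
  exact Finsupp.mapDomain_apply Subtype.val_injective _ _

theorem coeff_extZero_of_notMem (a : MonoidAlgebra k C) (g : G) (hg : g ∉ C) :
    (MonoidAlgebra.mapDomainAlgHom k k C.subtype a).coeff g = 0 := by
  rw [MonoidAlgebra.mapDomainAlgHom_apply]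
  show (Finsupp.mapDomain C.subtype a.coeff) g = 0
  apply Finsupp.mapDomain_of_notMem_range
  rintro ⟨c, rfl⟩
  exact hg c.2

theorem extZero_injective :
    Function.Injective (MonoidAlgebra.mapDomainAlgHom k k C.subtype) := by
  intro a a' h
  ext c
  rw [← coeff_extZero C a c, ← coeff_extZero C a' c, h]

end ExtZero

section General

variable {G : Type*} [Group G] [Fintype G] {M : Ideal AlgInt} [hMp : M.IsPrime]

/-- a lift of a block idempotent to the local ring is idempotent -/
theorem lift_idem_mul_self (b : Set (IrrCharacter G)) (eRb : MonoidAlgebra (localSubring M) G)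
    (heRb : bc ℂ eRb = idemOf b) : eRb * eRb = eRb := by
  apply bc_injective ℂ (algebraMap_complex_injective (M := M))
  rw [map_mul, heRb, idemOf_mul_self]

/-- lifts of idempotents of distinct blocks are orthogonal -/
theorem lift_idem_mul_of_ne {b b' : Set (IrrCharacter G)} (hb : IsPBlock M b)
    (hb' : IsPBlock M b') (hne : b' ≠ b) (eRb e' : MonoidAlgebra (localSubring M) G)
    (heRb : bc ℂ eRb = idemOf b) (he' : bc ℂ e' = idemOf b') : e' * eRb = 0 := by
  apply bc_injective ℂ (algebraMap_complex_injective (M := M))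
  rw [map_mul, heRb, he', map_zero]
  have hdis : Disjoint b' b := IsPBlock_disjoint hb' hb hne
  have := idemC_mul_of_disjoint hdis
  exact congrArg Subtype.val this

/-- the reduction of a block idempotent is nonzero -/
theorem bc_resF_ne_zero {b : Set (IrrCharacter G)} (hb : IsPBlock M b)
    {eRb : MonoidAlgebra (localSubring M) G} (heRb : bc ℂ eRb = idemOf b) :
    bc (ResF M) eRb ≠ 0 := by
  classical
  intro h0
  obtain ⟨θ, hθ⟩ := IsPBlock_nonempty hMp.ne_top hb
  have hcoef : ∀ g, MemLocalIdeal M ((idemOf b).coeff g) := by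
    intro g
    have h1 : (bc (ResF M) eRb).coeff g = 0 := by rw [h0]; rfl
    rw [coeff_bc, algebraMap_resF_eq_zero, mem_localIdeal] at h1
    rw [← heRb, coeff_bc]
    exact h1
  have hω : omegaHom θ (idemC b) = 1 := by rw [omegaHom_idemC, if_pos hθ]
  rw [omegaHom_apply] at hω
  have hmem : MemLocalIdeal M (omega (θ : G → ℂ) (idemOf b)) := by
    rw [omega_eq_sum_classes _ (irr_conj θ) (idemOf_mem_center b)]
    apply memLocalIdeal_sum
    intro c _
    exact memLocalIdeal_mul_right (hcoef _)
      (memLocalRing_of_isIntegral hMp.ne_top (Cfsg.Agent.Lib.Helper79.isIntegral_centralChar θ _))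
  have hω' : omega (θ : G → ℂ) (idemOf b) = 1 := hω
  rw [hω'] at hmem
  exact one_not_memLocalIdeal hmem

end General

section Conj

variable {G : Type*} [Group G] [Fintype G] {M : Ideal AlgInt} [hMp : M.IsPrime]
  (C : Subgroup G) [Fintype ↥C]

attribute [local instance] Cfsg.Agent.Lib.Helper77.nrmMulAction
open scoped Pointwise

theorem conj_mem_iff_of_mem_normalizer (u : Subgroup.normalizer (C : Set G)) (h : G) :
    (u : G)⁻¹ * h * (u : G) ∈ C ↔ h ∈ C := by
  have h1 := (Subgroup.mem_normalizer_iff (H := C)).mp u.2 ((u : G)⁻¹ * h * (u : G))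
  rw [h1]
  have : (u : G) * ((u : G)⁻¹ * h * (u : G)) * (u : G)⁻¹ = h := by group
  rw [this]

/-- conjugating the extension by zero of the reduced idempotent of `b` by `u ∈ N_G(C)` gives that
of `u • b` -/
theorem cj_extZero (u : Subgroup.normalizer (C : Set G)) (b : Set (IrrCharacter ↥C))
    (eRb e' : MonoidAlgebra (localSubring M) ↥C)
    (heRb : bc ℂ eRb = idemOf b) (he' : bc ℂ e' = idemOf (u • b)) :
    cj (u : G) (MonoidAlgebra.mapDomainAlgHom (ResF M) (ResF M) C.subtype (bc (ResF M) eRb)) =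
      MonoidAlgebra.mapDomainAlgHom (ResF M) (ResF M) C.subtype (bc (ResF M) e') := by
  ext h
  rw [coeff_cj]
  by_cases hh : h ∈ C
  · obtain ⟨c, rfl⟩ : ∃ c : C, (c : G) = h := ⟨⟨h, hh⟩, rfl⟩
    have key : (u : G)⁻¹ * (c : G) * (u : G) = ((C.normalizerMonoidHom u⁻¹ c : C) : G) := by
      rw [coe_normalizerMonoidHom_apply]
      simp
    rw [key, coeff_extZero, coeff_extZero, coeff_bc, coeff_bc]
    congr 1
    apply algebraMap_complex_injective (M := M)
    have h1 := congrArg (fun a => a.coeff (C.normalizerMonoidHom u⁻¹ c)) heRb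
    have h2 := congrArg (fun a => a.coeff c) he'
    simp only [coeff_bc, coeff_idemOf] at h1 h2
    rw [h1, h2, blockCoeff_smul]
  · have hh' : (u : G)⁻¹ * h * (u : G) ∉ C := fun h' =>
      hh ((conj_mem_iff_of_mem_normalizer C u h).mp h')
    rw [coeff_extZero_of_notMem C _ _ hh', coeff_extZero_of_notMem C _ _ hh]

end Conj

section Sigma

variable {G : Type*} [Group G] [Fintype G] {p : ℕ} {M : Ideal AlgInt} [hMp : M.IsPrime]
  (C : Subgroup G) [Fintype ↥C]

theorem coeff_sigmaQ (Q : Subgroup G) (g : G) [Decidable (g ∈ Q)] :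
    (sigmaQ (F := ResF M) Q).coeff g = if g ∈ Q then 1 else 0 := by
  classical
  have h := coeff_single_mul_sigmaQ (F := ResF M) Q 1 g 1
  rw [← MonoidAlgebra.one_def, one_mul, inv_one, one_mul] at h
  rw [h]
  congr

/-- the coefficients of a lifted block idempotent vanish on `p`-singular elements (Osima) -/
theorem lift_coeff_eq_zero_of_singular (hM : IsPModular p M) {b : Set (IrrCharacter G)}
    (hb : IsPBlock M b) {eRb : MonoidAlgebra (localSubring M) G} (heRb : bc ℂ eRb = idemOf b)
    (g : G) (hg : p ∣ orderOf g) : eRb.coeff g = 0 := by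
  apply algebraMap_complex_injective (M := M)
  rw [map_zero, ← coeff_bc, heRb, coeff_idemOf]
  exact Cfsg.Agent.Lib.Helper75.blockCoeff_eq_zero_of_singular hM hb g hg

/-- `σ_Q ε₀ ≠ 0` for a central `p`-subgroup `Q` of `C`. -/
theorem sigmaQ_mul_extZero_ne_zero (hM : IsPModular p M) (Q : Subgroup G) (hQC : Q ≤ C)
    (hQcent : ∀ q ∈ Q, ∀ c ∈ C, q * c = c * q) (hQp : IsPGroup p Q)
    {b : Set (IrrCharacter ↥C)} (hb : IsPBlock M b)
    {eRb : MonoidAlgebra (localSubring M) ↥C} (heRb : bc ℂ eRb = idemOf b) :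
    sigmaQ Q * MonoidAlgebra.mapDomainAlgHom (ResF M) (ResF M) C.subtype (bc (ResF M) eRb) ≠ 0 := by
  classical
  have hp : p.Prime := hM.1
  have hne : bc (ResF M) eRb ≠ 0 := bc_resF_ne_zero hb heRb
  obtain ⟨c, hc⟩ : ∃ c : C, (bc (ResF M) eRb).coeff c ≠ 0 := by
    by_contra hcon
    push Not at hcon
    apply hne
    ext c
    rw [hcon c]
    rfl
  have hcreg : ¬ p ∣ orderOf c := by
    intro hdiv
    apply hc
    rw [coeff_bc, lift_coeff_eq_zero_of_singular hM hb heRb c hdiv, map_zero]
  intro h0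
  have h1 : (sigmaQ Q * MonoidAlgebra.mapDomainAlgHom (ResF M) (ResF M) C.subtype
      (bc (ResF M) eRb)).coeff (c : G) = 0 := by rw [h0]; rfl
  rw [Cfsg.Agent.Lib.Helper77.DefOne.coeff_mul_eq_sum, Finset.sum_eq_single (1 : G)] at h1
  · rw [coeff_sigmaQ, if_pos Q.one_mem, one_mul, inv_one, one_mul, coeff_extZero] at h1
    exact hc h1
  · intro g _ hg1
    rw [coeff_sigmaQ]
    by_cases hgQ : g ∈ Q
    · rw [if_pos hgQ, one_mul]
      have hmem : g⁻¹ * (c : G) = (((⟨g⁻¹, hQC (Q.inv_mem hgQ)⟩ : C) * c : C) : G) := rfl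
      rw [hmem, coeff_extZero, coeff_bc]
      rw [lift_coeff_eq_zero_of_singular hM hb heRb, map_zero]
      rw [← Subgroup.orderOf_coe, ← hmem]
      have hcomm : Commute g⁻¹ (c : G) := hQcent _ (Q.inv_mem hgQ) _ c.2
      obtain ⟨m, hm⟩ := hQp ⟨g, hgQ⟩
      have hm' : g ^ p ^ m = 1 := congrArg Subtype.val hm
      obtain ⟨j, _, hj⟩ := (Nat.dvd_prime_pow hp).mp (orderOf_dvd_of_pow_eq_one hm')
      have hj0 : j ≠ 0 := by
        rintro rfl
        rw [pow_zero, orderOf_eq_one_iff] at hj
        exact hg1 hj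
      have hcop : Nat.Coprime (orderOf g⁻¹) (orderOf (c : G)) := by
        rw [orderOf_inv, hj, Subgroup.orderOf_coe]
        exact Nat.Coprime.pow_left j ((Nat.Prime.coprime_iff_not_dvd hp).mpr hcreg)
      rw [hcomm.orderOf_mul_eq_mul_orderOf_of_coprime hcop, orderOf_inv, hj]
      exact Dvd.dvd.mul_right (dvd_pow_self p hj0) _
    · rw [if_neg hgQ, zero_mul]
  · intro h; exact absurd (Finset.mem_univ _) h

end Sigma

section Main

attribute [local instance] Cfsg.Agent.Lib.Helper77.nrmMulAction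
open scoped Pointwise

variable {G : Type*} [Group G] [Fintype G] (p : ℕ) [Fact p.Prime] (M : Ideal AlgInt)
  [hMp : M.IsPrime] (P : Sylow p G)

/-- **MODULE (EPS-A).** -/
theorem EPS_A (hM : IsPModular p M) [CharP (ResF M) p] (hP : Nat.card P = p)
    [Fintype ↥(Subgroup.centralizer ((P : Subgroup G) : Set G))]
    (b : Set (IrrCharacter ↥(Subgroup.centralizer ((P : Subgroup G) : Set G))))
    (eRb : MonoidAlgebra (localSubring M) ↥(Subgroup.centralizer ((P : Subgroup G) : Set G)))
    (heRb : bc ℂ eRb = idemOf b) (hb : IsPBlock M b)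
    (θ : IrrCharacter ↥(Subgroup.centralizer ((P : Subgroup G) : Set G))) (hθ : θ ∈ b)
    (hθP : ∀ x : ↥(Subgroup.centralizer ((P : Subgroup G) : Set G)),
      (x : G) ∈ (P : Subgroup G) →
        (θ : ↥(Subgroup.centralizer ((P : Subgroup G) : Set G)) → ℂ) x =
          (θ : ↥(Subgroup.centralizer ((P : Subgroup G) : Set G)) → ℂ) 1)
    (T : Subgroup G)
    (hT : ∀ g : G, g ∈ T ↔ (g ∈ Subgroup.normalizer ((P : Subgroup G) : Set G) ∧
      ∀ c c' : ↥(Subgroup.centralizer ((P : Subgroup G) : Set G)), (c' : G) = g * c * g⁻¹ →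
        (θ : ↥(Subgroup.centralizer ((P : Subgroup G) : Set G)) → ℂ) c' =
          (θ : ↥(Subgroup.centralizer ((P : Subgroup G) : Set G)) → ℂ) c)) :
    SuppIn (Subgroup.centralizer ((P : Subgroup G) : Set G))
        (MonoidAlgebra.mapDomainAlgHom (ResF M) (ResF M)
          (Subgroup.centralizer ((P : Subgroup G) : Set G)).subtype (bc (ResF M) eRb)) ∧
      MonoidAlgebra.mapDomainAlgHom (ResF M) (ResF M)
          (Subgroup.centralizer ((P : Subgroup G) : Set G)).subtype (bc (ResF M) eRb) *
        MonoidAlgebra.mapDomainAlgHom (ResF M) (ResF M)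
          (Subgroup.centralizer ((P : Subgroup G) : Set G)).subtype (bc (ResF M) eRb) =
        MonoidAlgebra.mapDomainAlgHom (ResF M) (ResF M)
          (Subgroup.centralizer ((P : Subgroup G) : Set G)).subtype (bc (ResF M) eRb) ∧
      (∀ n ∈ T, cj n (MonoidAlgebra.mapDomainAlgHom (ResF M) (ResF M)
          (Subgroup.centralizer ((P : Subgroup G) : Set G)).subtype (bc (ResF M) eRb)) =
        MonoidAlgebra.mapDomainAlgHom (ResF M) (ResF M)
          (Subgroup.centralizer ((P : Subgroup G) : Set G)).subtype (bc (ResF M) eRb)) ∧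
      (∀ n ∈ Subgroup.normalizer ((P : Subgroup G) : Set G), n ∉ T →
        cj n (MonoidAlgebra.mapDomainAlgHom (ResF M) (ResF M)
          (Subgroup.centralizer ((P : Subgroup G) : Set G)).subtype (bc (ResF M) eRb)) *
        MonoidAlgebra.mapDomainAlgHom (ResF M) (ResF M)
          (Subgroup.centralizer ((P : Subgroup G) : Set G)).subtype (bc (ResF M) eRb) = 0) ∧
      sigmaQ (P : Subgroup G) * MonoidAlgebra.mapDomainAlgHom (ResF M) (ResF M)
          (Subgroup.centralizer ((P : Subgroup G) : Set G)).subtype (bc (ResF M) eRb) ≠ 0 := by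
  classical
  have hcyc : IsCyclic P := isCyclic_of_prime_card hP
  have hab : IsMulCommutative P := IsCyclic.isMulCommutative
  have hle : (P : Subgroup G) ≤ Subgroup.centralizer ((P : Subgroup G) : Set G) := by
    intro u hu
    rw [Subgroup.mem_centralizer_iff]
    intro v hv
    have h1 : (⟨v, hv⟩ : P) * ⟨u, hu⟩ = ⟨u, hu⟩ * ⟨v, hv⟩ := hab.is_comm.comm _ _
    exact congrArg Subtype.val h1
  have hcent : ∀ q ∈ (P : Subgroup G), ∀ c ∈ Subgroup.centralizer ((P : Subgroup G) : Set G),
      q * c = c * q := by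
    intro q hq c hc
    exact (Subgroup.mem_centralizer_iff.mp hc) q hq
  have hNC : Subgroup.normalizer ((P : Subgroup G) : Set G) ≤
      Subgroup.normalizer
        ((Subgroup.centralizer ((P : Subgroup G) : Set G) : Subgroup G) : Set G) :=
    Subgroup.le_normalizer_of_normal_subgroupOf (Subgroup.centralizer_le_normalizer _)
  have hstab : ∀ (n : G) (hn : n ∈ Subgroup.normalizer ((P : Subgroup G) : Set G)),
      ((⟨n, hNC hn⟩ : Subgroup.normalizer
        ((Subgroup.centralizer ((P : Subgroup G) : Set G) : Subgroup G) : Set G)) • θ = θ) ↔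
        n ∈ T := by
    intro n hn
    rw [hT]
    constructor
    · intro h
      refine ⟨hn, ?_⟩
      have h1 := isConjCharOf_smul (Subgroup.centralizer ((P : Subgroup G) : Set G))
        ⟨n, hNC hn⟩ θ
      rw [h] at h1
      exact h1
    · rintro ⟨_, h⟩
      exact (eq_smul_of_isConjCharOf (Subgroup.centralizer ((P : Subgroup G) : Set G))
        ⟨n, hNC hn⟩ θ θ h).symm
  refine ⟨?_, ?_, ?_, ?_, ?_⟩
  · intro g hg
    exact coeff_extZero_of_notMem _ _ g hg
  · rw [← map_mul, ← map_mul, lift_idem_mul_self b eRb heRb]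
  · intro n hnT
    have hn : n ∈ Subgroup.normalizer ((P : Subgroup G) : Set G) := ((hT n).mp hnT).1
    have hu := (hstab n hn).mpr hnT
    have hub : (⟨n, hNC hn⟩ : Subgroup.normalizer
        ((Subgroup.centralizer ((P : Subgroup G) : Set G) : Subgroup G) : Set G)) • b = b := by
      rw [IsPBlock_eq_blockOf hb hθ, ← blockOf_smul, hu]
    exact cj_extZero (Subgroup.centralizer ((P : Subgroup G) : Set G)) ⟨n, hNC hn⟩ b eRb eRb heRb
      (by rw [hub]; exact heRb)
  · intro n hn hnT
    have hu : (⟨n, hNC hn⟩ : Subgroup.normalizer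
        ((Subgroup.centralizer ((P : Subgroup G) : Set G) : Subgroup G) : Set G)) • θ ≠ θ :=
      fun h => hnT ((hstab n hn).mp h)
    have hub : (⟨n, hNC hn⟩ : Subgroup.normalizer
        ((Subgroup.centralizer ((P : Subgroup G) : Set G) : Subgroup G) : Set G)) • b ≠ b := by
      intro h
      have h1 : (⟨n, hNC hn⟩ : Subgroup.normalizer
          ((Subgroup.centralizer ((P : Subgroup G) : Set G) : Subgroup G) : Set G)) • θ ∈
          blockOf M (θ : ↥(Subgroup.centralizer ((P : Subgroup G) : Set G)) → ℂ) := by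
        rw [← IsPBlock_eq_blockOf hb hθ]
        have h2 : (⟨n, hNC hn⟩ : Subgroup.normalizer
          ((Subgroup.centralizer ((P : Subgroup G) : Set G) : Subgroup G) : Set G)) • θ ∈
            (⟨n, hNC hn⟩ : Subgroup.normalizer
          ((Subgroup.centralizer ((P : Subgroup G) : Set G) : Subgroup G) : Set G)) • b :=
          Set.smul_mem_smul_set hθ
        rw [h] at h2
        exact h2
      refine hu (UNIQ p M hM P hP θ _ hθP ?_ h1)
      intro x hx
      rw [nrm_smul_one, nrm_smul_apply]
      apply hθP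
      rw [coe_normalizerMonoidHom_apply]
      have h3 := (conj_mem_iff_of_mem_normalizer (P : Subgroup G) ⟨n, hn⟩ (x : G)).mpr hx
      simpa using h3
    obtain ⟨e', he', _, _⟩ := exists_blockIdem_local
      (isPBlock_smul (Subgroup.centralizer ((P : Subgroup G) : Set G)) ⟨n, hNC hn⟩ hb)
    have hcj := cj_extZero (Subgroup.centralizer ((P : Subgroup G) : Set G)) ⟨n, hNC hn⟩ b eRb e'
      heRb he'
    have hcj' : cj n (MonoidAlgebra.mapDomainAlgHom (ResF M) (ResF M)
          (Subgroup.centralizer ((P : Subgroup G) : Set G)).subtype (bc (ResF M) eRb)) =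
        MonoidAlgebra.mapDomainAlgHom (ResF M) (ResF M)
          (Subgroup.centralizer ((P : Subgroup G) : Set G)).subtype (bc (ResF M) e') := hcj
    rw [hcj', ← map_mul, ← map_mul,
      lift_idem_mul_of_ne hb (isPBlock_smul (Subgroup.centralizer ((P : Subgroup G) : Set G))
        ⟨n, hNC hn⟩ hb) hub eRb e' heRb he', map_zero, map_zero]
  · exact sigmaQ_mul_extZero_ne_zero (Subgroup.centralizer ((P : Subgroup G) : Set G)) hM
      (P : Subgroup G) hle hcent P.isPGroup' hb heRb

end Main

end Cfsg.Agent.Lib.Helper78
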