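import Mathlib
import Cfsg.Prelude.Def_Blocks
import Cfsg.Agent.Lib.Helper12.W2pDefs
import Cfsg.Agent.S4507
import Cfsg.Agent.S0914
import Cfsg.Agent.Lib.Helper16.BlockBasic
import Cfsg.Agent.Lib.Helper3.DefOneGenGal
import Cfsg.Agent.Lib.Helper78.ExcAbstract
import Cfsg.Agent.Lib.Helper78.CharMore

set_option autoImplicit false
set_option linter.unusedSectionVars false

/-!
# Wielandt's theorem on degree `2p` (S0720), module [BLK1] (helper78)

A projective-like class function `θ` (vanishing on `p`-singular elements) whose constituents are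
the principal character, a character of degree `p` and the `p`-conjugates of a non-`p`-rational
character `η` of degree `< p`, both `1` and `η` with multiplicity one, forces `η` into the
principal block (`p ∥ |Γ|`).
-/

namespace Cfsg.Agent.Lib.Helper78.W2p

open Cfsg Cfsg.Agent.Lib.Helper12.W2p
open scoped ComplexConjugate

/-- `classInner` against a finite linear combination on the right. -/
theorem classInner_sum_smul_right_h78 {Γ : Type*} [Group Γ] [Fintype Γ] {ι : Type*}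
    (S : Finset ι) (c : ι → ℂ) (f : ι → Γ → ℂ) (θ : Γ → ℂ) :
    classInner θ (∑ i ∈ S, c i • f i) = ∑ i ∈ S, conj (c i) * classInner θ (f i) := by
  classical
  induction S using Finset.induction_on with
  | empty => simp [classInner]
  | insert a S ha ih =>
    rw [Finset.sum_insert ha, Finset.sum_insert ha,
      Cfsg.Agent.Lib.Helper78.classInner_add_right,
      Cfsg.Agent.Lib.Helper78.classInner_smul_right, ih]

theorem mem_principalBlock {Γ : Type*} [Group Γ] [Fintype Γ] (p : ℕ) [Fact p.Prime]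
    (M : Ideal AlgInt) (hM : IsPModular p M)
    (hdiv : p ∣ Nat.card Γ) (hsq : ¬ p ^ 2 ∣ Nat.card Γ)
    (θ : Γ → ℂ) (hθsing : ∀ g : Γ, p ∣ orderOf g → θ g = 0)
    (htriv : classInner θ (fun _ : Γ => (1 : ℂ)) = 1)
    (χ₀ η : IrrCharacter Γ) (hχ₀ : (χ₀ : Γ → ℂ) 1 = p) (n : ℕ) (hη : (η : Γ → ℂ) 1 = n)
    (hn0 : 0 < n) (hnp : n < p)
    (hmη : classInner θ (η : Γ → ℂ) = 1)
    (hGF : ∃ σ : ℂ ≃+* ℂ,
      σ (Complex.exp (2 * Real.pi * Complex.I /
          ((Nat.card Γ / p ^ (Nat.card Γ).factorization p : ℕ)))) =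
        Complex.exp (2 * Real.pi * Complex.I /
          ((Nat.card Γ / p ^ (Nat.card Γ).factorization p : ℕ))) ∧
      (fun g => σ ((η : Γ → ℂ) g)) ≠ (η : Γ → ℂ))
    (hall : ∀ χ : IrrCharacter Γ, classInner θ (χ : Γ → ℂ) ≠ 0 →
      (χ : Γ → ℂ) = (fun _ => 1) ∨ χ = χ₀ ∨ ∃ σ : ℂ ≃+* ℂ,
        σ (Complex.exp (2 * Real.pi * Complex.I /
            ((Nat.card Γ / p ^ (Nat.card Γ).factorization p : ℕ)))) =
          Complex.exp (2 * Real.pi * Complex.I /
            ((Nat.card Γ / p ^ (Nat.card Γ).factorization p : ℕ))) ∧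
        (χ : Γ → ℂ) = fun g => σ ((η : Γ → ℂ) g)) :
    η ∈ principalBlock M Γ := by
  classical
  have hMp : M.IsPrime := Cfsg.Agent.Lib.Helper16.isPModular_isPrime hM
  have hMtop : M ≠ ⊤ := hMp.ne_top
  have hpp : p.Prime := Fact.out
  obtain ⟨B, hBdef⟩ : ∃ B : Set (IrrCharacter Γ), B = blockOf M (η : Γ → ℂ) := ⟨_, rfl⟩
  have hB : IsPBlock M B := ⟨η, hBdef⟩
  have hηB : η ∈ B := by
    rw [hBdef]
    exact Cfsg.Agent.Lib.Helper16.self_mem_blockOf hMtop η
  have hdegη : charDegree (η : Γ → ℂ) = n := by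
    unfold charDegree
    rw [hη]
    simp
  have hd : 0 < blockDefect p B := by
    unfold blockDefect
    have h0 : sInf ((fun χ : IrrCharacter Γ =>
        (charDegree (χ : Γ → ℂ)).factorization p) '' B) = 0 := by
      apply Nat.eq_zero_of_le_zero
      apply Nat.sInf_le
      refine ⟨η, hηB, ?_⟩
      show (charDegree (η : Γ → ℂ)).factorization p = 0
      rw [hdegη]
      exact Nat.factorization_eq_zero_of_not_dvd (Nat.not_dvd_of_pos_of_lt hn0 hnp)
    rw [h0, Nat.sub_zero]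
    exact (hpp.dvd_iff_one_le_factorization Nat.card_pos.ne').mp hdiv
  obtain ⟨Y, hYB, -, hY3, hY4, -, -, δ, hδ, hrel⟩ :=
    Cfsg.Agent.S4507.result p M hM hdiv hsq B hB hd
  -- (a) `η ∈ Y`
  have hηY : η ∈ Y := by
    by_contra hnot
    obtain ⟨σ, hσ, hne⟩ := hGF
    have h1 := hY4 η hηB hnot (Cfsg.Agent.Lib.Helper3.DefOneGen.galConj σ η) ⟨σ, hσ, rfl⟩
    apply hne
    have h2 : ((Cfsg.Agent.Lib.Helper3.DefOneGen.galConj σ η : IrrCharacter Γ) : Γ → ℂ) =
        (η : Γ → ℂ) := congrArg Subtype.val h1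
    exact h2
  -- (c) `χ₀ ∉ B`
  have hχ₀B : χ₀ ∉ B := by
    intro h
    have hdeg0 : charDegree (χ₀ : Γ → ℂ) = p := by
      unfold charDegree
      rw [hχ₀]
      simp
    have hnd : ¬ p ∣ Nat.card Γ / charDegree (χ₀ : Γ → ℂ) := by
      rw [hdeg0]
      intro hdvd
      apply hsq
      obtain ⟨c, hc⟩ := hdiv
      rw [hc, Nat.mul_div_cancel_left c hpp.pos] at hdvd
      rw [hc, pow_two]
      exact Nat.mul_dvd_mul_left p hdvd
    have hsingle := (Cfsg.Agent.S0914.result p M hM χ₀).mp hnd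
    have h1 : SameBlock M (η : Γ → ℂ) (χ₀ : Γ → ℂ) := by
      rw [hBdef] at h
      exact h
    have h2 : η ∈ blockOf M (χ₀ : Γ → ℂ) := Cfsg.Agent.Lib.Helper16.sameBlock_symm h1
    rw [hsingle] at h2
    have h3 : η = χ₀ := h2
    have h4 : (n : ℂ) = (p : ℂ) := by rw [← hη, ← hχ₀, h3]
    have h5 : n = p := by exact_mod_cast h4
    omega
  -- (d) the principal character lies in `B`
  obtain ⟨one, hone⟩ : ∃ one : IrrCharacter Γ, (one : Γ → ℂ) = fun _ => (1 : ℂ) :=
    ⟨⟨fun _ => (1 : ℂ), Cfsg.Agent.Lib.Helper78.isIrrCharacter_one⟩, rfl⟩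
  have honeB : one ∈ B := by
    by_contra hnot
    have : Fintype (IrrCharacter Γ) := Fintype.ofFinite _
    obtain ⟨S, hS⟩ : ∃ S : Finset (IrrCharacter Γ), S = Finset.univ.filter (· ∈ B \ Y) :=
      ⟨_, rfl⟩
    obtain ⟨Φ, hΦ⟩ : ∃ Φ : Γ → ℂ, Φ = (∑ χ ∈ S, (δ χ : ℂ) • (χ : Γ → ℂ)) +
        (δ η : ℂ) • (η : Γ → ℂ) := ⟨_, rfl⟩
    have hΦx : ∀ x : Γ, Φ x = (∑ᶠ χ ∈ B \ Y, (δ χ : ℂ) * (χ : Γ → ℂ) x) +
        (δ η : ℂ) * (η : Γ → ℂ) x := by
      intro x
      rw [Cfsg.Agent.Lib.Helper78.finsum_mem_eq_sum_filter_of_fintype, ← hS, hΦ]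
      simp only [Pi.add_apply, Finset.sum_apply, Pi.smul_apply, smul_eq_mul]
    have hzero : classInner θ Φ = 0 := by
      unfold classInner
      rw [Finset.sum_eq_zero, mul_zero]
      intro x _
      by_cases hx : p ∣ orderOf x
      · rw [hθsing x hx, zero_mul]
      · rw [hΦx x, hrel x hx η hηY, map_zero, mul_zero]
    have hexp : classInner θ Φ = (∑ χ ∈ S, conj (δ χ : ℂ) * classInner θ (χ : Γ → ℂ)) +
        conj (δ η : ℂ) * classInner θ (η : Γ → ℂ) := by
      rw [hΦ, Cfsg.Agent.Lib.Helper78.classInner_add_right,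
        Cfsg.Agent.Lib.Helper78.classInner_smul_right, classInner_sum_smul_right_h78]
    have hSz : ∀ χ ∈ S, conj (δ χ : ℂ) * classInner θ (χ : Γ → ℂ) = 0 := by
      intro χ hχ
      rw [hS, Finset.mem_filter] at hχ
      obtain ⟨-, hχB, hχY⟩ := hχ
      by_cases h0 : classInner θ (χ : Γ → ℂ) = 0
      · rw [h0, mul_zero]
      · exfalso
        rcases hall χ h0 with h1 | h1 | ⟨σ, hσ, h1⟩
        · apply hnot
          have : χ = one := Subtype.ext (h1.trans hone.symm)
          rw [← this]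
          exact hχB
        · apply hχ₀B
          rw [← h1]
          exact hχB
        · exact hχY ((hY3 η hηY χ).mp ⟨σ, hσ, h1⟩)
    rw [hexp, Finset.sum_eq_zero hSz, zero_add, hmη, mul_one] at hzero
    have hδη : (δ η : ℂ) ≠ 0 := by
      rcases hδ η hηB with h | h <;> rw [h] <;> norm_num
    apply hδη
    have := congrArg conj hzero
    rwa [Complex.conj_conj, map_zero] at this
  rw [hBdef] at honeB
  have h1 : SameBlock M (η : Γ → ℂ) (one : Γ → ℂ) := honeB
  rw [hone] at h1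
  exact Cfsg.Agent.Lib.Helper16.sameBlock_symm h1

end Cfsg.Agent.Lib.Helper78.W2p
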