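import Mathlib

/-!
# Spectral idempotents of an endomorphism of finite order (helper78)

For `A : Module.End ℂ V` with `A ^ n = 1` and a primitive `n`-th root of unity `ζ` with inverse `ξ`:
`specIdem A n ξ k = n⁻¹ ∑_{j<n} ξ^{jk} A^j` is the projection onto the `ζ^k`-eigenspace.

* `mul_specIdem`: `A * E_k = ζ^k • E_k`;
* `specIdem_isIdempotentElem`;
* `sum_specIdem`: `∑_{k<n} E_k = 1`;
* `trace_specIdem`;
* `det_one_add_smul_of_isIdempotentElem`: `det (1 + c • E) = (1 + c) ^ rank E` for idempotent `E`.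
-/

set_option autoImplicit false

namespace Cfsg.Agent.Lib.Helper78

open Finset

section Spectral

variable {V : Type*} [AddCommGroup V] [Module ℂ V]

/-- The spectral idempotent of `A` (of order dividing `n`) for the eigenvalue `ξ⁻¹ ^ k`. -/
noncomputable def specIdem (A : Module.End ℂ V) (n : ℕ) (ξ : ℂ) (k : ℕ) : Module.End ℂ V :=
  (n : ℂ)⁻¹ • ∑ j ∈ range n, (ξ ^ (j * k)) • A ^ j

variable {A : Module.End ℂ V} {n : ℕ} {ζ ξ : ℂ}

theorem sum_pow_smul_shift (hA : A ^ n = 1) (hξn : ξ ^ n = 1) (k : ℕ) :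
    ∑ j ∈ range n, (ξ ^ ((j + 1) * k)) • A ^ (j + 1) =
      ∑ j ∈ range n, (ξ ^ (j * k)) • A ^ j := by
  have h1 := Finset.sum_range_succ (fun j => (ξ ^ (j * k)) • A ^ j) n
  have h2 := Finset.sum_range_succ' (fun j => (ξ ^ (j * k)) • A ^ j) n
  rw [h1] at h2
  have hfn : (ξ ^ (n * k)) • A ^ n = (ξ ^ (0 * k)) • A ^ 0 := by
    rw [pow_mul, hξn, one_pow, hA, zero_mul, pow_zero, pow_zero]
  rw [hfn] at h2
  exact (add_right_cancel h2).symm

theorem mul_specIdem (hA : A ^ n = 1) (hξn : ξ ^ n = 1) (hζξ : ζ * ξ = 1) (k : ℕ) :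
    A * specIdem A n ξ k = (ζ ^ k) • specIdem A n ξ k := by
  unfold specIdem
  have h : A * ∑ j ∈ range n, (ξ ^ (j * k)) • A ^ j =
      (ζ ^ k) • ∑ j ∈ range n, (ξ ^ ((j + 1) * k)) • A ^ (j + 1) := by
    rw [Finset.mul_sum, Finset.smul_sum]
    apply Finset.sum_congr rfl
    intro j _
    rw [mul_smul_comm, ← pow_succ', smul_smul]
    congr 1
    have h1 : ζ ^ k * ξ ^ k = 1 := by rw [← mul_pow, hζξ, one_pow]
    rw [add_mul, one_mul, pow_add, ← mul_assoc, mul_comm (ζ ^ k), mul_assoc, h1, mul_one]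
  rw [mul_smul_comm, h, sum_pow_smul_shift hA hξn k, smul_comm]

theorem pow_mul_specIdem (hA : A ^ n = 1) (hξn : ξ ^ n = 1) (hζξ : ζ * ξ = 1) (k j : ℕ) :
    A ^ j * specIdem A n ξ k = (ζ ^ (j * k)) • specIdem A n ξ k := by
  induction j with
  | zero => simp
  | succ j ih =>
    rw [pow_succ, mul_assoc, mul_specIdem hA hξn hζξ k, mul_smul_comm, ih, smul_smul,
      add_mul, one_mul, pow_add, mul_comm]

theorem specIdem_isIdempotentElem (hn : 0 < n) (hA : A ^ n = 1) (hξn : ξ ^ n = 1)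
    (hζξ : ζ * ξ = 1) (k : ℕ) : IsIdempotentElem (specIdem A n ξ k) := by
  have hn0 : (n : ℂ) ≠ 0 := by exact_mod_cast hn.ne'
  show specIdem A n ξ k * specIdem A n ξ k = specIdem A n ξ k
  conv_lhs => lhs; unfold specIdem
  rw [smul_mul_assoc, Finset.sum_mul]
  have h1 : ∀ j ∈ range n, ((ξ ^ (j * k)) • A ^ j) * specIdem A n ξ k = specIdem A n ξ k := by
    intro j _
    rw [smul_mul_assoc, pow_mul_specIdem hA hξn hζξ k j, smul_smul, ← mul_pow, mul_comm ξ ζ,
      hζξ, one_pow, one_smul]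
  rw [Finset.sum_congr rfl h1, Finset.sum_const, Finset.card_range, ← Nat.cast_smul_eq_nsmul ℂ,
    smul_smul, inv_mul_cancel₀ hn0, one_smul]

theorem sum_pow_mul_eq (hξ : IsPrimitiveRoot ξ n) {j : ℕ} (hj : j < n) :
    ∑ k ∈ range n, ξ ^ (j * k) = if j = 0 then (n : ℂ) else 0 := by
  by_cases h0 : j = 0
  · rw [if_pos h0, h0]
    simp
  · rw [if_neg h0]
    have hne : ξ ^ j ≠ 1 := hξ.pow_ne_one_of_pos_of_lt h0 hj
    have h1 : ∀ k ∈ range n, ξ ^ (j * k) = (ξ ^ j) ^ k := fun k _ => pow_mul ξ j k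
    rw [Finset.sum_congr rfl h1, geom_sum_eq hne, ← pow_mul, mul_comm, pow_mul, hξ.pow_eq_one,
      one_pow, sub_self, zero_div]

theorem sum_specIdem (hn : 0 < n) (hξ : IsPrimitiveRoot ξ n) :
    ∑ k ∈ range n, specIdem A n ξ k = 1 := by
  have hn0 : (n : ℂ) ≠ 0 := by exact_mod_cast hn.ne'
  unfold specIdem
  rw [← Finset.smul_sum, Finset.sum_comm]
  have h1 : ∀ j ∈ range n, ∑ k ∈ range n, (ξ ^ (j * k)) • A ^ j =
      (if j = 0 then (n : ℂ) else 0) • A ^ j := by
    intro j hj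
    rw [← Finset.sum_smul, sum_pow_mul_eq hξ (Finset.mem_range.mp hj)]
  rw [Finset.sum_congr rfl h1]
  have h2 : ∀ j ∈ range n, (if j = 0 then (n : ℂ) else 0) • A ^ j =
      if j = 0 then (n : ℂ) • (1 : Module.End ℂ V) else 0 := by
    intro j _
    by_cases h0 : j = 0
    · rw [if_pos h0, if_pos h0, h0, pow_zero]
    · rw [if_neg h0, if_neg h0, zero_smul]
  rw [Finset.sum_congr rfl h2, Finset.sum_ite_eq' (range n) 0, if_pos (Finset.mem_range.mpr hn),
    smul_smul, inv_mul_cancel₀ hn0, one_smul]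

theorem trace_specIdem (k : ℕ) :
    LinearMap.trace ℂ V (specIdem A n ξ k) =
      (n : ℂ)⁻¹ * ∑ j ∈ range n, ξ ^ (j * k) * LinearMap.trace ℂ V (A ^ j) := by
  unfold specIdem
  rw [map_smul, map_sum, smul_eq_mul]
  congr 1
  apply Finset.sum_congr rfl
  intro j _
  rw [map_smul, smul_eq_mul]

variable [FiniteDimensional ℂ V]

/-- The trace of an idempotent is the (natural number) dimension of its range, and vanishes only
for the zero map. -/
theorem exists_nat_trace_of_isIdempotentElem {E : Module.End ℂ V} (hE : IsIdempotentElem E) :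
    LinearMap.trace ℂ V E = (Module.finrank ℂ (LinearMap.range E) : ℂ) :=
  (LinearMap.IsIdempotentElem.isProj_range E hE).trace

theorem eq_zero_of_finrank_range_eq_zero {E : Module.End ℂ V}
    (h : Module.finrank ℂ (LinearMap.range E) = 0) : E = 0 := by
  have h1 : LinearMap.range E = ⊥ := Submodule.finrank_eq_zero.mp h
  exact LinearMap.range_eq_bot.mp h1

/-- `det (1 + c E) = (1 + c) ^ rank E` for an idempotent `E`. -/
theorem det_one_add_smul_of_isIdempotentElem {E : Module.End ℂ V} (hE : IsIdempotentElem E)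
    (c : ℂ) :
    LinearMap.det ((1 : Module.End ℂ V) + c • E) =
      (1 + c) ^ Module.finrank ℂ (LinearMap.range E) := by
  have hEE : ∀ v, E (E v) = E v := fun v => by
    have := LinearMap.congr_fun hE v
    simpa using this
  have he : LinearMap.range E ≤ (LinearMap.range E).comap ((1 : Module.End ℂ V) + c • E) := by
    rintro _ ⟨v, rfl⟩
    rw [Submodule.mem_comap]
    refine ⟨E v + c • E v, ?_⟩
    simp [hEE]
  rw [LinearMap.det_eq_det_mul_det (LinearMap.range E) _ he]
  have h1 : ((1 : Module.End ℂ V) + c • E).restrict he =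
      (1 + c) • (LinearMap.id : LinearMap.range E →ₗ[ℂ] LinearMap.range E) := by
    ext ⟨w, v, rfl⟩
    simp [hEE, add_smul]
  have h2 : (LinearMap.range E).mapQ (LinearMap.range E) ((1 : Module.End ℂ V) + c • E) he =
      LinearMap.id := by
    apply LinearMap.ext
    intro q
    induction q using Submodule.Quotient.induction_on with
    | H v =>
      rw [Submodule.mapQ_apply, LinearMap.id_apply, Submodule.Quotient.eq]
      simp only [LinearMap.add_apply, Module.End.one_apply, LinearMap.smul_apply, add_sub_cancel_left]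
      exact Submodule.smul_mem _ _ ⟨v, rfl⟩
  rw [h1, h2, LinearMap.det_smul, LinearMap.det_id, LinearMap.det_id, mul_one, mul_one]

end Spectral

end Cfsg.Agent.Lib.Helper78
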