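import Cfsg.Agent.Lib.Helper92.BPBlock
import Cfsg.Agent.Lib.Helper16.PairConj

/-!
# PROJECT BP, BP-[D2] (helper78): conjugation transport of block idempotents
-/

set_option autoImplicit false
set_option linter.unusedSectionVars false
set_option linter.unusedVariables false

namespace Cfsg.Agent.Lib.Helper78.BP

open Cfsg Cfsg.Agent.Lib.Helper16 Cfsg.Agent.Lib.Helper92.BP

section
variable {G : Type*} [Group G] [Finite G] {p : ℕ} [Fact p.Prime] {M : Ideal AlgInt}
  [hMp : M.IsPrime]

/-- `incl` of a block idempotent as an explicit finite sum in `Rm[G]` -/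
theorem incl_blockIdemR_eq (K : Subgroup G) (f : Set (IrrCharacter K)) :
    incl (localSubring M) K (blockIdemR M f) =
      ∑ᶠ h : K, toLocal M (blockCoeff f h) • MonoidAlgebra.of (localSubring M) G (h : G) := by
  classical
  have : Fintype K := Fintype.ofFinite K
  unfold blockIdemR incl
  rw [finsum_eq_sum_of_fintype, finsum_eq_sum_of_fintype, map_sum]
  apply Finset.sum_congr rfl
  intro h _
  show MonoidAlgebra.mapDomainRingHom (localSubring M) K.subtype
    (toLocal M (blockCoeff f h) • MonoidAlgebra.of (localSubring M) K h) = _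
  simp [MonoidAlgebra.mapDomainRingHom]

omit [Finite G] in
/-- conjugation of a scalar multiple of a group element -/
theorem conj_smul_of {R : Type*} [CommRing R] (x g : G) (r : R) :
    conj R x (r • MonoidAlgebra.of R G g) = r • MonoidAlgebra.of R G (x * g * x⁻¹) := by
  unfold conj
  rw [mul_smul_comm, smul_mul_assoc, ← map_mul, ← map_mul]

/-- BP-[D2] : conjugation transport of block idempotents -/
theorem conj_incl_blockIdemR (hM : IsPModular p M) (Q : Subgroup G) (x : G)
    {f : Set (IrrCharacter (Subgroup.centralizer (Q : Set G)))} (hf : IsPBlock M f) :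
    conj (localSubring M) x (incl _ _ (blockIdemR M f)) =
      incl _ _ (blockIdemR M (conjBlock Q x f)) := by
  classical
  rw [incl_blockIdemR_eq, incl_blockIdemR_eq]
  have : Fintype (Subgroup.centralizer (Q : Set G)) := Fintype.ofFinite _
  have : Fintype (Subgroup.centralizer ((Q.map (MulAut.conj x).toMonoidHom : Subgroup G) : Set G)) :=
    Fintype.ofFinite _
  rw [finsum_eq_sum_of_fintype, finsum_eq_sum_of_fintype]
  have hconj : ∀ (s : Finset (Subgroup.centralizer (Q : Set G)))
      (F : Subgroup.centralizer (Q : Set G) → MonoidAlgebra (localSubring M) G),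
      conj (localSubring M) x (∑ h ∈ s, F h) = ∑ h ∈ s, conj (localSubring M) x (F h) := by
    intro s F
    unfold conj
    rw [Finset.mul_sum, Finset.sum_mul]
  rw [hconj]
  rw [← Equiv.sum_comp (conjCent Q x).symm.toEquiv]
  apply Finset.sum_congr rfl
  intro h _
  rw [conj_smul_of]
  congr 1
  · rw [conjBlock_eq_pullBlock, blockCoeff_pullBlock]
    have : (conjCent Q x) ((conjCent Q x).symm.toEquiv h) = h := (conjCent Q x).apply_symm_apply h
    rw [this]

end

end Cfsg.Agent.Lib.Helper78.BP
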