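import Mathlib
import Cfsg.Agent.Lib.Helper82.SubsecKernel
import Cfsg.Agent.Lib.Helper16.BlockBasic

/-!
# BP-[INST-BR2]: block orthogonality on the `p`-regular classes

If `Θ = ∑_f a_f · (f-part of ϑ)` on the `p`-regular elements of `H` (sum over the blocks `f` of
`H`), then the `f'`-part of `Θ` at a `p`-regular element `s` is `a_{f'}` times the `f'`-part of
`ϑ` at `s`.
-/

set_option autoImplicit false
set_option linter.unusedSectionVars false
set_option linter.unusedVariables false
set_option linter.style.haveILetI false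

namespace Cfsg.Agent.Lib.Helper78.BP

open Cfsg Finset Cfsg.Agent.Lib.Helper16 Cfsg.Agent.Lib.Helper78 Cfsg.Agent.Lib.Helper82
open scoped ComplexConjugate

universe u

variable {M : Ideal AlgInt} {p : ℕ} [Fact p.Prime]

open scoped Classical in
/-- the kernel of a block `f'` kills, on the `p`-regular elements, the part of any function in
another block `f` -/
theorem sum_pRegular_blockKernel_mul_blockPart_of_ne (hM : IsPModular p M) {H : Type u} [Group H]
    [Fintype H] {f f' : Set (IrrCharacter H)} (hf : IsPBlock M f) (hf' : IsPBlock M f')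
    (hne : f ≠ f') (ϑ : H → ℂ) {x : H} (hx : ¬ p ∣ orderOf x) :
    ∑ y ∈ Finset.univ.filter (fun y : H => ¬ p ∣ orderOf y),
      blockKernel f' x y * blockPart f ϑ y = 0 := by
  haveI hMp : M.IsPrime := isPModular_isPrime hM
  simp_rw [blockPart_apply, Finset.mul_sum]
  rw [Finset.sum_comm]
  apply Finset.sum_eq_zero
  intro ξ hξ
  simp only [Finset.mem_filter, Finset.mem_univ, true_and] at hξ
  have h1 := sum_pRegular_blockKernel_mul_irr hM hf' ξ hx
  have hξ' : ξ ∉ f' := fun h => hne (IsPBlock_eq_of_mem hf hf' hξ h)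
  rw [if_neg hξ'] at h1
  have h2 : ∀ y : H, blockKernel f' x y * (classInner ϑ (ξ : H → ℂ) * (ξ : H → ℂ) y) =
      classInner ϑ (ξ : H → ℂ) * (blockKernel f' x y * (ξ : H → ℂ) y) := fun y => by ring
  simp_rw [h2]
  rw [← Finset.mul_sum, h1, mul_zero]

/-- **BP-[INST-BR2]** -/
theorem blockPart_eq_of_regular_eq (hM : IsPModular p M) {H : Type u} [Group H] [Fintype H]
    (ϑ Θ : H → ℂ) (a : Set (IrrCharacter H) → ℂ)
    (hΘ : ∀ c : H, ¬ p ∣ orderOf c →
      Θ c = ∑ᶠ f ∈ {f : Set (IrrCharacter H) | IsPBlock M f}, a f * blockPart f ϑ c)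
    {f' : Set (IrrCharacter H)} (hf' : IsPBlock M f') (s : H) (hs : ¬ p ∣ orderOf s) :
    blockPart f' Θ s = a f' * blockPart f' ϑ s := by
  classical
  haveI hMp : M.IsPrime := isPModular_isPrime hM
  rw [blockPart_eq_sum_blockKernel]
  -- restrict the sum to the `p`-regular elements
  have h1 : ∑ c : H, Θ c * blockKernel f' s c =
      ∑ c ∈ Finset.univ.filter (fun c : H => ¬ p ∣ orderOf c), Θ c * blockKernel f' s c := by
    rw [← Finset.sum_filter_add_sum_filter_not Finset.univ (fun y : H => ¬ p ∣ orderOf y)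
      (fun c => Θ c * blockKernel f' s c)]
    rw [add_eq_left]
    apply Finset.sum_eq_zero
    intro y hy
    simp only [Finset.mem_filter, Finset.mem_univ, true_and, not_not] at hy
    rw [blockKernel_eq_zero_right hM hf' hs hy, mul_zero]
  rw [h1]
  -- the blocks as a finset
  have hSfin : ({f : Set (IrrCharacter H) | IsPBlock M f}).Finite := Set.toFinite _
  have hfin : ∀ c : H, ∑ᶠ f ∈ {f : Set (IrrCharacter H) | IsPBlock M f}, a f * blockPart f ϑ c =
      ∑ f ∈ hSfin.toFinset, a f * blockPart f ϑ c := by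
    intro c
    rw [finsum_mem_eq_finite_toFinset_sum _ hSfin]
  have h2 : ∑ c ∈ Finset.univ.filter (fun c : H => ¬ p ∣ orderOf c), Θ c * blockKernel f' s c =
      ∑ f ∈ hSfin.toFinset, a f *
        ∑ c ∈ Finset.univ.filter (fun c : H => ¬ p ∣ orderOf c),
          blockKernel f' s c * blockPart f ϑ c := by
    simp_rw [Finset.mul_sum]
    rw [Finset.sum_comm]
    apply Finset.sum_congr rfl
    intro c hc
    simp only [Finset.mem_filter, Finset.mem_univ, true_and] at hc
    rw [hΘ c hc, hfin c, Finset.sum_mul]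
    apply Finset.sum_congr rfl
    intro f _
    ring
  rw [h2]
  have h3 : ∀ f ∈ hSfin.toFinset, a f *
        ∑ c ∈ Finset.univ.filter (fun c : H => ¬ p ∣ orderOf c),
          blockKernel f' s c * blockPart f ϑ c =
      if f = f' then a f' * ((Fintype.card H : ℂ) * blockPart f' ϑ s) else 0 := by
    intro f hf
    have hfB : IsPBlock M f := by simpa using hf
    split_ifs with h
    · subst h
      rw [sum_pRegular_blockKernel_mul_blockPart hM hfB ϑ hs]
    · rw [sum_pRegular_blockKernel_mul_blockPart_of_ne hM hfB hf' h ϑ hs, mul_zero]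
  rw [Finset.sum_congr rfl h3, Finset.sum_ite_eq' hSfin.toFinset f']
  have hmem : f' ∈ hSfin.toFinset := by simpa using hf'
  rw [if_pos hmem, Nat.card_eq_fintype_card]
  have hcard : (Fintype.card H : ℂ) ≠ 0 := by exact_mod_cast Fintype.card_ne_zero
  field_simp

end Cfsg.Agent.Lib.Helper78.BP
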