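import Cfsg.Agent.Lib.Helper92.BPBlock
import Cfsg.Agent.Lib.Helper77.BPBlockD1
import Cfsg.Agent.Lib.Helper77.BrauerStab
import Cfsg.Agent.Lib.Helper16.PairConj
import Cfsg.Agent.Lib.Helper16.StabGroup
import Cfsg.Agent.Lib.Helper23.BPBrMul
import Cfsg.Agent.Lib.Helper40.BPConj
import Cfsg.Agent.Lib.Helper40.BPBr1
import Cfsg.Agent.Lib.Helper52.BPD0
import Cfsg.Agent.Lib.Helper78.BPDict2

/-!
# PROJECT BP, BP-[D3] part A (helper78): `StabilizesBlock` ⟺ conjugation fixes `incl ẽ_f`
-/

set_option autoImplicit false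
set_option linter.unusedSectionVars false
set_option linter.unusedVariables false

namespace Cfsg.Agent.Lib.Helper78.BP

open Cfsg Cfsg.Agent.Lib.Helper16 Cfsg.Agent.Lib.Helper92.BP Cfsg.Agent.Lib.Helper77
  Cfsg.Agent.Lib.Helper77.BP

section Incl
variable {R : Type*} [CommRing R] {G : Type*} [Group G]

theorem coeff_incl_of_mem (K : Subgroup G) (a : MonoidAlgebra R K) (h : K) :
    (incl R K a).coeff (h : G) = a.coeff h := by
  unfold incl
  show (MonoidAlgebra.mapDomain K.subtype a).coeff (K.subtype h) = a.coeff h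
  rw [MonoidAlgebra.coeff_mapDomain]
  exact Finsupp.mapDomain_apply K.subtype_injective _ _

theorem coeff_incl_of_not_mem (K : Subgroup G) (a : MonoidAlgebra R K) {g : G} (hg : g ∉ K) :
    (incl R K a).coeff g = 0 := by
  unfold incl
  show (MonoidAlgebra.mapDomain K.subtype a).coeff g = 0
  rw [MonoidAlgebra.coeff_mapDomain]
  apply Finsupp.mapDomain_of_notMem_range
  rintro ⟨k, rfl⟩
  exact hg k.2

end Incl

section A
variable {G : Type*} [Group G] [Finite G] {M : Ideal AlgInt} [hMp : M.IsPrime]

/-- the coefficients of `incl ẽ_f`, read in `ℂ` -/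
theorem coeff_incl_blockIdemR (K : Subgroup G) {f : Set (IrrCharacter K)} (hf : IsPBlock M f)
    (g : G) :
    (((incl (localSubring M) K (blockIdemR M f)).coeff g : localSubring M) : ℂ) =
      subgroupBlockCoeff K f g := by
  classical
  have : Fintype K := Fintype.ofFinite K
  unfold subgroupBlockCoeff
  by_cases hg : g ∈ K
  · rw [dif_pos hg]
    have := coeff_incl_of_mem (R := localSubring M) K (blockIdemR M f) ⟨g, hg⟩
    rw [show ((⟨g, hg⟩ : K) : G) = g from rfl] at this
    rw [this, coeff_blockIdemR, toLocal_val (blockCoeff_memLocalRing hf _)]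
  · rw [dif_neg hg, coeff_incl_of_not_mem K _ hg]
    rfl

/-- sets of irreducible characters are determined by their idempotent coefficients -/
theorem eq_of_blockCoeff_eq {H : Type*} [Group H] [Finite H] (B B' : Set (IrrCharacter H))
    (h : ∀ g, blockCoeff B g = blockCoeff B' g) : B = B' := by
  classical
  have : Fintype H := Fintype.ofFinite H
  ext ψ
  have h1 := sum_blockCoeff_mul B ψ
  have h2 := sum_blockCoeff_mul B' ψ
  simp only [h] at h1
  rw [h1] at h2
  have hψ1 : (ψ : H → ℂ) 1 ≠ 0 := Cfsg.Agent.Lib.Helper79.irr_apply_one_ne_zero ψ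
  by_cases hB : ψ ∈ B <;> by_cases hB' : ψ ∈ B'
  · exact ⟨fun _ => hB', fun _ => hB⟩
  · rw [if_pos hB, if_neg hB'] at h2; exact absurd h2 hψ1
  · rw [if_neg hB, if_pos hB'] at h2; exact absurd h2.symm hψ1
  · exact ⟨fun h => absurd h hB, fun h => absurd h hB'⟩

/-- `conj x` fixes `incl ẽ_f` iff the extended coefficient function is `x`-invariant -/
theorem conj_incl_eq_iff (K : Subgroup G) {f : Set (IrrCharacter K)} (hf : IsPBlock M f) (x : G) :
    conj (localSubring M) x (incl _ K (blockIdemR M f)) = incl _ K (blockIdemR M f) ↔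
      ∀ g : G, subgroupBlockCoeff K f (x⁻¹ * g * x) = subgroupBlockCoeff K f g := by
  constructor
  · intro h g
    have := congrArg (fun a => ((a.coeff g : localSubring M) : ℂ)) h
    simp only [Cfsg.Agent.Lib.Helper40.BP.coeff_conj] at this
    rwa [coeff_incl_blockIdemR K hf, coeff_incl_blockIdemR K hf] at this
  · intro h
    apply MonoidAlgebra.ext
    apply Finsupp.ext
    intro g
    rw [Cfsg.Agent.Lib.Helper40.BP.coeff_conj]
    apply Subtype.ext
    rw [coeff_incl_blockIdemR K hf, coeff_incl_blockIdemR K hf]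
    exact h g

/-- for `x ∈ N_G(Q)`: `x` stabilizes the block `f` of `C_G(Q)` iff conjugation by `x` fixes the
idempotent `incl ẽ_f` -/
theorem stabilizes_iff_conj_fixed {Q : Subgroup G}
    {f : Set (IrrCharacter (Subgroup.centralizer (Q : Set G)))} (hf : IsPBlock M f) {x : G}
    (hx : x ∈ Subgroup.normalizer (Q : Set G)) :
    StabilizesBlock (Subgroup.centralizer (Q : Set G)) f x ↔
      conj (localSubring M) x (incl _ _ (blockIdemR M f)) = incl _ _ (blockIdemR M f) := by
  rw [conj_incl_eq_iff _ hf]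
  constructor
  · intro h g
    have := subgroupBlockCoeff_conj_of_stabilizes _ f x⁻¹ (stabilizesBlock_inv _ f h) g
    rwa [inv_inv] at this
  · intro h
    have hx' : x⁻¹ ∈ Subgroup.normalizer (Q : Set G) := Subgroup.inv_mem _ hx
    refine ⟨normalizer_le_normalizer_centralizer' Q hx, ?_⟩
    have hff : pullBlock (normAut Q x⁻¹ hx') f = f := by
      apply eq_of_blockCoeff_eq
      intro k
      rw [blockCoeff_pullBlock]
      have h1 := h (k : G)
      unfold subgroupBlockCoeff at h1
      have hk' : x⁻¹ * (k : G) * x ∈ Subgroup.centralizer (Q : Set G) := by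
        have := (normAut Q x⁻¹ hx' k).2
        rwa [normAut_coe, inv_inv] at this
      rw [dif_pos hk', dif_pos k.2] at h1
      have e : (normAut Q x⁻¹ hx' k) = ⟨x⁻¹ * (k : G) * x, hk'⟩ := by
        apply Subtype.ext
        rw [normAut_coe, inv_inv]
      rw [e]
      exact h1
    intro χ hχ
    refine ⟨irrPull (normAut Q x⁻¹ hx') χ, ?_, ?_⟩
    · rw [← hff]
      exact irrPull_mem_pullBlock _ hχ
    · intro k k' hk
      rw [irrPull_apply]
      have e : normAut Q x⁻¹ hx' k' = k := by
        apply Subtype.ext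
        rw [normAut_coe, hk, inv_inv]
        group
      rw [e]

end A

end Cfsg.Agent.Lib.Helper78.BP
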