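import Cfsg.Agent.Lib.Helper92.BPBlock
import Cfsg.Agent.Lib.Helper77.BPBlockD1
import Cfsg.Agent.Lib.Helper77.BrauerStab
import Cfsg.Agent.Lib.Helper16.PairConj
import Cfsg.Agent.Lib.Helper16.StabGroup
import Cfsg.Agent.Lib.Helper23.BPBrMul
import Cfsg.Agent.Lib.Helper40.BPConj
import Cfsg.Agent.Lib.Helper40.BPBr1
import Cfsg.Agent.Lib.Helper52.BPD0
import Cfsg.Agent.Lib.Helper78.BPDict2
import Cfsg.Agent.Lib.Helper78.BPDict3A

set_option autoImplicit false
set_option linter.unusedSectionVars false
set_option linter.unusedVariables false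

namespace Cfsg.Agent.Lib.Helper78.BP

open Cfsg Cfsg.Agent.Lib.Helper16 Cfsg.Agent.Lib.Helper92.BP Cfsg.Agent.Lib.Helper77
  Cfsg.Agent.Lib.Helper77.BP Cfsg.Agent.Lib.Helper77.GrpRed Cfsg.Agent.Lib.Helper77.BlockRed

section B
variable {H : Type*} [Group H] [Fintype H] {M : Ideal AlgInt} [hMp : M.IsPrime]

/-- a central element of `Rm[H]` killed by reduction has all its central characters in the
local ideal -/
theorem omega_memLocalIdeal_of_red_eq_zero (ξ : IrrCharacter H)
    (a : MonoidAlgebra (localSubring M) H)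
    (hc : bc ℂ a ∈ Subalgebra.center ℂ (MonoidAlgebra ℂ H))
    (hr : red (localSubring M) H a = 0) :
    MemLocalIdeal M (omega (ξ : H → ℂ) (bc ℂ a)) := by
  classical
  have hcoef : ∀ g : H, MemLocalIdeal M ((bc ℂ a).coeff g) := by
    intro g
    rw [coeff_bc]
    have h1 : (red (localSubring M) H a).coeff g = 0 := by rw [hr]; rfl
    rw [red_eq_bc, coeff_bc] at h1
    exact (algebraMap_kk_eq_zero (a.coeff g)).mp h1
  rw [omega_eq_sum_classes _ (irr_conj ξ) hc]
  apply memLocalIdeal_sum
  intro c _
  exact memLocalIdeal_mul_right (hcoef _)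
    (memLocalRing_of_isIntegral hMp.ne_top (Cfsg.Agent.Lib.Helper79.isIntegral_centralChar ξ _))

end B

section Restr
variable {R : Type*} [CommRing R] {G : Type*} [Group G]

/-- restriction of a group algebra element to a subgroup -/
noncomputable def restr (L : Subgroup G) (a : MonoidAlgebra R G) : MonoidAlgebra R L :=
  MonoidAlgebra.ofCoeff (a.coeff.comapDomain Subtype.val Subtype.val_injective.injOn)

theorem coeff_restr (L : Subgroup G) (a : MonoidAlgebra R G) (h : L) :
    (restr L a).coeff h = a.coeff (h : G) := by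
  unfold restr
  rw [MonoidAlgebra.coeff_ofCoeff, Finsupp.comapDomain_apply]

theorem red_restr_eq_br [IsLocalRing R] (P : Subgroup G) (a : MonoidAlgebra R G) :
    red R _ (restr (Subgroup.centralizer (P : Set G)) a) = br R P a := by
  apply Cfsg.Agent.Lib.Helper40.BP.br_ext
  intro z
  rw [Cfsg.Agent.Lib.Helper40.BP.coeff_br]
  unfold red
  rw [MonoidAlgebra.coeff_mapRingHom, coeff_restr]

end Restr


section C
variable {G : Type*} [Group G] [Finite G] {M : Ideal AlgInt} [hMp : M.IsPrime]

/-- the truncation to `C_G(P)` of the idempotent of a block of `C_G(Q)`, in `Rm[C_G(P)]` -/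
noncomputable def truncIdem (M : Ideal AlgInt) [M.IsPrime] (Q P : Subgroup G)
    (f : Set (IrrCharacter (Subgroup.centralizer (Q : Set G)))) :
    MonoidAlgebra (localSubring M) (Subgroup.centralizer (P : Set G)) :=
  restr (Subgroup.centralizer (P : Set G))
    (incl (localSubring M) (Subgroup.centralizer (Q : Set G)) (blockIdemR M f))

theorem coeff_bc_truncIdem (Q P : Subgroup G)
    {f : Set (IrrCharacter (Subgroup.centralizer (Q : Set G)))} (hf : IsPBlock M f)
    (h : Subgroup.centralizer (P : Set G)) :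
    (bc ℂ (truncIdem M Q P f)).coeff h =
      subgroupBlockCoeff (Subgroup.centralizer (Q : Set G)) f (h : G) := by
  rw [coeff_bc]
  unfold truncIdem
  rw [coeff_restr]
  exact coeff_incl_blockIdemR _ hf _

/-- the truncation is central in `ℂ[C_G(P)]` (for `Q ≤ P`) -/
theorem bc_truncIdem_mem_center {Q P : Subgroup G} (hQP : Q ≤ P)
    {f : Set (IrrCharacter (Subgroup.centralizer (Q : Set G)))} (hf : IsPBlock M f) :
    bc ℂ (truncIdem M Q P f) ∈
      Subalgebra.center ℂ (MonoidAlgebra ℂ (Subgroup.centralizer (P : Set G))) := by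
  have hle : Subgroup.centralizer (P : Set G) ≤ Subgroup.centralizer (Q : Set G) :=
    Subgroup.centralizer_le hQP
  have : Fintype (Subgroup.centralizer (Q : Set G)) := Fintype.ofFinite _
  apply mem_center_of_coeff_conj
  intro g h
  rw [coeff_bc_truncIdem Q P hf, coeff_bc_truncIdem Q P hf]
  unfold subgroupBlockCoeff
  rw [dif_pos (hle g.2), dif_pos (hle (h * g * h⁻¹).2)]
  have e : (⟨((h * g * h⁻¹ : Subgroup.centralizer (P : Set G)) : G), hle (h * g * h⁻¹).2⟩ :
      Subgroup.centralizer (Q : Set G)) =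
      (⟨(h : G), hle h.2⟩ : Subgroup.centralizer (Q : Set G)) * ⟨(g : G), hle g.2⟩ *
        (⟨(h : G), hle h.2⟩ : Subgroup.centralizer (Q : Set G))⁻¹ := by
    apply Subtype.ext
    simp
  rw [e, blockCoeff_conj]

/-- `brauerOmega` is the central character of the truncation -/
theorem brauerOmega_eq_omega (Q P : Subgroup G)
    {f : Set (IrrCharacter (Subgroup.centralizer (Q : Set G)))} (hf : IsPBlock M f)
    [Fintype (Subgroup.centralizer (P : Set G))]
    (ξ : IrrCharacter (Subgroup.centralizer (P : Set G))) :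
    brauerOmega P (subgroupBlockCoeff (Subgroup.centralizer (Q : Set G)) f)
      (ξ : Subgroup.centralizer (P : Set G) → ℂ) =
      omega (ξ : Subgroup.centralizer (P : Set G) → ℂ) (bc ℂ (truncIdem M Q P f)) := by
  unfold brauerOmega omega
  rw [finsum_eq_sum_of_fintype, Finset.sum_div]
  apply Finset.sum_congr rfl
  intro x _
  rw [coeff_bc_truncIdem Q P hf]

/-- the central character of a member of `e` at the idempotent of `e` is `1` -/
theorem omega_idemOf_of_mem {H : Type*} [Group H] [Fintype H] {e : Set (IrrCharacter H)}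
    {ξ : IrrCharacter H} (hξ : ξ ∈ e) : omega (ξ : H → ℂ) (idemOf e) = 1 := by
  unfold omega
  have h1 := sum_blockCoeff_mul e ξ
  rw [if_pos hξ] at h1
  have : ∑ g : H, (idemOf e).coeff g * (ξ : H → ℂ) g = (ξ : H → ℂ) 1 := by
    rw [← h1]
    apply Finset.sum_congr rfl
    intro g _
    rw [coeff_idemOf]
  rw [this]
  exact div_self (Cfsg.Agent.Lib.Helper79.irr_apply_one_ne_zero ξ)

/-- (B ⇐) -/
theorem omega_cond_of_idem_cond {Q P : Subgroup G} (hQP : Q ≤ P)
    {f : Set (IrrCharacter (Subgroup.centralizer (Q : Set G)))} (hf : IsPBlock M f)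
    {e : Set (IrrCharacter (Subgroup.centralizer (P : Set G)))} (he : IsPBlock M e)
    (h : br (localSubring M) P (incl _ _ (blockIdemR M f)) * blockIdemK M e = blockIdemK M e) :
    ∀ ξ ∈ e, MemLocalIdeal M
      (brauerOmega P (subgroupBlockCoeff (Subgroup.centralizer (Q : Set G)) f)
        (ξ : Subgroup.centralizer (P : Set G) → ℂ) - 1) := by
  classical
  have : Fintype (Subgroup.centralizer (P : Set G)) := Fintype.ofFinite _
  intro ξ hξ
  have hct := bc_truncIdem_mem_center (M := M) hQP hf (P := P)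
  have hce : idemOf e ∈ Subalgebra.center ℂ (MonoidAlgebra ℂ (Subgroup.centralizer (P : Set G))) :=
    idemOf_mem_center e
  have hr : red (localSubring M) _ (truncIdem M Q P f * blockIdemR M e - blockIdemR M e) = 0 := by
    rw [map_sub, map_mul]
    unfold truncIdem
    rw [red_restr_eq_br]
    show br (localSubring M) P (incl _ _ (blockIdemR M f)) * blockIdemK M e - blockIdemK M e = 0
    rw [h, sub_self]
  have hbc : bc ℂ (truncIdem M Q P f * blockIdemR M e - blockIdemR M e) =
      bc ℂ (truncIdem M Q P f) * idemOf e - idemOf e := by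
    rw [map_sub, map_mul, bc_blockIdemR he]
  have hc : bc ℂ (truncIdem M Q P f * blockIdemR M e - blockIdemR M e) ∈
      Subalgebra.center ℂ (MonoidAlgebra ℂ (Subgroup.centralizer (P : Set G))) := by
    rw [hbc]
    exact Subalgebra.sub_mem _ (Subalgebra.mul_mem _ hct hce) hce
  have key := omega_memLocalIdeal_of_red_eq_zero ξ _ hc hr
  rw [hbc, omega_sub, omega_mul ξ hct, omega_idemOf_of_mem hξ, mul_one] at key
  rw [brauerOmega_eq_omega Q P hf]
  exact key

/-- (B ⇒) -/
theorem idem_cond_of_omega_cond {p : ℕ} [Fact p.Prime] (hM : IsPModular p M) {Q P : Subgroup G}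
    (hP : IsPGroup p P) (hQP : Q ≤ P)
    {f : Set (IrrCharacter (Subgroup.centralizer (Q : Set G)))} (hf : IsPBlock M f)
    {e : Set (IrrCharacter (Subgroup.centralizer (P : Set G)))} (he : IsPBlock M e)
    (hfix : ∀ x ∈ P, conj (localSubring M) x (incl _ _ (blockIdemR M f)) =
      incl _ _ (blockIdemR M f))
    (hΩ : ∀ ξ ∈ e, MemLocalIdeal M
      (brauerOmega P (subgroupBlockCoeff (Subgroup.centralizer (Q : Set G)) f)
        (ξ : Subgroup.centralizer (P : Set G) → ℂ) - 1)) :
    br (localSubring M) P (incl _ _ (blockIdemR M f)) * blockIdemK M e = blockIdemK M e := by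
  classical
  have : Fintype (Subgroup.centralizer (P : Set G)) := Fintype.ofFinite _
  have : Fintype (Subgroup.centralizer (Q : Set G)) := Fintype.ofFinite _
  have hchar : CharP (IsLocalRing.ResidueField (localSubring M)) p :=
    Cfsg.Agent.Lib.Helper52.BP.charP_residueField hM
  have hct := bc_truncIdem_mem_center (M := M) hQP hf (P := P)
  have hce : idemOf e ∈ Subalgebra.center ℂ (MonoidAlgebra ℂ (Subgroup.centralizer (P : Set G))) :=
    idemOf_mem_center e
  have hzt : br (localSubring M) P (incl _ _ (blockIdemR M f)) =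
      red (localSubring M) _ (truncIdem M Q P f) := by
    unfold truncIdem
    rw [red_restr_eq_br]
  -- idempotent
  have hmem : incl (localSubring M) _ (blockIdemR M f) ∈ fixedAlg (localSubring M) P :=
    (Cfsg.Agent.Lib.Helper40.BP.mem_fixedAlg_iff P _).mpr hfix
  have hidem : IsIdempotentElem (br (localSubring M) P (incl _ _ (blockIdemR M f))) := by
    show _ * _ = _
    rw [← Cfsg.Agent.Lib.Helper23.BP.br_mul hP hmem hmem, ← map_mul, blockIdemR_idem hf]
  -- central
  have htc : ∀ b, b * truncIdem M Q P f = truncIdem M Q P f * b := by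
    apply central_of_bc_central
    intro b
    exact (Subalgebra.mem_center_iff.mp hct) b
  have hcentral : ∀ y, br (localSubring M) P (incl _ _ (blockIdemR M f)) * y =
      y * br (localSubring M) P (incl _ _ (blockIdemR M f)) := by
    intro y
    obtain ⟨y₀, rfl⟩ := red_surjective (M := M) (H := Subgroup.centralizer (P : Set G)) y
    rw [hzt, ← map_mul, ← map_mul, htc]
  rcases blockIdemK_mul_central hM he _ hidem hcentral with h1 | h0
  · rw [hcentral]; exact h1
  · exfalso
    obtain ⟨χ₀, rfl⟩ := he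
    have hξ : χ₀ ∈ blockOf M (χ₀ : Subgroup.centralizer (P : Set G) → ℂ) :=
      self_mem_blockOf hMp.ne_top χ₀
    have he' : IsPBlock M (blockOf M (χ₀ : Subgroup.centralizer (P : Set G) → ℂ)) := ⟨χ₀, rfl⟩
    have hr : red (localSubring M) _
        (blockIdemR M (blockOf M (χ₀ : Subgroup.centralizer (P : Set G) → ℂ)) *
          truncIdem M Q P f) = 0 := by
      rw [map_mul, ← hzt]
      exact h0
    have hbc : bc ℂ (blockIdemR M (blockOf M (χ₀ : Subgroup.centralizer (P : Set G) → ℂ)) *
          truncIdem M Q P f) =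
        idemOf (blockOf M (χ₀ : Subgroup.centralizer (P : Set G) → ℂ)) *
          bc ℂ (truncIdem M Q P f) := by
      rw [map_mul, bc_blockIdemR he']
    have hc : bc ℂ (blockIdemR M (blockOf M (χ₀ : Subgroup.centralizer (P : Set G) → ℂ)) *
          truncIdem M Q P f) ∈
        Subalgebra.center ℂ (MonoidAlgebra ℂ (Subgroup.centralizer (P : Set G))) := by
      rw [hbc]
      exact Subalgebra.mul_mem _ hce hct
    have key := omega_memLocalIdeal_of_red_eq_zero χ₀ _ hc hr
    rw [hbc, omega_mul χ₀ hce, omega_idemOf_of_mem hξ, one_mul,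
      ← brauerOmega_eq_omega Q P hf] at key
    have h2 := hΩ χ₀ hξ
    have h3 := memLocalIdeal_sub key h2
    rw [sub_sub_cancel] at h3
    exact one_not_memLocalIdeal h3

end C

section Blocks
variable {G : Type*} [Group G] [Finite G] {p : ℕ} [Fact p.Prime] {M : Ideal AlgInt}
  [hMp : M.IsPrime]

/-- **BP-[D3]**: the normal-subpair relation in idempotent language. -/
theorem isNormalSubpair_iff_idem (hM : IsPModular p M) (Q P : Subgroup G)
    (f : Set (IrrCharacter (Subgroup.centralizer (Q : Set G))))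
    (e : Set (IrrCharacter (Subgroup.centralizer (P : Set G)))) :
    IsNormalSubpair p M Q f P e ↔
      IsBrauerPair p M Q f ∧ IsBrauerPair p M P e ∧ Q ≤ P ∧
        P ≤ Subgroup.normalizer (Q : Set G) ∧
        (∀ x ∈ P, conj (localSubring M) x (incl _ _ (blockIdemR M f)) =
          incl _ _ (blockIdemR M f)) ∧
        br (localSubring M) P (incl _ _ (blockIdemR M f)) * blockIdemK M e =
          blockIdemK M e := by
  unfold IsNormalSubpair
  constructor
  · rintro ⟨hQf, hPe, hQP, hPN, hst, hΩ⟩
    have hfix : ∀ x ∈ P, conj (localSubring M) x (incl _ _ (blockIdemR M f)) =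
        incl _ _ (blockIdemR M f) := fun x hx =>
      (stabilizes_iff_conj_fixed hQf.2 (hPN hx)).mp (hst x hx)
    exact ⟨hQf, hPe, hQP, hPN, hfix,
      idem_cond_of_omega_cond hM hPe.1 hQP hQf.2 hPe.2 hfix hΩ⟩
  · rintro ⟨hQf, hPe, hQP, hPN, hfix, hbr⟩
    exact ⟨hQf, hPe, hQP, hPN,
      fun x hx => (stabilizes_iff_conj_fixed hQf.2 (hPN hx)).mpr (hfix x hx),
      omega_cond_of_idem_cond hQP hQf.2 hPe.2 hbr⟩

end Blocks

end Cfsg.Agent.Lib.Helper78.BP
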