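import Mathlib
import Cfsg.Agent.Lib.Helper3.DefOneGenFin
import Cfsg.Agent.Lib.Helper75.McKayOneC
import Cfsg.Agent.Lib.Helper78.ExcAbstractIff

set_option autoImplicit false
set_option linter.unusedSectionVars false

/-!
# Blocks with defect group of order `p`: explicit normalized data (helper78)

Module [BH-BLK] of helper75's plan for S4503.

* `main_aux_gen_iff_h78` : `Cfsg.Agent.Lib.Helper3.DefOneGen.main_aux_gen` with the equivalence
  `ζ ψ = ζ ψ' ↔ ψ, ψ'` are `T`-conjugate;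
* `blk_data` : the normalized description (`d = 0`) of an induced block, in the literal form of
  S4442 (`thetaStab`).
-/

namespace Cfsg.Agent.Lib.Helper78.BrauerHalf

open Cfsg Cfsg.Agent.Lib.Helper78 Cfsg.Agent.Lib.Helper16 Cfsg.Agent.Lib.Helper3.DefOneGen
  Cfsg.Agent.Lib.Helper75.McKayOne
open scoped ComplexConjugate IsMulCommutative

universe u

section Main

variable {G : Type*} [Group G] [Fintype G] {p : ℕ} [hp : Fact p.Prime] (P : Sylow p G)
  (hP : Nat.card P = p)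
variable [Fintype ↥(Subgroup.centralizer ((P : Subgroup G) : Set G))] [Fintype ↥(P : Subgroup G)]
  [IsMulCommutative ↥(P : Subgroup G)] [Fintype (↥(P : Subgroup G) →* ℂˣ)]
  [Fintype ↥(Subgroup.normalizer ((P : Subgroup G) : Set G))]
variable {M : Ideal AlgInt}

include hP in
open scoped Classical in
theorem main_aux_gen_iff_h78 (hM : IsPModular p M) {B : Set (IrrCharacter G)} (hB : IsPBlock M B)
    (θ : IrrCharacter ↥(Subgroup.centralizer ((P : Subgroup G) : Set G)))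
    (hθ : InKer (Subgroup.inclusion (le_centralizer_of_card_prime hP))
      (θ : ↥(Subgroup.centralizer ((P : Subgroup G) : Set G)) → ℂ))
    (hind : IsInducedBlock M (Subgroup.centralizer ((P : Subgroup G) : Set G))
      (blockOf M (θ : ↥(Subgroup.centralizer ((P : Subgroup G) : Set G)) → ℂ)) B)
    (T : Subgroup G) (hTN : T ≤ Subgroup.normalizer ((P : Subgroup G) : Set G))
    (hT : ∀ (n : G) (hn : n ∈ Subgroup.normalizer ((P : Subgroup G) : Set G)),
      n ∈ T ↔ thetaConj P n hn θ = θ)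
    (m : ℕ) (hCT : (Subgroup.centralizer ((P : Subgroup G) : Set G)).relIndex T = m)
    (hm2 : m + 1 < p) :
    ∃ (δ d : ℤ) (ζ : (↥(P : Subgroup G) →* ℂˣ) → IrrCharacter G) (a : IrrCharacter G → ℤ)
      (Y : Finset (IrrCharacter G)),
      (δ = 1 ∨ δ = -1) ∧
      (∀ η ∈ Y, η ∈ B) ∧
      (∀ ψ : ↥(P : Subgroup G) →* ℂˣ, ψ ≠ 1 → ζ ψ ∈ Y) ∧
      (∀ η ∈ Y, ∃ ψ : ↥(P : Subgroup G) →* ℂˣ, ψ ≠ 1 ∧ ζ ψ = η) ∧
      (∀ ψ ψ' : ↥(P : Subgroup G) →* ℂˣ, ψ ≠ 1 → ψ' ≠ 1 →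
        (ζ ψ = ζ ψ' ↔ ∃ n : G, n ∈ T ∧
          ∀ w w' : ↥(P : Subgroup G), (w' : G) = n * w * n⁻¹ → ψ' w' = ψ w)) ∧
      Y.card * m = p - 1 ∧
      (∀ χ : IrrCharacter G, χ ∉ B → a χ = 0) ∧
      (∀ χ ∈ B, χ ∉ Y → ∀ y : ↥(P : Subgroup G), y ≠ 1 →
        fpart p (Subgroup.centralizer ((P : Subgroup G) : Set G)) (χ : G → ℂ)
          (θ : ↥(Subgroup.centralizer ((P : Subgroup G) : Set G)) → ℂ) (y : G) = (a χ : ℂ)) ∧
      (∀ ψ : ↥(P : Subgroup G) →* ℂˣ, ψ ≠ 1 → ∀ y : ↥(P : Subgroup G), y ≠ 1 →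
        fpart p (Subgroup.centralizer ((P : Subgroup G) : Set G)) (ζ ψ : G → ℂ)
          (θ : ↥(Subgroup.centralizer ((P : Subgroup G) : Set G)) → ℂ) (y : G) =
        (d : ℂ) + (δ : ℂ) *
          ∑ᶠ ψ' ∈ {ψ' : ↥(P : Subgroup G) →* ℂˣ | ∃ n : G, n ∈ T ∧
            ∀ w w' : ↥(P : Subgroup G), (w' : G) = n * w * n⁻¹ → ψ' w' = ψ w},
            ((ψ' y : ℂˣ) : ℂ)) ∧
      ((d - δ) ^ 2 + ((Y.card : ℤ) - 1) * d ^ 2 +
        ∑ χ ∈ Finset.univ.filter (· ∉ Y), a χ ^ 2 = (m : ℤ) + 1) ∧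
      (∀ g : G, ¬ p ∣ orderOf g →
        (∀ η ∈ Y, ∀ η' ∈ Y, (η : G → ℂ) g = (η' : G → ℂ) g) ∧
        ∀ η ∈ Y, ((Y.card : ℂ) * (d : ℂ) - (δ : ℂ)) * (η : G → ℂ) g +
          ∑ χ ∈ Finset.univ.filter (· ∉ Y), (a χ : ℂ) * (χ : G → ℂ) g = 0) := by
  have hpp : p.Prime := hp.out
  have hMp : M.IsPrime := isPModular_isPrime hM
  have hfinT : Fintype ↥T := Fintype.ofFinite _
  letI instT : MulDistribMulAction ↥T ↥(P : Subgroup G) :=
    MulDistribMulAction.compHom ↥(P : Subgroup G) (Subgroup.inclusion hTN)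
  have hsmul : ∀ (n : ↥T) (y : ↥(P : Subgroup G)),
      ((n • y : ↥(P : Subgroup G)) : G) = (n : G) * (y : G) * (n : G)⁻¹ := fun _ _ => rfl
  have hPcard : Fintype.card ↥(P : Subgroup G) = p := by
    rw [← Nat.card_eq_fintype_card]; exact hP
  -- the stabilizer
  obtain ⟨S, hSdef⟩ : ∃ S : Subgroup ↥T,
      S = (Subgroup.centralizer ((P : Subgroup G) : Set G)).subgroupOf T := ⟨_, rfl⟩
  have hS : ∀ y : ↥(P : Subgroup G), y ≠ 1 → ∀ n : ↥T, n • y = y ↔ n ∈ S := by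
    intro y hy n
    have hy1 : (y : G) ≠ 1 := fun h => hy (Subtype.ext h)
    rw [hSdef, Subgroup.mem_subgroupOf, mem_centralizer_iff_commute hP y.2 hy1]
    constructor
    · intro h
      have h' : (n : G) * (y : G) * (n : G)⁻¹ = (y : G) := by rw [← hsmul, h]
      exact (mul_inv_eq_iff_eq_mul.mp h').symm
    · intro h
      apply Subtype.ext
      rw [hsmul]
      exact mul_inv_eq_iff_eq_mul.mpr h.eq.symm
  have hmcard : Fintype.card ↥T = Nat.card S * m := by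
    have h1 := Subgroup.card_mul_index S
    have h2 : S.index = m := by
      rw [hSdef]
      exact hCT
    rw [← Nat.card_eq_fintype_card, ← h1, h2]
  have hmA : m + 1 < Fintype.card ↥(P : Subgroup G) := by rw [hPcard]; exact hm2
  -- the functions
  obtain ⟨φ, hφ⟩ : ∃ φ : IrrCharacter G → ↥(P : Subgroup G) → ℂ,
      φ = fun χ (y : ↥(P : Subgroup G)) =>
        if χ ∈ B then fpart p (Subgroup.centralizer ((P : Subgroup G) : Set G)) (χ : G → ℂ)
          (θ : ↥(Subgroup.centralizer ((P : Subgroup G) : Set G)) → ℂ) (y : G) else 0 := ⟨_, rfl⟩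
  have hφin : ∀ χ : IrrCharacter G, χ ∈ B → ∀ y : ↥(P : Subgroup G),
      φ χ y = fpart p (Subgroup.centralizer ((P : Subgroup G) : Set G)) (χ : G → ℂ)
          (θ : ↥(Subgroup.centralizer ((P : Subgroup G) : Set G)) → ℂ) (y : G) := by
    intro χ hχ y
    rw [hφ]
    simp only
    rw [if_pos hχ]
  have hφout : ∀ χ : IrrCharacter G, χ ∉ B → ∀ y : ↥(P : Subgroup G), φ χ y = 0 := by
    intro χ hχ y
    rw [hφ]
    simp only
    rw [if_neg hχ]
  have hsumφ : ∀ (f : IrrCharacter G → ℂ) (y : ↥(P : Subgroup G)),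
      ∑ χ : IrrCharacter G, φ χ y * f χ =
        ∑ χ ∈ Finset.univ.filter (fun χ : IrrCharacter G => χ ∈ B),
          fpart p (Subgroup.centralizer ((P : Subgroup G) : Set G)) (χ : G → ℂ)
            (θ : ↥(Subgroup.centralizer ((P : Subgroup G) : Set G)) → ℂ) (y : G) * f χ := by
    intro f y
    rw [Finset.sum_filter]
    apply Finset.sum_congr rfl
    intro χ _
    by_cases hχ : χ ∈ B
    · rw [if_pos hχ, hφin χ hχ]
    · rw [if_neg hχ, hφout χ hχ, zero_mul]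
  have hinv : ∀ (χ : IrrCharacter G) (n : ↥T) (y : ↥(P : Subgroup G)),
      φ χ (n • y) = φ χ y := by
    intro χ n y
    by_cases hχ : χ ∈ B
    · rw [hφin χ hχ, hφin χ hχ, hsmul]
      exact fpart_conj_of_mem P hP (isClassFunction_irr χ) θ T hTN hT n.2 (y : G)
    · rw [hφout χ hχ, hφout χ hχ]
  have hint : ∀ (χ : IrrCharacter G) (ψ : ↥(P : Subgroup G) →* ℂˣ),
      ∃ k : ℤ, gco (φ χ) ψ = (k : ℂ) := by
    intro χ ψ
    by_cases hχ : χ ∈ B
    · have h1 : φ χ = fun y : ↥(P : Subgroup G) =>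
          fpart p (Subgroup.centralizer ((P : Subgroup G) : Set G)) (χ : G → ℂ)
            (θ : ↥(Subgroup.centralizer ((P : Subgroup G) : Set G)) → ℂ) (y : G) := by
        funext y
        exact hφin χ hχ y
      rw [h1]
      exact exists_int_gco_fpart P hP (IsIrrCharacter.isCharacter χ.2) θ hθ ψ
    · refine ⟨0, ?_⟩
      have h1 : φ χ = fun _ => (0 : ℂ) := by
        funext y
        exact hφout χ hχ y
      rw [h1]
      unfold gco
      simp
  have hexiff : ∀ y y' : ↥(P : Subgroup G), (∃ n : ↥T, n • y = y') ↔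
      ∃ n : G, n ∈ T ∧ n * (y : G) * n⁻¹ = (y' : G) := by
    intro y y'
    constructor
    · rintro ⟨n, hn⟩
      exact ⟨(n : G), n.2, by rw [← hsmul, hn]⟩
    · rintro ⟨n, hn, h⟩
      exact ⟨⟨n, hn⟩, Subtype.ext (by rw [hsmul]; exact h)⟩
  have hK : ∀ y y' : ↥(P : Subgroup G), y ≠ 1 → y' ≠ 1 →
      ∑ χ : IrrCharacter G, φ χ y * conj (φ χ y') =
        if ∃ n : ↥T, n • y = y' then (Fintype.card ↥(P : Subgroup G) : ℂ) else 0 := by
    intro y y' hy hy'
    have hsum : ∑ χ : IrrCharacter G, φ χ y * conj (φ χ y') =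
        ∑ χ ∈ Finset.univ.filter (fun χ : IrrCharacter G => χ ∈ B),
          fpart p (Subgroup.centralizer ((P : Subgroup G) : Set G)) (χ : G → ℂ)
            (θ : ↥(Subgroup.centralizer ((P : Subgroup G) : Set G)) → ℂ) (y : G) *
          conj (fpart p (Subgroup.centralizer ((P : Subgroup G) : Set G)) (χ : G → ℂ)
            (θ : ↥(Subgroup.centralizer ((P : Subgroup G) : Set G)) → ℂ) (y' : G)) := by
      rw [Finset.sum_filter]
      apply Finset.sum_congr rfl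
      intro χ _
      by_cases hχ : χ ∈ B
      · rw [if_pos hχ, hφin χ hχ, hφin χ hχ]
      · rw [if_neg hχ, hφout χ hχ, zero_mul]
    have h' := sum_block_fpart_kernel P hP hM hB θ hθ hind T hTN hT y y' hy hy'
    rw [hsum, hPcard, h']
    by_cases h : ∃ n : ↥T, n • y = y'
    · rw [if_pos h, if_pos ((hexiff y y').mp h)]
    · rw [if_neg h, if_neg (fun h2 => h ((hexiff y y').mpr h2))]
  obtain ⟨deg, hdegdef⟩ : ∃ deg : IrrCharacter G → ℤ,
      deg = fun χ : IrrCharacter G => (charDegree (χ : G → ℂ) : ℤ) := ⟨_, rfl⟩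
  have hdeg : ∀ χ, 0 < deg χ := by
    intro χ
    rw [hdegdef]
    show (0 : ℤ) < (charDegree (χ : G → ℂ) : ℤ)
    exact_mod_cast IsIrrCharacter.charDegree_pos χ.2
  have hdegval : ∀ χ : IrrCharacter G, (deg χ : ℂ) = (χ : G → ℂ) 1 := by
    intro χ
    rw [hdegdef, IsCharacter.apply_one_eq_charDegree (IsIrrCharacter.isCharacter χ.2)]
    simp
  have hone : ¬ p ∣ orderOf (1 : G) := by
    rw [orderOf_one]
    exact hpp.one_lt.ne' ∘ Nat.dvd_one.mp
  have hdeg0 : ∀ y : ↥(P : Subgroup G), y ≠ 1 →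
      ∑ χ : IrrCharacter G, φ χ y * (deg χ : ℂ) = 0 := by
    intro y hy
    have hy1 : (y : G) ≠ 1 := fun h => hy (Subtype.ext h)
    rw [hsumφ, ← sum_block_fpart_mul_pRegular P hP hM y.2 hy1 hB
      (θ : ↥(Subgroup.centralizer ((P : Subgroup G) : Set G)) → ℂ) hone]
    apply Finset.sum_congr rfl
    intro χ _
    rw [hdegval]
  obtain ⟨δ, d, ζ, a, Y, hδ, hζY, hYsurj, hζR, hYcard, hconst, hX, hval, hnorm, hw⟩ :=
    exceptional_abstract_iff S hS m hmcard hmA φ hinv hint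
      (by intro y y' hy hy'; convert hK y y' hy hy') deg hdeg hdeg0
  obtain ⟨y₀, hy₀⟩ := exists_ne_one_of_card P hP
  have hYB : ∀ η ∈ Y, η ∈ B := by
    intro η hη
    by_contra hnot
    exact hconst η 0 (hφout η hnot) hη
  have hset : ∀ ψ : ↥(P : Subgroup G) →* ℂˣ,
      {ψ' : ↥(P : Subgroup G) →* ℂˣ | ∃ n : G, n ∈ T ∧
        ∀ w w' : ↥(P : Subgroup G), (w' : G) = n * w * n⁻¹ → ψ' w' = ψ w} =
      {ψ' : ↥(P : Subgroup G) →* ℂˣ | ∃ n : ↥T, ∀ y : ↥(P : Subgroup G), ψ' (n • y) = ψ y} := by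
    intro ψ
    ext ψ'
    simp only [Set.mem_ofPred_eq]
    constructor
    · rintro ⟨n, hn, h⟩
      exact ⟨⟨n, hn⟩, fun y => h y ((⟨n, hn⟩ : ↥T) • y) rfl⟩
    · rintro ⟨n, h⟩
      refine ⟨(n : G), n.2, ?_⟩
      intro w w' hw
      have : w' = n • w := Subtype.ext hw
      rw [this]
      exact h w
  refine ⟨δ, d, ζ, a, Y, hδ, hYB, hζY, hYsurj, ?_, ?_, ?_, ?_, ?_, by convert hnorm, ?_⟩
  · intro ψ ψ' hψ hψ'
    rw [hζR ψ ψ' hψ hψ']
    have h1 := Set.ext_iff.mp (hset ψ) ψ'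
    simp only [Set.mem_ofPred_eq] at h1
    exact h1.symm
  · rw [hYcard, hPcard]
  · intro χ hχ
    have hχY : χ ∉ Y := fun h => hχ (hYB χ h)
    have h1 := hX χ hχY y₀ hy₀
    rw [hφout χ hχ] at h1
    exact_mod_cast h1.symm
  · intro χ hχ hχY y hy
    rw [← hφin χ hχ]
    exact hX χ hχY y hy
  · intro ψ hψ y hy
    rw [← hφin (ζ ψ) (hYB _ (hζY ψ hψ)), hset ψ]
    exact hval ψ hψ y hy
  · intro g hg
    have hwg : ∀ y : ↥(P : Subgroup G), y ≠ 1 →
        ∑ χ : IrrCharacter G, φ χ y * (χ : G → ℂ) g = 0 := by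
      intro y hy
      have hy1 : (y : G) ≠ 1 := fun h => hy (Subtype.ext h)
      rw [hsumφ]
      exact sum_block_fpart_mul_pRegular P hP hM y.2 hy1 hB _ hg
    convert hw (fun χ => (χ : G → ℂ) g) hwg

end Main

section Top

variable {G : Type u} [Group G] [Fintype G] {p : ℕ} [hp : Fact p.Prime] (P : Sylow p G)
  (hP : Nat.card P = p)
variable [Fintype ↥(Subgroup.centralizer ((P : Subgroup G) : Set G))] [Fintype ↥(P : Subgroup G)]
  [IsMulCommutative ↥(P : Subgroup G)] [Fintype (↥(P : Subgroup G) →* ℂˣ)]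
  [Fintype ↥(Subgroup.normalizer ((P : Subgroup G) : Set G))]
variable {M : Ideal AlgInt}

include hP in
open scoped Classical in
/-- **The case `e = p - 1`**: every character of the block is constant `±1` on `P ∖ 1`
(in the `fpart` sense). -/
theorem blk_top_h78 (hM : IsPModular p M) {B : Set (IrrCharacter G)} (hB : IsPBlock M B)
    (θ : IrrCharacter ↥(Subgroup.centralizer ((P : Subgroup G) : Set G)))
    (hθ : InKer (Subgroup.inclusion (le_centralizer_of_card_prime hP))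
      (θ : ↥(Subgroup.centralizer ((P : Subgroup G) : Set G)) → ℂ))
    (hind : IsInducedBlock M (Subgroup.centralizer ((P : Subgroup G) : Set G))
      (blockOf M (θ : ↥(Subgroup.centralizer ((P : Subgroup G) : Set G)) → ℂ)) B)
    (T : Subgroup G) (hTN : T ≤ Subgroup.normalizer ((P : Subgroup G) : Set G))
    (hT : ∀ (n : G) (hn : n ∈ Subgroup.normalizer ((P : Subgroup G) : Set G)),
      n ∈ T ↔ thetaConj P n hn θ = θ)
    (hCT : (Subgroup.centralizer ((P : Subgroup G) : Set G)).relIndex T = p - 1)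
    (hk : p ≤ Nat.card B) :
    ∀ χ ∈ B, ∃ a : ℤ, (a = 1 ∨ a = -1) ∧ ∀ y : G, y ∈ (P : Subgroup G) → y ≠ 1 →
      fpart p (Subgroup.centralizer ((P : Subgroup G) : Set G)) (χ : G → ℂ)
        (θ : ↥(Subgroup.centralizer ((P : Subgroup G) : Set G)) → ℂ) y = (a : ℂ) := by
  have hpp : p.Prime := hp.out
  have hp2 := hpp.two_le
  have hMp : M.IsPrime := isPModular_isPrime hM
  have hθb : θ ∈ blockOf M (θ : ↥(Subgroup.centralizer ((P : Subgroup G) : Set G)) → ℂ) :=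
    self_mem_blockOf hMp.ne_top θ
  obtain ⟨y₀, hy₀⟩ := exists_ne_one_of_card P hP
  have hy₀1 : (y₀ : G) ≠ 1 := fun h => hy₀ (Subtype.ext h)
  -- constancy on `P ∖ 1`
  have hconj : ∀ χ : IrrCharacter G, ∀ y : G, y ∈ (P : Subgroup G) → y ≠ 1 →
      fpart p (Subgroup.centralizer ((P : Subgroup G) : Set G)) (χ : G → ℂ)
        (θ : ↥(Subgroup.centralizer ((P : Subgroup G) : Set G)) → ℂ) y =
      fpart p (Subgroup.centralizer ((P : Subgroup G) : Set G)) (χ : G → ℂ)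
        (θ : ↥(Subgroup.centralizer ((P : Subgroup G) : Set G)) → ℂ) (y₀ : G) := by
    intro χ y hy hy1
    obtain ⟨n, hn, hval⟩ := exists_conj_of_relIndex_eq P hP T hTN hCT y₀ ⟨y, hy⟩
      hy₀ (fun h => hy1 (congrArg Subtype.val h))
    have hval' : y = n * (y₀ : G) * n⁻¹ := hval.symm
    rw [hval', fpart_conj_of_mem P hP (isClassFunction_irr χ) θ T hTN hT hn]
  -- a nontrivial linear character of `P`
  obtain ⟨ψ₀, hψ₀⟩ : ∃ ψ₀ : ↥(P : Subgroup G) →* ℂˣ, ψ₀ ≠ 1 := by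
    have h1 : 1 < Fintype.card (↥(P : Subgroup G) →* ℂˣ) := by
      rw [dual_card, ← Nat.card_eq_fintype_card]
      have hP' : Nat.card (P : Subgroup G) = p := hP
      omega
    haveI := Fintype.one_lt_card_iff_nontrivial.mp h1
    exact exists_ne 1
  -- the values are integers
  have hint : ∀ χ : IrrCharacter G, ∃ c : ℤ,
      fpart p (Subgroup.centralizer ((P : Subgroup G) : Set G)) (χ : G → ℂ)
        (θ : ↥(Subgroup.centralizer ((P : Subgroup G) : Set G)) → ℂ) (y₀ : G) = (c : ℂ) := by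
    intro χ
    obtain ⟨k, hk⟩ := exists_int_gco_fpart P hP (IsIrrCharacter.isCharacter χ.2) θ hθ ψ₀
    refine ⟨k, ?_⟩
    rw [← hk]
    symm
    apply gco_eq_of_const P hP _ _ _ ψ₀ hψ₀
    intro y hy
    exact hconj χ (y : G) y.2 (fun h => hy (Subtype.ext h))
  choose a ha using hint
  -- the block as a finset
  obtain ⟨Bf, hBdef⟩ : ∃ Bf : Finset (IrrCharacter G),
      Bf = Finset.univ.filter (fun χ : IrrCharacter G => χ ∈ B) := ⟨_, rfl⟩
  have hmemB : ∀ χ, χ ∈ Bf ↔ χ ∈ B := by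
    intro χ
    rw [hBdef]
    simp
  have hcardB : Nat.card B = Bf.card := by rw [card_block_eq_card_filter, hBdef]
  -- the norm relation
  have hnorm : ∑ χ ∈ Bf, a χ ^ 2 = (p : ℤ) := by
    have h1 := sum_block_fpart_normSq P hP hM y₀.2 hy₀1 hB θ hθ hind
    rw [← hBdef] at h1
    have h2 : ((∑ χ ∈ Bf, a χ ^ 2 : ℤ) : ℂ) = ((p : ℤ) : ℂ) := by
      push_cast
      rw [← h1]
      apply Finset.sum_congr rfl
      intro χ _
      rw [ha χ, map_intCast]
      ring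
    exact_mod_cast h2
  have haB0 : ∀ χ ∈ Bf, a χ ≠ 0 := by
    intro χ hχ h0
    have h1 := ha χ
    rw [h0] at h1
    apply fpart_not_memLocalIdeal P hP hM hind hθb hθ ((hmemB χ).mp hχ) y₀ hy₀ T hTN hT
    rw [h1]
    simpa using memLocalIdeal_zero (M := M) hMp.ne_top
  have hge1 : ∀ χ ∈ Bf, 1 ≤ a χ ^ 2 := by
    intro χ hχ
    rw [one_le_sq_iff_one_le_abs]
    exact Int.one_le_abs (haB0 χ hχ)
  have hSge : (Bf.card : ℤ) ≤ ∑ χ ∈ Bf, a χ ^ 2 := by
    have h1 : ∑ χ ∈ Bf, (1 : ℤ) ≤ ∑ χ ∈ Bf, a χ ^ 2 := Finset.sum_le_sum hge1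
    rw [Finset.sum_const, nsmul_eq_mul, mul_one] at h1
    exact h1
  have hBle : Bf.card ≤ p := by
    have h1 : (Bf.card : ℤ) ≤ (p : ℤ) := by linarith
    exact_mod_cast h1
  rw [hcardB] at hk
  have hBcard' : Bf.card = p := by omega
  have haB1 : ∀ χ ∈ Bf, a χ ^ 2 = 1 := by
    have h1 : ∑ χ ∈ Bf, (a χ ^ 2 - 1) = 0 := by
      rw [Finset.sum_sub_distrib, hnorm, Finset.sum_const, nsmul_eq_mul, mul_one, hBcard']
      ring
    intro χ hχ
    have h2 := (Finset.sum_eq_zero_iff_of_nonneg (fun χ hχ => by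
      have := hge1 χ hχ
      linarith)).mp h1 χ hχ
    linarith
  have haBpm : ∀ χ ∈ Bf, a χ = 1 ∨ a χ = -1 := by
    intro χ hχ
    have h1 := haB1 χ hχ
    have h3 : a χ ≤ 1 ∧ -1 ≤ a χ := by constructor <;> nlinarith
    obtain ⟨h4, h5⟩ := h3
    have h6 : a χ = -1 ∨ a χ = 0 ∨ a χ = 1 := by omega
    rcases h6 with h6 | h6 | h6
    · exact Or.inr h6
    · rw [h6] at h1
      norm_num at h1
    · exact Or.inl h6
  intro χ hχ
  refine ⟨a χ, haBpm χ ((hmemB χ).mpr hχ), ?_⟩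
  intro y hy hy1
  rw [hconj χ y hy hy1, ha χ]

end Top

section BLK

variable {G : Type u} [Group G] [Fintype G] {p : ℕ} [hp : Fact p.Prime] (P : Sylow p G)
  (hP : Nat.card P = p)
variable [Fintype ↥(Subgroup.centralizer ((P : Subgroup G) : Set G))] [Fintype ↥(P : Subgroup G)]
  [IsMulCommutative ↥(P : Subgroup G)] [Fintype (↥(P : Subgroup G) →* ℂˣ)]
  [Fintype ↥(Subgroup.normalizer ((P : Subgroup G) : Set G))]
variable {M : Ideal AlgInt}

local notation "CP" => Subgroup.centralizer ((P : Subgroup G) : Set G)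
local notation "NP" => Subgroup.normalizer ((P : Subgroup G) : Set G)

include hP in
/-- **Module [BH-BLK]**: the explicit normalized data of an induced block. -/
theorem blk_data (hM : IsPModular p M) (θ : IrrCharacter ↥CP)
    (hθ : ∀ x : ↥CP, (x : G) ∈ (P : Subgroup G) → (θ : ↥CP → ℂ) x = (θ : ↥CP → ℂ) 1)
    {B : Set (IrrCharacter G)} (hind : IsInducedBlock M CP (blockOf M (θ : ↥CP → ℂ)) B) :
    (∀ χ ∈ B, ∃ a : ℤ, (a = 1 ∨ a = -1) ∧ ∀ y : G, y ∈ (P : Subgroup G) → y ≠ 1 →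
        fpart p CP (χ : G → ℂ) (θ : ↥CP → ℂ) y = (a : ℂ)) ∨
    (2 * (CP).relIndex (thetaStab P θ) ≤ p - 1 ∧
      ∃ (δ : ℤ) (Y : Finset (IrrCharacter G))
        (ζ : (↥(P : Subgroup G) →* ℂˣ) → IrrCharacter G),
        (δ = 1 ∨ δ = -1) ∧ (∀ η ∈ Y, η ∈ B) ∧
        (∀ χ ∈ B, χ ∉ Y → ∃ a : ℤ, (a = 1 ∨ a = -1) ∧
          ∀ y : G, y ∈ (P : Subgroup G) → y ≠ 1 →
            fpart p CP (χ : G → ℂ) (θ : ↥CP → ℂ) y = (a : ℂ)) ∧
        (∀ ψ : ↥(P : Subgroup G) →* ℂˣ, ψ ≠ 1 → ζ ψ ∈ Y) ∧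
        (∀ η ∈ Y, ∃ ψ : ↥(P : Subgroup G) →* ℂˣ, ψ ≠ 1 ∧ ζ ψ = η) ∧
        (∀ ψ ψ' : ↥(P : Subgroup G) →* ℂˣ, ψ ≠ 1 → ψ' ≠ 1 →
          (ζ ψ = ζ ψ' ↔ ∃ n : G, n ∈ thetaStab P θ ∧
            ∀ w w' : ↥(P : Subgroup G), (w' : G) = n * (w : G) * n⁻¹ → ψ' w' = ψ w)) ∧
        (∀ ψ : ↥(P : Subgroup G) →* ℂˣ, ψ ≠ 1 → ∀ y : ↥(P : Subgroup G), y ≠ 1 →
          fpart p CP (ζ ψ : G → ℂ) (θ : ↥CP → ℂ) (y : G) = (δ : ℂ) *
            ∑ᶠ ψ' ∈ {ψ' : ↥(P : Subgroup G) →* ℂˣ | ∃ n : G, n ∈ thetaStab P θ ∧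
              ∀ w w' : ↥(P : Subgroup G), (w' : G) = n * (w : G) * n⁻¹ → ψ' w' = ψ w},
              ((ψ' y : ℂˣ) : ℂ)) ∧
        (∀ η ∈ Y, ∀ η' ∈ Y, (η : G → ℂ) 1 = (η' : G → ℂ) 1)) := by
  classical
  have hpp : p.Prime := hp.out
  have hp2 := hpp.two_le
  have hMp : M.IsPrime := isPModular_isPrime hM
  have hB : IsPBlock M B := hind.2.1
  have hθK := inKer_of_apply_eq P hP θ hθ
  have hθb : θ ∈ blockOf M (θ : ↥CP → ℂ) := self_mem_blockOf hMp.ne_top θ
  obtain ⟨hTN, hT'⟩ := stab_iff_of_literal P θ (thetaStab P θ) (mem_thetaStab P θ)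
  obtain ⟨hdvd, hcard⟩ := card_block_eq P hM hP θ hθ hind
  obtain ⟨e, he⟩ : ∃ e : ℕ, (CP).relIndex (thetaStab P θ) = e := ⟨_, rfl⟩
  rw [he] at hdvd hcard ⊢
  have hpos : 0 < p - 1 := by omega
  have he0 : 0 < e := Nat.pos_of_dvd_of_pos hdvd hpos
  have hele : e ≤ p - 1 := Nat.le_of_dvd hpos hdvd
  by_cases hep : e = p - 1
  · -- the case `e = p - 1`
    left
    apply blk_top_h78 P hP hM hB θ hθK hind (thetaStab P θ) hTN hT' (by rw [he, hep])
    rw [hcard, hep, Nat.div_self hpos]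
    omega
  · right
    obtain ⟨q, hq⟩ := hdvd
    have hq2 : 2 ≤ q := by
      rcases Nat.lt_or_ge q 2 with h | h
      · interval_cases q
        · omega
        · omega
      · exact h
    have h2e : 2 * e ≤ p - 1 := by
      rw [hq]
      calc 2 * e = e * 2 := by ring
        _ ≤ e * q := Nat.mul_le_mul_left e hq2
    refine ⟨h2e, ?_⟩
    have hlt : e + 1 < p := by omega
    obtain ⟨δ₀, d, ζ₀, a, Y, hδ, hYB, hζY, hYsurj, hζR, hYcard, haout, hX, hval, hnorm,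
      hreg⟩ := main_aux_gen_iff_h78 P hP hM hB θ hθK hind (thetaStab P θ) hTN hT' e he hlt
    have hYdiv : Y.card = (p - 1) / e := (Nat.div_eq_of_eq_mul_left he0 hYcard.symm).symm
    have hY2 : 2 ≤ Y.card := by
      by_contra hc
      push Not at hc
      have h1 : Y.card * e ≤ 1 * e := Nat.mul_le_mul_right e (by omega)
      omega
    obtain ⟨y₀, hy₀⟩ := exists_ne_one_of_card P hP
    -- the nonexceptional characters
    obtain ⟨X, hXdef⟩ : ∃ X : Finset (IrrCharacter G),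
        X = Finset.univ.filter (fun χ => χ ∈ B ∧ χ ∉ Y) := ⟨_, rfl⟩
    have hmemX : ∀ χ, χ ∈ X ↔ χ ∈ B ∧ χ ∉ Y := by
      intro χ
      rw [hXdef]
      simp
    have hdisj : Disjoint X Y := by
      rw [Finset.disjoint_left]
      intro χ hχ
      exact ((hmemX χ).mp hχ).2
    have hunion : Finset.univ.filter (fun χ : IrrCharacter G => χ ∈ B) = X ∪ Y := by
      ext χ
      simp only [Finset.mem_filter, Finset.mem_univ, true_and, Finset.mem_union, hmemX]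
      constructor
      · intro h
        by_cases hY : χ ∈ Y
        · exact Or.inr hY
        · exact Or.inl ⟨h, hY⟩
      · rintro (h | h)
        · exact h.1
        · exact hYB χ h
    have hcardB : Nat.card B = X.card + Y.card := by
      rw [card_block_eq_card_filter, hunion, Finset.card_union_of_disjoint hdisj]
    have hXcard : X.card = e := by omega
    have haX0 : ∀ χ ∈ X, a χ ≠ 0 := by
      intro χ hχ h0
      have h1 := (hmemX χ).mp hχ
      have h2 := hX χ h1.1 h1.2 y₀ hy₀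
      rw [h0] at h2
      apply fpart_not_memLocalIdeal P hP hM hind hθb hθK h1.1 y₀ hy₀ (thetaStab P θ) hTN hT'
      rw [h2]
      simpa using memLocalIdeal_zero (M := M) hMp.ne_top
    have hsplit : ∀ {N : Type} [AddCommMonoid N] (f : IrrCharacter G → N),
        (∀ χ, χ ∉ B → f χ = 0) →
        ∑ χ ∈ Finset.univ.filter (· ∉ Y), f χ = ∑ χ ∈ X, f χ := by
      intro N _ f hf
      rw [hXdef]
      symm
      apply Finset.sum_subset
      · intro χ hχ
        simp only [Finset.mem_filter, Finset.mem_univ, true_and] at hχ ⊢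
        exact hχ.2
      · intro χ hχ hχ'
        simp only [Finset.mem_filter, Finset.mem_univ, true_and] at hχ hχ'
        apply hf
        intro hB
        exact hχ' ⟨hB, hχ⟩
    have hSX : ∑ χ ∈ Finset.univ.filter (· ∉ Y), a χ ^ 2 = ∑ χ ∈ X, a χ ^ 2 :=
      hsplit (fun χ => a χ ^ 2) (fun χ hχ => by
        show a χ ^ 2 = 0
        rw [haout χ hχ]
        norm_num)
    rw [hSX] at hnorm
    have hge1 : ∀ χ ∈ X, 1 ≤ a χ ^ 2 := by
      intro χ hχ
      rw [one_le_sq_iff_one_le_abs]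
      exact Int.one_le_abs (haX0 χ hχ)
    have hSge : (X.card : ℤ) ≤ ∑ χ ∈ X, a χ ^ 2 := by
      have h1 : ∑ χ ∈ X, (1 : ℤ) ≤ ∑ χ ∈ X, a χ ^ 2 := Finset.sum_le_sum hge1
      rw [Finset.sum_const, nsmul_eq_mul, mul_one] at h1
      exact h1
    have hSe : (e : ℤ) ≤ ∑ χ ∈ X, a χ ^ 2 := by
      rw [hXcard] at hSge
      exact hSge
    obtain ⟨hS, hd⟩ := norm_cases_general hδ hY2 hSe hnorm
    have haX1 : ∀ χ ∈ X, a χ ^ 2 = 1 := by
      have h1 : ∑ χ ∈ X, (a χ ^ 2 - 1) = 0 := by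
        rw [Finset.sum_sub_distrib, hS, Finset.sum_const, nsmul_eq_mul, mul_one, hXcard]
        ring
      intro χ hχ
      have h2 := (Finset.sum_eq_zero_iff_of_nonneg (fun χ hχ => by
        have := hge1 χ hχ
        linarith)).mp h1 χ hχ
      linarith
    have haXpm : ∀ χ ∈ X, a χ = 1 ∨ a χ = -1 := by
      intro χ hχ
      have h1 := haX1 χ hχ
      have h3 : a χ ≤ 1 ∧ -1 ≤ a χ := by constructor <;> nlinarith
      obtain ⟨h4, h5⟩ := h3
      have h6 : a χ = -1 ∨ a χ = 0 ∨ a χ = 1 := by omega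
      rcases h6 with h6 | h6 | h6
      · exact Or.inr h6
      · rw [h6] at h1
        norm_num at h1
      · exact Or.inl h6
    have hnonexc : ∀ χ ∈ B, χ ∉ Y → ∃ a : ℤ, (a = 1 ∨ a = -1) ∧
        ∀ y : G, y ∈ (P : Subgroup G) → y ≠ 1 →
          fpart p CP (χ : G → ℂ) (θ : ↥CP → ℂ) y = (a : ℂ) := by
      intro χ hχ hχY
      refine ⟨a χ, haXpm χ ((hmemX χ).mpr ⟨hχ, hχY⟩), ?_⟩
      intro y hy hy1
      exact hX χ hχ hχY ⟨y, hy⟩ (fun h => hy1 (congrArg Subtype.val h))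
    have hone : ¬ p ∣ orderOf (1 : G) := by
      rw [orderOf_one]
      exact hpp.one_lt.ne' ∘ Nat.dvd_one.mp
    have hdegY : ∀ η ∈ Y, ∀ η' ∈ Y, (η : G → ℂ) 1 = (η' : G → ℂ) 1 :=
      (hreg 1 hone).1
    rcases hd with hd0 | ⟨hdδ, hYtwo⟩
    · -- `d = 0`
      refine ⟨δ₀, Y, ζ₀, hδ, hYB, hnonexc, hζY, hYsurj, hζR, ?_, hdegY⟩
      intro ψ hψ y hy
      rw [hval ψ hψ y hy, hd0]
      push_cast
      ring
    · -- `d = δ₀`, `|Y| = 2`: swap the two exceptional characters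
      obtain ⟨η₁, η₂, hη12, hYeq⟩ := Finset.card_eq_two.mp hYtwo
      have hη₁ : η₁ ∈ Y := by rw [hYeq]; simp
      have hη₂ : η₂ ∈ Y := by rw [hYeq]; simp
      have hYmem : ∀ η ∈ Y, η = η₁ ∨ η = η₂ := by
        intro η hη
        rw [hYeq] at hη
        simpa using hη
      obtain ⟨ψ₁, hψ₁, hζψ₁⟩ := hYsurj η₁ hη₁
      obtain ⟨ψ₂, hψ₂, hζψ₂⟩ := hYsurj η₂ hη₂
      obtain ⟨ζ, hζdef⟩ : ∃ ζ : (↥(P : Subgroup G) →* ℂˣ) → IrrCharacter G,
          ζ = fun ψ => if ζ₀ ψ = η₁ then η₂ else η₁ := ⟨_, rfl⟩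
      have hζ1 : ∀ ψ, ζ₀ ψ = η₁ → ζ ψ = η₂ := by
        intro ψ h
        rw [hζdef]
        simp only
        rw [if_pos h]
      have hζ2 : ∀ ψ, ζ₀ ψ ≠ η₁ → ζ ψ = η₁ := by
        intro ψ h
        rw [hζdef]
        simp only
        rw [if_neg h]
      have hζ₀cases : ∀ ψ : ↥(P : Subgroup G) →* ℂˣ, ψ ≠ 1 → ζ₀ ψ = η₁ ∨ ζ₀ ψ = η₂ :=
        fun ψ hψ => hYmem _ (hζY ψ hψ)
      -- the orbit sums
      obtain ⟨O, hOdef⟩ : ∃ O : (↥(P : Subgroup G) →* ℂˣ) → Finset (↥(P : Subgroup G) →* ℂˣ),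
          O = fun ψ => Finset.univ.filter (· ∈ {ψ' : ↥(P : Subgroup G) →* ℂˣ |
            ∃ n : G, n ∈ thetaStab P θ ∧
              ∀ w w' : ↥(P : Subgroup G), (w' : G) = n * (w : G) * n⁻¹ → ψ' w' = ψ w}) :=
        ⟨_, rfl⟩
      have hOmem : ∀ ψ ψ' : ↥(P : Subgroup G) →* ℂˣ, ψ' ∈ O ψ ↔ ∃ n : G, n ∈ thetaStab P θ ∧
          ∀ w w' : ↥(P : Subgroup G), (w' : G) = n * (w : G) * n⁻¹ → ψ' w' = ψ w := by
        intro ψ ψ'
        rw [hOdef]
        simp only [Finset.mem_filter, Finset.mem_univ, true_and, Set.mem_ofPred_eq]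
      have hfin : ∀ (ψ : ↥(P : Subgroup G) →* ℂˣ) (y : ↥(P : Subgroup G)),
          ∑ᶠ ψ' ∈ {ψ' : ↥(P : Subgroup G) →* ℂˣ | ∃ n : G, n ∈ thetaStab P θ ∧
              ∀ w w' : ↥(P : Subgroup G), (w' : G) = n * (w : G) * n⁻¹ → ψ' w' = ψ w},
              ((ψ' y : ℂˣ) : ℂ) = ∑ ψ' ∈ O ψ, ((ψ' y : ℂˣ) : ℂ) := by
        intro ψ y
        rw [finsum_mem_eq_sum_filter_of_fintype, hOdef]
      -- `1` is in no orbit of a nontrivial character
      have hone_notin : ∀ ψ : ↥(P : Subgroup G) →* ℂˣ, ψ ≠ 1 →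
          (1 : ↥(P : Subgroup G) →* ℂˣ) ∉ O ψ := by
        intro ψ hψ h1
        obtain ⟨n, hn, h⟩ := (hOmem ψ 1).mp h1
        apply hψ
        ext w
        have hnN : n ∈ NP := hTN hn
        have hw' : n * (w : G) * n⁻¹ ∈ (P : Subgroup G) :=
          (Subgroup.mem_normalizer_iff.mp hnN (w : G)).mp w.2
        have := h w ⟨n * (w : G) * n⁻¹, hw'⟩ rfl
        rw [MonoidHom.one_apply] at this
        rw [← this, MonoidHom.one_apply]
      -- the key relation between the two orbit sums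
      have hkey : ∀ ψ ψ' : ↥(P : Subgroup G) →* ℂˣ, ψ ≠ 1 → ψ' ≠ 1 → ζ₀ ψ ≠ ζ₀ ψ' →
          ∀ y : ↥(P : Subgroup G), y ≠ 1 →
          (1 : ℂ) + ∑ φ ∈ O ψ', ((φ y : ℂˣ) : ℂ) = - ∑ φ ∈ O ψ, ((φ y : ℂˣ) : ℂ) := by
        intro ψ ψ' hψ hψ' hne y hy
        have h0 := dual_sum_apply (A := ↥(P : Subgroup G)) y
        rw [if_neg hy] at h0
        have hcover : (Finset.univ : Finset (↥(P : Subgroup G) →* ℂˣ)) =
            insert 1 (O ψ ∪ O ψ') := by
          ext φ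
          simp only [Finset.mem_univ, Finset.mem_insert, Finset.mem_union, true_iff]
          by_cases hφ : φ = 1
          · exact Or.inl hφ
          · right
            rcases hζ₀cases φ hφ with h1 | h1 <;> rcases hζ₀cases ψ hψ with h2 | h2 <;>
              rcases hζ₀cases ψ' hψ' with h3 | h3
            · exact absurd (h2.trans h3.symm) hne
            · exact Or.inl ((hOmem ψ φ).mpr ((hζR ψ φ hψ hφ).mp (h2.trans h1.symm)))
            · exact Or.inr ((hOmem ψ' φ).mpr ((hζR ψ' φ hψ' hφ).mp (h3.trans h1.symm)))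
            · exact absurd (h2.trans h3.symm) hne
            · exact absurd (h2.trans h3.symm) hne
            · exact Or.inr ((hOmem ψ' φ).mpr ((hζR ψ' φ hψ' hφ).mp (h3.trans h1.symm)))
            · exact Or.inl ((hOmem ψ φ).mpr ((hζR ψ φ hψ hφ).mp (h2.trans h1.symm)))
            · exact absurd (h2.trans h3.symm) hne
        have hdisjO : Disjoint (O ψ) (O ψ') := by
          rw [Finset.disjoint_left]
          intro φ h1 h2
          have hφ : φ ≠ 1 := fun h => hone_notin ψ hψ (h ▸ h1)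
          have e1 := (hζR ψ φ hψ hφ).mpr ((hOmem ψ φ).mp h1)
          have e2 := (hζR ψ' φ hψ' hφ).mpr ((hOmem ψ' φ).mp h2)
          exact hne (e1.trans e2.symm)
        have hnotin : (1 : ↥(P : Subgroup G) →* ℂˣ) ∉ O ψ ∪ O ψ' := by
          rw [Finset.mem_union]
          rintro (h | h)
          · exact hone_notin ψ hψ h
          · exact hone_notin ψ' hψ' h
        rw [hcover, Finset.sum_insert hnotin, Finset.sum_union hdisjO, MonoidHom.one_apply,
          Units.val_one] at h0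
        linear_combination h0
      have hδ' : -δ₀ = 1 ∨ -δ₀ = -1 := by
        rcases hδ with h | h <;> rw [h]
        · exact Or.inr rfl
        · exact Or.inl (by norm_num)
      refine ⟨-δ₀, Y, ζ, hδ', hYB, hnonexc, ?_, ?_, ?_, ?_, hdegY⟩
      · intro ψ hψ
        by_cases h : ζ₀ ψ = η₁
        · rw [hζ1 ψ h]; exact hη₂
        · rw [hζ2 ψ h]; exact hη₁
      · intro η hη
        rcases hYmem η hη with h | h
        · refine ⟨ψ₂, hψ₂, ?_⟩
          rw [h, hζ2 ψ₂ (by rw [hζψ₂]; exact fun h' => hη12 h'.symm)]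
        · refine ⟨ψ₁, hψ₁, ?_⟩
          rw [h, hζ1 ψ₁ hζψ₁]
      · intro ψ ψ' hψ hψ'
        rw [← hζR ψ ψ' hψ hψ']
        rcases hζ₀cases ψ hψ with h1 | h1 <;> rcases hζ₀cases ψ' hψ' with h2 | h2
        · rw [hζ1 ψ h1, hζ1 ψ' h2, h1, h2]
          exact ⟨fun _ => rfl, fun _ => rfl⟩
        · have h2' : ζ₀ ψ' ≠ η₁ := by rw [h2]; exact fun h => hη12 h.symm
          rw [hζ1 ψ h1, hζ2 ψ' h2', h1, h2]
          constructor
          · intro h; exact absurd h.symm hη12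
          · intro h; exact absurd h hη12
        · have h1' : ζ₀ ψ ≠ η₁ := by rw [h1]; exact fun h => hη12 h.symm
          rw [hζ2 ψ h1', hζ1 ψ' h2, h1, h2]
          constructor
          · intro h; exact absurd h hη12
          · intro h; exact absurd h.symm hη12
        · have h1' : ζ₀ ψ ≠ η₁ := by rw [h1]; exact fun h => hη12 h.symm
          have h2' : ζ₀ ψ' ≠ η₁ := by rw [h2]; exact fun h => hη12 h.symm
          rw [hζ2 ψ h1', hζ2 ψ' h2', h1, h2]
          exact ⟨fun _ => rfl, fun _ => rfl⟩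
      · intro ψ hψ y hy
        rw [hfin ψ y]
        rcases hζ₀cases ψ hψ with h1 | h1
        · -- `ζ ψ = η₂ = ζ₀ ψ₂`
          rw [hζ1 ψ h1, ← hζψ₂, hval ψ₂ hψ₂ y hy, hfin ψ₂ y, hdδ]
          have hne : ζ₀ ψ ≠ ζ₀ ψ₂ := by rw [h1, hζψ₂]; exact hη12
          have hk := hkey ψ ψ₂ hψ hψ₂ hne y hy
          push_cast
          linear_combination (δ₀ : ℂ) * hk
        · have h1' : ζ₀ ψ ≠ η₁ := by rw [h1]; exact fun h => hη12 h.symm
          rw [hζ2 ψ h1', ← hζψ₁, hval ψ₁ hψ₁ y hy, hfin ψ₁ y, hdδ]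
          have hne : ζ₀ ψ ≠ ζ₀ ψ₁ := by rw [h1, hζψ₁]; exact fun h => hη12 h.symm
          have hk := hkey ψ ψ₁ hψ hψ₁ hne y hy
          push_cast
          linear_combination (δ₀ : ℂ) * hk

end BLK

end Cfsg.Agent.Lib.Helper78.BrauerHalf
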