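import Mathlib
import Cfsg.Agent.Lib.Helper75.BrauerHalfC

set_option autoImplicit false
set_option linter.unusedSectionVars false

/-!
# Brauer's `(p - 1) / 2` bound: the functional on `F * conj F` (helper78, module BH-GAMMA)

`Lf_mul_conj`: if the `θ'`-parts of a class function `F` vanish off one `N_G(P)`-orbit of `Theta P`
and are a common function `E` of `y ∈ P` on that orbit, then `Lf (F * conj F)` is `w` times the
expression in `E`, with `w` a natural number that is at least `|N : C|` times the size of the orbit;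
and `w ≤ 1` forces `θ` linear.
-/

namespace Cfsg.Agent.Lib.Helper78.BrauerHalfGamma

open Cfsg Cfsg.Agent.Lib.Helper78 Cfsg.Agent.Lib.Helper16 Cfsg.Agent.Lib.Helper3.DefOneGen
  Cfsg.Agent.Lib.Helper75.McKayOne Cfsg.Agent.Lib.Helper75.BrauerHalf
open scoped ComplexConjugate IsMulCommutative

universe u

section Abstract

variable {K A : Type*} [Group K] [Fintype K] [CommGroup A] [Fintype A] {p : ℕ}
  {π : K →* A} {ι : A →* K}

open scoped Classical in
/-- Summation of a function with `A` in its kernel. -/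
theorem sum_eq_card_mul_regular (h : IsCentralSplit p π ι) {f : K → ℂ} (hf : InKer ι f) :
    ∑ c : K, f c = (Fintype.card A : ℂ) * ∑ s : K, if p ∣ orderOf s then 0 else f s := by
  rw [h.sum_eq]
  have h1 : ∀ a : A, (∑ s : K, if p ∣ orderOf s then (0 : ℂ) else f (ι a * s)) =
      ∑ s : K, if p ∣ orderOf s then 0 else f s := by
    intro a
    apply Finset.sum_congr rfl
    intro s _
    rw [hf a s]
  rw [Finset.sum_congr rfl (fun a _ => h1 a), Finset.sum_const, Finset.card_univ, nsmul_eq_mul]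

open scoped Classical in
/-- The inner product of a function with `A` in its kernel against a twist. -/
theorem classInner_twist_of_inKer (h : IsCentralSplit p π ι) {f : K → ℂ} (hf : InKer ι f)
    {ϑ : IrrCharacter K} (hϑ : InKer ι (ϑ : K → ℂ)) (ψ : A →* ℂˣ) :
    classInner f (twist π ψ ϑ : K → ℂ) = if ψ = 1 then classInner f (ϑ : K → ℂ) else 0 := by
  by_cases hψ : ψ = 1
  · rw [if_pos hψ, hψ, twist_one]
  · rw [if_neg hψ]
    unfold classInner
    rw [h.sum_eq]
    have h1 : ∀ a : A, (∑ s : K, if p ∣ orderOf s then (0 : ℂ) else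
        f (ι a * s) * conj ((twist π ψ ϑ : K → ℂ) (ι a * s))) =
        conj ((ψ a : ℂˣ) : ℂ) *
          ∑ s : K, if p ∣ orderOf s then 0 else f s * conj ((ϑ : K → ℂ) s) := by
      intro a
      rw [Finset.mul_sum]
      apply Finset.sum_congr rfl
      intro s _
      split_ifs with hs
      · simp
      · rw [twist_apply_mul h ψ hϑ a hs, hf a s, map_mul]
        ring
    rw [Finset.sum_congr rfl (fun a _ => h1 a), ← Finset.sum_mul]
    have h2 := dual_sum_mul_conj (1 : A →* ℂˣ) ψ
    rw [if_neg (fun h' => hψ h'.symm)] at h2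
    have h3 : ∑ a : A, conj ((ψ a : ℂˣ) : ℂ) = 0 := by
      rw [← h2]
      apply Finset.sum_congr rfl
      intro a _
      simp
    rw [h3, zero_mul, mul_zero]

end Abstract

section Concrete

variable {G : Type u} [Group G] [Fintype G] {p : ℕ} [hp : Fact p.Prime] (P : Sylow p G)
  (hP : Nat.card P = p)
variable [Fintype ↥(Subgroup.centralizer ((P : Subgroup G) : Set G))] [Fintype ↥(P : Subgroup G)]
  [IsMulCommutative ↥(P : Subgroup G)] [Fintype (↥(P : Subgroup G) →* ℂˣ)]
  [Fintype ↥(Subgroup.normalizer ((P : Subgroup G) : Set G))]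

local notation "CP" => Subgroup.centralizer ((P : Subgroup G) : Set G)
local notation "NP" => Subgroup.normalizer ((P : Subgroup G) : Set G)

attribute [local instance] nAct

include hP in
/-- The value at `1` of a class function of `C_G(P)` with `P` in its kernel. -/
theorem apply_one_eq_sum_Theta {f : ↥CP → ℂ} (hf : IsClassFunction ↥CP f)
    (hfK : InKer (Subgroup.inclusion (le_centralizer_of_card_prime hP)) f) :
    f 1 = ∑ θ'' ∈ Theta P, classInner f (θ'' : ↥CP → ℂ) * (θ'' : ↥CP → ℂ) 1 := by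
  classical
  have hsp := ppart_spec P hP
  have h1 := congrFun (classFunction_eq_sum_irr hf) 1
  simp only [Finset.sum_apply, Pi.smul_apply, smul_eq_mul] at h1
  rw [h1, sum_irr_eq_sum_twist P hP, ← Theta_eq_filter P hP]
  apply Finset.sum_congr rfl
  intro θ'' hθ''
  have hθK := (mem_Theta_iff_inKer P hP θ'').mp hθ''
  rw [Finset.sum_congr rfl (fun ψ _ => by
    rw [classInner_twist_of_inKer hsp hfK hθK ψ])]
  rw [Finset.sum_eq_single (1 : ↥(P : Subgroup G) →* ℂˣ)]
  · rw [if_pos rfl, twist_one]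
  · intro ψ _ hψ
    rw [if_neg hψ, zero_mul]
  · intro h
    exact absurd (Finset.mem_univ _) h

include hP in
open scoped Classical in
/-- The `p`-regular inner product against a member of `Theta P` is the inner product. -/
theorem regular_inner_eq_classInner {f : ↥CP → ℂ}
    (hfK : InKer (Subgroup.inclusion (le_centralizer_of_card_prime hP)) f)
    (θ'' : IrrCharacter ↥CP) (hθ'' : θ'' ∈ Theta P) :
    (p : ℂ) / (Fintype.card ↥CP : ℂ) *
      (∑ s : ↥CP, if p ∣ orderOf s then 0 else f s * conj ((θ'' : ↥CP → ℂ) s)) =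
      classInner f (θ'' : ↥CP → ℂ) := by
  have hsp := ppart_spec P hP
  have hθK := (mem_Theta_iff_inKer P hP θ'').mp hθ''
  have hg : InKer (Subgroup.inclusion (le_centralizer_of_card_prime hP))
      (fun c : ↥CP => f c * conj ((θ'' : ↥CP → ℂ) c)) := by
    intro a k
    show f _ * conj ((θ'' : ↥CP → ℂ) _) = _
    rw [hfK a k, hθK a k]
  unfold classInner
  rw [sum_eq_card_mul_regular hsp hg, card_P_eq P hP, Nat.card_eq_fintype_card]
  ring

/-- Gram norm of a sum of distinct irreducible characters. -/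
theorem classInner_sum_irr_self {K : Type*} [Group K] [Fintype K] (S : Finset (IrrCharacter K)) :
    classInner (∑ θ' ∈ S, (θ' : K → ℂ)) (∑ θ' ∈ S, (θ' : K → ℂ)) = (S.card : ℂ) := by
  classical
  have hr : ∀ (T : Finset (IrrCharacter K)) (g : K → ℂ),
      classInner g (∑ θ' ∈ T, (θ' : K → ℂ)) = ∑ θ' ∈ T, classInner g (θ' : K → ℂ) := by
    intro T g
    induction T using Finset.induction_on with
    | empty => simp [classInner]
    | insert a T ha ih => rw [Finset.sum_insert ha, Finset.sum_insert ha, classInner_add_right, ih]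
  rw [classInner_sum_left]
  have h1 : ∀ θ' ∈ S, classInner (θ' : K → ℂ) (∑ θ'' ∈ S, (θ'' : K → ℂ)) = 1 := by
    intro θ' hθ'
    rw [hr, Finset.sum_eq_single θ']
    · exact classInner_irr_self θ'.2
    · intro θ'' _ hne
      exact classInner_irr_ne θ'.2 θ''.2 (fun h => hne (Subtype.ext h.symm))
    · intro h
      exact absurd hθ' h
  rw [Finset.sum_congr rfl h1, Finset.sum_const, nsmul_eq_mul, mul_one]

/-- The trivial character of `C_G(P)`. -/
noncomputable def trivTheta : IrrCharacter ↥CP := ⟨fun _ => (1 : ℂ), isIrrCharacter_one⟩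

theorem trivTheta_mem : trivTheta P ∈ Theta P := by
  rw [mem_Theta]
  intro x _
  rfl

theorem thetaStab_trivTheta : thetaStab P (trivTheta P) = NP := by
  ext g
  rw [mem_thetaStab]
  constructor
  · exact fun h => h.1
  · intro h
    exact ⟨h, fun _ _ _ => rfl⟩

theorem relIndex_thetaStab_pos (θ'' : IrrCharacter ↥CP) :
    0 < (CP).relIndex (thetaStab P θ'') := by
  apply Nat.pos_of_ne_zero
  unfold Subgroup.relIndex
  exact Subgroup.index_ne_zero_of_finite

include hP in
open scoped Classical in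
/-- The values of `F` on the `p`-sections of `P` under the one-orbit hypothesis. -/
theorem apply_mul_eq_of_orbit (θ : IrrCharacter ↥CP) {F : G → ℂ}
    (hF : IsClassFunction G F) (E : ↥(P : Subgroup G) → ℂ)
    (hfp : ∀ θ' ∈ Theta P, ∀ y : ↥(P : Subgroup G),
      fpart p CP F (θ' : ↥CP → ℂ) (y : G) =
        if θ' ∈ MulAction.orbit ↥NP θ then E y else 0)
    (y : ↥(P : Subgroup G)) (s : ↥CP) (hs : ¬ p ∣ orderOf s) :
    F ((y : G) * (s : G)) = E y *
      (∑ θ' ∈ (Theta P).filter (fun θ' => θ' ∈ MulAction.orbit ↥NP θ), (θ' : ↥CP → ℂ)) s := by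
  rw [apply_eq_sum_fpart P hP hF y s hs, ← Theta_eq_filter P hP, Finset.sum_apply,
    Finset.mul_sum, Finset.sum_filter]
  apply Finset.sum_congr rfl
  intro θ' hθ'
  rw [hfp θ' hθ' y]
  split_ifs
  · rfl
  · rw [zero_mul]

include hP in
open scoped Classical in
/-- The `θ''`-part of `F * conj F` when `F (y s) = E y * ϑ s` on the `p`-sections. -/
theorem fpart_mul_conj_of_apply {F : G → ℂ} (E : ↥(P : Subgroup G) → ℂ) {ϑ : ↥CP → ℂ}
    (hϑK : InKer (Subgroup.inclusion (le_centralizer_of_card_prime hP)) ϑ)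
    (hFy : ∀ (y : ↥(P : Subgroup G)) (s : ↥CP), ¬ p ∣ orderOf s →
      F ((y : G) * (s : G)) = E y * ϑ s)
    (θ'' : IrrCharacter ↥CP) (hθ'' : θ'' ∈ Theta P) (y : ↥(P : Subgroup G)) :
    fpart p CP (fun g => F g * conj (F g)) (θ'' : ↥CP → ℂ) (y : G) =
      E y * conj (E y) * classInner (fun c : ↥CP => ϑ c * conj (ϑ c)) (θ'' : ↥CP → ℂ) := by
  have hfK : InKer (Subgroup.inclusion (le_centralizer_of_card_prime hP))
      (fun c : ↥CP => ϑ c * conj (ϑ c)) := by
    intro a k
    show ϑ _ * conj (ϑ _) = _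
    rw [hϑK a k]
  rw [← regular_inner_eq_classInner P hP hfK θ'' hθ'']
  unfold fpart
  have h : (∑ s : ↥CP, if p ∣ orderOf s then 0 else
      (fun g => F g * conj (F g)) ((y : G) * (s : G)) * conj ((θ'' : ↥CP → ℂ) s)) =
      E y * conj (E y) * ∑ s : ↥CP, if p ∣ orderOf s then 0 else
        ϑ s * conj (ϑ s) * conj ((θ'' : ↥CP → ℂ) s) := by
    rw [Finset.mul_sum]
    apply Finset.sum_congr rfl
    intro s _
    split_ifs with hs
    · rw [mul_zero]
    · show F _ * conj (F _) * _ = _
      rw [hFy y s hs, map_mul]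
      ring
  rw [h]
  ring

include hP in
open scoped Classical in
/-- **[BH-GAMMA]** the functional on `F * conj F` under the one-orbit hypothesis. -/
theorem Lf_mul_conj (θ : IrrCharacter ↥CP) (hθ : θ ∈ Theta P) {F : G → ℂ}
    (hF : IsClassFunction G F) (E : ↥(P : Subgroup G) → ℂ)
    (hfp : ∀ θ' ∈ Theta P, ∀ y : ↥(P : Subgroup G),
      fpart p CP F (θ' : ↥CP → ℂ) (y : G) =
        if θ' ∈ MulAction.orbit ↥NP θ then E y else 0) :
    ∃ w : ℕ,
      (CP).relIndex NP * ((Theta P).filter (fun θ' => θ' ∈ MulAction.orbit ↥NP θ)).card ≤ w ∧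
      (w ≤ 1 → (θ : ↥CP → ℂ) 1 = 1) ∧
      Lf P (fun g => F g * conj (F g)) = (w : ℂ) *
        (((p : ℂ) - 1) * (E 1 * conj (E 1)) - ((p : ℂ) + 1) *
          ∑ y ∈ Finset.univ.filter (fun y : ↥(P : Subgroup G) => y ≠ 1), E y * conj (E y)) := by
  obtain ⟨Orb, hOrb⟩ : ∃ Orb : Finset (IrrCharacter ↥CP),
      Orb = (Theta P).filter (fun θ' => θ' ∈ MulAction.orbit ↥NP θ) := ⟨_, rfl⟩
  obtain ⟨ϑ, hϑ⟩ : ∃ ϑ : ↥CP → ℂ, ϑ = ∑ θ' ∈ Orb, (θ' : ↥CP → ℂ) := ⟨_, rfl⟩
  have hOrbT : ∀ θ' ∈ Orb, θ' ∈ Theta P := by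
    intro θ' h
    rw [hOrb] at h
    exact (Finset.mem_filter.mp h).1
  have hθOrb : θ ∈ Orb := by
    rw [hOrb]
    exact Finset.mem_filter.mpr ⟨hθ, MulAction.mem_orbit_self θ⟩
  have hϑK : InKer (Subgroup.inclusion (le_centralizer_of_card_prime hP)) ϑ := by
    intro a k
    rw [hϑ, Finset.sum_apply, Finset.sum_apply]
    apply Finset.sum_congr rfl
    intro θ' hθ'
    exact (mem_Theta_iff_inKer P hP θ').mp (hOrbT θ' hθ') a k
  have hϑchar : IsCharacter ↥CP ϑ := by
    rw [hϑ]
    exact Cfsg.Agent.Lib.Helper80.isCharacter_sum _ _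
      (fun θ' _ => IsIrrCharacter.isCharacter θ'.2)
  have hfchar : IsCharacter ↥CP (fun c : ↥CP => ϑ c * conj (ϑ c)) :=
    Cfsg.Agent.Lib.Helper80.isCharacter_mul hϑchar
      (Cfsg.Agent.Lib.Helper80.isCharacter_conj hϑchar)
  have hfK : InKer (Subgroup.inclusion (le_centralizer_of_card_prime hP))
      (fun c : ↥CP => ϑ c * conj (ϑ c)) := by
    intro a k
    show ϑ _ * conj (ϑ _) = _
    rw [hϑK a k]
  have hFy : ∀ (y : ↥(P : Subgroup G)) (s : ↥CP), ¬ p ∣ orderOf s →
      F ((y : G) * (s : G)) = E y * ϑ s := by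
    intro y s hs
    have h := apply_mul_eq_of_orbit P hP θ hF E hfp y s hs
    rwa [← hOrb, ← hϑ] at h
  choose n hn using fun θ'' : IrrCharacter ↥CP =>
    IsCharacter.exists_nat_classInner hfchar θ''
  have hfpart : ∀ θ'' ∈ Theta P, ∀ y : ↥(P : Subgroup G),
      fpart p CP (fun g => F g * conj (F g)) (θ'' : ↥CP → ℂ) (y : G) =
        E y * conj (E y) * (n θ'' : ℂ) := by
    intro θ'' hθ'' y
    rw [fpart_mul_conj_of_apply P hP E hϑK hFy θ'' hθ'' y, hn θ'']
  -- the trivial character
  have hn1 : n (trivTheta P) = Orb.card := by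
    have h1 : classInner (fun c : ↥CP => ϑ c * conj (ϑ c)) (trivTheta P : ↥CP → ℂ) =
        classInner ϑ ϑ := by
      unfold classInner
      congr 1
      apply Finset.sum_congr rfl
      intro c _
      show ϑ c * conj (ϑ c) * conj (1 : ℂ) = _
      rw [map_one, mul_one]
    have h2 := hn (trivTheta P)
    rw [h1, hϑ, classInner_sum_irr_self] at h2
    exact_mod_cast h2.symm
  refine ⟨∑ θ'' ∈ Theta P, (CP).relIndex (thetaStab P θ'') * n θ'', ?_, ?_, ?_⟩
  · rw [← hOrb, ← hn1, ← thetaStab_trivTheta P]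
    exact Finset.single_le_sum (f := fun θ'' => (CP).relIndex (thetaStab P θ'') * n θ'')
      (fun _ _ => Nat.zero_le _) (trivTheta_mem P)
  · intro hw
    have he1 : 0 < (CP).relIndex (thetaStab P (trivTheta P)) := relIndex_thetaStab_pos P _
    have hle : (CP).relIndex (thetaStab P (trivTheta P)) * n (trivTheta P) ≤
        ∑ θ'' ∈ Theta P, (CP).relIndex (thetaStab P θ'') * n θ'' :=
      Finset.single_le_sum (f := fun θ'' => (CP).relIndex (thetaStab P θ'') * n θ'')
        (fun _ _ => Nat.zero_le _) (trivTheta_mem P)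
    have hcpos : 0 < Orb.card := Finset.card_pos.mpr ⟨θ, hθOrb⟩
    have hc1 : Orb.card = 1 := by
      have h1 : Orb.card ≤ (CP).relIndex (thetaStab P (trivTheta P)) * Orb.card :=
        Nat.le_mul_of_pos_left _ he1
      rw [hn1] at hle
      omega
    have hOrbθ : Orb = {θ} := by
      obtain ⟨a, ha⟩ := Finset.card_eq_one.mp hc1
      rw [ha] at hθOrb ⊢
      rw [Finset.mem_singleton.mp hθOrb]
    have hϑθ : ϑ = (θ : ↥CP → ℂ) := by
      rw [hϑ, hOrbθ, Finset.sum_singleton]
    have hn1' : n (trivTheta P) = 1 := by rw [hn1, hc1]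
    have hn0 : ∀ θ'' ∈ Theta P, θ'' ≠ trivTheta P → n θ'' = 0 := by
      intro θ'' hθ'' hne
      have h1 := Finset.add_sum_erase (Theta P)
        (fun θ'' => (CP).relIndex (thetaStab P θ'') * n θ'') (trivTheta_mem P)
      have h2 : (CP).relIndex (thetaStab P θ'') * n θ'' ≤
          ∑ x ∈ (Theta P).erase (trivTheta P), (CP).relIndex (thetaStab P x) * n x :=
        Finset.single_le_sum (f := fun θ'' => (CP).relIndex (thetaStab P θ'') * n θ'')
          (fun _ _ => Nat.zero_le _) (Finset.mem_erase.mpr ⟨hne, hθ''⟩)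
      have h3 : 1 ≤ (CP).relIndex (thetaStab P (trivTheta P)) * n (trivTheta P) := by
        rw [hn1', mul_one]
        exact he1
      have h4 : (CP).relIndex (thetaStab P θ'') * n θ'' = 0 := by
        omega
      rcases Nat.mul_eq_zero.mp h4 with h5 | h5
      · exact absurd h5 (relIndex_thetaStab_pos P θ'').ne'
      · exact h5
    have hone := apply_one_eq_sum_Theta P hP (IsCharacter.isClassFunction hfchar) hfK
    rw [Finset.sum_eq_single (trivTheta P)] at hone
    · rw [hn (trivTheta P), hn1'] at hone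
      have hd := IsCharacter.apply_one_eq_charDegree (IsIrrCharacter.isCharacter θ.2)
      have hdpos := IsIrrCharacter.charDegree_pos θ.2
      rw [hϑθ] at hone
      have h6 : (θ : ↥CP → ℂ) 1 * conj ((θ : ↥CP → ℂ) 1) = 1 := by
        rw [hone]
        show ((1 : ℕ) : ℂ) * (1 : ℂ) = 1
        simp
      rw [hd, Complex.conj_natCast] at h6
      have h7 : charDegree (θ : ↥CP → ℂ) * charDegree (θ : ↥CP → ℂ) = 1 := by
        exact_mod_cast h6
      have h8 : charDegree (θ : ↥CP → ℂ) = 1 := by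
        exact Nat.eq_one_of_mul_eq_one_right h7
      rw [hd, h8, Nat.cast_one]
    · intro θ'' hθ'' hne
      rw [hn θ'', hn0 θ'' hθ'' hne, Nat.cast_zero, zero_mul]
    · intro h
      exact absurd (trivTheta_mem P) h
  · unfold Lf gq
    push_cast
    rw [Finset.sum_mul]
    apply Finset.sum_congr rfl
    intro θ'' hθ''
    have h1 := hfpart θ'' hθ'' 1
    rw [OneMemClass.coe_one] at h1
    rw [h1, Finset.sum_congr rfl (fun y _ => hfpart θ'' hθ'' y), ← Finset.sum_mul]
    ring

end Concrete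

end Cfsg.Agent.Lib.Helper78.BrauerHalfGamma
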