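import Mathlib
import Cfsg.Agent.Lib.Helper17.OrderCount
import Cfsg.Agent.Lib.Helper12.PrimeDegree3

set_option autoImplicit false

/-!
# Triply transitive groups of prime degree with Sylow normalizer of order `2p` (helper78)

* `sum_descFactorial_fixedBy`: Burnside's count for a `k`-transitive action:
  `∑_g f_g (f_g - 1) ⋯ (f_g - k + 1) = |G|`, where `f_g` is the number of fixed points of `g`.
* `eq_one_of_three_le_card_fixedBy`: if `G` is a triply transitive permutation group of prime
  degree `p > 2` whose Sylow `p`-normalizer has order `2p`, then only the identity fixes three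
  points.  (The `(p - 1)|G| / (2p)` elements of order `p` already account for the whole sum
  `∑_g (p - f_g)(f_g - 1)(f_g - 2) = (p - 1)|G|`.)
-/

namespace Cfsg.Agent.Lib.Helper78

open MulAction

/-- Embeddings fixed by `g` are the embeddings into the fixed points of `g`. -/
def fixedByEmbEquiv {G α : Type*} [Group G] [MulAction G α] (k : ℕ) (g : G) :
    fixedBy (Fin k ↪ α) g ≃ (Fin k ↪ fixedBy α g) where
  toFun x := ⟨fun i => ⟨x.1 i, by
      have h := x.2
      rw [mem_fixedBy] at h ⊢
      exact DFunLike.congr_fun h i⟩, by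
      intro i j h
      exact x.1.injective (congrArg Subtype.val h)⟩
  invFun y := ⟨y.trans (Function.Embedding.subtype _), by
      rw [mem_fixedBy]
      ext i
      exact (y i).2⟩
  left_inv x := by
    apply Subtype.ext
    ext i
    rfl
  right_inv y := by
    ext i
    rfl

/-- **Burnside's count for a `k`-transitive action.** -/
theorem sum_descFactorial_fixedBy {G α : Type*} [Group G] [Fintype G] [MulAction G α] [Fintype α]
    (k : ℕ) [IsMultiplyPretransitive G α k] (hk : k ≤ Fintype.card α) :
    ∑ g : G, (Nat.card (fixedBy α g)).descFactorial k = Fintype.card G := by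
  classical
  have hfix : ∀ g : G, Fintype (fixedBy (Fin k ↪ α) g) := fun g => Fintype.ofFinite _
  have hquot : Fintype (Quotient (orbitRel G (Fin k ↪ α))) := Fintype.ofFinite _
  have hB := MulAction.sum_card_fixedBy_eq_card_orbits_mul_card_group G (Fin k ↪ α)
  have hne : Nonempty (Fin k ↪ α) := by
    rw [← Fintype.card_pos_iff, Fintype.card_embedding_eq, Fintype.card_fin]
    exact Nat.descFactorial_pos.mpr hk
  have hpre : IsPretransitive G (Fin k ↪ α) := ‹IsMultiplyPretransitive G α k›
  have hsub : Subsingleton (Quotient (orbitRel G (Fin k ↪ α))) :=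
    (pretransitive_iff_subsingleton_quotient G (Fin k ↪ α)).mp hpre
  have hq1 : Fintype.card (Quotient (orbitRel G (Fin k ↪ α))) = 1 := by
    apply le_antisymm
    · exact Fintype.card_le_one_iff_subsingleton.mpr hsub
    · obtain ⟨x⟩ := hne
      exact Fintype.card_pos_iff.mpr ⟨Quotient.mk _ x⟩
  rw [hq1, one_mul] at hB
  rw [← hB]
  apply Finset.sum_congr rfl
  intro g _
  have hfin : Fintype (fixedBy α g) := Fintype.ofFinite _
  have h1 : Fintype.card (fixedBy (Fin k ↪ α) g) = Nat.card (Fin k ↪ fixedBy α g) := by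
    rw [← Nat.card_eq_fintype_card]
    exact Nat.card_congr (fixedByEmbEquiv k g)
  have h2 : Nat.card (Fin k ↪ fixedBy α g) = (Fintype.card (fixedBy α g)).descFactorial k := by
    rw [Nat.card_eq_fintype_card, Fintype.card_embedding_eq, Fintype.card_fin]
  rw [h1, h2, Nat.card_eq_fintype_card]

theorem cast_descFactorial_two (f : ℕ) : ((f.descFactorial 2 : ℕ) : ℤ) = (f : ℤ) * ((f : ℤ) - 1) := by
  rcases f with _ | f
  · simp
  · simp only [Nat.descFactorial_succ, Nat.descFactorial_zero]
    push_cast
    simp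
    ring

theorem cast_descFactorial_three (f : ℕ) :
    ((f.descFactorial 3 : ℕ) : ℤ) = (f : ℤ) * ((f : ℤ) - 1) * ((f : ℤ) - 2) := by
  rcases f with _ | _ | f
  · simp
  · simp [Nat.descFactorial_succ]
  · simp only [Nat.descFactorial_succ, Nat.descFactorial_zero]
    push_cast
    simp
    ring


/-- A permutation of order `p` of `p` points has no fixed point. -/
theorem card_fixedBy_eq_zero_of_orderOf_eq {α : Type*} [Fintype α] [DecidableEq α] {p : ℕ}
    [Fact p.Prime] (hα : Fintype.card α = p) (G : Subgroup (Equiv.Perm α)) (g : G)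
    (hg : orderOf g = p) : Nat.card (fixedBy α g) = 0 := by
  have hp : p.Prime := Fact.out
  have hords : orderOf (g : Equiv.Perm α) = p := by rw [Subgroup.orderOf_coe, hg]
  obtain ⟨ι, hι⟩ := Cfsg.Agent.Lib.Helper12.cycle_param hα (g : Equiv.Perm α) hords
  have hempty : IsEmpty (fixedBy α g) := by
    constructor
    rintro ⟨x, hx⟩
    rw [mem_fixedBy] at hx
    obtain ⟨j, rfl⟩ := ι.surjective x
    have h1 : ι (j + 1) = ι j := by
      rw [hι]
      exact hx
    have h2 : j + 1 = j := ι.injective h1
    have h3 : (1 : ZMod p) = 0 := by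
      have := congrArg (fun z => z - j) h2
      simp at this
    have : Fact (1 < p) := ⟨hp.one_lt⟩
    exact one_ne_zero h3
  exact Nat.card_of_isEmpty

/-- **Only the identity fixes three points.** -/
theorem eq_one_of_three_le_card_fixedBy {α : Type*} [Fintype α] [DecidableEq α] {p : ℕ}
    [Fact p.Prime] (hp2 : 2 < p) (hα : Fintype.card α = p) (G : Subgroup (Equiv.Perm α))
    (h3 : IsMultiplyPretransitive G α 3) (P : Sylow p G)
    (hN : Nat.card (Subgroup.normalizer ((P : Subgroup G) : Set G)) = 2 * p) :
    ∀ g : G, 3 ≤ Nat.card (fixedBy α g) → g = 1 := by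
  classical
  have hp : p.Prime := Fact.out
  have hfinG : Fintype G := Fintype.ofFinite G
  have hcα : Nat.card α = p := by rw [Nat.card_eq_fintype_card, hα]
  have h3α : 3 ≤ Nat.card α := by omega
  have h2 : IsMultiplyPretransitive G α 2 :=
    isMultiplyPretransitive_of_le (G := G) (α := α) (m := 2) (n := 3) (by norm_num) h3α
  have h1 : IsMultiplyPretransitive G α 1 :=
    isMultiplyPretransitive_of_le (G := G) (α := α) (m := 1) (n := 3) (by norm_num) h3α
  have htrans : IsPretransitive G α := is_one_pretransitive_iff.mp h1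
  -- the three Burnside counts
  have S1 := sum_descFactorial_fixedBy (G := G) (α := α) 1 (by omega)
  have S2 := sum_descFactorial_fixedBy (G := G) (α := α) 2 (by omega)
  have S3 := sum_descFactorial_fixedBy (G := G) (α := α) 3 (by omega)
  obtain ⟨n, hn⟩ : ∃ n : ℕ, n = Fintype.card G := ⟨_, rfl⟩
  obtain ⟨F, hF⟩ : ∃ F : G → ℤ, ∀ g, F g = (Nat.card (fixedBy α g) : ℤ) := ⟨_, fun _ => rfl⟩
  have T1 : ∑ g : G, F g = (n : ℤ) := by
    rw [hn, ← S1]
    push_cast
    apply Finset.sum_congr rfl
    intro g _
    rw [hF, Nat.descFactorial_one]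
  have T2 : ∑ g : G, F g * (F g - 1) = (n : ℤ) := by
    rw [hn, ← S2]
    push_cast
    apply Finset.sum_congr rfl
    intro g _
    rw [hF, cast_descFactorial_two]
  have T3 : ∑ g : G, F g * (F g - 1) * (F g - 2) = (n : ℤ) := by
    rw [hn, ← S3]
    push_cast
    apply Finset.sum_congr rfl
    intro g _
    rw [hF, cast_descFactorial_three]
  have Tn : ∑ _g : G, (1 : ℤ) = (n : ℤ) := by
    rw [Finset.sum_const, Finset.card_univ, hn]
    simp
  -- the weighted sum
  have hW : ∑ g : G, ((p : ℤ) - F g) * (F g - 1) * (F g - 2) = ((p : ℤ) - 1) * (n : ℤ) := by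
    have h : ∀ g : G, ((p : ℤ) - F g) * (F g - 1) * (F g - 2) =
        (p : ℤ) * (F g * (F g - 1)) - 2 * (p : ℤ) * F g + 2 * (p : ℤ) * 1 -
          F g * (F g - 1) * (F g - 2) := by
      intro g
      ring
    rw [Finset.sum_congr rfl (fun g _ => h g), Finset.sum_sub_distrib, Finset.sum_add_distrib,
      Finset.sum_sub_distrib, ← Finset.mul_sum, ← Finset.mul_sum, ← Finset.mul_sum, T1, T2, T3, Tn]
    ring
  -- the number of elements of order `p`
  have hPcard : ∀ Q : Sylow p G, Nat.card (Q : Subgroup G) = p := fun Q =>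
    Cfsg.Agent.Lib.Helper12.card_sylow_eq hα G Q
  have hE := Cfsg.Agent.Lib.Helper17.card_orderOf_eq_prime (G := G) (p := p) hPcard
  have hsyl : 2 * p * Nat.card (Sylow p G) = n := by
    have h1 := Subgroup.card_mul_index (Subgroup.normalizer ((P : Subgroup G) : Set G))
    have h2 : Nat.card (Sylow p G) = (Subgroup.normalizer ((P : Subgroup G) : Set G)).index :=
      Sylow.card_eq_index_normalizer P
    rw [h2, ← hN, h1, hn, Nat.card_eq_fintype_card]
  have hEcard : (Finset.univ.filter (fun g : G => orderOf g = p)).card =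
      Nat.card (Sylow p G) * (p - 1) := by
    rw [← hE, Nat.card_eq_fintype_card, Fintype.card_subtype]
  have hF0 : ∀ g : G, orderOf g = p → F g = 0 := by
    intro g hg
    rw [hF, card_fixedBy_eq_zero_of_orderOf_eq hα G g hg]
    rfl
  have hFle : ∀ g : G, F g ≤ (p : ℤ) := by
    intro g
    rw [hF, ← hcα]
    have : Nat.card (fixedBy α g) ≤ Nat.card α := Nat.card_le_card_of_injective _
      Subtype.val_injective
    exact_mod_cast this
  have hF0le : ∀ g : G, 0 ≤ F g := by
    intro g
    rw [hF]
    positivity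
  have hsq : ∀ f : ℤ, 0 ≤ (f - 1) * (f - 2) := by
    intro f
    rcases le_or_gt f 1 with h | h
    · nlinarith
    · have : 2 ≤ f := by omega
      nlinarith
  have hsplit := Finset.sum_filter_add_sum_filter_not Finset.univ (fun g : G => orderOf g = p)
    (fun g => ((p : ℤ) - F g) * (F g - 1) * (F g - 2))
  have hEsum : ∑ g ∈ Finset.univ.filter (fun g : G => orderOf g = p),
      ((p : ℤ) - F g) * (F g - 1) * (F g - 2) = ((p : ℤ) - 1) * (n : ℤ) := by
    have h : ∀ g ∈ Finset.univ.filter (fun g : G => orderOf g = p),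
        ((p : ℤ) - F g) * (F g - 1) * (F g - 2) = 2 * (p : ℤ) := by
      intro g hg
      rw [hF0 g (Finset.mem_filter.mp hg).2]
      ring
    rw [Finset.sum_congr rfl h, Finset.sum_const, hEcard, ← hsyl]
    have hp1 : 1 ≤ p := hp.one_lt.le
    push_cast [Nat.cast_sub hp1]
    simp only [nsmul_eq_mul]
    push_cast [Nat.cast_sub hp1]
    ring
  have hrest : ∑ g ∈ Finset.univ.filter (fun g : G => ¬ orderOf g = p),
      ((p : ℤ) - F g) * (F g - 1) * (F g - 2) = 0 := by
    rw [hW, hEsum] at hsplit
    linarith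
  have hnonneg : ∀ g ∈ Finset.univ.filter (fun g : G => ¬ orderOf g = p),
      0 ≤ ((p : ℤ) - F g) * (F g - 1) * (F g - 2) := by
    intro g _
    rw [mul_assoc]
    exact mul_nonneg (by linarith [hFle g]) (hsq _)
  have hzero := (Finset.sum_eq_zero_iff_of_nonneg hnonneg).mp hrest
  intro g hg3
  have hFg3 : 3 ≤ F g := by
    rw [hF]
    exact_mod_cast hg3
  have hgE : ¬ orderOf g = p := by
    intro h
    have := hF0 g h
    omega
  have hz := hzero g (Finset.mem_filter.mpr ⟨Finset.mem_univ g, hgE⟩)
  have hFp : F g = (p : ℤ) := by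
    rcases mul_eq_zero.mp hz with h | h
    · rcases mul_eq_zero.mp h with h | h
      · linarith
      · omega
    · omega
  -- `g` fixes every point
  have hall : fixedBy α g = Set.univ := by
    rw [Set.eq_univ_iff_ncard, ← Nat.card_coe_set_eq, hcα]
    rw [hF] at hFp
    exact_mod_cast hFp
  apply Subtype.ext
  ext x
  have hx : x ∈ fixedBy α g := by rw [hall]; exact Set.mem_univ x
  rw [mem_fixedBy] at hx
  exact hx

end Cfsg.Agent.Lib.Helper78
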