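import Mathlib
import Cfsg.Agent.Lib.Helper12.PrimeDegree3

set_option autoImplicit false

/-!
# Solvable transitive groups of prime degree have a normal Sylow `p`-subgroup (helper78)

The last nontrivial term of the derived series is an abelian normal subgroup, hence transitive
(prime degree gives primitivity), hence regular of order `p`.
-/

namespace Cfsg.Agent.Lib.Helper78

open MulAction
open scoped commutatorElement

/-- **Galois.** A solvable transitive permutation group of prime degree `p` has a normal Sylow
`p`-subgroup. -/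
theorem sylow_normal_of_isSolvable {α : Type*} [Fintype α] [DecidableEq α] {p : ℕ} [Fact p.Prime]
    (hα : Fintype.card α = p) (G : Subgroup (Equiv.Perm α)) [IsPretransitive G α]
    (hsolv : Group.IsSolvable G) (P : Sylow p G) : (P : Subgroup G).Normal := by
  classical
  have hp : p.Prime := Fact.out
  have hcα : Nat.card α = p := by rw [Nat.card_eq_fintype_card, hα]
  have hprim : IsPreprimitive G α := IsPreprimitive.of_prime_card (by rw [hcα]; exact hp)
  -- `G` is nontrivial
  have hGne : (⊤ : Subgroup G) ≠ ⊥ := by
    intro h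
    have hone : ∀ g : G, g = 1 := by
      intro g
      have : g ∈ (⊤ : Subgroup G) := Subgroup.mem_top g
      rw [h, Subgroup.mem_bot] at this
      exact this
    have h2 : 2 ≤ Fintype.card α := by rw [hα]; exact hp.two_le
    obtain ⟨x, y, hxy⟩ := Fintype.exists_pair_of_one_lt_card (by omega : 1 < Fintype.card α)
    obtain ⟨g, hg⟩ := exists_smul_eq G x y
    rw [hone g, one_smul] at hg
    exact hxy hg
  -- the last nontrivial term of the derived series
  have hex : ∃ n : ℕ, derivedSeries G n = ⊥ := (Group.isSolvable_def G).mp hsolv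
  obtain ⟨m, hm, hm'⟩ : ∃ m : ℕ, derivedSeries G m ≠ ⊥ ∧ derivedSeries G (m + 1) = ⊥ := by
    have hfind := Nat.find_spec hex
    have hmin := fun k => Nat.find_min hex (m := k)
    rcases Nat.eq_zero_or_pos (Nat.find hex) with h0 | hpos
    · exfalso
      rw [h0, derivedSeries_zero] at hfind
      exact hGne hfind
    · refine ⟨Nat.find hex - 1, hmin _ (by omega), ?_⟩
      have : Nat.find hex - 1 + 1 = Nat.find hex := by omega
      rw [this]
      exact hfind
  obtain ⟨A, hA⟩ : ∃ A : Subgroup G, A = derivedSeries G m := ⟨_, rfl⟩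
  have hAne : A ≠ ⊥ := by rw [hA]; exact hm
  have hAnormal : A.Normal := by rw [hA]; exact derivedSeries_normal G m
  have hAcomm : ∀ a ∈ A, ∀ b ∈ A, a * b = b * a := by
    intro a ha b hb
    have h1 : ⁅A, A⁆ = ⊥ := by rw [hA, ← derivedSeries_succ]; exact hm'
    have h2 : ⁅a, b⁆ ∈ ⁅A, A⁆ := Subgroup.commutator_mem_commutator ha hb
    rw [h1, Subgroup.mem_bot, commutatorElement_eq_one_iff_mul_comm] at h2
    exact h2
  -- `A` acts nontrivially, hence transitively
  have hfp : fixedPoints A α ≠ Set.univ := by
    intro h
    apply hAne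
    rw [eq_bot_iff]
    intro a ha
    rw [Subgroup.mem_bot]
    apply Subtype.ext
    ext x
    have hx : x ∈ fixedPoints A α := by rw [h]; exact Set.mem_univ x
    rw [mem_fixedPoints] at hx
    exact hx ⟨a, ha⟩
  have hAtrans : IsPretransitive A α :=
    IsQuasiPreprimitive.isPretransitive_of_normal (G := G) (X := α) (N := A) hfp
  -- point stabilizers in `A` are trivial
  obtain ⟨x⟩ : Nonempty α := by
    rw [← Fintype.card_pos_iff, hα]; exact hp.pos
  have hstab : stabilizer A x = ⊥ := by
    rw [eq_bot_iff]
    intro a ha
    rw [mem_stabilizer_iff] at ha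
    rw [Subgroup.mem_bot]
    apply Subtype.ext
    apply Subtype.ext
    ext y
    obtain ⟨b, hb⟩ := exists_smul_eq A x y
    have hab : a * b = b * a := Subtype.ext (hAcomm a a.2 b b.2)
    have h1 : a • y = y := by
      rw [← hb, smul_smul, hab, ← smul_smul, ha]
    exact h1
  have hAcard : Nat.card A = p := by
    have h1 := index_stabilizer_of_transitive A x
    rw [hstab, Subgroup.index_bot, hcα] at h1
    exact h1
  -- `A = P`
  have hApg : IsPGroup p A := IsPGroup.of_card (n := 1) (by rw [hAcard, pow_one])
  have hle : A ≤ (P : Subgroup G) := hApg.le_sylow_of_normal P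
  have hPcard : Nat.card (P : Subgroup G) = p := Cfsg.Agent.Lib.Helper12.card_sylow_eq hα G P
  have hAP : A = (P : Subgroup G) :=
    Subgroup.eq_of_le_of_card_ge hle (by rw [hAcard, hPcard])
  rw [← hAP]
  exact hAnormal

end Cfsg.Agent.Lib.Helper78
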