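import Mathlib
import Cfsg.Agent.Lib.Helper79.BrauerN.Defs
import Cfsg.Agent.Lib.Helper79.BrauerN.Partition
import Cfsg.Agent.Lib.Helper79.BrauerN.Arith3
import Cfsg.Agent.Lib.Helper78.CharMore
import Cfsg.Agent.Lib.Helper64.BrauerNNV

set_option autoImplicit false
set_option linter.unusedSectionVars false

/-!
# Brauer's `n`-theorem for `|G| < p³` (S0999/S4701), module [E1-DECOMP] (helper78)

Decomposition of a character `Φ` of degree `1 + (t - 1) p` that is `1` on `P ∖ 1` in the rigid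
configuration with `ε = -1`.
-/

namespace Cfsg.Agent.Lib.Helper78.BrauerN

open Cfsg Cfsg.Agent.Lib.Helper78 Cfsg.Agent.Lib.Helper79.BrauerN

/-- Sum over a subgroup of order `p` of a function that is constant off the identity. -/
theorem sum_subgroup_eq_h78 {G : Type*} [Group G] (P : Subgroup G) [Fintype P] {p : ℕ}
    (hP : Nat.card P = p) (f : G → ℂ) (c : ℂ) (h : ∀ x : G, x ∈ P → x ≠ 1 → f x = c) :
    ∑ x : P, f x = f 1 + ((p - 1 : ℕ) : ℂ) * c := by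
  classical
  rw [← Finset.add_sum_erase Finset.univ (fun x : P => f x) (Finset.mem_univ 1)]
  congr 1
  rw [Finset.sum_congr rfl (g := fun _ => c), Finset.sum_const, nsmul_eq_mul,
    Finset.card_erase_of_mem (Finset.mem_univ _), Finset.card_univ, ← Nat.card_eq_fintype_card, hP]
  intro x hx
  have hx1 : x ≠ 1 := Finset.ne_of_mem_erase hx
  exact h x x.2 (fun h' => hx1 (Subtype.ext h'))

/-- A weighted sum of a functional that is constant on a set of characters. -/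
theorem sum_mul_const_h78 {ι : Type*} (S : Finset ι) (m : ι → ℕ) (v : ι → ℂ) (c : ℂ)
    (h : ∀ i ∈ S, v i = c) : ∑ i ∈ S, (m i : ℂ) * v i = ((∑ i ∈ S, m i : ℕ) : ℂ) * c := by
  rw [Nat.cast_sum, Finset.sum_mul]
  apply Finset.sum_congr rfl
  intro i hi
  rw [h i hi]

theorem rigid_decomp {G : Type*} [Group G] [Fintype G] {p : ℕ} [Fact p.Prime] {P : Sylow p G}
    {q t : ℕ} {ε : ℤ} {a : IrrCharacter G → ℤ} {X Y : Finset (IrrCharacter G)}
    (D : RigidData p P q t ε a X Y) (hε : ε = -1)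
    (hvan : ∀ ζ : IrrCharacter G, ζ ∉ X → ζ ∉ Y → ∀ x : G, x ∈ (P : Subgroup G) → x ≠ 1 →
      (ζ : G → ℂ) x = 0)
    (hsumP : ∀ θ ∈ Y, ∑ᶠ x ∈ ((P : Subgroup G) : Set G), (θ : G → ℂ) x = (p : ℂ))
    {Φ : G → ℂ} (hΦ : IsCharacter G Φ) (hΦ1 : Φ 1 = ((1 + (t - 1) * p : ℕ) : ℂ))
    (hΦP : ∀ x : G, x ∈ (P : Subgroup G) → x ≠ 1 → Φ x = 1)
    (triv : IrrCharacter G) (htriv : (triv : G → ℂ) = fun _ => 1) :
    (classInner Φ (triv : G → ℂ) = 1 →
      ∀ ζ : IrrCharacter G, ζ ∈ X ∨ ζ ∈ Y → ζ ≠ triv → classInner Φ (ζ : G → ℂ) = 0) ∧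
    (classInner Φ (triv : G → ℂ) = 0 →
      (∃ χ ∈ X, a χ = 1 ∧ χ ≠ triv ∧ Φ = (χ : G → ℂ)) ∨
      ((∀ χ ∈ X, classInner Φ (χ : G → ℂ) = 0) ∧
        ∑ θ ∈ Y, classInner Φ (θ : G → ℂ) = (t : ℂ) ∧
        ∀ ζ : IrrCharacter G, ζ ∉ X → ζ ∉ Y → classInner Φ (ζ : G → ℂ) = 0)) := by
  classical
  have : Fintype ↥(P : Subgroup G) := Fintype.ofFinite _
  obtain ⟨m, hm⟩ := (isCharacter_iff_exists_nat_combination Φ).mp hΦ
  have hci : ∀ ζ : IrrCharacter G, classInner Φ (ζ : G → ℂ) = (m ζ : ℂ) := by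
    intro ζ
    rw [hm]
    exact classInner_nat_combination (fun φ => (m φ : ℂ)) ζ
  obtain ⟨triv', htriv', hX', ha', hY'⟩ := D.exists_triv
  have htt : triv' = triv := Subtype.ext (htriv'.trans htriv.symm)
  rw [htt] at hX' ha' hY'
  have hpqt := D.hpqt
  have hq := D.hq
  have ht := D.ht
  have h7 := D.p_ge_seven
  have hqp : q ≤ p := by nlinarith
  have hne : ε ≠ 1 := by rw [hε]; norm_num
  obtain ⟨Dg, hDg⟩ : ∃ Dg : ℕ, Dg = 1 + (t - 1) * p := ⟨_, rfl⟩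
  rw [← hDg] at hΦ1
  -- degrees
  have hdegA : ∀ χ ∈ setA a X triv, (χ : G → ℂ) 1 = (Dg : ℂ) := by
    intro χ hχ
    obtain ⟨h1, h2, h3⟩ := mem_setA.mp hχ
    rw [hDg]
    exact D.hdegXp χ h1 h2 (fun h => h3 (Subtype.ext (h.trans htriv.symm)))
  have hdegB : ∀ χ ∈ setB a X, (χ : G → ℂ) 1 = ((p - 1 : ℕ) : ℂ) := by
    intro χ hχ
    obtain ⟨h1, h2⟩ := mem_setB.mp hχ
    exact D.hdegXm χ h1 h2
  have hdegY : ∀ θ ∈ Y, (θ : G → ℂ) 1 = ((p - q : ℕ) : ℂ) := by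
    intro θ hθ
    rw [D.hdegY θ hθ, if_neg hne]
  have hdegR : ∀ ζ ∈ setR X Y, (ζ : G → ℂ) 1 = (charDegree (ζ : G → ℂ) : ℂ) :=
    fun ζ _ => irr_apply_one ζ
  -- sums over `P`
  have hTtriv : ∑ x : ↥(P : Subgroup G), (triv : G → ℂ) x = (p : ℂ) := by
    rw [htriv, Finset.sum_const, Finset.card_univ, ← Nat.card_eq_fintype_card, D.hPcard,
      nsmul_eq_mul, mul_one]
  have hp1 : ((p - 1 : ℕ) : ℂ) = (p : ℂ) - 1 := by
    rw [Nat.cast_sub (by omega)]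
    simp
  have hTA : ∀ χ ∈ setA a X triv,
      ∑ x : ↥(P : Subgroup G), (χ : G → ℂ) x = ((Dg + (p - 1) : ℕ) : ℂ) := by
    intro χ hχ
    obtain ⟨h1, h2, h3⟩ := mem_setA.mp hχ
    rw [sum_subgroup_eq_h78 (P : Subgroup G) D.hPcard (χ : G → ℂ) (a χ : ℂ)
      (D.hXval χ h1), hdegA χ hχ, h2]
    push_cast
    ring
  have hTB : ∀ χ ∈ setB a X, ∑ x : ↥(P : Subgroup G), (χ : G → ℂ) x = 0 := by
    intro χ hχ
    obtain ⟨h1, h2⟩ := mem_setB.mp hχ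
    rw [sum_subgroup_eq_h78 (P : Subgroup G) D.hPcard (χ : G → ℂ) (a χ : ℂ)
      (D.hXval χ h1), hdegB χ hχ, h2]
    push_cast
    ring
  have hTY : ∀ θ ∈ Y, ∑ x : ↥(P : Subgroup G), (θ : G → ℂ) x = (p : ℂ) := by
    intro θ hθ
    rw [← Cfsg.Agent.Lib.Helper64.BrauerN.finsum_mem_subgroup]
    exact hsumP θ hθ
  have hTR : ∀ ζ ∈ setR X Y,
      ∑ x : ↥(P : Subgroup G), (ζ : G → ℂ) x = (charDegree (ζ : G → ℂ) : ℂ) := by
    intro ζ hζ
    obtain ⟨h1, h2⟩ := mem_setR.mp hζ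
    rw [sum_subgroup_eq_h78 (P : Subgroup G) D.hPcard (ζ : G → ℂ) 0 (hvan ζ h1 h2),
      mul_zero, add_zero, irr_apply_one]
  have hTΦ : ∑ x : ↥(P : Subgroup G), Φ x = ((Dg + (p - 1) : ℕ) : ℂ) := by
    rw [sum_subgroup_eq_h78 (P : Subgroup G) D.hPcard Φ 1 hΦP, hΦ1]
    push_cast
    ring
  -- the two equations
  obtain ⟨m₀, hm₀⟩ : ∃ m₀ : ℕ, m₀ = m triv := ⟨_, rfl⟩
  obtain ⟨mA, hmA⟩ : ∃ mA : ℕ, mA = ∑ χ ∈ setA a X triv, m χ := ⟨_, rfl⟩
  obtain ⟨mB, hmB⟩ : ∃ mB : ℕ, mB = ∑ χ ∈ setB a X, m χ := ⟨_, rfl⟩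
  obtain ⟨mY, hmY⟩ : ∃ mY : ℕ, mY = ∑ θ ∈ Y, m θ := ⟨_, rfl⟩
  obtain ⟨r, hr⟩ : ∃ r : ℕ, r = ∑ ζ ∈ setR X Y, m ζ * charDegree (ζ : G → ℂ) := ⟨_, rfl⟩
  have hR1 : ∑ ζ ∈ setR X Y, (m ζ : ℂ) * (charDegree (ζ : G → ℂ) : ℂ) = (r : ℂ) := by
    rw [hr]
    push_cast
    rfl
  have hR2 : ∑ ζ ∈ setR X Y, (m ζ : ℂ) * (ζ : G → ℂ) 1 = (r : ℂ) := by
    rw [← hR1]
    exact Finset.sum_congr rfl (fun ζ hζ => by rw [hdegR ζ hζ])
  have hR3 : ∑ ζ ∈ setR X Y, (m ζ : ℂ) * ∑ x : ↥(P : Subgroup G), (ζ : G → ℂ) x = (r : ℂ) := by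
    rw [← hR1]
    exact Finset.sum_congr rfl (fun ζ hζ => by rw [hTR ζ hζ])
  have hE1 : Dg = m₀ + Dg * mA + (p - 1) * mB + (p - q) * mY + r := by
    have h1 : Φ 1 = ∑ ζ : IrrCharacter G, (m ζ : ℂ) * (ζ : G → ℂ) 1 := by
      conv_lhs => rw [hm]
      simp only [Finset.sum_apply, Pi.smul_apply, smul_eq_mul]
    rw [D.sum_split hX' ha', hΦ1, sum_mul_const_h78 _ m _ _ hdegA, sum_mul_const_h78 _ m _ _ hdegB,
      sum_mul_const_h78 _ m _ _ hdegY, hR2, htriv, ← hm₀, ← hmA, ← hmB, ← hmY] at h1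
    have h2 : (Dg : ℂ) = ((m₀ + Dg * mA + (p - 1) * mB + (p - q) * mY + r : ℕ) : ℂ) := by
      rw [h1]
      push_cast
      ring
    exact_mod_cast h2
  have hE2 : Dg + (p - 1) = p * m₀ + (Dg + (p - 1)) * mA + p * mY + r := by
    have h1 : ∑ x : ↥(P : Subgroup G), Φ x =
        ∑ ζ : IrrCharacter G, (m ζ : ℂ) * ∑ x : ↥(P : Subgroup G), (ζ : G → ℂ) x := by
      conv_lhs => rw [hm]
      simp only [Finset.sum_apply, Pi.smul_apply, smul_eq_mul]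
      rw [Finset.sum_comm]
      apply Finset.sum_congr rfl
      intro ζ _
      rw [Finset.mul_sum]
    rw [D.sum_split hX' ha', hTΦ, sum_mul_const_h78 _ m _ _ hTA, sum_mul_const_h78 _ m _ _ hTB,
      sum_mul_const_h78 _ m _ _ hTY, hR3, hTtriv, ← hm₀, ← hmA, ← hmB, ← hmY] at h1
    have h2 : ((Dg + (p - 1) : ℕ) : ℂ) =
        ((p * m₀ + (Dg + (p - 1)) * mA + p * mY + r : ℕ) : ℂ) := by
      rw [h1]
      push_cast
      ring
    exact_mod_cast h2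
  -- coverage of `Irr(G)`
  have hcover : ∀ ζ : IrrCharacter G, ζ = triv ∨ ζ ∈ setA a X triv ∨ ζ ∈ setB a X ∨ ζ ∈ Y ∨
      ζ ∈ setR X Y := by
    intro ζ
    by_cases hζX : ζ ∈ X
    · rcases D.haX ζ hζX with h | h
      · by_cases hζt : ζ = triv
        · exact Or.inl hζt
        · exact Or.inr (Or.inl (mem_setA.mpr ⟨hζX, h, hζt⟩))
      · exact Or.inr (Or.inr (Or.inl (mem_setB.mpr ⟨hζX, h⟩)))
    · by_cases hζY : ζ ∈ Y
      · exact Or.inr (Or.inr (Or.inr (Or.inl hζY)))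
      · exact Or.inr (Or.inr (Or.inr (Or.inr (mem_setR.mpr ⟨hζX, hζY⟩))))
  have hzero_of_sum : ∀ (S : Finset (IrrCharacter G)), ∑ χ ∈ S, m χ = 0 → ∀ χ ∈ S, m χ = 0 := by
    intro S hS χ hχ
    exact (Finset.sum_eq_zero_iff.mp hS) χ hχ
  have hRzero : r = 0 → ∀ ζ ∈ setR X Y, m ζ = 0 := by
    intro h0 ζ hζ
    rw [hr] at h0
    have h1 := (Finset.sum_eq_zero_iff.mp h0) ζ hζ
    rcases Nat.mul_eq_zero.mp h1 with h2 | h2
    · exact h2
    · exact absurd h2 (IsIrrCharacter.charDegree_pos ζ.2).ne'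
  constructor
  · intro h1
    have hm1 : m₀ = 1 := by
      rw [hci triv, ← hm₀] at h1
      exact_mod_cast h1
    obtain ⟨hA0, hB0, hY0⟩ :=
      (decomp_arith hpqt hq ht hDg hE1 hE2 hm1.le).1 hm1
    intro ζ hζ hζt
    rw [hci ζ]
    have : m ζ = 0 := by
      rcases hcover ζ with h | h | h | h | h
      · exact absurd h hζt
      · exact hzero_of_sum _ (hmA ▸ hA0) ζ h
      · exact hzero_of_sum _ (hmB ▸ hB0) ζ h
      · exact hzero_of_sum _ (hmY ▸ hY0) ζ h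
      · obtain ⟨h1, h2⟩ := mem_setR.mp h
        rcases hζ with h3 | h3
        · exact absurd h3 h1
        · exact absurd h3 h2
    rw [this, Nat.cast_zero]
  · intro h0
    have hm0 : m₀ = 0 := by
      rw [hci triv, ← hm₀] at h0
      exact_mod_cast h0
    rcases (decomp_arith hpqt hq ht hDg hE1 hE2 (by omega)).2 hm0 with
      ⟨hA1, hB0, hY0, hr0⟩ | ⟨hA0, hB0, hYt, hr0⟩
    · left
      -- a unique constituent in `A`
      have hex : ∃ χ₁ ∈ setA a X triv, m χ₁ ≠ 0 := by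
        by_contra hcon
        push Not at hcon
        have : ∑ χ ∈ setA a X triv, m χ = 0 := Finset.sum_eq_zero hcon
        omega
      obtain ⟨χ₁, hχ₁, hmχ₁⟩ := hex
      have hsplit := Finset.add_sum_erase (setA a X triv) m hχ₁
      have hχ₁1 : m χ₁ = 1 := by omega
      have hrest : ∑ χ ∈ (setA a X triv).erase χ₁, m χ = 0 := by omega
      obtain ⟨h1, h2, h3⟩ := mem_setA.mp hχ₁
      refine ⟨χ₁, h1, h2, h3, ?_⟩
      rw [hm, Finset.sum_eq_single χ₁]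
      · rw [hχ₁1, Nat.cast_one, one_smul]
      · intro ζ _ hζ
        have : m ζ = 0 := by
          rcases hcover ζ with h | h | h | h | h
          · rw [h, ← hm₀, hm0]
          · exact hzero_of_sum _ hrest ζ (Finset.mem_erase.mpr ⟨hζ, h⟩)
          · exact hzero_of_sum _ (hmB ▸ hB0) ζ h
          · exact hzero_of_sum _ (hmY ▸ hY0) ζ h
          · exact hRzero hr0 ζ h
        rw [this, Nat.cast_zero, zero_smul]
      · intro h
        exact absurd (Finset.mem_univ _) h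
    · right
      refine ⟨?_, ?_, ?_⟩
      · intro χ hχ
        rw [hci χ]
        have : m χ = 0 := by
          rcases hcover χ with h | h | h | h | h
          · rw [h, ← hm₀, hm0]
          · exact hzero_of_sum _ (hmA ▸ hA0) χ h
          · exact hzero_of_sum _ (hmB ▸ hB0) χ h
          · exact absurd h (Finset.disjoint_left.mp D.hdisj hχ)
          · exact absurd hχ (mem_setR.mp h).1
        rw [this, Nat.cast_zero]
      · rw [Finset.sum_congr rfl (fun θ _ => hci θ), ← Nat.cast_sum, ← hmY, hYt]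
      · intro ζ hζX hζY
        rw [hci ζ, hRzero hr0 ζ (mem_setR.mpr ⟨hζX, hζY⟩), Nat.cast_zero]

end Cfsg.Agent.Lib.Helper78.BrauerN
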