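import Mathlib
import Cfsg.Agent.Lib.Helper75.BrauerHalfC
import Cfsg.Agent.Lib.Helper25.BHEta
import Cfsg.Agent.Lib.Helper16.BHExt

set_option autoImplicit false
set_option linter.unusedSectionVars false

/-!
# Brauer's `(p - 1) / 2` bound: the family `S = {ζ(ψ₀^m)}` (helper78, module BH-SSUM)
-/

namespace Cfsg.Agent.Lib.Helper78.BrauerHalfSsum

open Cfsg Cfsg.Agent.Lib.Helper78 Cfsg.Agent.Lib.Helper16 Cfsg.Agent.Lib.Helper3.DefOneGen
  Cfsg.Agent.Lib.Helper75.McKayOne Cfsg.Agent.Lib.Helper75.BrauerHalf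
open scoped ComplexConjugate IsMulCommutative

universe u

variable {G : Type u} [Group G] [Fintype G] {p : ℕ} [hp : Fact p.Prime] (P : Sylow p G)
  (hP : Nat.card P = p)
variable [Fintype ↥(Subgroup.centralizer ((P : Subgroup G) : Set G))] [Fintype ↥(P : Subgroup G)]
  [IsMulCommutative ↥(P : Subgroup G)] [Fintype (↥(P : Subgroup G) →* ℂˣ)]
  [Fintype ↥(Subgroup.normalizer ((P : Subgroup G) : Set G))]
variable {M : Ideal AlgInt}

local notation "CP" => Subgroup.centralizer ((P : Subgroup G) : Set G)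
local notation "NP" => Subgroup.normalizer ((P : Subgroup G) : Set G)

attribute [local instance] nAct

include hP in
open scoped Classical in
/-- The classes of the `T`-relation on the nonprincipal characters of `P` have `|T : C|`
elements. -/
theorem card_relT_class (T : Subgroup G) (hCT : CP ≤ T) (hTN : T ≤ NP)
    {ψ : ↥(P : Subgroup G) →* ℂˣ} (hψ : ψ ≠ 1) :
    (Finset.univ.filter (fun ψ' : ↥(P : Subgroup G) →* ℂˣ => ∃ n : G, n ∈ T ∧
      ∀ w w' : ↥(P : Subgroup G), (w' : G) = n * (w : G) * n⁻¹ → ψ' w' = ψ w)).card =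
      (CP).relIndex T := by
  have hfinT : Fintype ↥T := Fintype.ofFinite _
  letI instT : MulDistribMulAction ↥T ↥(P : Subgroup G) :=
    MulDistribMulAction.compHom ↥(P : Subgroup G) (Subgroup.inclusion hTN)
  have hsmul : ∀ (n : ↥T) (y : ↥(P : Subgroup G)),
      ((n • y : ↥(P : Subgroup G)) : G) = (n : G) * (y : G) * (n : G)⁻¹ := fun _ _ => rfl
  have hS : ∀ y : ↥(P : Subgroup G), y ≠ 1 → ∀ n : ↥T, n • y = y ↔ n ∈ (CP).subgroupOf T := by
    intro y hy n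
    have hy1 : (y : G) ≠ 1 := fun h => hy (Subtype.ext h)
    rw [Subgroup.mem_subgroupOf, mem_centralizer_iff_commute hP y.2 hy1]
    constructor
    · intro h
      have h' : (n : G) * (y : G) * (n : G)⁻¹ = (y : G) := by rw [← hsmul, h]
      exact (mul_inv_eq_iff_eq_mul.mp h').symm
    · intro h
      apply Subtype.ext
      rw [hsmul]
      exact mul_inv_eq_iff_eq_mul.mpr h.eq.symm
  have hfilter : (Finset.univ.filter (fun ψ' : ↥(P : Subgroup G) →* ℂˣ => ∃ n : G, n ∈ T ∧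
      ∀ w w' : ↥(P : Subgroup G), (w' : G) = n * (w : G) * n⁻¹ → ψ' w' = ψ w)) =
      Finset.univ.filter (fun ψ' : ↥(P : Subgroup G) →* ℂˣ => dualRel ↥T ψ ψ') := by
    ext ψ'
    simp only [Finset.mem_filter, Finset.mem_univ, true_and]
    constructor
    · rintro ⟨n, hn, h⟩
      exact ⟨⟨n, hn⟩, fun y => h y ((⟨n, hn⟩ : ↥T) • y) rfl⟩
    · rintro ⟨n, h⟩
      refine ⟨(n : G), n.2, ?_⟩
      intro w w' hw
      have : w' = n • w := Subtype.ext hw
      rw [this]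
      exact h w
  rw [hfilter]
  have h1 := card_dualRel_class ((CP).subgroupOf T) hS hψ
  have h2 : Nat.card ↥((CP).subgroupOf T) = Nat.card ↥CP :=
    Nat.card_congr (Subgroup.subgroupOfEquivOfLe hCT).toEquiv
  have h3 := card_eq_card_mul_relIndex hCT
  rw [h2, ← Nat.card_eq_fintype_card, h3] at h1
  have hpos : 0 < Nat.card ↥CP := Nat.card_pos
  have h4 : (Finset.univ.filter (fun ψ' : ↥(P : Subgroup G) →* ℂˣ => dualRel ↥T ψ ψ')).card *
      Nat.card ↥CP = (CP).relIndex T * Nat.card ↥CP := by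
    rw [h1]
  exact Nat.eq_of_mul_eq_mul_right hpos h4

/-- The `T`-relation in terms of `dualTwist` for the action of `N_G(P)`. -/
theorem relT_iff_dualTwist (ψ ψ' : ↥(P : Subgroup G) →* ℂˣ) (n : G) (hn : n ∈ NP) :
    (∀ w w' : ↥(P : Subgroup G), (w' : G) = n * (w : G) * n⁻¹ → ψ' w' = ψ w) ↔
      dualTwist (⟨n, hn⟩ : ↥NP) ψ' = ψ := by
  constructor
  · intro h
    ext y
    rw [dualTwist_apply]
    exact congrArg _ (h y ((⟨n, hn⟩ : ↥NP) • y) rfl)
  · intro h w w' hw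
    have : w' = (⟨n, hn⟩ : ↥NP) • w := Subtype.ext hw
    rw [this, ← h, dualTwist_apply]

include hP in
open scoped Classical in
/-- The orbit of `θ` under `N_G(P)` has `|N : T|` elements. -/
theorem card_orbit_mul_relIndex (θ : IrrCharacter ↥CP) (hθ : θ ∈ Theta P) :
    ((Theta P).filter (fun θ' => θ' ∈ MulAction.orbit ↥NP θ)).card *
      (CP).relIndex (thetaStab P θ) = (CP).relIndex NP := by
  have hCN : CP ≤ NP := Subgroup.centralizer_le_normalizer _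
  have hfil : (Theta P).filter (fun θ' => θ' ∈ MulAction.orbit ↥NP θ) =
      Finset.univ.filter (fun θ' : IrrCharacter ↥CP => θ' ∈ MulAction.orbit ↥NP θ) := by
    ext θ'
    simp only [Finset.mem_filter, Finset.mem_univ, true_and]
    constructor
    · exact fun h => h.2
    · intro h
      refine ⟨?_, h⟩
      obtain ⟨n, rfl⟩ := h
      rw [mem_Theta]
      exact smul_trivial_on P n θ ((mem_Theta P θ).mp hθ)
  rw [hfil]
  have hOcard : (Finset.univ.filter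
      (fun θ' : IrrCharacter ↥CP => θ' ∈ MulAction.orbit ↥NP θ)).card =
      (MulAction.orbit ↥NP θ).ncard := by
    rw [← Set.ncard_coe_finset]
    congr 1
    ext θ'
    simp
  have hCpos : 0 < Nat.card ↥CP := Nat.card_pos
  have h1 : (MulAction.stabilizer ↥NP θ).index = (Finset.univ.filter
      (fun θ' : IrrCharacter ↥CP => θ' ∈ MulAction.orbit ↥NP θ)).card := by
    rw [MulAction.index_stabilizer, hOcard]
  have h2 := Subgroup.index_mul_card (MulAction.stabilizer ↥NP θ)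
  rw [h1, card_stabilizer_eq,
    card_eq_card_mul_relIndex (centralizer_le_thetaStab P θ),
    card_eq_card_mul_relIndex hCN] at h2
  have h3 : ((Finset.univ.filter
      (fun θ' : IrrCharacter ↥CP => θ' ∈ MulAction.orbit ↥NP θ)).card *
      (CP).relIndex (thetaStab P θ)) * Nat.card ↥CP = (CP).relIndex NP * Nat.card ↥CP := by
    rw [← h2]
    ring
  exact Nat.eq_of_mul_eq_mul_right hCpos h3

include hP in
open scoped Classical in
/-- **[BH-SSUM]** -/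
theorem ssum (hM : IsPModular p M) (θ : IrrCharacter ↥CP) (hθ : θ ∈ Theta P)
    {B : Set (IrrCharacter G)} (hind : IsInducedBlock M CP (blockOf M (θ : ↥CP → ℂ)) B)
    (Y : Finset (IrrCharacter G)) (ζ : (↥(P : Subgroup G) →* ℂˣ) → IrrCharacter G)
    (hYB : ∀ η ∈ Y, η ∈ B)
    (hζY : ∀ ψ : ↥(P : Subgroup G) →* ℂˣ, ψ ≠ 1 → ζ ψ ∈ Y)
    (hiff : ∀ ψ ψ' : ↥(P : Subgroup G) →* ℂˣ, ψ ≠ 1 → ψ' ≠ 1 →
      (ζ ψ = ζ ψ' ↔ ∃ n : G, n ∈ thetaStab P θ ∧
        ∀ w w' : ↥(P : Subgroup G), (w' : G) = n * (w : G) * n⁻¹ → ψ' w' = ψ w))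
    (hform : ∀ ψ : ↥(P : Subgroup G) →* ℂˣ, ψ ≠ 1 → ∀ y : ↥(P : Subgroup G), y ≠ 1 →
      fpart p CP (ζ ψ : G → ℂ) (θ : ↥CP → ℂ) (y : G) =
        ∑ᶠ ψ' ∈ {ψ' : ↥(P : Subgroup G) →* ℂˣ | ∃ n : G, n ∈ thetaStab P θ ∧
          ∀ w w' : ↥(P : Subgroup G), (w' : G) = n * (w : G) * n⁻¹ → ψ' w' = ψ w},
          ((ψ' y : ℂˣ) : ℂ))
    (hD : ∀ η ∈ Y, ∀ θ' ∈ Theta P, Dn P (η : G → ℂ) (θ' : ↥CP → ℂ) =
      if θ' ∈ MulAction.orbit ↥NP θ then (CP).relIndex (thetaStab P θ) else 0)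
    (ψ₀ : ↥(P : Subgroup G) →* ℂˣ) (hψ₀ : ψ₀ ≠ 1) :
    ∃ S : Finset (IrrCharacter G), ζ ψ₀ ∈ S ∧
      S.card * (CP).relIndex (thetaStab P θ) = (CP).relIndex NP ∧
      ((Theta P).filter (fun θ' => θ' ∈ MulAction.orbit ↥NP θ)).card *
        (CP).relIndex (thetaStab P θ) = (CP).relIndex NP ∧
      ∀ θ' ∈ Theta P, ∀ y : ↥(P : Subgroup G),
        fpart p CP (∑ η ∈ S, (η : G → ℂ)) (θ' : ↥CP → ℂ) (y : G) =
          if θ' ∈ MulAction.orbit ↥NP θ then etaN P ψ₀ y else 0 := by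
  have hTN : thetaStab P θ ≤ NP := thetaStab_le P θ
  have hCT : CP ≤ thetaStab P θ := centralizer_le_thetaStab P θ
  obtain ⟨Norb, hNorb⟩ : ∃ Norb : Finset (↥(P : Subgroup G) →* ℂˣ),
      Norb = Finset.univ.filter (fun ψ' : ↥(P : Subgroup G) →* ℂˣ =>
        ∃ m : ↥NP, dualTwist m ψ₀ = ψ') := ⟨_, rfl⟩
  obtain ⟨S, hS⟩ : ∃ S : Finset (IrrCharacter G),
      S = Finset.univ.filter (fun η : IrrCharacter G =>
        ∃ m : ↥NP, ζ (dualTwist m ψ₀) = η) := ⟨_, rfl⟩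
  have hmemN : ∀ ψ', ψ' ∈ Norb ↔ ∃ m : ↥NP, dualTwist m ψ₀ = ψ' := by
    intro ψ'
    rw [hNorb]
    simp only [Finset.mem_filter, Finset.mem_univ, true_and]
  have hmemS : ∀ η, η ∈ S ↔ ∃ m : ↥NP, ζ (dualTwist m ψ₀) = η := by
    intro η
    rw [hS]
    simp only [Finset.mem_filter, Finset.mem_univ, true_and]
  have hN1 : ∀ ψ' ∈ Norb, ψ' ≠ 1 := by
    intro ψ' h
    obtain ⟨m, rfl⟩ := (hmemN ψ').mp h
    exact dualTwist_ne_one m hψ₀
  have hmaps : ∀ ψ' ∈ Norb, ζ ψ' ∈ S := by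
    intro ψ' h
    obtain ⟨m, rfl⟩ := (hmemN ψ').mp h
    exact (hmemS _).mpr ⟨m, rfl⟩
  -- fibres
  have hfib : ∀ ψ ∈ Norb, Norb.filter (fun ψ' => ζ ψ' = ζ ψ) =
      Finset.univ.filter (fun ψ' : ↥(P : Subgroup G) →* ℂˣ =>
        ∃ n : G, n ∈ thetaStab P θ ∧
          ∀ w w' : ↥(P : Subgroup G), (w' : G) = n * (w : G) * n⁻¹ → ψ' w' = ψ w) := by
    intro ψ hψ
    ext ψ'
    simp only [Finset.mem_filter, Finset.mem_univ, true_and]
    constructor
    · rintro ⟨h1, h2⟩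
      exact (hiff ψ ψ' (hN1 ψ hψ) (hN1 ψ' h1)).mp h2.symm
    · rintro ⟨n, hn, h⟩
      have h3 := (relT_iff_dualTwist P ψ ψ' n (hTN hn)).mp h
      have h4 : ψ' = dualTwist (⟨n, hTN hn⟩ : ↥NP)⁻¹ ψ := by
        rw [← h3, dualTwist_inv_cancel]
      obtain ⟨m, hm⟩ := (hmemN ψ).mp hψ
      have h5 : ψ' ∈ Norb := by
        rw [hmemN]
        refine ⟨m * (⟨n, hTN hn⟩ : ↥NP)⁻¹, ?_⟩
        rw [dualTwist_mul, hm, h4]
      refine ⟨h5, ?_⟩
      exact ((hiff ψ ψ' (hN1 ψ hψ) (hN1 ψ' h5)).mpr ⟨n, hn, h⟩).symm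
  have hfibcard : ∀ η ∈ S, (Norb.filter (fun ψ' => ζ ψ' = η)).card =
      (CP).relIndex (thetaStab P θ) := by
    intro η hη
    obtain ⟨m, hm⟩ := (hmemS η).mp hη
    have hψ : dualTwist m ψ₀ ∈ Norb := (hmemN _).mpr ⟨m, rfl⟩
    rw [← hm, hfib _ hψ]
    exact card_relT_class P hP (thetaStab P θ) hCT hTN (hN1 _ hψ)
  have hNcard : Norb.card = (CP).relIndex NP := by
    rw [hNorb]
    exact Cfsg.Agent.Lib.Helper25.BHEta.card_orbitN P hP hψ₀
  have hScard : S.card * (CP).relIndex (thetaStab P θ) = (CP).relIndex NP := by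
    rw [← hNcard, Finset.card_eq_sum_card_fiberwise hmaps, Finset.sum_congr rfl hfibcard,
      Finset.sum_const, smul_eq_mul]
  have hSY : ∀ η ∈ S, η ∈ Y := by
    intro η hη
    obtain ⟨m, hm⟩ := (hmemS η).mp hη
    rw [← hm]
    exact hζY _ (dualTwist_ne_one m hψ₀)
  have hθorb : θ ∈ MulAction.orbit ↥NP θ := MulAction.mem_orbit_self θ
  -- the `θ`-parts
  have hpart : ∀ η ∈ S, ∀ y : ↥(P : Subgroup G),
      fpart p CP (η : G → ℂ) (θ : ↥CP → ℂ) (y : G) =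
        ∑ ψ' ∈ Norb.filter (fun ψ' => ζ ψ' = η), ((ψ' y : ℂˣ) : ℂ) := by
    intro η hη y
    by_cases hy : y = 1
    · rw [hy, OneMemClass.coe_one,
        Dn_spec P hP (IsIrrCharacter.isCharacter η.2) θ hθ, hD η (hSY η hη) θ hθ, if_pos hθorb,
        ← hfibcard η hη, Finset.card_eq_sum_ones, Nat.cast_sum]
      apply Finset.sum_congr rfl
      intro ψ' _
      rw [map_one, Units.val_one, Nat.cast_one]
    · obtain ⟨m, hm⟩ := (hmemS η).mp hη
      have hψ : dualTwist m ψ₀ ∈ Norb := (hmemN _).mpr ⟨m, rfl⟩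
      rw [← hm, hform _ (hN1 _ hψ) y hy, finsum_mem_eq_sum_filter_of_fintype, hfib _ hψ]
      rfl
  have hsumθ : ∀ y : ↥(P : Subgroup G),
      ∑ η ∈ S, fpart p CP (η : G → ℂ) (θ : ↥CP → ℂ) (y : G) = etaN P ψ₀ y := by
    intro y
    rw [Finset.sum_congr rfl (fun η hη => hpart η hη y),
      Finset.sum_fiberwise_of_maps_to hmaps, Cfsg.Agent.Lib.Helper25.BHEta.etaN_eq_sum, hNorb]
  refine ⟨S, (hmemS _).mpr ⟨1, by rw [dualTwist_one]⟩, hScard,
    card_orbit_mul_relIndex P hP θ hθ, ?_⟩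
  intro θ' hθ' y
  rw [fpart_sum]
  by_cases horb : θ' ∈ MulAction.orbit ↥NP θ
  · rw [if_pos horb]
    obtain ⟨n, hn, rfl⟩ := (mem_orbit_iff P θ θ').mp horb
    rw [Finset.sum_congr rfl (fun η _ =>
      fpart_thetaConj P (isClassFunction_irr η) n hn θ (y : G))]
    have h1 : n * (y : G) * n⁻¹ = (((⟨n, hn⟩ : ↥NP) • y : ↥(P : Subgroup G)) : G) := rfl
    rw [h1, hsumθ, Cfsg.Agent.Lib.Helper25.BHEta.etaN_smul]
  · rw [if_neg horb]
    apply Finset.sum_eq_zero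
    intro η hη
    by_cases hy : y = 1
    · rw [hy, OneMemClass.coe_one,
        Dn_spec P hP (IsIrrCharacter.isCharacter η.2) θ' hθ', hD η (hSY η hη) θ' hθ',
        if_neg horb, Nat.cast_zero]
    · exact Cfsg.Agent.Lib.Helper16.BHExt.fpart_eq_zero_off_orbit P hP hM θ hθ hind
        (hYB η (hSY η hη)) θ' hθ' horb y hy

end Cfsg.Agent.Lib.Helper78.BrauerHalfSsum
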