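import Cfsg.Agent.Lib.Helper16.LocalRing
import Cfsg.Agent.Lib.Helper16.ClassAlgebra

/-!
# Sums of class functions over sets stable under a `p`-group (helper78)

If a `p`-subgroup `T` of `G` stabilises (by conjugation) a finite set `s ⊆ G`, and `a` is a
class function with locally integral values whose sum over `s` is not in the local ideal, then
some `T`-fixed element `y ∈ s` has `a y` outside the local ideal.
-/

set_option autoImplicit false

namespace Cfsg.Agent.Lib.Helper78

open Cfsg Cfsg.Agent.Lib.Helper16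

section OrbitSum

variable {G : Type*} [Group G] [Fintype G] {M : Ideal AlgInt}

/-- Conjugation action of `T` on the non-fixed points of `s` in a given conjugacy class. -/
@[reducible] def nonfixedAction (T : Subgroup G) (s : Finset G)
    (hs : ∀ t ∈ T, ∀ y ∈ s, t * y * t⁻¹ ∈ s) (c : ConjClasses G) :
    MulAction T {y : G // y ∈ s ∧ (∃ t ∈ T, t * y * t⁻¹ ≠ y) ∧ ConjClasses.mk y = c} where
  smul u y := ⟨(u : G) * y.1 * (u : G)⁻¹, hs u u.2 y.1 y.2.1, by
    obtain ⟨t, ht, hty⟩ := y.2.2.1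
    by_contra hcon
    push Not at hcon
    -- `u y u⁻¹` is fixed by all of `T`, hence so is `y`
    have h1 := hcon (u : G)⁻¹ (T.inv_mem u.2)
    have h2 : y.1 = (u : G) * y.1 * (u : G)⁻¹ := by
      rw [← h1]; group
    apply hty
    have h3 := hcon t ht
    rw [← h2] at h3
    exact h3, by
    refine Eq.trans ?_ y.2.2.2
    rw [ConjClasses.mk_eq_mk_iff_isConj]
    exact isConj_iff.mpr ⟨(u : G)⁻¹, by group⟩⟩
  one_smul y := by
    apply Subtype.ext
    show ((1 : T) : G) * y.1 * ((1 : T) : G)⁻¹ = y.1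
    simp
  mul_smul u v y := by
    apply Subtype.ext
    show ((u * v : T) : G) * y.1 * ((u * v : T) : G)⁻¹ =
      (u : G) * ((v : G) * y.1 * (v : G)⁻¹) * (u : G)⁻¹
    simp only [Subgroup.coe_mul, mul_inv_rev]
    group

omit [Fintype G] in
theorem dvd_card_nonfixed {p : ℕ} [Fact p.Prime] (T : Subgroup G) (hT : IsPGroup p T)
    (s : Finset G) (hs : ∀ t ∈ T, ∀ y ∈ s, t * y * t⁻¹ ∈ s) (c : ConjClasses G) :
    p ∣ Nat.card {y : G // y ∈ s ∧ (∃ t ∈ T, t * y * t⁻¹ ≠ y) ∧ ConjClasses.mk y = c} := by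
  classical
  let _ := nonfixedAction T s hs c
  by_contra hnd
  obtain ⟨y, hy⟩ := hT.nonempty_fixed_point_of_prime_not_dvd_card
    {y : G // y ∈ s ∧ (∃ t ∈ T, t * y * t⁻¹ ≠ y) ∧ ConjClasses.mk y = c} hnd
  obtain ⟨t, ht, hty⟩ := y.2.2.1
  apply hty
  have hfix : (⟨t, ht⟩ : T) • y = y := hy ⟨t, ht⟩
  exact congrArg Subtype.val hfix

open scoped Classical in
theorem exists_fixed_of_sum_not_memLocalIdeal {p : ℕ} [Fact p.Prime] (hM : IsPModular p M)
    (T : Subgroup G) (hT : IsPGroup p T) (s : Finset G)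
    (hs : ∀ t ∈ T, ∀ y ∈ s, t * y * t⁻¹ ∈ s) (a : G → ℂ)
    (ha : ∀ g h : G, a (h * g * h⁻¹) = a g) (haR : ∀ g, MemLocalRing M (a g))
    (hsum : ¬ MemLocalIdeal M (∑ y ∈ s, a y)) :
    ∃ y ∈ s, (∀ t ∈ T, t * y * t⁻¹ = y) ∧ ¬ MemLocalIdeal M (a y) := by
  have hMp := isPModular_isPrime hM
  by_contra hcon
  push Not at hcon
  apply hsum
  rw [← Finset.sum_filter_add_sum_filter_not s (fun y => ∀ t ∈ T, t * y * t⁻¹ = y)]
  apply memLocalIdeal_add
  · apply memLocalIdeal_sum
    intro y hy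
    rw [Finset.mem_filter] at hy
    exact hcon y hy.1 hy.2
  · rw [← Finset.sum_fiberwise_of_maps_to
      (s := s.filter (fun y => ¬ ∀ t ∈ T, t * y * t⁻¹ = y))
      (t := (Finset.univ : Finset (ConjClasses G)))
      (g := fun y : G => ConjClasses.mk y) (fun _ _ => Finset.mem_univ _)]
    apply memLocalIdeal_sum
    intro c _
    have hconst : ∀ y ∈ (s.filter (fun y => ¬ ∀ t ∈ T, t * y * t⁻¹ = y)).filter
        (fun y : G => ConjClasses.mk y = c), a y = a (classRep c) := by
      intro y hy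
      have h2 := (Finset.mem_filter.mp hy).2
      have h3 : IsConj (classRep c) y := by
        rw [← h2]
        exact isConj_classRep_mk y
      obtain ⟨d, hd⟩ := isConj_iff.mp h3
      rw [← hd, ha]
    rw [Finset.sum_congr rfl hconst, Finset.sum_const, nsmul_eq_mul]
    apply memLocalIdeal_mul_right _ (haR _)
    rw [memLocalIdeal_natCast_iff hM]
    have hcard : ((s.filter (fun y => ¬ ∀ t ∈ T, t * y * t⁻¹ = y)).filter
        (fun y : G => ConjClasses.mk y = c)).card =
        Nat.card {y : G // y ∈ s ∧ (∃ t ∈ T, t * y * t⁻¹ ≠ y) ∧ ConjClasses.mk y = c} := by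
      rw [Nat.card_eq_fintype_card, Fintype.card_subtype, Finset.filter_filter]
      congr 1
      ext y
      simp only [Finset.mem_filter, Finset.mem_univ, true_and, not_forall]
      constructor
      · rintro ⟨h1, ⟨t, ht, hty⟩, h3⟩
        exact ⟨h1, ⟨t, ht, hty⟩, h3⟩
      · rintro ⟨h1, ⟨t, ht, hty⟩, h3⟩
        exact ⟨h1, ⟨t, ht, hty⟩, h3⟩
    rw [hcard]
    exact dvd_card_nonfixed T hT s hs c

end OrbitSum

end Cfsg.Agent.Lib.Helper78
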