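import Cfsg.Agent.Lib.Helper78.PGroupIdem
import Cfsg.Agent.Lib.Helper16.MinMax
import Cfsg.Agent.Lib.Helper16.LocalRing

/-!
# Central idempotents modulo the local ideal and `p`-subgroups (helper78)

Transfer of `idem_mul_subgroupSum_ne_zero` to the congruence framework: a central element `E` of
`ℂ[C]` with locally integral coefficients, idempotent modulo the local ideal and not `≡ 0`, is not
annihilated modulo the local ideal by the sum of a `p`-subgroup.
-/

set_option autoImplicit false

namespace Cfsg.Agent.Lib.Helper78

open Cfsg MonoidAlgebra Cfsg.Agent.Lib.Helper16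

section Local

variable {C : Type*} [Group C] [Fintype C] {M : Ideal AlgInt}

open scoped Classical in
theorem exists_coeff_mul_subgroupSum_not_memLocalIdeal {p : ℕ} [hp : Fact p.Prime]
    (hM : IsPModular p M) (E : MonoidAlgebra ℂ C)
    (hEc : E ∈ Subalgebra.center ℂ (MonoidAlgebra ℂ C)) (hER : CoeffsInRing M E)
    (hEE : CoeffsInIdeal M (E * E - E)) (hE0 : ¬ CoeffsInIdeal M E)
    (R : Subgroup C) [Fintype R] (hR : IsPGroup p R) :
    ∃ c : C, ¬ MemLocalIdeal M ((E * ∑ r : R, single (r : C) (1 : ℂ)).coeff c) := by
  haveI hMp : M.IsPrime := isPModular_isPrime hM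
  -- the residue ring
  let ι : localSubring M →+* ℂ := (localSubring M).subtype
  let π : localSubring M →+* (localSubring M ⧸ localIdeal M) := Ideal.Quotient.mk (localIdeal M)
  haveI : Nontrivial (localSubring M ⧸ localIdeal M) :=
    Ideal.Quotient.nontrivial_iff.mpr localIdeal_ne_top
  haveI : CharP (localSubring M ⧸ localIdeal M) p := by
    rw [CharP.charP_iff_prime_eq_zero hp.out]
    have h1 : ((p : localSubring M)) ∈ localIdeal M := by
      rw [mem_localIdeal]
      have := memLocalIdeal_p hM
      simpa using this
    have h2 : π (p : localSubring M) = 0 := Ideal.Quotient.eq_zero_iff_mem.mpr h1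
    simpa using h2
  -- the lift of `E` to the local ring
  obtain ⟨E', hE'def⟩ : ∃ E' : MonoidAlgebra (localSubring M) C,
      E' = ∑ c : C, single c (⟨E.coeff c, hER c⟩ : localSubring M) := ⟨_, rfl⟩
  have hE'coeff : ∀ c : C, ((E'.coeff c : localSubring M) : ℂ) = E.coeff c := by
    intro c
    rw [hE'def, coeff_sum, Finsupp.finsetSum_apply, Finset.sum_eq_single c]
    · simp [coeff_single]
    · intro b _ hb
      simp [coeff_single, hb]
    · intro h; exact absurd (Finset.mem_univ c) h
  have hιE : mapRingHom C ι E' = E := by
    ext c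
    rw [coeff_mapRingHom]
    exact hE'coeff c
  have hιinj : Function.Injective (mapRingHom C ι) := by
    intro y y' h
    ext c
    have := congrArg (fun w : MonoidAlgebra ℂ C => w.coeff c) h
    simp only [coeff_mapRingHom] at this
    exact this
  have hker : ∀ y : MonoidAlgebra (localSubring M) C,
      CoeffsInIdeal M (mapRingHom C ι y) → mapRingHom C π y = 0 := by
    intro y hy
    ext c
    rw [coeff_mapRingHom]
    have := hy c
    rw [coeff_mapRingHom] at this
    exact Ideal.Quotient.eq_zero_iff_mem.mpr this
  obtain ⟨z, hzdef⟩ : ∃ z : MonoidAlgebra (localSubring M ⧸ localIdeal M) C,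
      z = mapRingHom C π E' := ⟨_, rfl⟩
  -- idempotent
  have hzz : z * z = z := by
    rw [hzdef, ← map_mul, ← sub_eq_zero, ← map_sub]
    apply hker
    rw [map_sub, map_mul, hιE]
    exact hEE
  -- central
  have hzc : ∀ c : C, z * single c 1 = single c 1 * z := by
    intro c
    have h1 : E' * single c 1 = single c 1 * E' := by
      apply hιinj
      rw [map_mul, map_mul, hιE, mapRingHom_single, map_one]
      exact ((Subalgebra.mem_center_iff.mp hEc) (single c 1)).symm
    have h2 := congrArg (mapRingHom C π) h1
    rw [map_mul, map_mul, mapRingHom_single, map_one, ← hzdef] at h2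
    exact h2
  -- nonzero
  have hz0 : z ≠ 0 := by
    intro h
    apply hE0
    intro c
    have h1 := congrArg (fun w : MonoidAlgebra (localSubring M ⧸ localIdeal M) C => w.coeff c) h
    simp only [hzdef, coeff_mapRingHom, coeff_zero, Finsupp.zero_apply] at h1
    have h2 := Ideal.Quotient.eq_zero_iff_mem.mp h1
    rw [mem_localIdeal, hE'coeff] at h2
    exact h2
  have hmain := idem_mul_subgroupSum_ne_zero (p := p) z hzc hzz hz0 R hR
  by_contra hcon
  push Not at hcon
  apply hmain
  have h3 : z * ∑ r : R, single (r : C) (1 : localSubring M ⧸ localIdeal M) =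
      mapRingHom C π (E' * ∑ r : R, single (r : C) (1 : localSubring M)) := by
    rw [map_mul, map_sum, hzdef]
    congr 1
    apply Finset.sum_congr rfl
    intro r _
    rw [mapRingHom_single, map_one]
  rw [h3]
  apply hker
  rw [map_mul, map_sum, hιE]
  have h4 : ∑ r : R, mapRingHom C ι (single (r : C) (1 : localSubring M)) =
      ∑ r : R, single (r : C) (1 : ℂ) := by
    apply Finset.sum_congr rfl
    intro r _
    rw [mapRingHom_single, map_one]
  rw [h4]
  exact hcon

end Local

end Cfsg.Agent.Lib.Helper78
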