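import Mathlib
import Cfsg.Agent.Lib.Helper30.BSW.CharDefs
import Cfsg.Agent.Lib.Helper79.ClassCount

set_option autoImplicit false

/-!
# S3282 (abstract Brauer-Suzuki-Wall), module [C1] (helper78)

Six elementary lemmas on the integers `aco K χ ψ = ⟨χ|_K, 1⟩ - ⟨χ|_K, ψ⟩`.
-/

namespace Cfsg.Agent.Lib.Helper78.BSWC1

open Cfsg Cfsg.Agent.Lib.Helper30.BSW Cfsg.Agent.Lib.Helper78
open scoped ComplexConjugate IsMulCommutative

variable {G : Type*} [Group G] [Fintype G] {t s : G} {K : Subgroup G} [IsMulCommutative ↥K]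
  [Fintype ↥K] [Fintype (↥K →* ℂˣ)]

omit [Fintype (↥K →* ℂˣ)] in
theorem aco_one (χ : IrrCharacter G) : aco K χ 1 = 0 := by
  have h := aco_spec K χ (1 : ↥K →* ℂˣ)
  rw [gco_one] at h
  exact_mod_cast h.symm

omit [Fintype (↥K →* ℂˣ)] in
theorem aco_oneIrr {ψ : ↥K →* ℂˣ} (hψ : ψ ≠ 1) : aco K (oneIrr G) ψ = 1 := by
  have h := aco_spec K (oneIrr G) ψ
  have h2 : (fun y : ↥K => (oneIrr G : G → ℂ) (y : G)) = fun _ => (1 : ℂ) := rfl
  rw [h2, gco_const hψ] at h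
  exact_mod_cast h.symm

omit [Fintype (↥K →* ℂˣ)] in
theorem aco_inv (h : Hyp t s K) (χ : IrrCharacter G) (ψ : ↥K →* ℂˣ) :
    aco K χ ψ⁻¹ = aco K χ ψ := by
  have h1 := aco_spec K χ ψ⁻¹
  have h2 := aco_spec K χ ψ
  have key : gco (fun y : ↥K => (χ : G → ℂ) (y : G)) ψ⁻¹ =
      gco (fun y : ↥K => (χ : G → ℂ) (y : G)) ψ := by
    unfold gco
    congr 1
    rw [← Equiv.sum_comp (Equiv.inv ↥K)]
    apply Finset.sum_congr rfl
    intro y _
    simp only [Equiv.inv_apply]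
    have hcl : (χ : G → ℂ) ((y⁻¹ : ↥K) : G) = (χ : G → ℂ) (y : G) := by
      have hinv := h.hinv (y : G) y.2
      rw [Subgroup.coe_inv, ← hinv]
      exact isClassFunction_irr χ _ _
    rw [hcl]
    congr 2
    rw [MonoidHom.inv_apply, map_inv, inv_inv]
  rw [key, h2] at h1
  exact_mod_cast h1.symm

theorem apply_eq_neg_sum_aco (χ : IrrCharacter G) {y : G} (hy : y ∈ K) (hy1 : y ≠ 1) :
    (χ : G → ℂ) y = - ∑ ψ : ↥K →* ℂˣ, (aco K χ ψ : ℂ) * ((ψ ⟨y, hy⟩ : ℂˣ) : ℂ) := by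
  have hne : (⟨y, hy⟩ : ↥K) ≠ 1 := by
    intro h
    apply hy1
    have := congrArg Subtype.val h
    simpa using this
  have h := eq_neg_sum_gco (fun z : ↥K => (χ : G → ℂ) (z : G)) hne
  simp only at h
  rw [h]
  congr 1
  apply Finset.sum_congr rfl
  intro ψ _
  rw [aco_spec]

omit [Fintype (↥K →* ℂˣ)] in
theorem sum_aco_mul_apply (ψ : ↥K →* ℂˣ) (x : G)
    (hx : ∀ y ∈ K, y ≠ 1 → ¬ IsConj y x⁻¹) :
    ∑ χ : IrrCharacter G, (aco K χ ψ : ℂ) * (χ : G → ℂ) x = 0 := by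
  have h := sum_gco_mul_eq_zero (I := IrrCharacter G)
    (fun χ (y : ↥K) => (χ : G → ℂ) (y : G)) (fun χ => (χ : G → ℂ) x) ?_ ψ
  · rw [← h]
    apply Finset.sum_congr rfl
    intro χ _
    rw [aco_spec]
  · intro y hy
    have hy1 : (y : G) ≠ 1 := by
      intro h1
      apply hy
      exact Subtype.ext h1
    have h2 := second_orthogonality_of_not_isConj (hx (y : G) y.2 hy1)
    rw [← h2]
    apply Finset.sum_congr rfl
    intro χ _
    have h3 := IsCharacter.inv (IsIrrCharacter.isCharacter χ.2) x⁻¹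
    rw [inv_inv] at h3
    rw [h3]

theorem aco_cong (χ : IrrCharacter G) :
    (Nat.card K : ℤ) ∣ (charDegree (χ : G → ℂ) : ℤ) + ∑ ψ : ↥K →* ℂˣ, aco K χ ψ := by
  classical
  obtain ⟨m, hm⟩ := Cfsg.Agent.Lib.Helper79.sum_subgroup_irr χ K
  refine ⟨(m : ℤ), ?_⟩
  have hk : (Fintype.card ↥K : ℂ) ≠ 0 := by exact_mod_cast Fintype.card_ne_zero
  have hcast : (((charDegree (χ : G → ℂ) : ℤ) + ∑ ψ : ↥K →* ℂˣ, aco K χ ψ : ℤ) : ℂ) =
      (((Nat.card K : ℤ) * (m : ℤ) : ℤ) : ℂ) := by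
    push_cast
    have h1 : ∀ ψ : ↥K →* ℂˣ, (aco K χ ψ : ℂ) =
        (Fintype.card ↥K : ℂ)⁻¹ * ∑ y : ↥K, (χ : G → ℂ) (y : G) * (1 - conj ((ψ y : ℂˣ) : ℂ)) := by
      intro ψ
      rw [← aco_spec]
      rfl
    rw [Finset.sum_congr rfl (fun ψ _ => h1 ψ), ← Finset.mul_sum, Finset.sum_comm]
    have h2 : ∀ y : ↥K, ∑ ψ : ↥K →* ℂˣ, (χ : G → ℂ) (y : G) * (1 - conj ((ψ y : ℂˣ) : ℂ)) =
        (χ : G → ℂ) (y : G) * ((Fintype.card ↥K : ℂ) -
          if y = 1 then (Fintype.card ↥K : ℂ) else 0) := by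
      intro y
      rw [← Finset.mul_sum, Finset.sum_sub_distrib]
      congr 1
      have h3 : ∑ ψ : ↥K →* ℂˣ, conj ((ψ y : ℂˣ) : ℂ) =
          if y = 1 then (Fintype.card ↥K : ℂ) else 0 := by
        rw [← map_sum, dual_sum_apply]
        split_ifs <;> simp
      rw [h3]
      simp [dual_card]
    rw [Finset.sum_congr rfl (fun y _ => h2 y)]
    have h4 : ∑ y : ↥K, (χ : G → ℂ) (y : G) * ((Fintype.card ↥K : ℂ) -
          if y = 1 then (Fintype.card ↥K : ℂ) else 0) =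
        (Fintype.card ↥K : ℂ) * (∑ y : ↥K, (χ : G → ℂ) (y : G)) -
          (Fintype.card ↥K : ℂ) * (χ : G → ℂ) 1 := by
      simp only [mul_sub, Finset.sum_sub_distrib, mul_ite, mul_zero]
      rw [Finset.sum_ite_eq' Finset.univ (1 : ↥K)]
      simp only [Finset.mem_univ, if_true, Subgroup.coe_one]
      rw [Finset.mul_sum]
      congr 1
      · apply Finset.sum_congr rfl
        intro y _
        ring
      · ring
    rw [h4, hm, IsCharacter.apply_one_eq_charDegree (IsIrrCharacter.isCharacter χ.2),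
      Nat.card_eq_fintype_card]
    field_simp
    ring
  exact_mod_cast hcast

end Cfsg.Agent.Lib.Helper78.BSWC1
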