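import Mathlib
import Cfsg.Agent.Lib.Helper30.BSW.Defs
import Cfsg.Agent.Lib.Helper78.CharOrtho

set_option autoImplicit false

/-!
# S3282 (abstract Brauer-Suzuki-Wall), module [F2h] (helper78)

`concl_of_neg_data`: the conclusion `Concl G` from the final data of the case `δ = -1`
(`q = 2k - 1`): pure arithmetic and `Subgroup.inf_eq_bot_of_coprime`.
-/

open Cfsg Cfsg.Agent.Lib.Helper30.BSW

namespace Cfsg.Agent.Lib.Helper78.BSWF2h

variable {G : Type*} [Group G] {t s : G} {K : Subgroup G}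

theorem concl_of_neg_data [Finite G] (hk : 4 ≤ Nat.card K) (Q D : Subgroup G) (u : G)
    (hcard : Nat.card G = 2 * Nat.card K * (2 * Nat.card K - 1) * (Nat.card K - 1))
    (hQcard : Nat.card Q = 2 * Nat.card K - 1)
    (hQ : ∀ y ∈ Q, y ≠ 1 → Subgroup.centralizer ({y} : Set G) = Q)
    (hDab : ∀ a ∈ D, ∀ c ∈ D, a * c = c * a)
    (hDcard : Nat.card D + 1 = Nat.card K)
    (hN : Subgroup.normalizer (Q : Set G) = Q ⊔ D)
    (hu : orderOf u = 2) (huD : u ∉ D)
    (hinv : ∀ d ∈ D, u * d * u⁻¹ = d⁻¹)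
    (hND : Subgroup.normalizer (D : Set G) = D ⊔ Subgroup.zpowers u)
    (hX : ∀ X : Subgroup G, X ≤ D → X ≠ ⊥ →
      Subgroup.normalizer (X : Set G) = Subgroup.normalizer (D : Set G)) : Concl G := by
  obtain ⟨k, hkdef⟩ : ∃ k, k = Nat.card K := ⟨_, rfl⟩
  obtain ⟨d, hddef⟩ : ∃ d, d = Nat.card D := ⟨_, rfl⟩
  rw [← hkdef] at hk hcard hQcard hDcard
  rw [← hddef] at hDcard
  have hkd : k = d + 1 := hDcard.symm
  subst hkd
  have hQc : Nat.card Q = 2 * d + 1 := by rw [hQcard]; omega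
  refine ⟨Q, D, ?_, hQ, ?_, ?_, ?_, hN, ?_⟩
  · rw [hcard, hQc]
    have h1 : 2 * (d + 1) - 1 = 2 * d + 1 := by omega
    have h2 : d + 1 - 1 = d := by omega
    have h3 : 2 * d + 1 - 1 = 2 * d := by omega
    rw [h1, h2, h3]
    ring
  · exact ⟨⟨fun a b => Subtype.ext (hDab a.1 a.2 b.1 b.2)⟩⟩
  · rw [hQc, ← hddef]
  · have h : Nat.Coprime (2 * d + 1) d := by simp
    have hdis : Disjoint Q D := by
      apply Subgroup.disjoint_of_coprime_natCard
      rw [hQc, ← hddef]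
      exact h
    exact hdis.eq_bot
  · intro X hXD hXne
    exact ⟨hX X hXD hXne, u, hu, huD, hinv, hND⟩

end Cfsg.Agent.Lib.Helper78.BSWF2h
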