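import Mathlib
import Cfsg.Agent.Lib.Helper76.Gag.Defs2
import Cfsg.Agent.Lib.Helper95.GagStar
import Cfsg.Agent.Lib.Helper93.GagZeq

/-!
# Project GAG (helper76), module GAG-[QUOT] (helper78): the centre of `H₁ = W / R` is `Z₁ / R`
-/

set_option autoImplicit false

namespace Cfsg.Agent.Lib.Helper76.Gag

open scoped commutatorElement IsMulCommutative
open Cfsg.Agent.Lib.Helper3.Wreath

universe u

section level2

variable (p : ℕ) [Fact p.Prime] {K : Type u} [Group K] (s : K →* Cp p) (c : Subgroup.center K)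

/-- the image of `Z₁` in `H₁` -/
def Z1img (h : StepHyp p s c) : Subgroup (H1 p s c h) :=
  (Z1sub p s c h).map (QuotientGroup.mk' (Rsub p s c h))

theorem mk_mem_Z1img_iff (h : StepHyp p s c) (w : K ≀ᵣ Cp p) :
    (QuotientGroup.mk w : H1 p s c h) ∈ Z1img p s c h ↔ w ∈ Z1set p s c := by
  constructor
  · rintro ⟨z, hz, hzw⟩
    have hz' : z ∈ Z1set p s c := hz
    have h1 : (QuotientGroup.mk z : H1 p s c h) = QuotientGroup.mk w := hzw
    have h2 : z⁻¹ * w ∈ Rsub p s c h := QuotientGroup.eq.mp h1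
    have h3 : z⁻¹ * w ∈ Z1set p s c := Rset_subset_Z1set p s c h h2
    have h4 := mul_mem_Z1set p s c h hz' h3
    rwa [mul_inv_cancel_left] at h4
  · intro hw
    exact ⟨w, hw, rfl⟩

theorem Z1img_le_center (h : StepHyp p s c) : Z1img p s c h ≤ Subgroup.center (H1 p s c h) := by
  rintro _ ⟨z, hz, rfl⟩
  have hz' : z ∈ Z1set p s c := hz
  rw [Subgroup.mem_center_iff]
  intro x
  obtain ⟨w, rfl⟩ := QuotientGroup.mk_surjective x
  have h1 : ⁅w, z⁆ ∈ Rsub p s c h := comm_mem_Rset p s c h w hz'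
  have h2 : (QuotientGroup.mk ⁅w, z⁆ : H1 p s c h) = 1 := (QuotientGroup.eq_one_iff _).mpr h1
  show (QuotientGroup.mk w : H1 p s c h) * QuotientGroup.mk z =
    QuotientGroup.mk z * QuotientGroup.mk w
  rw [← QuotientGroup.mk_mul, ← QuotientGroup.mk_mul]
  have h3 : w * z = ⁅w, z⁆ * (z * w) := by
    rw [commutatorElement_def]
    group
  rw [h3, QuotientGroup.mk_mul, h2, one_mul]

theorem star_Z1img (h : StepHyp p s c) (x : H1 p s c h) (hx : x ∉ Z1img p s c h) :
    ∃ g : H1 p s c h, ⁅x, g⁆ ∈ Z1img p s c h ∧ ⁅x, g⁆ ≠ 1 := by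
  obtain ⟨w, rfl⟩ := QuotientGroup.mk_surjective x
  have hw : w ∉ Z1set p s c := fun hw => hx ((mk_mem_Z1img_iff p s c h w).mpr hw)
  obtain ⟨y, hy1, hy2⟩ := star_W p s c h w hw
  refine ⟨QuotientGroup.mk y, ?_, ?_⟩
  · have : ⁅(QuotientGroup.mk w : H1 p s c h), (QuotientGroup.mk y : H1 p s c h)⁆ =
        (QuotientGroup.mk ⁅w, y⁆ : H1 p s c h) := by
      rw [commutatorElement_def, commutatorElement_def]
      rfl
    rw [this]
    exact (mk_mem_Z1img_iff p s c h _).mpr hy1
  · intro h1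
    apply hy2
    have : ⁅(QuotientGroup.mk w : H1 p s c h), (QuotientGroup.mk y : H1 p s c h)⁆ =
        (QuotientGroup.mk ⁅w, y⁆ : H1 p s c h) := by
      rw [commutatorElement_def, commutatorElement_def]
      rfl
    rw [this] at h1
    exact (QuotientGroup.eq_one_iff _).mp h1

theorem Z1img_eq_center (h : StepHyp p s c) : Z1img p s c h = Subgroup.center (H1 p s c h) :=
  (center_eq_of_star (Z1img p s c h) (Z1img_le_center p s c h) (star_Z1img p s c h)).1

/-- the image of `w` in `H₁` is central iff `w ∈ Z1set` -/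
theorem mk_mem_center_iff (h : StepHyp p s c) (w : K ≀ᵣ Cp p) :
    (QuotientGroup.mk w : H1 p s c h) ∈ Subgroup.center (H1 p s c h) ↔ w ∈ Z1set p s c := by
  rw [← Z1img_eq_center p s c h]
  exact mk_mem_Z1img_iff p s c h w

theorem starC_H1 (h : StepHyp p s c) : StarC (H1 p s c h) :=
  (center_eq_of_star (Z1img p s c h) (Z1img_le_center p s c h) (star_Z1img p s c h)).2

end level2

end Cfsg.Agent.Lib.Helper76.Gag
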