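import Mathlib
import Cfsg.Agent.Lib.Helper58.IP26.Defs
import Cfsg.Agent.Lib.Helper80.ItoMichler
import Cfsg.Agent.Lib.Helper80.TwoDeg
import Cfsg.Agent.Lib.Helper80.Gallagher

/-!
# Project IP26 (S4463, coordinator helper58): module [BETA] (helper78)

`two_mul_degree_le_of_perfect`: if `P` is a perfect nontrivial normal subgroup of `G` then
`2 b(C_G(P)) ≤ b(G)`.
-/

set_option autoImplicit false
set_option linter.style.haveILetI false

namespace Cfsg.Agent.Lib.Helper58.IP26

open Cfsg
open scoped commutatorElement ComplexConjugate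

universe u

variable {G : Type u} [Group G] [Finite G] {b : ℕ}

/-- If `C` is a normal subgroup with nonabelian quotient then `2 b(C) ≤ b(G)`. -/
theorem two_mul_degree_le_of_nonabelian_quotient_h78 (hb : IsMaxDeg G b) (C : Subgroup G)
    [C.Normal] (hC : ¬ commutator G ≤ C) (η : IrrCharacter C) :
    2 * charDegree (η : C → ℂ) ≤ b := by
  classical
  let _ : Fintype G := Fintype.ofFinite G
  let _ : Fintype C := Fintype.ofFinite C
  let _ : Fintype (G ⧸ C) := Fintype.ofFinite _
  obtain ⟨χ, hχ, hover⟩ := Helper80.exists_irr_over' C η.2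
  have hdvd : charDegree (η : C → ℂ) ∣ charDegree χ :=
    Helper80.charDegree_dvd_of_over C hχ η.2 hover
  have hχb : charDegree χ ≤ b := hb.le ⟨χ, hχ⟩
  have hηpos : 0 < charDegree (η : C → ℂ) := Helper78.IsIrrCharacter.charDegree_pos η.2
  have hχpos : 0 < charDegree χ := Helper78.IsIrrCharacter.charDegree_pos hχ
  by_cases heq : charDegree χ = charDegree (η : C → ℂ)
  · -- `χ` restricts to `η`
    have hres : (fun n : C => χ n) = (η : C → ℂ) := by
      apply Helper80.eq_of_constituent_of_degree_eq
        (Helper80.isCharacter_restrict C (Helper80.isCharacter_of_isIrr hχ)) η.2 hover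
      show χ ((1 : C) : G) = (η : C → ℂ) 1
      rw [Subgroup.coe_one, Helper78.IsCharacter.apply_one_eq_charDegree
        (Helper78.IsIrrCharacter.isCharacter hχ), Helper78.IsCharacter.apply_one_eq_charDegree
        (Helper78.IsIrrCharacter.isCharacter η.2), heq]
    have hχN : IsIrrCharacter C (fun n : C => χ n) := by rw [hres]; exact η.2
    -- a nonlinear character of the quotient
    have hnl : ¬ ∀ β : IrrCharacter (G ⧸ C), charDegree (β : G ⧸ C → ℂ) = 1 := by
      intro hall
      have hcomm := Helper80.commutative_of_forall_charDegree_eq_one hall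
      apply hC
      rw [commutator_def, Subgroup.commutator_le]
      intro x _ y _
      rw [← QuotientGroup.eq_one_iff, commutatorElement_def]
      simp only [QuotientGroup.mk_mul, QuotientGroup.mk_inv]
      rw [hcomm (x : G ⧸ C) (y : G ⧸ C)]
      group
    push Not at hnl
    obtain ⟨β, hβ⟩ := hnl
    have hβpos : 0 < charDegree (β : G ⧸ C → ℂ) := Helper78.IsIrrCharacter.charDegree_pos β.2
    have hirr := Helper80.gallagher_irr C hχ hχN β
    have hle := hb.le ⟨_, hirr⟩
    have hdeg : charDegree (Helper80.infl C β * χ) =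
        charDegree (β : G ⧸ C → ℂ) * charDegree χ := by
      apply Helper80.charDegree_natCast
      rw [Pi.mul_apply]
      show ((Helper77.inflate C β : IrrCharacter G) : G → ℂ) 1 * χ 1 = _
      rw [Helper77.inflate_apply, QuotientGroup.mk_one,
        Helper78.IsCharacter.apply_one_eq_charDegree (Helper78.IsIrrCharacter.isCharacter hχ),
        Helper78.IsCharacter.apply_one_eq_charDegree (Helper78.IsIrrCharacter.isCharacter β.2)]
      push_cast
      ring
    simp only at hle
    rw [hdeg, heq] at hle
    have h2 : 2 ≤ charDegree (β : G ⧸ C → ℂ) := by omega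
    calc 2 * charDegree (η : C → ℂ) ≤ charDegree (β : G ⧸ C → ℂ) * charDegree (η : C → ℂ) :=
          Nat.mul_le_mul_right _ h2
      _ ≤ b := hle
  · obtain ⟨k, hk⟩ := hdvd
    have hk2 : 2 ≤ k := by
      rcases Nat.lt_or_ge k 2 with h | h
      · exfalso
        interval_cases k
        · rw [mul_zero] at hk; omega
        · rw [mul_one] at hk; exact heq hk
      · exact h
    calc 2 * charDegree (η : C → ℂ) ≤ k * charDegree (η : C → ℂ) := Nat.mul_le_mul_right _ hk2
      _ = charDegree χ := by rw [hk, mul_comm]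
      _ ≤ b := hχb

/-- IP26-[BETA]: if `P` is a perfect nontrivial normal subgroup then `2 b(C_G(P)) ≤ b(G)`. -/
theorem two_mul_degree_le_of_perfect (hb : IsMaxDeg G b) (P : Subgroup G) [P.Normal]
    (hperf : ⁅P, P⁆ = P) (hP : P ≠ ⊥)
    (η : IrrCharacter (Subgroup.centralizer (P : Set G))) :
    2 * charDegree (η : Subgroup.centralizer (P : Set G) → ℂ) ≤ b := by
  apply two_mul_degree_le_of_nonabelian_quotient_h78 hb
  intro hle
  apply hP
  have h1 : P ≤ Subgroup.centralizer (P : Set G) := by
    calc P = ⁅P, P⁆ := hperf.symm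
      _ ≤ ⁅(⊤ : Subgroup G), ⊤⁆ := Subgroup.commutator_mono le_top le_top
      _ = commutator G := (commutator_def G).symm
      _ ≤ _ := hle
  have h2 : ⁅P, P⁆ = ⊥ := Subgroup.commutator_eq_bot_iff_le_centralizer.mpr h1
  rw [← hperf, h2]

end Cfsg.Agent.Lib.Helper58.IP26
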