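import Mathlib
import Cfsg.Agent.Lib.Helper58.IP26.Defs
import Cfsg.Agent.Lib.Helper80.ItoMichler
import Cfsg.Agent.Lib.Helper80.TwoDeg
import Cfsg.Agent.Lib.Helper81.TISylowChar

/-!
# Project IP26 (S4463, coordinator helper58): module [PERF] (helper78)

`three_le_of_perfect`: a finite group with a perfect nontrivial subgroup has an irreducible
character of degree at least `3`.
-/

set_option autoImplicit false
set_option linter.style.haveILetI false

namespace Cfsg.Agent.Lib.Helper58.IP26

open Cfsg
open scoped commutatorElement ComplexConjugate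

universe u

variable {G : Type u} [Group G] [Finite G] {b : ℕ}

/-- helper78's own copy of [MONO]: degrees of a subgroup are bounded by `b(G)`. -/
theorem degree_le_of_subgroup_h78 (hb : IsMaxDeg G b) (H : Subgroup G) (ψ : IrrCharacter H) :
    charDegree (ψ : H → ℂ) ≤ b := by
  classical
  let _ : Fintype G := Fintype.ofFinite G
  let _ : Fintype H := Fintype.ofFinite H
  obtain ⟨χ, hχ, hover⟩ := Helper80.exists_irr_over' H ψ.2
  have h1 := Helper81.charDegree_le_of_classInner_ne_zero (fun h : H => χ h)
    (Helper80.isCharacter_restrict H (Helper80.isCharacter_of_isIrr hχ)) ψ hover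
  have h2 : charDegree (fun h : H => χ h) = charDegree χ := by
    unfold charDegree
    simp
  rw [h2] at h1
  exact h1.trans (hb.le ⟨χ, hχ⟩)

/-- A nontrivial finite perfect group has an irreducible character of degree at least `3`. -/
theorem exists_three_le_of_perfect_group_h78 {H : Type u} [Group H] [Fintype H]
    (hperf : commutator H = ⊤) (hnt : Nontrivial H) :
    ∃ θ : IrrCharacter H, 3 ≤ charDegree (θ : H → ℂ) := by
  classical
  by_contra hcon
  push Not at hcon
  -- degrees are positive
  have hpos : ∀ θ : IrrCharacter H, 0 < charDegree (θ : H → ℂ) := fun θ =>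
    Helper78.IsIrrCharacter.charDegree_pos θ.2
  have hone : ∀ θ : IrrCharacter H, (θ : H → ℂ) 1 = (charDegree (θ : H → ℂ) : ℂ) := fun θ =>
    Helper78.IsCharacter.apply_one_eq_charDegree (Helper78.IsIrrCharacter.isCharacter θ.2)
  -- linear characters are trivial
  let triv : IrrCharacter H := ⟨fun _ => (1 : ℂ), Helper78.isIrrCharacter_one⟩
  have hlin : ∀ θ : IrrCharacter H, charDegree (θ : H → ℂ) = 1 → θ = triv := by
    intro θ hθ
    apply Subtype.ext
    funext g
    have h1 : (θ : H → ℂ) 1 = 1 := by rw [hone θ, hθ]; simp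
    exact Helper77.linear_character_eq_one_of_mem_commutator θ h1 g (by rw [hperf]; trivial)
  -- a nonlinear character
  have hnc : ¬ ∀ χ : IrrCharacter H, charDegree (χ : H → ℂ) = 1 := by
    intro hall
    have hcomm := Helper80.commutative_of_forall_charDegree_eq_one hall
    have hbot : commutator H = ⊥ := by
      rw [commutator_def, Subgroup.commutator_eq_bot_iff_le_centralizer]
      intro x _
      rw [Subgroup.mem_centralizer_iff]
      intro y _
      exact hcomm y x
    rw [hperf] at hbot
    obtain ⟨x, y, hxy⟩ := hnt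
    have hx : x ∈ (⊤ : Subgroup H) := trivial
    have hy : y ∈ (⊤ : Subgroup H) := trivial
    rw [hbot, Subgroup.mem_bot] at hx hy
    exact hxy (hx.trans hy.symm)
  push Not at hnc
  obtain ⟨φ, hφ1⟩ := hnc
  have hφ2 : charDegree (φ : H → ℂ) = 2 := by
    have := hpos φ
    have := hcon φ
    omega
  -- the character `φ φ̄`
  set Φ : H → ℂ := (φ : H → ℂ) * (fun g => conj ((φ : H → ℂ) g)) with hΦ
  have hΦc : IsCharacter H Φ :=
    Helper80.isCharacter_mul (Helper80.isCharacter_of_isIrr φ.2)
      (Helper80.isCharacter_conj (Helper80.isCharacter_of_isIrr φ.2))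
  obtain ⟨m, hm⟩ := (Helper78.isCharacter_iff_exists_nat_combination Φ).mp hΦc
  have hmtriv : m triv = 1 := by
    have h1 : classInner Φ (triv : H → ℂ) = (m triv : ℂ) := by
      rw [hm]
      exact Helper78.classInner_nat_combination (fun ψ => (m ψ : ℂ)) triv
    have h2 : classInner Φ (triv : H → ℂ) = classInner (φ : H → ℂ) (φ : H → ℂ) := by
      unfold classInner
      congr 1
      apply Finset.sum_congr rfl
      intro g _
      simp [hΦ, triv]
    rw [h2, Helper78.classInner_irr_self φ.2] at h1
    exact_mod_cast h1.symm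
  -- degrees
  have hdeg : (∑ ψ : IrrCharacter H, m ψ * charDegree (ψ : H → ℂ)) = 4 := by
    have h2 := congrFun hm 1
    rw [Finset.sum_apply] at h2
    have h3 : ∀ ψ : IrrCharacter H, ((m ψ : ℂ) • (ψ : H → ℂ)) 1 =
        ((m ψ * charDegree (ψ : H → ℂ) : ℕ) : ℂ) := by
      intro ψ
      rw [Pi.smul_apply, smul_eq_mul, hone ψ, Nat.cast_mul]
    rw [Finset.sum_congr rfl (fun ψ _ => h3 ψ), ← Nat.cast_sum] at h2
    have h4 : Φ 1 = 4 := by
      simp only [hΦ, Pi.mul_apply]
      rw [hone φ, hφ2]
      have : (starRingEnd ℂ) ((2 : ℕ) : ℂ) = ((2 : ℕ) : ℂ) := Complex.conj_natCast 2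
      rw [this]
      norm_num
    rw [h4] at h2
    exact_mod_cast h2.symm
  have hsplit := Finset.add_sum_erase Finset.univ
    (fun ψ : IrrCharacter H => m ψ * charDegree (ψ : H → ℂ)) (Finset.mem_univ triv)
  rw [hdeg, hmtriv] at hsplit
  have htriv1 : charDegree (triv : H → ℂ) = 1 := by
    unfold charDegree
    simp [triv]
  rw [htriv1] at hsplit
  have hrest : ∑ ψ ∈ Finset.univ.erase triv, m ψ * charDegree (ψ : H → ℂ) =
      2 * ∑ ψ ∈ Finset.univ.erase triv, m ψ := by
    rw [Finset.mul_sum]
    apply Finset.sum_congr rfl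
    intro ψ hψ
    have hne : ψ ≠ triv := Finset.ne_of_mem_erase hψ
    have h1 : charDegree (ψ : H → ℂ) ≠ 1 := fun h => hne (hlin ψ h)
    have h2 := hpos ψ
    have h3 := hcon ψ
    have h4 : charDegree (ψ : H → ℂ) = 2 := by omega
    rw [h4, mul_comm]
  rw [hrest] at hsplit
  omega

/-- IP26-[PERF]: a group with a perfect nontrivial subgroup has a character of degree `≥ 3`. -/
theorem three_le_of_perfect (hb : IsMaxDeg G b) (P : Subgroup G)
    (hperf : ⁅P, P⁆ = P) (hP : P ≠ ⊥) : 3 ≤ b := by
  classical
  let _ : Fintype P := Fintype.ofFinite P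
  have h1 : commutator P = ⊤ := by
    have hmap := Subgroup.map_subtype_commutator P
    rw [hperf] at hmap
    rw [eq_top_iff]
    intro a _
    have ha : (a : G) ∈ Subgroup.map P.subtype (commutator P) := by rw [hmap]; exact a.2
    obtain ⟨c, hc, hca⟩ := ha
    have : c = a := Subtype.ext hca
    rw [← this]; exact hc
  have h2 : Nontrivial P := (Subgroup.nontrivial_iff_ne_bot P).mpr hP
  obtain ⟨θ, hθ⟩ := exists_three_le_of_perfect_group_h78 h1 h2
  exact hθ.trans (degree_le_of_subgroup_h78 hb P θ)

end Cfsg.Agent.Lib.Helper58.IP26
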