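import Mathlib
import Cfsg.Agent.Lib.Helper73.DGDich

/-!
# Project IP26 (S4463, coordinator helper58): module [SOLV], group-theoretic core (helper78)

`commutator_perfect_of_h78`: pure group theory.  If a finite group `G` has no normal subgroup `K`
with `G/K` nonabelian of class two, and no pair `K ≤ N` of "Frobenius type", then `G' = G''`.
(The two hypotheses are exactly the conclusions of the modules [CLASS2] and [FROB].)
-/

set_option autoImplicit false
set_option linter.style.haveILetI false

namespace Cfsg.Agent.Lib.Helper58.IP26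

open scoped commutatorElement

universe u

variable {G : Type u} [Group G] [Finite G]

/-- a maximal normal subgroup above `G''` with nonabelian quotient -/
theorem exists_maximal_nonabelian_quotient_above_h78
    (hne : ⁅commutator G, commutator G⁆ ≠ commutator G) :
    ∃ K : Subgroup G, K.Normal ∧ ⁅commutator G, commutator G⁆ ≤ K ∧ ¬ commutator G ≤ K ∧
      ∀ L : Subgroup G, L.Normal → K < L → commutator G ≤ L := by
  have hbot : (fun K : Subgroup G => K.Normal ∧ ¬ commutator G ≤ K)
      ⁅commutator G, commutator G⁆ := by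
    refine ⟨Subgroup.commutator_normal _ _, ?_⟩
    intro h
    apply hne
    apply le_antisymm _ h
    exact Subgroup.commutator_le_right _ _
  obtain ⟨K, hK0, hK⟩ := Finite.exists_le_maximal
    (p := fun K : Subgroup G => K.Normal ∧ ¬ commutator G ≤ K)
    (a := ⁅commutator G, commutator G⁆) hbot
  refine ⟨K, hK.prop.1, hK0, hK.prop.2, ?_⟩
  intro L hL hKL
  by_contra hcon
  exact absurd (hK.le_of_ge ⟨hL, hcon⟩ hKL.le) (not_le_of_gt hKL)

/-- IP26-[SOLV], group-theoretic core. -/
theorem commutator_perfect_of_h78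
    (hcl : ∀ (K : Subgroup G) [K.Normal], ¬ commutator G ≤ K →
      (∀ x y z : G, ⁅⁅x, y⁆, z⁆ ∈ K) → False)
    (hfr : ∀ (K N : Subgroup G) [K.Normal] [N.Normal], K ≤ N → ¬ N ≤ K →
      (∀ a ∈ N, ∀ c ∈ N, ⁅a, c⁆ ∈ K) → commutator G ≤ N → N ≠ ⊤ →
      ∀ q : ℕ, q.Prime → ∀ a : ℕ, K.relIndex N = q ^ a →
      (∀ g : G, g ∉ N → ∀ n ∈ N, ⁅g, n⁆ ∈ K → n ∈ K) → False) :
    ⁅commutator G, commutator G⁆ = commutator G := by
  classical
  by_contra hne
  obtain ⟨K, hKn, hK2, hKnon, hKmax⟩ := exists_maximal_nonabelian_quotient_above_h78 hne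
  -- the quotient is solvable
  have hsolv : Group.IsSolvable (G ⧸ K) := by
    rw [Group.isSolvable_def]
    refine ⟨2, ?_⟩
    rw [← map_derivedSeries_eq (QuotientGroup.mk'_surjective K) 2, eq_bot_iff]
    have h1 : derivedSeries G 2 = ⁅commutator G, commutator G⁆ := by
      rw [commutator_def]
      rfl
    rw [h1]
    rintro x ⟨g, hg, rfl⟩
    rw [Subgroup.mem_bot, QuotientGroup.mk'_apply, QuotientGroup.eq_one_iff]
    exact hK2 hg
  have hnonab : ∃ a b : G ⧸ K, a * b ≠ b * a := by
    by_contra hall
    push Not at hall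
    apply hKnon
    rw [commutator_def, Subgroup.commutator_le]
    intro x _ y _
    rw [← QuotientGroup.eq_one_iff, commutatorElement_def]
    simp only [QuotientGroup.mk_mul, QuotientGroup.mk_inv]
    rw [hall (x : G ⧸ K) (y : G ⧸ K)]
    group
  have hmin : ∀ L : Subgroup (G ⧸ K), L.Normal → L ≠ ⊥ → commutator (G ⧸ K) ≤ L := by
    intro L hL hLne
    have hKL : K < L.comap (QuotientGroup.mk' K) := by
      refine lt_of_le_of_ne ?_ ?_
      · intro k hk
        rw [Subgroup.mem_comap, QuotientGroup.mk'_apply, (QuotientGroup.eq_one_iff k).mpr hk]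
        exact L.one_mem
      · intro heq
        apply hLne
        rw [Subgroup.eq_bot_iff_forall]
        intro x hx
        obtain ⟨g, rfl⟩ := QuotientGroup.mk_surjective x
        have hg : g ∈ L.comap (QuotientGroup.mk' K) := hx
        rw [← heq] at hg
        exact (QuotientGroup.eq_one_iff g).mpr hg
    have h1 := hKmax _ (hL.comap _) hKL
    intro x hx
    rw [commutator_def, ← Subgroup.map_top_of_surjective (QuotientGroup.mk' K)
      (QuotientGroup.mk'_surjective K), ← Subgroup.map_commutator, ← commutator_def] at hx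
    obtain ⟨g, hg, rfl⟩ := hx
    exact h1 hg
  have hntQ : Nontrivial (G ⧸ K) := by
    obtain ⟨a, b, hab⟩ := hnonab
    exact ⟨⟨a * b, b * a, hab⟩⟩
  rcases Helper73.DGDich.dichotomy_of_commutator_minimal hnonab hmin with
    ⟨p, hp, hpQ⟩ | ⟨hA, ⟨q, hq, hqA⟩, hfpfQ⟩
  · -- the p-group case: class two
    have : Fact p.Prime := ⟨hp⟩
    have hZ : Subgroup.center (G ⧸ K) ≠ ⊥ := by
      have := hpQ.center_nontrivial
      exact (Subgroup.nontrivial_iff_ne_bot _).mp this
    have hQZ : commutator (G ⧸ K) ≤ Subgroup.center (G ⧸ K) := hmin _ inferInstance hZ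
    apply hcl K hKnon
    intro x y z
    rw [← QuotientGroup.eq_one_iff]
    have h1 : ((⁅⁅x, y⁆, z⁆ : G) : G ⧸ K) =
        ⁅⁅(x : G ⧸ K), (y : G ⧸ K)⁆, (z : G ⧸ K)⁆ := by
      simp only [commutatorElement_def, QuotientGroup.mk_mul, QuotientGroup.mk_inv]
    rw [h1]
    have h2 : ⁅(x : G ⧸ K), (y : G ⧸ K)⁆ ∈ Subgroup.center (G ⧸ K) := by
      apply hQZ
      rw [commutator_def]
      exact Subgroup.commutator_mem_commutator (Subgroup.mem_top _) (Subgroup.mem_top _)
    rw [commutatorElement_eq_one_iff_mul_comm]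
    exact (Subgroup.mem_center_iff.mp h2 (z : G ⧸ K)).symm
  · -- the Frobenius case
    set A : Subgroup (G ⧸ K) := commutator (G ⧸ K) with hAdef
    set N : Subgroup G := A.comap (QuotientGroup.mk' K) with hNdef
    have hNn : N.Normal := Subgroup.Normal.comap inferInstance _
    have hmemN : ∀ g : G, g ∈ N ↔ (g : G ⧸ K) ∈ A := fun g => Iff.rfl
    have hKN : K ≤ N := by
      intro k hk
      rw [hmemN, (QuotientGroup.eq_one_iff k).mpr hk]
      exact A.one_mem
    have hAne : A ≠ ⊥ := by
      intro hbot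
      obtain ⟨a, b, hab⟩ := hnonab
      apply hab
      have h1 : a * b * a⁻¹ * b⁻¹ ∈ A := Helper73.DGDich.comm_mem a b
      rw [hbot, Subgroup.mem_bot] at h1
      calc a * b = (a * b * a⁻¹ * b⁻¹) * (b * a) := by group
        _ = b * a := by rw [h1, one_mul]
    have hNK : ¬ N ≤ K := by
      intro hle
      apply hAne
      rw [Subgroup.eq_bot_iff_forall]
      intro x hx
      obtain ⟨g, rfl⟩ := QuotientGroup.mk_surjective x
      exact (QuotientGroup.eq_one_iff g).mpr (hle ((hmemN g).mpr hx))
    have habN : ∀ a ∈ N, ∀ c ∈ N, ⁅a, c⁆ ∈ K := by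
      intro a ha c hc
      rw [← QuotientGroup.eq_one_iff, commutatorElement_def]
      simp only [QuotientGroup.mk_mul, QuotientGroup.mk_inv]
      rw [hA _ ((hmemN a).mp ha) _ ((hmemN c).mp hc)]
      group
    have habG : commutator G ≤ N := by
      rw [commutator_def, Subgroup.commutator_le]
      intro x _ y _
      rw [hmemN, commutatorElement_def]
      simp only [QuotientGroup.mk_mul, QuotientGroup.mk_inv]
      exact Helper73.DGDich.comm_mem _ _
    have hNtop : N ≠ ⊤ := by
      intro h2
      have h3 : A < ⊤ := Group.IsSolvable.commutator_lt_top_of_nontrivial (G ⧸ K)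
      apply h3.ne
      rw [eq_top_iff]
      intro x _
      obtain ⟨g, rfl⟩ := QuotientGroup.mk_surjective x
      have : g ∈ N := by rw [h2]; exact Subgroup.mem_top g
      exact (hmemN g).mp this
    have hidx : ∃ a : ℕ, K.relIndex N = q ^ a := by
      have : Fact q.Prime := ⟨hq⟩
      obtain ⟨a, ha⟩ := IsPGroup.iff_card.mp hqA
      have hcard : K.relIndex N = Nat.card A := by
        have h1 : K.relIndex N * N.index = K.index := Subgroup.relIndex_mul_index hKN
        have h2 : N.index = A.index :=
          Subgroup.index_comap_of_surjective A (QuotientGroup.mk'_surjective K)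
        have h3 : K.index = Nat.card (G ⧸ K) := Subgroup.index_eq_card K
        have h4 : A.index * Nat.card A = Nat.card (G ⧸ K) := Subgroup.index_mul_card A
        have h5 : K.relIndex N * A.index = Nat.card A * A.index := by
          calc K.relIndex N * A.index = K.relIndex N * N.index := by rw [h2]
            _ = K.index := h1
            _ = Nat.card (G ⧸ K) := h3
            _ = A.index * Nat.card A := h4.symm
            _ = Nat.card A * A.index := mul_comm _ _
        have h6 : 0 < A.index := Nat.pos_of_ne_zero Subgroup.index_ne_zero_of_finite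
        exact Nat.eq_of_mul_eq_mul_right h6 h5
      exact ⟨a, by rw [hcard, ha]⟩
    obtain ⟨a, ha⟩ := hidx
    have hfpf : ∀ g : G, g ∉ N → ∀ n ∈ N, ⁅g, n⁆ ∈ K → n ∈ K := by
      intro g hg n hn hgn
      rw [← QuotientGroup.eq_one_iff] at hgn ⊢
      rw [commutatorElement_def] at hgn
      simp only [QuotientGroup.mk_mul, QuotientGroup.mk_inv] at hgn
      apply hfpfQ (g : G ⧸ K) (fun h => hg ((hmemN g).mpr h)) _ ((hmemN n).mp hn)
      calc (g : G ⧸ K) * (n : G ⧸ K)
          = ((g : G ⧸ K) * (n : G ⧸ K) * (g : G ⧸ K)⁻¹ * (n : G ⧸ K)⁻¹) *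
            ((n : G ⧸ K) * (g : G ⧸ K)) := by group
        _ = (n : G ⧸ K) * (g : G ⧸ K) := by rw [hgn, one_mul]
    exact hfr K N hKN hNK habN habG hNtop q hq a ha hfpf

end Cfsg.Agent.Lib.Helper58.IP26
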