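import Mathlib
import Cfsg.Agent.Lib.Helper58.IP26.Defs
import Cfsg.Agent.Lib.Helper78.IP26SolvOf
import Cfsg.Agent.Lib.Helper84.IP26Class2
import Cfsg.Agent.Lib.Helper84.IP26Frob

/-!
# Project IP26 (S4463, coordinator helper58): module [SOLV] (helper78)

`CE.commutator_perfect`: a counterexample to Lemma B has `G' = G''`.  Glue of the group-theoretic
core `commutator_perfect_of_h78` (Lib/Helper78/IP26SolvOf.lean) with the modules [CLASS2]
(helper84) and [FROB] (helper84's copy `Helper84.IP26.false_of_frobenius_quotient_h84`, assembled from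
helper83/helper71/helper84 steps; the exact-name copy lives in Lib/Helper83/IP26Frob.lean).
-/

set_option autoImplicit false

namespace Cfsg.Agent.Lib.Helper58.IP26

open Cfsg
open scoped commutatorElement

universe u

variable {G : Type u} [Group G] [Finite G] {b : ℕ}

/-- IP26-[SOLV]: a counterexample has `G' = G''`. -/
theorem CE.commutator_perfect (hb : IsMaxDeg G b) (h2 : 2 ≤ b) (hCE : CE G b) :
    ⁅commutator G, commutator G⁆ = commutator G := by
  apply commutator_perfect_of_h78
  · intro K _ hnab hcl2
    exact CE.false_of_class_two_quotient hb h2 hCE K hnab hcl2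
  · intro K N _ _ hKN hNK habN habG hNtop q hq a hidx hfpf
    exact Cfsg.Agent.Lib.Helper84.IP26.false_of_frobenius_quotient_h84 hb h2 hCE K N hKN hNK habN
      habG hNtop q hq a hidx hfpf

end Cfsg.Agent.Lib.Helper58.IP26
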