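import Cfsg.Agent.Lib.Helper99.KSL.Defs

/-!
# Sheet KSL (S2479, helper99): module [Q-DETX] (helper78)

`det_mulBy_X_pow`: multiplication by `X` on `F[X]/(p^e)` has determinant `sc (mon p) ^ e`.
-/

set_option autoImplicit false

universe u

namespace Cfsg.Agent.Lib.Helper99.KSL

open Polynomial Finset DirectSum
open Cfsg.Agent.Lib.Helper99.GLClass

variable {F : Type u} [Field F]

/-- QDETX: `sc` of a power of a polynomial. -/
theorem qdetx_sc_pow (f : F[X]) (e : ℕ) : sc (f ^ e) = sc f ^ e := by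
  unfold sc
  rw [natDegree_pow, mul_pow, ← pow_mul, mul_comm e, coeff_zero_eq_eval_zero, eval_pow,
    ← coeff_zero_eq_eval_zero]

/-- QDETX: multiplication by `X` on `F[X]/(f)`, `f ≠ 0`. -/
theorem qdetx_det_mulBy_X (f : F[X]) (hf : f ≠ 0) :
    LinearMap.det (mulBy (F[X] ⧸ (F[X] ∙ f)) X) = sc (mon f) := by
  have h1 : LinearMap.det (mulBy (F[X] ⧸ (F[X] ∙ f)) X) = Algebra.norm F (AdjoinRoot.root f) := by
    rw [Algebra.norm_apply]
    rfl
  rw [h1]
  have h2 := Algebra.PowerBasis.norm_gen_eq_coeff_zero_minpoly (AdjoinRoot.powerBasis hf)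
  rw [AdjoinRoot.powerBasis_gen, AdjoinRoot.powerBasis_dim, AdjoinRoot.minpoly_root hf] at h2
  rw [h2]
  unfold sc
  rw [mon_natDegree f hf]
  rfl

/-- [Q-DETX] multiplication by `X` on `F[X]/(p^e)`. -/
theorem det_mulBy_X_pow (p : F[X]) (hp : p ≠ 0) (e : ℕ) :
    LinearMap.det (mulBy (F[X] ⧸ (F[X] ∙ p ^ e)) X) = sc (mon p) ^ e := by
  rw [qdetx_det_mulBy_X (p ^ e) (pow_ne_zero e hp), ← qdetx_sc_pow]
  congr 1
  unfold mon
  rw [leadingCoeff_pow, mul_pow, ← C_pow, inv_pow]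

end Cfsg.Agent.Lib.Helper99.KSL
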