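import Mathlib
import Cfsg.Prelude.Def_Blocks

set_option autoImplicit false
open Cfsg

/-!
# S4700 (Brauer: perfect groups with a Sylow subgroup of prime order): definitions (helper78)

`PreRigidPre p M P q t n c ε a X Y` is helper79's `PreRigidData` without the three facts that need
`C_G(x) = P` (`hcent`, `hNcard`, `hGcard`), together with the facts that `X` lies in the principal
block and that some character of sign `-` in `X` has degree `p - 1`.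
-/

namespace Cfsg.Agent.Lib.Helper78.S4700

/-- The conclusion (iii) of S4700. -/
def HasFormula (p n : ℕ) : Prop :=
  ∃ h u : ℕ, 0 < h ∧ 0 < u ∧ n * (u + 1) = h * u * p + u ^ 2 + u + h

/-- The pre-rigid configuration, before `C_G(x) = P` is known. -/
structure PreRigidPre {G : Type*} [Group G] [Finite G] (p : ℕ) (M : Ideal Cfsg.AlgInt)
    (P : Sylow p G) (q t n c : ℕ) (ε : ℤ) (a : IrrCharacter G → ℤ)
    (X Y : Finset (IrrCharacter G)) : Prop where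
  hpqt : p = q * t + 1
  hq : 2 ≤ q
  ht : 1 ≤ t
  hn : 1 ≤ n
  hPcard : Nat.card (P : Subgroup G) = p
  hε : ε = 1 ∨ ε = -1
  hdisj : Disjoint X Y
  hXcard : X.card = q
  hYcard : Y.card = t
  haX : ∀ χ ∈ X, a χ = 1 ∨ a χ = -1
  hXval : ∀ χ ∈ X, ∀ x : G, x ∈ (P : Subgroup G) → x ≠ 1 → (χ : G → ℂ) x = (a χ : ℂ)
  htriv : ∃ χ₁ ∈ X, (χ₁ : G → ℂ) = fun _ => 1
  hYsum : ∀ x : G, x ∈ (P : Subgroup G) → x ≠ 1 → ∑ θ ∈ Y, (θ : G → ℂ) x = -(ε : ℂ)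
  hYreg : ∀ g : G, ¬ p ∣ orderOf g → ∀ θ ∈ Y, ∀ θ' ∈ Y, (θ : G → ℂ) g = (θ' : G → ℂ) g
  hrel : ∀ g : G, ¬ p ∣ orderOf g → ∀ θ ∈ Y,
    (ε : ℂ) * (θ : G → ℂ) g = ∑ χ ∈ X, (a χ : ℂ) * (χ : G → ℂ) g
  hdegXp : ∀ χ ∈ X, a χ = 1 → (χ : G → ℂ) ≠ (fun _ => 1) →
    (χ : G → ℂ) 1 = ((1 + n * p : ℕ) : ℂ)
  hdegYp : ε = 1 → ∀ θ ∈ Y, (θ : G → ℂ) 1 = (q : ℂ)
  hdegYm : ε = -1 → 1 ≤ c ∧ n + 1 = t * c ∧ ∀ θ ∈ Y, (θ : G → ℂ) 1 = ((c * p - q : ℕ) : ℂ)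
  hblockX : ∀ χ ∈ X, χ ∈ principalBlock M G
  hneg : ∃ χ ∈ X, a χ = -1 ∧ (χ : G → ℂ) 1 = ((p - 1 : ℕ) : ℂ)

end Cfsg.Agent.Lib.Helper78.S4700
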