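import Mathlib

/-!
# Arithmetic lemmas for Brauer's inertial index three theorem (helper78)
-/

set_option autoImplicit false

namespace Cfsg.Agent.Lib.Helper78

/-- The norm equation for inertial index three. -/
theorem norm_eq_cases_three {d δ S : ℤ} {r : ℕ} (hδ : δ = 1 ∨ δ = -1) (hr : 2 ≤ r) (hS : 1 ≤ S)
    (h : (d - δ) ^ 2 + ((r : ℤ) - 1) * d ^ 2 + S = 4) :
    (d = 0 ∧ S = 3) ∨ (d = δ ∧ (r : ℤ) - 1 + S = 4) := by
  have hr' : (1 : ℤ) ≤ (r : ℤ) - 1 := by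
    have : (2 : ℤ) ≤ (r : ℤ) := by exact_mod_cast hr
    linarith
  have hd2 : d ^ 2 ≤ 3 := by
    have h1 : 1 * d ^ 2 ≤ ((r : ℤ) - 1) * d ^ 2 :=
      mul_le_mul_of_nonneg_right hr' (sq_nonneg d)
    nlinarith [sq_nonneg (d - δ)]
  have hd : -1 ≤ d ∧ d ≤ 1 := by
    constructor <;> nlinarith
  obtain ⟨hd1, hd2'⟩ := hd
  have hcases : d = -1 ∨ d = 0 ∨ d = 1 := by omega
  rcases hcases with rfl | rfl | rfl <;> rcases hδ with rfl | rfl
  · exfalso
    nlinarith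
  · right
    refine ⟨rfl, ?_⟩
    linarith
  · left
    refine ⟨rfl, ?_⟩
    linarith
  · left
    refine ⟨rfl, ?_⟩
    linarith
  · right
    refine ⟨rfl, ?_⟩
    linarith
  · exfalso
    nlinarith

/-- Cauchy-Schwarz contradiction: sign pattern with exactly one minus. -/
theorem false_of_one_minus {Fa Fb Fc Ua Ub Uc : ℤ} (hFa : 0 < Fa) (hFb : 0 < Fb)
    (hUa : 0 < Ua) (hUb : 0 < Ub) (hF : Fc = Fa + Fb + 1) (hU : Uc = Ua + Ub)
    (h : (Ua ^ 2 * Fb + Ub ^ 2 * Fa) * Fc = Uc ^ 2 * Fa * Fb) : False := by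
  subst hF hU
  have h1 : (Ua * Fb - Ub * Fa) ^ 2 + Ua ^ 2 * Fb + Ub ^ 2 * Fa = 0 := by nlinarith
  have h2 : 0 < Ua ^ 2 * Fb := by positivity
  have h3 : 0 < Ub ^ 2 * Fa := by positivity
  nlinarith [sq_nonneg (Ua * Fb - Ub * Fa)]

/-- If `n * u ^ 2 = v ^ 2` with `u ≠ 0`, then `n` is a square. -/
theorem isSquare_of_mul_sq_eq_sq {n : ℕ} {u v : ℤ} (hu : u ≠ 0) (h : (n : ℤ) * u ^ 2 = v ^ 2) :
    IsSquare n := by
  have hdvd : u ^ 2 ∣ v ^ 2 := ⟨n, by rw [← h]; ring⟩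
  have hdvd' : u ∣ v := (Int.pow_dvd_pow_iff (by norm_num : (2 : ℕ) ≠ 0)).mp hdvd
  obtain ⟨k, rfl⟩ := hdvd'
  have hu2 : u ^ 2 ≠ 0 := pow_ne_zero 2 hu
  have h1 : (n : ℤ) = k ^ 2 := by
    have : (n : ℤ) * u ^ 2 = k ^ 2 * u ^ 2 := by rw [h]; ring
    exact mul_right_cancel₀ hu2 this
  refine ⟨k.natAbs, ?_⟩
  have : (n : ℤ) = ((k.natAbs * k.natAbs : ℕ) : ℤ) := by
    rw [h1]
    push_cast
    rw [← pow_two, sq_abs]
  exact_mod_cast this

/-- The square conclusion: sign pattern with exactly two minus. -/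
theorem isSquare_of_two_minus {Fa Fb Fc : ℕ} {Ua Ub Uc : ℤ} (hUa : 0 < Ua) (hUb : 0 < Ub)
    (hF : (Fc : ℤ) + 1 = Fa + Fb) (hU : Uc = Ua + Ub)
    (h : (Ua ^ 2 * Fb + Ub ^ 2 * Fa) * Fc = Uc ^ 2 * Fa * Fb) : IsSquare (Fa * Fb * Fc) := by
  have hUc : Uc ≠ 0 := by
    rw [hU]
    have : 0 < Ua + Ub := by linarith
    exact this.ne'
  have hFc : (Fc : ℤ) = Fa + Fb - 1 := by linarith
  have hD : (Ua * Fb - Ub * Fa) ^ 2 = Ua ^ 2 * Fb + Ub ^ 2 * Fa := by
    rw [hFc, hU] at h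
    nlinarith
  apply isSquare_of_mul_sq_eq_sq (u := Uc) (v := (Ua * Fb - Ub * Fa) * Fc) hUc
  push_cast
  rw [mul_pow, hD]
  nlinarith

/-- `p` odd: the sign count and the square condition. -/
theorem sign_count_and_square {f2 f3 f : ℕ} {x2 x3 h a2 a3 δ : ℤ} (hf2 : 0 < f2) (hf3 : 0 < f3)
    (hf : 0 < f) (ha2 : a2 = 1 ∨ a2 = -1) (ha3 : a3 = 1 ∨ a3 = -1) (hδ : δ = 1 ∨ δ = -1)
    (hx2 : x2 < f2) (hx3 : x3 < f3) (hh : h < f)
    (e1 : 1 + a2 * f2 + a3 * f3 = δ * f)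
    (e2 : 1 + a2 * x2 + a3 * x3 = δ * h)
    (e3 : (f2 : ℤ) * f3 * f + a2 * x2 ^ 2 * f3 * f + a3 * x3 ^ 2 * f2 * f = δ * h ^ 2 * f2 * f3) :
    ((if a2 = -1 then 1 else 0) + (if a3 = -1 then 1 else 0) + (if δ = 1 then 1 else 0) = 2) ∧
      IsSquare (f * (f2 * f3)) := by
  obtain ⟨u2, hu2⟩ : ∃ u2 : ℤ, u2 = f2 - x2 := ⟨_, rfl⟩
  obtain ⟨u3, hu3⟩ : ∃ u3 : ℤ, u3 = f3 - x3 := ⟨_, rfl⟩
  obtain ⟨u, hu⟩ : ∃ u : ℤ, u = f - h := ⟨_, rfl⟩
  have hu2pos : 0 < u2 := by rw [hu2]; linarith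
  have hu3pos : 0 < u3 := by rw [hu3]; linarith
  have hupos : 0 < u := by rw [hu]; linarith
  have hf2' : (0 : ℤ) < f2 := by exact_mod_cast hf2
  have hf3' : (0 : ℤ) < f3 := by exact_mod_cast hf3
  have hf' : (0 : ℤ) < f := by exact_mod_cast hf
  have hI : a2 * u2 + a3 * u3 - δ * u = 0 := by
    rw [hu2, hu3, hu]
    linear_combination e1 - e2
  have hII : a2 * u2 ^ 2 * f3 * f + a3 * u3 ^ 2 * f2 * f - δ * u ^ 2 * f2 * f3 = 0 := by
    rw [hu2, hu3, hu]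
    linear_combination e3 - 2 * ((f2 : ℤ) * f3 * f) * e2 + ((f2 : ℤ) * f3 * f) * e1
  rcases ha2 with rfl | rfl <;> rcases ha3 with rfl | rfl <;> rcases hδ with rfl | rfl
  · -- (1,1,1)
    exfalso
    exact false_of_one_minus (Fa := f2) (Fb := f3) (Fc := f) (Ua := u2) (Ub := u3) (Uc := u)
      hf2' hf3' hu2pos hu3pos (by linarith) (by linarith) (by linarith)
  · -- (1,1,-1)
    exfalso
    linarith
  · -- (1,-1,1)
    refine ⟨by norm_num, ?_⟩
    have := isSquare_of_two_minus (Fa := f3) (Fb := f) (Fc := f2) (Ua := u3) (Ub := u) (Uc := u2)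
      hu3pos hupos (by linarith) (by linarith) (by linarith)
    have e : f * (f2 * f3) = f3 * f * f2 := by ring
    rw [e]
    exact this
  · -- (1,-1,-1)
    exfalso
    exact false_of_one_minus (Fa := f2) (Fb := f) (Fc := f3) (Ua := u2) (Ub := u) (Uc := u3)
      hf2' hf' hu2pos hupos (by linarith) (by linarith) (by linarith)
  · -- (-1,1,1)
    refine ⟨by norm_num, ?_⟩
    have := isSquare_of_two_minus (Fa := f2) (Fb := f) (Fc := f3) (Ua := u2) (Ub := u) (Uc := u3)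
      hu2pos hupos (by linarith) (by linarith) (by linarith)
    have e : f * (f2 * f3) = f2 * f * f3 := by ring
    rw [e]
    exact this
  · -- (-1,1,-1)
    exfalso
    exact false_of_one_minus (Fa := f3) (Fb := f) (Fc := f2) (Ua := u3) (Ub := u) (Uc := u2)
      hf3' hf' hu3pos hupos (by linarith) (by linarith) (by linarith)
  · -- (-1,-1,1)
    exfalso
    linarith
  · -- (-1,-1,-1)
    refine ⟨by norm_num, ?_⟩
    have := isSquare_of_two_minus (Fa := f2) (Fb := f3) (Fc := f) (Ua := u2) (Ub := u3) (Uc := u)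
      hu2pos hu3pos (by linarith) (by linarith) (by linarith)
    have e : f * (f2 * f3) = f2 * f3 * f := by ring
    rw [e]
    exact this

/-- `p = 2`: the degree equations have no solution with both nontrivial degrees at least two. -/
theorem false_of_two_case {f2 f3 f q a2 a3 δ : ℤ} (hq : 16 ≤ q) (hf2 : 2 ≤ f2) (hf3 : 2 ≤ f3)
    (hf : 1 ≤ f) (ha2 : a2 = 1 ∨ a2 = -1) (ha3 : a3 = 1 ∨ a3 = -1) (hδ : δ = 1 ∨ δ = -1)
    (c2 : q ∣ f2 - a2) (c3 : q ∣ f3 - a3) (c : q ∣ f - 3 * δ)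
    (e : f * (f2 * f3 + a2 * f3 + a3 * f2) = 9 * δ * f2 * f3) : False := by
  have hb2 : 15 ≤ f2 := by
    obtain ⟨k, hk⟩ := c2
    have hk1 : 1 ≤ k := by
      by_contra hcon
      push Not at hcon
      have : q * k ≤ 0 := by nlinarith
      rcases ha2 with rfl | rfl <;> linarith
    have : q * 1 ≤ q * k := by nlinarith
    rcases ha2 with rfl | rfl <;> linarith
  have hb3 : 15 ≤ f3 := by
    obtain ⟨k, hk⟩ := c3
    have hk1 : 1 ≤ k := by
      by_contra hcon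
      push Not at hcon
      have : q * k ≤ 0 := by nlinarith
      rcases ha3 with rfl | rfl <;> linarith
    have : q * 1 ≤ q * k := by nlinarith
    rcases ha3 with rfl | rfl <;> linarith
  have hg1 : f2 * f3 - f2 - f3 ≤ f2 * f3 + a2 * f3 + a3 * f2 := by
    rcases ha2 with rfl | rfl <;> rcases ha3 with rfl | rfl <;> linarith
  have hg2 : f2 * f3 + a2 * f3 + a3 * f2 ≤ f2 * f3 + f2 + f3 := by
    rcases ha2 with rfl | rfl <;> rcases ha3 with rfl | rfl <;> linarith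
  have hprod : 15 * f3 ≤ f2 * f3 := by nlinarith
  have hprod' : 15 * f2 ≤ f2 * f3 := by nlinarith
  have hgpos : 0 < f2 * f3 + a2 * f3 + a3 * f2 := by linarith
  rcases hδ with rfl | rfl
  · obtain ⟨k, hk⟩ := c
    by_cases hk0 : k ≤ 0
    · have hk0' : k = 0 := by
        by_contra hne
        have : k ≤ -1 := by omega
        have : q * k ≤ q * (-1) := by nlinarith
        linarith
      rw [hk0', mul_zero] at hk
      have hf3' : f = 3 := by linarith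
      rw [hf3'] at e
      nlinarith
    · push Not at hk0
      have : q * 1 ≤ q * k := by nlinarith
      have hf19 : 19 ≤ f := by linarith
      nlinarith
  · have : f * (f2 * f3 + a2 * f3 + a3 * f2) > 0 := by positivity
    nlinarith

end Cfsg.Agent.Lib.Helper78
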