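import Mathlib
import Cfsg.Agent.S4709
import Cfsg.Agent.Lib.Helper78.InvolKernel
import Cfsg.Agent.Lib.Helper78.DihedralGroup
import Cfsg.Agent.Lib.Helper79.Integrality

set_option autoImplicit false
open Cfsg

/-!
# A Sylow subgroup of prime order with dihedral normalizer: the order formula (helper78)

Let `P` be a Sylow `p`-subgroup of order `p ≥ 7` with `C_G(P) = P` and `|N_G(P)| = 2p`, and let
`t ∈ N_G(P)` be an involution.  The principal `p`-block consists of `1`, one more nonexceptional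
character `χ` (constant `a = ±1` on `P ∖ 1`) and `(p - 1) / 2` exceptional characters of degree
`χ(1) + a`.  Counting the products of two conjugates of `t` equal to `y ∈ P ∖ 1` gives
`p |C_G(t)|² F (F + a) = |G| (F - x)²` with `F = χ(1)` and `x = χ(t)`.
-/

namespace Cfsg.Agent.Lib.Helper78

open scoped ComplexConjugate

theorem norm_eq_cases_two {d δ S : ℤ} {r : ℕ} (hδ : δ = 1 ∨ δ = -1) (hr : 3 ≤ r) (hS : 1 ≤ S)
    (h : (d - δ) ^ 2 + ((r : ℤ) - 1) * d ^ 2 + S = 3) :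
    (d = 0 ∧ S = 2) ∨ (d = δ ∧ r = 3 ∧ S = 1) := by
  have hr' : (2 : ℤ) ≤ (r : ℤ) - 1 := by
    have : (3 : ℤ) ≤ (r : ℤ) := by exact_mod_cast hr
    linarith
  have h1 : 2 * d ^ 2 ≤ ((r : ℤ) - 1) * d ^ 2 := by nlinarith [sq_nonneg d]
  have h2 : 0 ≤ (d - δ) ^ 2 := sq_nonneg _
  have h3 : d ^ 2 ≤ 1 := by nlinarith
  have h4 : d ≤ 1 ∧ -1 ≤ d := by constructor <;> nlinarith
  obtain ⟨h5, h6⟩ := h4
  have h7 : d = -1 ∨ d = 0 ∨ d = 1 := by omega
  rcases hδ with hδ | hδ <;> rcases h7 with h7 | h7 | h7 <;> rw [hδ, h7] at h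
  · exfalso; nlinarith
  · left; exact ⟨h7, by linarith⟩
  · right
    have h8 : ((r : ℤ) - 1) + S = 3 := by linarith
    have h9 : (r : ℤ) = 3 := by linarith
    exact ⟨by rw [h7, hδ], by exact_mod_cast h9, by linarith⟩
  · right
    have h8 : ((r : ℤ) - 1) + S = 3 := by linarith
    have h9 : (r : ℤ) = 3 := by linarith
    exact ⟨by rw [h7, hδ], by exact_mod_cast h9, by linarith⟩
  · left; exact ⟨h7, by linarith⟩
  · exfalso; nlinarith

open scoped Classical in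
/-- The principal block data for inertial index two. -/
theorem dihedral_block_data {G : Type*} [Group G] [Finite G] (p : ℕ) [Fact p.Prime]
    (M : Ideal Cfsg.AlgInt) (hM : Cfsg.IsPModular p M) (P : Sylow p G) [hab : IsMulCommutative P]
    (hm2 : 6 < Nat.card P)
    (hCN : (Subgroup.centralizer ((P : Subgroup G) : Set G)).relIndex
      (Subgroup.normalizer ((P : Subgroup G) : Set G)) = 2)
    (hfrob : ∀ y : G, y ∈ (P : Subgroup G) → y ≠ 1 →
      Subgroup.centralizer ({y} : Set G) ⊓ Subgroup.normalizer ((P : Subgroup G) : Set G) =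
        Subgroup.centralizer ((P : Subgroup G) : Set G)) :
    ∃ (δ a₁ : ℤ) (χ₁ : IrrCharacter G) (Y : Finset (IrrCharacter G)),
      (δ = 1 ∨ δ = -1) ∧ (a₁ = 1 ∨ a₁ = -1) ∧ Y.Nonempty ∧
      (∀ η ∈ Y, η ∈ principalBlock M G) ∧ χ₁ ∈ principalBlock M G ∧ χ₁ ∉ Y ∧
      (χ₁ : G → ℂ) ≠ (fun _ => 1) ∧
      (∀ y : ↥(P : Subgroup G), y ≠ 1 → (χ₁ : G → ℂ) y = (a₁ : ℂ)) ∧
      (∀ y : ↥(P : Subgroup G), y ≠ 1 → ∑ η ∈ Y, (η : G → ℂ) y = -(δ : ℂ)) ∧
      (∀ g : G, ¬ p ∣ orderOf g → ∀ η ∈ Y,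
        1 + (a₁ : ℂ) * (χ₁ : G → ℂ) g = (δ : ℂ) * (η : G → ℂ) g) ∧
      (∀ F : IrrCharacter G → ℂ,
        ∑ χ ∈ Finset.univ.filter (fun χ : IrrCharacter G => χ ∈ principalBlock M G), F χ =
          ∑ η ∈ Y, F η + F ⟨fun _ => 1, Cfsg.Agent.Lib.Helper80.isIrrCharacter_one⟩ + F χ₁) := by
  have hp : p.Prime := Fact.out
  obtain ⟨δ, d, ζ, a, Y, hδ, hYB, hζY, hYsurj, hζR, hYcard, htriv, haout, hX, hval, hnorm,
    hreg⟩ := Cfsg.Agent.S4709.main_aux p M hM P 2 (by omega) hCN hfrob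
  have hnorm3 : (d - δ) ^ 2 + ((Y.card : ℤ) - 1) * d ^ 2 +
      ∑ χ ∈ Finset.univ.filter (· ∉ Y), a χ ^ 2 = 3 := by
    rw [hnorm]
    norm_num
  -- the principal character
  obtain ⟨triv, htrivdef⟩ : ∃ triv : IrrCharacter G,
      triv = ⟨fun _ => 1, Cfsg.Agent.Lib.Helper80.isIrrCharacter_one⟩ := ⟨_, rfl⟩
  have htrivB : triv ∈ principalBlock M G := by
    rw [htrivdef]
    exact Cfsg.Agent.Lib.Helper74.one_mem_principalBlock hM G
  have htrivfun : (triv : G → ℂ) = fun _ => 1 := by rw [htrivdef]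
  have htrivY : triv ∉ Y := htriv triv htrivfun
  have heqtriv : ∀ χ : IrrCharacter G, (χ : G → ℂ) = (fun _ => 1) → χ = triv := by
    intro χ hχ
    apply Subtype.ext
    rw [hχ, htrivfun]
  -- a nontrivial element of `P`
  obtain ⟨y₀, hy₀⟩ : ∃ y₀ : ↥(P : Subgroup G), y₀ ≠ 1 := by
    have hfinP : Fintype ↥(P : Subgroup G) := Fintype.ofFinite _
    by_contra hc
    push Not at hc
    have h1 : Nat.card ↥(P : Subgroup G) ≤ 1 := by
      rw [Nat.card_eq_fintype_card]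
      exact Fintype.card_le_one_iff.mpr (fun a b => by rw [hc a, hc b])
    have h2 : Nat.card ↥(P : Subgroup G) = Nat.card P := rfl
    omega
  have hatriv : a triv = 1 := by
    have h1 := hX triv htrivB htrivY y₀ hy₀
    rw [htrivfun] at h1
    have h2 : (1 : ℂ) = (a triv : ℂ) := h1
    exact_mod_cast h2.symm
  have hS1 : 1 ≤ ∑ χ ∈ Finset.univ.filter (· ∉ Y), a χ ^ 2 := by
    have h1 : a triv ^ 2 ≤ ∑ χ ∈ Finset.univ.filter (· ∉ Y), a χ ^ 2 :=
      Finset.single_le_sum (f := fun χ => a χ ^ 2) (fun χ _ => sq_nonneg _)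
        (by simp [htrivY])
    rw [hatriv] at h1
    linarith
  have hY3 : 3 ≤ Y.card := by omega
  obtain ⟨η₀, hη₀⟩ : ∃ η₀, η₀ ∈ Y := by
    apply Finset.card_pos.mp
    omega
  have hone : ¬ p ∣ orderOf (1 : G) := by
    rw [orderOf_one]
    exact hp.one_lt.ne' ∘ Nat.dvd_one.mp
  have hdeg0 : (η₀ : G → ℂ) 1 ≠ 0 := by
    rw [IsCharacter.apply_one_eq_charDegree (IsIrrCharacter.isCharacter η₀.2)]
    exact_mod_cast (IsIrrCharacter.charDegree_pos η₀.2).ne'
  -- the sum of the exceptional characters at `y`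
  have hsumY : ∀ y : ↥(P : Subgroup G), y ≠ 1 →
      ∑ η ∈ Y, (η : G → ℂ) y = (Y.card : ℂ) * (d : ℂ) - (δ : ℂ) := by
    intro y hy
    have hy1 : (y : G) ≠ 1 := fun h => hy (Subtype.ext h)
    have h1 := sum_principalBlock_mul_pRegular hM P y.2 hy1 hone
    have h2 := (hreg 1 hone).2 η₀ hη₀
    have h3 : ∑ χ ∈ Finset.univ.filter (fun χ : IrrCharacter G => χ ∈ principalBlock M G),
        (χ : G → ℂ) y * (χ : G → ℂ) 1 =
        (∑ η ∈ Y, (η : G → ℂ) y) * (η₀ : G → ℂ) 1 +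
          ∑ χ ∈ Finset.univ.filter (· ∉ Y), (a χ : ℂ) * (χ : G → ℂ) 1 := by
      rw [Finset.sum_filter, ← Finset.sum_filter_add_sum_filter_not Finset.univ (· ∈ Y)]
      congr 1
      · rw [Finset.filter_mem_eq_inter, Finset.univ_inter, Finset.sum_mul]
        apply Finset.sum_congr rfl
        intro η hη
        rw [if_pos (hYB η hη), (hreg 1 hone).1 η hη η₀ hη₀]
      · apply Finset.sum_congr rfl
        intro χ hχ
        have hχY : χ ∉ Y := (Finset.mem_filter.mp hχ).2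
        by_cases hχB : χ ∈ principalBlock M G
        · rw [if_pos hχB, hX χ hχB hχY y hy]
        · rw [if_neg hχB, haout χ hχB]
          simp
    rw [h3] at h1
    have h4 : (∑ η ∈ Y, (η : G → ℂ) y - ((Y.card : ℂ) * (d : ℂ) - (δ : ℂ))) *
        (η₀ : G → ℂ) 1 = 0 := by
      linear_combination h1 - h2
    rcases mul_eq_zero.mp h4 with h5 | h5
    · exact sub_eq_zero.mp h5
    · exact absurd h5 hdeg0
  have htrivT : triv ∈ Finset.univ.filter (· ∉ Y) := by simp [htrivY]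
  rcases norm_eq_cases_two hδ hY3 hS1 hnorm3 with ⟨hd, hS⟩ | ⟨hd, hY, hS⟩
  · -- `d = 0`
    have haX : ∀ χ ∈ principalBlock M G, χ ∉ Y → a χ ≠ 0 := by
      intro χ hχ hχY h0
      have h1 := hX χ hχ hχY y₀ hy₀
      rw [h0] at h1
      exact principalBlock_apply_ne_zero hM P hχ y₀.2 (by simpa using h1)
    obtain ⟨X'', hX''⟩ : ∃ X'' : Finset (IrrCharacter G),
        X'' = Finset.univ.filter (fun χ => χ ∈ principalBlock M G ∧ χ ∉ Y) := ⟨_, rfl⟩
    obtain ⟨X', hX'⟩ : ∃ X' : Finset (IrrCharacter G), X' = X''.erase triv := ⟨_, rfl⟩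
    have htrivX'' : triv ∈ X'' := by
      rw [hX'']
      simp [htrivB, htrivY]
    have hmemX' : ∀ χ, χ ∈ X' ↔ χ ≠ triv ∧ χ ∈ principalBlock M G ∧ χ ∉ Y := by
      intro χ
      rw [hX', hX'']
      simp
    have hsplit0 : ∀ {N : Type} [AddCommMonoid N] (f : IrrCharacter G → N),
        (∀ χ, χ ∉ principalBlock M G → f χ = 0) →
        ∑ χ ∈ Finset.univ.filter (· ∉ Y), f χ = f triv + ∑ χ ∈ X', f χ := by
      intro N _ f hf
      rw [hX', Finset.add_sum_erase X'' f htrivX'', hX'']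
      symm
      apply Finset.sum_subset
      · intro χ hχ
        simp only [Finset.mem_filter, Finset.mem_univ, true_and] at hχ ⊢
        exact hχ.2
      · intro χ hχ hχ'
        simp only [Finset.mem_filter, Finset.mem_univ, true_and] at hχ hχ'
        apply hf
        intro hB
        exact hχ' ⟨hB, hχ⟩
    have hsq1 : ∑ χ ∈ X', a χ ^ 2 = 1 := by
      have h1 := hsplit0 (fun χ => a χ ^ 2) (fun χ hχ => by
        show a χ ^ 2 = 0
        rw [haout χ hχ]
        norm_num)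
      rw [hS, hatriv] at h1
      linarith
    have hge1 : ∀ χ ∈ X', 1 ≤ a χ ^ 2 := by
      intro χ hχ
      have h1 := (hmemX' χ).mp hχ
      rw [one_le_sq_iff_one_le_abs]
      exact Int.one_le_abs (haX χ h1.2.1 h1.2.2)
    have hcardle : (X'.card : ℤ) ≤ 1 := by
      have h1 : ∑ χ ∈ X', (1 : ℤ) ≤ ∑ χ ∈ X', a χ ^ 2 := Finset.sum_le_sum hge1
      rw [Finset.sum_const, nsmul_eq_mul, mul_one] at h1
      linarith
    have hcard1 : X'.card = 1 := by
      have h0 : X'.card ≤ 1 := by exact_mod_cast hcardle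
      have h1 : X'.card = 0 ∨ X'.card = 1 := by omega
      rcases h1 with h | h
      · exfalso
        rw [Finset.card_eq_zero] at h
        rw [h, Finset.sum_empty] at hsq1
        norm_num at hsq1
      · exact h
    obtain ⟨χ₁, hXeq⟩ := Finset.card_eq_one.mp hcard1
    have h1X : χ₁ ∈ X' := by rw [hXeq]; simp
    have h1 := (hmemX' χ₁).mp h1X
    have ha1sq : a χ₁ ^ 2 = 1 := by
      rw [hXeq, Finset.sum_singleton] at hsq1
      exact hsq1
    have hpm : a χ₁ = 1 ∨ a χ₁ = -1 := by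
      have h3 : a χ₁ ≤ 1 ∧ -1 ≤ a χ₁ := by constructor <;> nlinarith
      obtain ⟨h4, h5⟩ := h3
      have h6 : a χ₁ = -1 ∨ a χ₁ = 0 ∨ a χ₁ = 1 := by omega
      rcases h6 with h6 | h6 | h6
      · exact Or.inr h6
      · rw [h6] at ha1sq
        norm_num at ha1sq
      · exact Or.inl h6
    have hsplit : ∀ f : IrrCharacter G → ℂ, (∀ χ, χ ∉ principalBlock M G → f χ = 0) →
        ∑ χ ∈ Finset.univ.filter (· ∉ Y), f χ = f triv + f χ₁ := by
      intro f hf
      rw [hsplit0 f hf, hXeq, Finset.sum_singleton]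
    refine ⟨δ, a χ₁, χ₁, Y, hδ, hpm, ⟨η₀, hη₀⟩, hYB, h1.2.1, h1.2.2, ?_, ?_, ?_, ?_, ?_⟩
    · intro h
      exact h1.1 (heqtriv χ₁ h)
    · intro y hy
      exact hX χ₁ h1.2.1 h1.2.2 y hy
    · intro y hy
      rw [hsumY y hy, hd]
      push_cast
      ring
    · intro g hg η hη
      have h2 := (hreg g hg).2 η hη
      rw [hsplit (fun χ => (a χ : ℂ) * (χ : G → ℂ) g) (fun χ hχ => by
        show (a χ : ℂ) * (χ : G → ℂ) g = 0
        rw [haout χ hχ]
        simp), hatriv, htrivfun, hd] at h2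
      push_cast at h2
      linear_combination h2
    · intro F
      rw [Finset.sum_filter, ← Finset.sum_filter_add_sum_filter_not Finset.univ (· ∈ Y),
        Finset.filter_mem_eq_inter, Finset.univ_inter,
        hsplit (fun χ => if χ ∈ principalBlock M G then F χ else 0) (fun χ hχ => if_neg hχ),
        if_pos h1.2.1, if_pos htrivB,
        Finset.sum_congr rfl (fun η hη => if_pos (hYB η hη)), ← htrivdef]
      ring
  · -- `d = δ`, three exceptional characters, no further nonexceptional one: parity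
    exfalso
    have hrest : ∑ χ ∈ (Finset.univ.filter (· ∉ Y)).erase triv, a χ ^ 2 = 0 := by
      have h1 := Finset.add_sum_erase (Finset.univ.filter (· ∉ Y)) (fun χ => a χ ^ 2) htrivT
      rw [hatriv, hS] at h1
      linarith
    have hzero : ∀ χ ∈ (Finset.univ.filter (· ∉ Y)).erase triv, a χ = 0 := by
      intro χ hχ
      have h1 := (Finset.sum_eq_zero_iff_of_nonneg (fun χ _ => sq_nonneg (a χ))).mp hrest χ hχ
      exact pow_eq_zero_iff (by norm_num) |>.mp h1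
    have h2 := (hreg 1 hone).2 η₀ hη₀
    rw [← Finset.add_sum_erase (Finset.univ.filter (· ∉ Y)) _ htrivT,
      Finset.sum_eq_zero (fun χ hχ => by rw [hzero χ hχ]; simp), hatriv, htrivfun, hd, hY,
      IsCharacter.apply_one_eq_charDegree (IsIrrCharacter.isCharacter η₀.2)] at h2
    have h3 : (3 * δ - δ) * (charDegree (η₀ : G → ℂ) : ℤ) + 1 = 0 := by
      have : (((3 * δ - δ) * (charDegree (η₀ : G → ℂ) : ℤ) + 1 : ℤ) : ℂ) = 0 := by
        push_cast
        linear_combination h2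
      exact_mod_cast this
    rcases hδ with h | h <;> rw [h] at h3 <;> omega

open scoped Classical in
/-- Characters outside the principal block vanish on `P ∖ 1` when `C_G(P) = P` has prime order. -/
theorem apply_eq_zero_of_not_mem_principalBlock {G : Type*} [Group G] [Finite G] (p : ℕ)
    [Fact p.Prime] (M : Ideal Cfsg.AlgInt) (hM : Cfsg.IsPModular p M) (P : Sylow p G)
    (hP : Nat.card (P : Subgroup G) = p)
    (hC : Subgroup.centralizer ((P : Subgroup G) : Set G) = (P : Subgroup G))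
    {y : G} (hy : y ∈ (P : Subgroup G)) (hy1 : y ≠ 1) {χ : IrrCharacter G}
    (hχ : χ ∉ principalBlock M G) : (χ : G → ℂ) y = 0 := by
  have hfin : Fintype G := Fintype.ofFinite G
  have hab : IsMulCommutative P := by
    refine ⟨⟨fun u v => ?_⟩⟩
    apply Subtype.ext
    have h1 : (u : G) ∈ Subgroup.centralizer ((P : Subgroup G) : Set G) := by
      rw [hC]
      exact u.2
    rw [Subgroup.mem_centralizer_iff] at h1
    exact (h1 _ v.2).symm
  have hfrob := frob_of_card_eq_prime P hP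
  have h1 := sum_principalBlock_norm_sq hM P hfrob hy hy1
  have h2 := second_orthogonality_of_isConj (IsConj.refl y)
  rw [centralizer_singleton_eq_of_card_eq_prime (P : Subgroup G) hP hy hy1, hC,
    ← Finset.sum_filter_add_sum_filter_not Finset.univ (fun χ : IrrCharacter G =>
      χ ∈ principalBlock M G), h1] at h2
  have h3 : ∑ χ ∈ Finset.univ.filter (fun χ : IrrCharacter G => ¬ χ ∈ principalBlock M G),
      (χ : G → ℂ) y * conj ((χ : G → ℂ) y) = 0 := by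
    have h4 : (Nat.card P : ℂ) = (Nat.card (P : Subgroup G) : ℂ) := rfl
    rw [h4] at h2
    linear_combination h2
  have h5 : ∑ χ ∈ Finset.univ.filter (fun χ : IrrCharacter G => ¬ χ ∈ principalBlock M G),
      Complex.normSq ((χ : G → ℂ) y) = 0 := by
    have h6 : ((∑ χ ∈ Finset.univ.filter (fun χ : IrrCharacter G => ¬ χ ∈ principalBlock M G),
        Complex.normSq ((χ : G → ℂ) y) : ℝ) : ℂ) = 0 := by
      rw [← h3]
      push_cast
      apply Finset.sum_congr rfl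
      intro χ _
      rw [Complex.mul_conj]
    exact_mod_cast h6
  have h7 := (Finset.sum_eq_zero_iff_of_nonneg (fun χ _ => Complex.normSq_nonneg _)).mp h5 χ
    (by simp [hχ])
  exact Complex.normSq_eq_zero.mp h7

open scoped Classical in
/-- **The order formula for a dihedral Sylow normalizer.** -/
theorem dihedral_sylow_formula {G : Type*} [Group G] [Finite G] (p : ℕ) [Fact p.Prime]
    (M : Ideal Cfsg.AlgInt) (hM : Cfsg.IsPModular p M) (P : Sylow p G)
    (hP : Nat.card (P : Subgroup G) = p) (hp7 : 7 ≤ p)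
    (hC : Subgroup.centralizer ((P : Subgroup G) : Set G) = (P : Subgroup G))
    (hN : Nat.card (Subgroup.normalizer ((P : Subgroup G) : Set G)) = 2 * p)
    {t : G} (ht : orderOf t = 2) (htN : t ∈ Subgroup.normalizer ((P : Subgroup G) : Set G)) :
    ∃ (χ : G → ℂ) (F x a : ℤ), IsIrrCharacter G χ ∧ χ ≠ (fun _ => 1) ∧ χ 1 = (F : ℂ) ∧
      χ t = (x : ℂ) ∧ (a = 1 ∨ a = -1) ∧ 0 < F ∧ 0 < F + a ∧ F ∣ (Nat.card G : ℤ) ∧
      (F + a) ∣ (Nat.card G : ℤ) ∧ (p : ℤ) ∣ F - a ∧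
      (p : ℤ) * (Nat.card (Subgroup.centralizer ({t} : Set G)) : ℤ) ^ 2 * F * (F + a) =
        (Nat.card G : ℤ) * (F - x) ^ 2 := by
  have hp : p.Prime := Fact.out
  have hfin : Fintype G := Fintype.ofFinite G
  have hp2 : p ≠ 2 := by omega
  have hab : IsMulCommutative P := by
    refine ⟨⟨fun u v => ?_⟩⟩
    apply Subtype.ext
    have h1 : (u : G) ∈ Subgroup.centralizer ((P : Subgroup G) : Set G) := by
      rw [hC]
      exact u.2
    rw [Subgroup.mem_centralizer_iff] at h1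
    exact (h1 _ v.2).symm
  have hfrob := frob_of_card_eq_prime P hP
  have hCN : (Subgroup.centralizer ((P : Subgroup G) : Set G)).relIndex
      (Subgroup.normalizer ((P : Subgroup G) : Set G)) = 2 := by
    rw [hC]
    exact relIndex_normalizer_eq_two P hP hN
  have hm2 : 6 < Nat.card P := by
    have : Nat.card P = Nat.card (P : Subgroup G) := rfl
    omega
  obtain ⟨δ, a₁, χ₁, Y, hδ, ha₁, ⟨η₀, hη₀⟩, hYB, hχ₁B, hχ₁Y, hχ₁t, hχ₁P, hsumY, hrel, hsplit⟩ :=
    dihedral_block_data p M hM P hm2 hCN hfrob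
  -- a nontrivial element of `P`
  obtain ⟨y₀, hy₀⟩ : ∃ y₀ : ↥(P : Subgroup G), y₀ ≠ 1 := by
    have hfinP : Fintype ↥(P : Subgroup G) := Fintype.ofFinite _
    by_contra hc
    push Not at hc
    have h1 : Nat.card ↥(P : Subgroup G) ≤ 1 := by
      rw [Nat.card_eq_fintype_card]
      exact Fintype.card_le_one_iff.mpr (fun a b => by rw [hc a, hc b])
    omega
  have hy₀1 : (y₀ : G) ≠ 1 := fun h => hy₀ (Subtype.ext h)
  have hone : ¬ p ∣ orderOf (1 : G) := by
    rw [orderOf_one]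
    exact hp.one_lt.ne' ∘ Nat.dvd_one.mp
  have htreg : ¬ p ∣ orderOf t := by
    rw [ht]
    intro h
    have := Nat.le_of_dvd (by norm_num) h
    omega
  obtain ⟨x, hx⟩ := Cfsg.Agent.Lib.Helper74.exists_int_apply_of_orderOf_two
    (IsIrrCharacter.isCharacter χ₁.2) t ht
  obtain ⟨F, hFdef⟩ : ∃ F : ℤ, F = (charDegree (χ₁ : G → ℂ) : ℤ) := ⟨_, rfl⟩
  obtain ⟨H, hHdef⟩ : ∃ H : ℤ, H = (charDegree (η₀ : G → ℂ) : ℤ) := ⟨_, rfl⟩
  have hF1 : (χ₁ : G → ℂ) 1 = (F : ℂ) := by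
    rw [IsCharacter.apply_one_eq_charDegree (IsIrrCharacter.isCharacter χ₁.2), hFdef]
    push_cast
    rfl
  have hH1 : (η₀ : G → ℂ) 1 = (H : ℂ) := by
    rw [IsCharacter.apply_one_eq_charDegree (IsIrrCharacter.isCharacter η₀.2), hHdef]
    push_cast
    rfl
  have hFpos : 0 < F := by
    rw [hFdef]
    exact_mod_cast IsIrrCharacter.charDegree_pos χ₁.2
  have hHpos : 0 < H := by
    rw [hHdef]
    exact_mod_cast IsIrrCharacter.charDegree_pos η₀.2
  have hδsq : δ * δ = 1 := by rcases hδ with h | h <;> rw [h] <;> norm_num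
  have hasq : a₁ * a₁ = 1 := by rcases ha₁ with h | h <;> rw [h] <;> norm_num
  have hδsqC : (δ : ℂ) * (δ : ℂ) = 1 := by exact_mod_cast hδsq
  have hasqC : (a₁ : ℂ) * (a₁ : ℂ) = 1 := by exact_mod_cast hasq
  -- relation at 1
  have hrel1 : 1 + a₁ * F = δ * H := by
    have h1 := hrel 1 hone η₀ hη₀
    rw [hF1, hH1] at h1
    exact_mod_cast h1
  have hη1 : ∀ η ∈ Y, (η : G → ℂ) 1 = (δ : ℂ) * (1 + (a₁ : ℂ) * (F : ℂ)) := by
    intro η hη
    have h1 := hrel 1 hone η hη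
    rw [hF1] at h1
    rw [h1, ← mul_assoc, hδsqC, one_mul]
  have hηt : ∀ η ∈ Y, (η : G → ℂ) t = (δ : ℂ) * (1 + (a₁ : ℂ) * (x : ℂ)) := by
    intro η hη
    have h1 := hrel t htreg η hη
    rw [hx] at h1
    rw [h1, ← mul_assoc, hδsqC, one_mul]
  -- the count
  have hcount := conjProdCount_dihedral P hP hp2 hC hN ht htN y₀.2 hy₀1
  -- the expansion
  have hexp := congrFun (classFunction_eq_sum_irr
    (Cfsg.Agent.Lib.Helper74.isClassFunction_conjProdCount t t)) (y₀ : G)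
  rw [Finset.sum_apply] at hexp
  simp only [Pi.smul_apply, smul_eq_mul] at hexp
  have hexp2 : Cfsg.Agent.Lib.Helper74.conjProdCount t t (y₀ : G) =
      ∑ χ ∈ Finset.univ.filter (fun χ : IrrCharacter G => χ ∈ principalBlock M G),
        (Nat.card G : ℂ) * conj ((χ : G → ℂ) t * (χ : G → ℂ) t / (χ : G → ℂ) 1) *
          (χ : G → ℂ) y₀ := by
    rw [hexp, ← Finset.sum_filter_add_sum_filter_not Finset.univ (fun χ : IrrCharacter G =>
      χ ∈ principalBlock M G)]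
    have hz : ∑ χ ∈ Finset.univ.filter (fun χ : IrrCharacter G => ¬ χ ∈ principalBlock M G),
        classInner (Cfsg.Agent.Lib.Helper74.conjProdCount t t) (χ : G → ℂ) *
          (χ : G → ℂ) y₀ = 0 := by
      apply Finset.sum_eq_zero
      intro χ hχ
      rw [apply_eq_zero_of_not_mem_principalBlock p M hM P hP hC y₀.2 hy₀1
        (Finset.mem_filter.mp hχ).2, mul_zero]
    rw [hz, add_zero]
    apply Finset.sum_congr rfl
    intro χ _
    rw [Cfsg.Agent.Lib.Helper74.classInner_conjProdCount_irr]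
  rw [hsplit, hcount] at hexp2
  have hYsum : ∑ η ∈ Y, (Nat.card G : ℂ) *
      conj ((η : G → ℂ) t * (η : G → ℂ) t / (η : G → ℂ) 1) * (η : G → ℂ) y₀ =
      (Nat.card G : ℂ) * conj ((δ : ℂ) * (1 + (a₁ : ℂ) * (x : ℂ)) *
        ((δ : ℂ) * (1 + (a₁ : ℂ) * (x : ℂ))) / ((δ : ℂ) * (1 + (a₁ : ℂ) * (F : ℂ)))) *
        (-(δ : ℂ)) := by
    rw [← hsumY y₀ hy₀, Finset.mul_sum]
    apply Finset.sum_congr rfl
    intro η hη
    rw [hηt η hη, hη1 η hη]
  rw [hYsum, hx, hF1, hχ₁P y₀ hy₀] at hexp2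
  simp only [map_div₀, map_mul, map_add, map_one, map_intCast, mul_one, div_one] at hexp2
  -- now pure arithmetic
  have hFne : (F : ℂ) ≠ 0 := by exact_mod_cast hFpos.ne'
  have hδne : (δ : ℂ) ≠ 0 := by
    intro h
    rw [h, mul_zero] at hδsqC
    exact zero_ne_one hδsqC
  have hune : (1 : ℂ) + (a₁ : ℂ) * (F : ℂ) ≠ 0 := by
    have h1 : ((1 + a₁ * F : ℤ) : ℂ) ≠ 0 := by
      rw [hrel1]
      push_cast
      exact mul_ne_zero hδne (by exact_mod_cast hHpos.ne')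
    intro h
    apply h1
    push_cast
    exact h
  have h3 : (δ : ℂ) * (1 + (a₁ : ℂ) * (x : ℂ)) * ((δ : ℂ) * (1 + (a₁ : ℂ) * (x : ℂ))) /
      ((δ : ℂ) * (1 + (a₁ : ℂ) * (F : ℂ))) * (-(δ : ℂ)) =
      -((1 + (a₁ : ℂ) * (x : ℂ)) * (1 + (a₁ : ℂ) * (x : ℂ)) / (1 + (a₁ : ℂ) * (F : ℂ))) := by
    have h4 : (δ : ℂ) * (1 + (a₁ : ℂ) * (x : ℂ)) * ((δ : ℂ) * (1 + (a₁ : ℂ) * (x : ℂ))) /
        ((δ : ℂ) * (1 + (a₁ : ℂ) * (F : ℂ))) * (-(δ : ℂ)) =
        -((δ : ℂ) * (δ : ℂ)) *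
          ((1 + (a₁ : ℂ) * (x : ℂ)) * (1 + (a₁ : ℂ) * (x : ℂ)) / (1 + (a₁ : ℂ) * (F : ℂ))) := by
      field_simp
    rw [h4, hδsqC]
    ring
  rw [mul_assoc (Nat.card G : ℂ) _ (-(δ : ℂ)), h3] at hexp2
  have h5 : (Nat.card (Subgroup.centralizer ({t} : Set G)) : ℂ) ^ 2 * (p : ℂ) *
      ((F : ℂ) * (1 + (a₁ : ℂ) * (F : ℂ))) = (Nat.card G : ℂ) *
      (-((1 + (a₁ : ℂ) * (x : ℂ)) * (1 + (a₁ : ℂ) * (x : ℂ))) * (F : ℂ) +
        (F : ℂ) * (1 + (a₁ : ℂ) * (F : ℂ)) +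
        (x : ℂ) * (x : ℂ) * (a₁ : ℂ) * (1 + (a₁ : ℂ) * (F : ℂ))) := by
    rw [hexp2]
    field_simp
  have hkeyC : (p : ℂ) * (Nat.card (Subgroup.centralizer ({t} : Set G)) : ℂ) ^ 2 * (F : ℂ) *
      ((F : ℂ) + (a₁ : ℂ)) = (Nat.card G : ℂ) * ((F : ℂ) - (x : ℂ)) ^ 2 := by
    linear_combination (a₁ : ℂ) * h5 +
      (-((Nat.card (Subgroup.centralizer ({t} : Set G)) : ℂ) ^ 2 * (p : ℂ) * (F : ℂ) ^ 2) +
        (Nat.card G : ℂ) * ((F : ℂ) - (x : ℂ)) ^ 2) * hasqC
  have hFH : F + a₁ = H := by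
    rcases hδ with h | h <;> rcases ha₁ with h' | h' <;> rw [h, h'] at hrel1 <;> rw [h'] <;> omega
  refine ⟨(χ₁ : G → ℂ), F, x, a₁, χ₁.2, hχ₁t, hF1, hx, ha₁, hFpos, ?_, ?_, ?_, ?_, ?_⟩
  · rw [hFH]
    exact hHpos
  · rw [hFdef]
    exact Int.natCast_dvd_natCast.mpr (Cfsg.Agent.Lib.Helper79.irr_charDegree_dvd_card χ₁)
  · rw [hFH, hHdef]
    exact Int.natCast_dvd_natCast.mpr (Cfsg.Agent.Lib.Helper79.irr_charDegree_dvd_card η₀)
  · have h1 := card_dvd_degree_sub_of_const (IsIrrCharacter.isCharacter χ₁.2) (P : Subgroup G) a₁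
      (fun k hk hk1 => hχ₁P ⟨k, hk⟩ (fun h => hk1 (congrArg Subtype.val h)))
    rw [hP] at h1
    rw [hFdef]
    exact h1
  · exact_mod_cast hkeyC

end Cfsg.Agent.Lib.Helper78
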