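import Mathlib
import Cfsg.Agent.Lib.Helper78.DihedralSylow
import Cfsg.Agent.Lib.Helper78.BrauerThreeArith
import Cfsg.Agent.Lib.Helper17.Burnside
import Cfsg.Agent.Lib.Helper17.SylowCard

set_option autoImplicit false
open Cfsg

/-!
# No simple group of order 4032 has a Sylow 7-normalizer of order 14 (helper78)

The case `n_7 = 288` of the nonexistence of a simple group of order `4032 = 2^6 * 3^2 * 7`: the
normalizer of a Sylow `7`-subgroup would be dihedral of order `14` (by Burnside's transfer theorem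
`C_G(P) = P`), and the order formula `7 c² F (F + a) = 4032 (F - x)²` with `F ≡ a (mod 7)`,
`F ∣ 4032`, `F + a ∣ 4032` has no solution.

Also: the simple-group form of the order formula, `dihedral_sylow_formula_of_simple`.
-/

namespace Cfsg.Agent.Lib.Helper78

/-- Every rational prime lies in a maximal ideal of the algebraic integers. -/
theorem exists_isPModular_of_prime' (q : ℕ) (hq : q.Prime) :
    ∃ M : Ideal AlgInt, IsPModular q M := by
  have hne : Ideal.span {(q : AlgInt)} ≠ ⊤ := by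
    intro htop
    have h1 : (1 : AlgInt) ∈ Ideal.span {(q : AlgInt)} := by rw [htop]; trivial
    obtain ⟨a, ha⟩ := Ideal.mem_span_singleton'.mp h1
    have ha' : (a : ℂ) * (q : ℂ) = 1 := by
      have := congrArg (fun x : AlgInt => (x : ℂ)) ha
      simpa using this
    have hq0 : (q : ℂ) ≠ 0 := by exact_mod_cast hq.ne_zero
    have hint : IsIntegral ℤ (((1 : ℕ) : ℂ) / (q : ℂ)) := by
      have : ((1 : ℕ) : ℂ) / (q : ℂ) = (a : ℂ) := by
        field_simp
        rw [mul_comm]; simpa using ha'.symm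
      rw [this]
      exact a.2
    have := Cfsg.Agent.Lib.Helper79.dvd_of_isIntegral_div hq.ne_zero hint
    exact hq.one_lt.ne' (Nat.dvd_one.mp this)
  obtain ⟨M, hM, hle⟩ := Ideal.exists_le_maximal _ hne
  exact ⟨M, hq, hM, hle (Ideal.subset_span (Set.mem_singleton _))⟩

/-- **The order formula for a dihedral Sylow normalizer in a simple group.** -/
theorem dihedral_sylow_formula_of_simple {G : Type*} [Group G] [Finite G] [IsSimpleGroup G]
    (hG : ¬ IsMulCommutative G) (p : ℕ) [Fact p.Prime] (hp7 : 7 ≤ p) (P : Sylow p G)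
    (hP : Nat.card (P : Subgroup G) = p)
    (hN : Nat.card (Subgroup.normalizer ((P : Subgroup G) : Set G)) = 2 * p) :
    ∃ (t : G) (F x a : ℤ), orderOf t = 2 ∧
      t ∈ Subgroup.normalizer ((P : Subgroup G) : Set G) ∧
      Subgroup.centralizer ((P : Subgroup G) : Set G) = (P : Subgroup G) ∧
      (a = 1 ∨ a = -1) ∧ 0 < F ∧ 0 < F + a ∧ F ∣ (Nat.card G : ℤ) ∧
      (F + a) ∣ (Nat.card G : ℤ) ∧ (p : ℤ) ∣ F - a ∧
      (p : ℤ) * (Nat.card (Subgroup.centralizer ({t} : Set G)) : ℤ) ^ 2 * F * (F + a) =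
        (Nat.card G : ℤ) * (F - x) ^ 2 := by
  have hp : p.Prime := Fact.out
  obtain ⟨M, hM⟩ := exists_isPModular_of_prime' p hp
  have hdvd : p ∣ Nat.card G := by
    rw [← hP]
    exact Subgroup.card_subgroup_dvd_card _
  -- `P` is commutative
  have hcyc : IsCyclic (P : Subgroup G) := isCyclic_of_prime_card hP
  have hcomm : IsMulCommutative (P : Subgroup G) := ⟨⟨IsCyclic.commGroup.mul_comm⟩⟩
  have hPC : (P : Subgroup G) ≤ Subgroup.centralizer ((P : Subgroup G) : Set G) :=
    Subgroup.le_centralizer _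
  have hCN : Subgroup.centralizer ((P : Subgroup G) : Set G) ≤
      Subgroup.normalizer ((P : Subgroup G) : Set G) := Subgroup.centralizer_le_normalizer _
  -- `C_G(P) = P`
  have hC : Subgroup.centralizer ((P : Subgroup G) : Set G) = (P : Subgroup G) := by
    have h1 : p ∣ Nat.card (Subgroup.centralizer ((P : Subgroup G) : Set G)) := by
      have h0 := Subgroup.card_dvd_of_le hPC
      rwa [hP] at h0
    have h2 : Nat.card (Subgroup.centralizer ((P : Subgroup G) : Set G)) ∣ 2 * p := by
      rw [← hN]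
      exact Subgroup.card_dvd_of_le hCN
    obtain ⟨k, hk⟩ := h1
    have hk2 : k ∣ 2 := by
      rw [hk, mul_comm 2 p] at h2
      exact Nat.dvd_of_mul_dvd_mul_left hp.pos h2
    have hk' : k = 1 ∨ k = 2 := (Nat.dvd_prime Nat.prime_two).mp hk2
    rcases hk' with h | h
    · symm
      apply Subgroup.eq_of_le_of_card_ge hPC
      rw [hk, h, hP, mul_one]
    · exfalso
      apply Cfsg.Agent.Lib.Helper17.not_normalizer_le_centralizer_of_simple hG P hdvd
      have h3 : Subgroup.centralizer ((P : Subgroup G) : Set G) =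
          Subgroup.normalizer ((P : Subgroup G) : Set G) := by
        apply Subgroup.eq_of_le_of_card_ge hCN
        rw [hk, h, hN, mul_comm]
      rw [h3]
  -- an involution of the normalizer
  obtain ⟨t', ht'⟩ := exists_prime_orderOf_dvd_card' (G := Subgroup.normalizer
    ((P : Subgroup G) : Set G)) 2 (by rw [hN]; exact Dvd.intro _ rfl)
  have ht : orderOf (t' : G) = 2 := by
    rw [Subgroup.orderOf_coe]
    exact ht'
  obtain ⟨χ, F, x, a, _, _, _, _, ha, hF, hFa, hFd, hHd, hpd, hkey⟩ :=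
    dihedral_sylow_formula p M hM P hP hp7 hC hN ht t'.2
  exact ⟨t', F, x, a, ht, t'.2, hC, ha, hF, hFa, hFd, hHd, hpd, hkey⟩

theorem not_isSquare_eight : ¬ IsSquare (8 : ℕ) := by
  rintro ⟨r, hr⟩
  have h1 : r ≤ 2 ∨ 3 ≤ r := by omega
  rcases h1 with h | h <;> nlinarith

theorem not_isSquare_288 : ¬ IsSquare (288 : ℕ) := by
  rintro ⟨r, hr⟩
  have h1 : r ≤ 16 ∨ 17 ≤ r := by omega
  rcases h1 with h | h <;> nlinarith

theorem arith_4032 {F a x : ℤ} {c : ℕ} (hc : 0 < c) (ha : a = 1 ∨ a = -1) (hF : 0 < F)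
    (hFd : F ∣ 4032) (hHd : (F + a) ∣ 4032) (h7 : (7 : ℤ) ∣ F - a)
    (hkey : 7 * (c : ℤ) ^ 2 * F * (F + a) = 4032 * (F - x) ^ 2) : False := by
  obtain ⟨n, hn⟩ : ∃ n : ℕ, F = (n : ℤ) := ⟨F.toNat, (Int.toNat_of_nonneg hF.le).symm⟩
  subst hn
  have hn_dvd : n ∣ 4032 := by exact_mod_cast hFd
  have hmem : n ∈ Nat.divisors 4032 := Nat.mem_divisors.mpr ⟨hn_dvd, by norm_num⟩
  simp only [Nat.divisors_ofNat] at hmem
  have hcz : (c : ℤ) ≠ 0 := by exact_mod_cast hc.ne'
  have hfin : ∀ {k : ℕ} {u : ℤ}, ¬ IsSquare k → (k : ℤ) * u ^ 2 = (c : ℤ) ^ 2 → False := by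
    intro k u hk h
    have hu : u ≠ 0 := by
      intro h0
      rw [h0] at h
      have : (c : ℤ) ^ 2 = 0 := by rw [← h]; ring
      exact hcz (pow_eq_zero_iff (by norm_num) |>.mp this)
    exact hk (isSquare_of_mul_sq_eq_sq hu h)
  fin_cases hmem <;> rcases ha with rfl | rfl <;>
    first
    | omega
    | (norm_num at hHd; done)
    | exact hfin (k := 8) (u := 8 - x) not_isSquare_eight (by push_cast at hkey ⊢; linarith)
    | exact hfin (k := 288) (u := 1 - x) not_isSquare_288 (by push_cast at hkey ⊢; linarith)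

/-- **No simple group of order `4032` has a Sylow `7`-normalizer of order `14`.** -/
theorem no_simple_4032_of_card_normalizer {G : Type*} [Group G] [Finite G] [IsSimpleGroup G]
    (hcard : Nat.card G = 4032) (P : Sylow 7 G)
    (hN : Nat.card (Subgroup.normalizer ((P : Subgroup G) : Set G)) = 14) : False := by
  have : Fact (Nat.Prime 7) := ⟨by norm_num⟩
  have hG : ¬ IsMulCommutative G := by
    apply Cfsg.Agent.Lib.Helper17.not_comm_of_simple_of_not_prime
    rw [hcard]
    norm_num
  have hP : Nat.card (P : Subgroup G) = 7 := by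
    have h1 := Cfsg.Agent.Lib.Helper17.sylow_card_of_card_eq P (k := 1) (m := 576)
      (by rw [hcard]; norm_num) (by norm_num)
    rw [h1]
    norm_num
  obtain ⟨t, F, x, a, ht, htN, hC, ha, hF, hFa, hFd, hHd, hpd, hkey⟩ :=
    dihedral_sylow_formula_of_simple hG 7 (le_refl 7) P hP (by rw [hN])
  rw [hcard] at hFd hHd hkey
  have hc : 0 < Nat.card (Subgroup.centralizer ({t} : Set G)) := Nat.card_pos
  exact arith_4032 hc ha hF (by exact_mod_cast hFd) (by exact_mod_cast hHd)
    (by exact_mod_cast hpd) (by exact_mod_cast hkey)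

end Cfsg.Agent.Lib.Helper78
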