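import Mathlib
import Cfsg.Agent.Lib.Helper3.DefOneGenData
import Cfsg.Agent.Lib.Helper78.DefOneUniq
import Cfsg.Agent.Lib.Helper82.ExtFirstMain

/-!
# Module G-SING for the Galois form of the defect-one theory (S4507)

Every `p`-singular element of a group with a Sylow `p`-subgroup `P` of order `p` is conjugate to
`y * s` with `1 ≠ y ∈ P` and `s ∈ C_G(P)` `p`-regular.
-/

set_option autoImplicit false
set_option linter.unusedSectionVars false

namespace Cfsg.Agent.Lib.Helper77.DefOneGal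

open Cfsg Cfsg.Agent.Lib.Helper78 Cfsg.Agent.Lib.Helper16 Cfsg.Agent.Lib.Helper3.DefOneGen
open scoped ComplexConjugate IsMulCommutative

variable {G : Type*} [Group G] [Fintype G] {p : ℕ} [hp : Fact p.Prime] (P : Sylow p G)
  (hP : Nat.card P = p)
variable [Fintype ↥(Subgroup.centralizer ((P : Subgroup G) : Set G))] [Fintype ↥(P : Subgroup G)]
  [IsMulCommutative ↥(P : Subgroup G)] [Fintype (↥(P : Subgroup G) →* ℂˣ)]
  [Fintype ↥(Subgroup.normalizer ((P : Subgroup G) : Set G))]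
variable {M : Ideal AlgInt}

include hP in
/-- MODULE G-SING -/
theorem exists_conj_mul_of_singular (g : G) (hg : p ∣ orderOf g) :
    ∃ (u y : G) (s : ↥(Subgroup.centralizer ((P : Subgroup G) : Set G))),
      y ∈ (P : Subgroup G) ∧ y ≠ 1 ∧ ¬ p ∣ orderOf s ∧ u * g * u⁻¹ = y * (s : G) := by
  obtain ⟨x, y', hxy, hcomm, ⟨k, hk⟩, hreg⟩ := exists_isPPart p g
  -- `x ≠ 1`
  have hx1 : x ≠ 1 := by
    rintro rfl
    rw [one_mul] at hxy
    rw [hxy] at hreg
    exact hreg hg
  -- the cyclic group generated by `x` is a `p`-group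
  have hpg : IsPGroup p (Subgroup.zpowers x) := by
    rw [IsPGroup.iff_card]
    exact ⟨k, by rw [Nat.card_zpowers, hk]⟩
  obtain ⟨Q, hQ⟩ := hpg.exists_le_sylow
  obtain ⟨v, hv⟩ := MulAction.exists_smul_eq G Q P
  -- `v x v⁻¹ ∈ P`
  have hxQ : x ∈ (Q : Subgroup G) := hQ (Subgroup.mem_zpowers x)
  have hvx : v * x * v⁻¹ ∈ (P : Subgroup G) := by
    rw [← hv, Sylow.coe_subgroup_smul, Subgroup.mem_pointwise_smul_iff_inv_smul_mem]
    simpa [MulAut.smul_def, mul_assoc] using hxQ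
  have hvx1 : v * x * v⁻¹ ≠ 1 := by
    intro h
    apply hx1
    have : x = v⁻¹ * (v * x * v⁻¹) * v := by group
    rw [this, h]; group
  -- `P` is generated by `v x v⁻¹`
  have hcomm' : Commute (v * x * v⁻¹) (v * y' * v⁻¹) := by
    show v * x * v⁻¹ * (v * y' * v⁻¹) = v * y' * v⁻¹ * (v * x * v⁻¹)
    have h1 : v * x * v⁻¹ * (v * y' * v⁻¹) = v * (x * y') * v⁻¹ := by group
    have h2 : v * y' * v⁻¹ * (v * x * v⁻¹) = v * (y' * x) * v⁻¹ := by group
    rw [h1, h2, hcomm.eq]
  have hprime : (Nat.card (P : Subgroup G)).Prime := by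
    have : Nat.card (P : Subgroup G) = p := hP
    rw [this]; exact hp.out
  have hzp : Subgroup.zpowers (⟨v * x * v⁻¹, hvx⟩ : ↥(P : Subgroup G)) = ⊤ := by
    apply zpowers_eq_top_of_prime_card (p := p)
    · exact hP
    · intro h
      exact hvx1 (congrArg Subtype.val h)
  have hsC : v * y' * v⁻¹ ∈ Subgroup.centralizer ((P : Subgroup G) : Set G) := by
    rw [Subgroup.mem_centralizer_iff]
    intro z hz
    have hz' : (⟨z, hz⟩ : ↥(P : Subgroup G)) ∈
        Subgroup.zpowers (⟨v * x * v⁻¹, hvx⟩ : ↥(P : Subgroup G)) := by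
      rw [hzp]; exact Subgroup.mem_top _
    obtain ⟨j, hj⟩ := Subgroup.mem_zpowers_iff.mp hz'
    have hzj : z = (v * x * v⁻¹) ^ j := by
      have := congrArg Subtype.val hj
      simpa using this.symm
    rw [hzj]
    exact ((hcomm'.zpow_left j).eq)
  refine ⟨v, v * x * v⁻¹, ⟨v * y' * v⁻¹, hsC⟩, hvx, hvx1, ?_, ?_⟩
  · rw [Subgroup.orderOf_mk]
    have : orderOf (v * y' * v⁻¹) = orderOf y' := by
      have := orderOf_injective (MulAut.conj v).toMonoidHom (MulAut.conj v).injective y'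
      simpa [MulAut.conj_apply] using this
    rw [this]
    exact hreg
  · show v * g * v⁻¹ = v * x * v⁻¹ * (v * y' * v⁻¹)
    rw [← hxy]; group

end Cfsg.Agent.Lib.Helper77.DefOneGal
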