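import Mathlib
import Cfsg.Agent.Lib.Helper3.DefOneGenData
import Cfsg.Agent.Lib.Helper78.DefOneUniq
import Cfsg.Agent.Lib.Helper82.ExtFirstMain

/-!
# Module G-VAN for the Galois form of the defect-one theory (S4507)

If `fpart χ ϑ y ≠ 0` for some `χ ∈ B`, `1 ≠ y ∈ P` and `ϑ ∈ Irr(C_G(P))` with `P` in its kernel,
then `ϑ` is an `N_G(P)`-conjugate of the root `θ` of `B`.
-/

set_option autoImplicit false
set_option linter.unusedSectionVars false

namespace Cfsg.Agent.Lib.Helper77.DefOneGal

open Cfsg Cfsg.Agent.Lib.Helper78 Cfsg.Agent.Lib.Helper16 Cfsg.Agent.Lib.Helper3.DefOneGen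
open scoped ComplexConjugate IsMulCommutative

variable {G : Type*} [Group G] [Fintype G] {p : ℕ} [hp : Fact p.Prime] (P : Sylow p G)
  (hP : Nat.card P = p)
variable [Fintype ↥(Subgroup.centralizer ((P : Subgroup G) : Set G))] [Fintype ↥(P : Subgroup G)]
  [IsMulCommutative ↥(P : Subgroup G)] [Fintype (↥(P : Subgroup G) →* ℂˣ)]
  [Fintype ↥(Subgroup.normalizer ((P : Subgroup G) : Set G))]
variable {M : Ideal AlgInt}

include hP in
/-- `InKer` in the form used by `Helper78.UNIQ`. -/
theorem apply_eq_one_of_inKer_h78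
    (ϑ : IrrCharacter ↥(Subgroup.centralizer ((P : Subgroup G) : Set G)))
    (hϑ : InKer (Subgroup.inclusion (le_centralizer_of_card_prime hP))
      (ϑ : ↥(Subgroup.centralizer ((P : Subgroup G) : Set G)) → ℂ))
    (x : ↥(Subgroup.centralizer ((P : Subgroup G) : Set G))) (hx : (x : G) ∈ (P : Subgroup G)) :
    (ϑ : ↥(Subgroup.centralizer ((P : Subgroup G) : Set G)) → ℂ) x =
      (ϑ : ↥(Subgroup.centralizer ((P : Subgroup G) : Set G)) → ℂ) 1 := by
  have h := hϑ ⟨(x : G), hx⟩ 1
  rw [mul_one] at h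
  have e : Subgroup.inclusion (le_centralizer_of_card_prime (Q := (P : Subgroup G)) hP)
      ⟨(x : G), hx⟩ = x := Subtype.ext rfl
  rw [e] at h
  exact h

include hP in
/-- MODULE G-VAN -/
theorem exists_conj_of_fpart_ne_zero (hM : IsPModular p M) {B : Set (IrrCharacter G)}
    (hB : IsPBlock M B) (hBP : IsDefectGroup p M B (P : Subgroup G))
    (θ : IrrCharacter ↥(Subgroup.centralizer ((P : Subgroup G) : Set G)))
    (hθ : InKer (Subgroup.inclusion (le_centralizer_of_card_prime hP))
      (θ : ↥(Subgroup.centralizer ((P : Subgroup G) : Set G)) → ℂ))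
    (hind : IsInducedBlock M (Subgroup.centralizer ((P : Subgroup G) : Set G))
      (blockOf M (θ : ↥(Subgroup.centralizer ((P : Subgroup G) : Set G)) → ℂ)) B)
    (ϑ : IrrCharacter ↥(Subgroup.centralizer ((P : Subgroup G) : Set G)))
    (hϑ : InKer (Subgroup.inclusion (le_centralizer_of_card_prime hP))
      (ϑ : ↥(Subgroup.centralizer ((P : Subgroup G) : Set G)) → ℂ))
    {χ : IrrCharacter G} (hχ : χ ∈ B) {y : G} (hyP : y ∈ (P : Subgroup G)) (hy1 : y ≠ 1)
    (hne : fpart p (Subgroup.centralizer ((P : Subgroup G) : Set G)) (χ : G → ℂ)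
      (ϑ : ↥(Subgroup.centralizer ((P : Subgroup G) : Set G)) → ℂ) y ≠ 0) :
    ∃ (n : G) (hn : n ∈ Subgroup.normalizer ((P : Subgroup G) : Set G)),
      ϑ = thetaConj P n hn θ := by
  classical
  have hMp : M.IsPrime := Cfsg.Agent.Lib.Helper16.isPModular_isPrime hM
  -- Step 1: the block of `ϑ` induces `B`
  have hindϑ : IsInducedBlock M (Subgroup.centralizer ((P : Subgroup G) : Set G))
      (blockOf M (ϑ : ↥(Subgroup.centralizer ((P : Subgroup G) : Set G)) → ℂ)) B := by
    have hker := sum_block_fpart_mul_conj P hP hM hyP hy1 hB ϑ ϑ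
    -- the left side is nonzero
    have hpos : ∑ χ' ∈ Finset.univ.filter (fun χ' : IrrCharacter G => χ' ∈ B),
        fpart p (Subgroup.centralizer ((P : Subgroup G) : Set G)) (χ' : G → ℂ)
          (ϑ : ↥(Subgroup.centralizer ((P : Subgroup G) : Set G)) → ℂ) y *
        conj (fpart p (Subgroup.centralizer ((P : Subgroup G) : Set G)) (χ' : G → ℂ)
          (ϑ : ↥(Subgroup.centralizer ((P : Subgroup G) : Set G)) → ℂ) y) ≠ 0 := by
      have hcast : ∑ χ' ∈ Finset.univ.filter (fun χ' : IrrCharacter G => χ' ∈ B),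
          fpart p (Subgroup.centralizer ((P : Subgroup G) : Set G)) (χ' : G → ℂ)
            (ϑ : ↥(Subgroup.centralizer ((P : Subgroup G) : Set G)) → ℂ) y *
          conj (fpart p (Subgroup.centralizer ((P : Subgroup G) : Set G)) (χ' : G → ℂ)
            (ϑ : ↥(Subgroup.centralizer ((P : Subgroup G) : Set G)) → ℂ) y) =
          ((∑ χ' ∈ Finset.univ.filter (fun χ' : IrrCharacter G => χ' ∈ B),
            Complex.normSq (fpart p (Subgroup.centralizer ((P : Subgroup G) : Set G))
              (χ' : G → ℂ)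
              (ϑ : ↥(Subgroup.centralizer ((P : Subgroup G) : Set G)) → ℂ) y) : ℝ) : ℂ) := by
        rw [Complex.ofReal_sum]
        apply Finset.sum_congr rfl
        intro χ' _
        rw [Complex.mul_conj]
      rw [hcast]
      intro h0
      have h0' := Complex.ofReal_eq_zero.mp h0
      have hmem : χ ∈ Finset.univ.filter (fun χ' : IrrCharacter G => χ' ∈ B) := by
        simp only [Finset.mem_filter, Finset.mem_univ, true_and]; exact hχ
      have hz := (Finset.sum_eq_zero_iff_of_nonneg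
        (fun χ' _ => Complex.normSq_nonneg _)).mp h0' χ hmem
      exact hne (Complex.normSq_eq_zero.mp hz)
    rw [hker] at hpos
    obtain ⟨ξ, hξmem, hξne⟩ := Finset.exists_ne_zero_of_sum_ne_zero hpos
    simp only [Finset.mem_filter, Finset.mem_univ, true_and] at hξmem
    have hcard : (Finset.univ.filter (fun ψ : ↥(P : Subgroup G) →* ℂˣ =>
        twist (ppart P hP) ψ ϑ = ξ)).card ≠ 0 := by
      intro h0
      apply hξne
      rw [h0]; simp
    obtain ⟨ψ, hψ⟩ := Finset.card_pos.mp (Nat.pos_of_ne_zero hcard)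
    simp only [Finset.mem_filter, Finset.mem_univ, true_and] at hψ
    have hk : Fintype.card ↥(P : Subgroup G) = p ^ 1 := by
      rw [← Nat.card_eq_fintype_card, hP, pow_one]
    have hsame := sameBlock_twist (π := ppart P hP) hM hk ψ ϑ
    rw [Cfsg.Agent.Lib.Helper16.blockOf_eq_of_sameBlock hsame, hψ]
    exact hξmem
  -- Step 2: conjugacy of the two roots
  have hCnorm : ((Subgroup.centralizer ((P : Subgroup G) : Set G)).subgroupOf
      (Subgroup.normalizer ((P : Subgroup G) : Set G))).Normal :=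
    Subgroup.normal_subgroupOf_centralizer_normalizer _
  obtain ⟨n, hn, hconj⟩ := Cfsg.Agent.Lib.Helper82.exists_conj_of_isInducedBlock hM
    (P : Subgroup G) (Subgroup.centralizer ((P : Subgroup G) : Set G))
    (le_centralizer_of_card_prime hP) le_rfl (Subgroup.centralizer_le_normalizer _) hB hBP
    hind hindϑ
  have hθmem : θ ∈ blockOf M (θ : ↥(Subgroup.centralizer ((P : Subgroup G) : Set G)) → ℂ) :=
    Cfsg.Agent.Lib.Helper16.sameBlock_refl hMp.ne_top _
  obtain ⟨θ'', hθ''mem, hθ''⟩ := hconj θ hθmem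
  refine ⟨n, hn, ?_⟩
  -- `θ'' = thetaConj n θ`
  have hθ''eq : θ'' = thetaConj P n hn θ := by
    apply Subtype.ext
    funext c
    have hc' : n * (c : G) * n⁻¹ ∈ Subgroup.centralizer ((P : Subgroup G) : Set G) :=
      ((Subgroup.centralizer ((P : Subgroup G) : Set G)).normalizerMonoidHom
        (toNC P n hn) c).2
    rw [hθ'' c hc']
    exact (thetaConj_eq_of_eq P n hn θ c ⟨n * (c : G) * n⁻¹, hc'⟩ rfl).symm
  rw [← hθ''eq]
  -- uniqueness of the character with `P` in the kernel in a block of `C_G(P)`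
  have hθ''ker : InKer (Subgroup.inclusion (le_centralizer_of_card_prime hP))
      (θ'' : ↥(Subgroup.centralizer ((P : Subgroup G) : Set G)) → ℂ) := by
    rw [hθ''eq]; exact inKer_thetaConj P hP n hn θ hθ
  exact (Cfsg.Agent.Lib.Helper78.UNIQ p M hM P hP ϑ θ'' (apply_eq_one_of_inKer_h78 P hP ϑ hϑ)
    (apply_eq_one_of_inKer_h78 P hP θ'' hθ''ker) hθ''mem).symm

end Cfsg.Agent.Lib.Helper77.DefOneGal
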