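import Mathlib
import Cfsg.Agent.Lib.Helper77.WAT.Defs

/-!
# WAT-[IND-OF] (helper78): the induction of project WAT in hypothesis form

`rk_eq_rk_sup_of`: from the two key sums (KEY1, KEY0), the central case (CENT), the arithmetic of
the inertial group (INERT) and the invariant linear character (ETA), all as explicit hypotheses in
the exact shape of `Lib/Helper77/WAT/Skel.lean.txt`:
`rk Q = rk (Q ⊔ ⟨u⟩)` and `kk Q = kk (Q ⊔ ⟨u⟩)` for `u ∈ P` fixed by `T ∩ C_G(Q)`.
Strong induction on `|C_G(Q)|`.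
-/

set_option autoImplicit false
set_option linter.unusedSectionVars false
set_option linter.unusedVariables false
set_option linter.style.haveILetI false

namespace Cfsg.Agent.Lib.Helper78.WAT

open Cfsg Cfsg.Agent.Lib.Helper16 Cfsg.Agent.Lib.Helper16.BP Cfsg.Agent.Lib.Helper77.WAT

universe u

variable {G : Type u} [Group G]

theorem mem_centralizer_sup_zpowers {Q : Subgroup G} {u t : G} :
    t ∈ Subgroup.centralizer ((Q ⊔ Subgroup.zpowers u : Subgroup G) : Set G) ↔
      t ∈ Subgroup.centralizer (Q : Set G) ∧ t * u = u * t := by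
  constructor
  · intro h
    rw [Subgroup.mem_centralizer_iff] at h
    refine ⟨?_, ?_⟩
    · rw [Subgroup.mem_centralizer_iff]
      intro x hx
      exact h x ((le_sup_left : Q ≤ Q ⊔ Subgroup.zpowers u) hx)
    · exact (h u ((le_sup_right : Subgroup.zpowers u ≤ Q ⊔ Subgroup.zpowers u)
        (Subgroup.mem_zpowers u))).symm
  · rintro ⟨h1, h2⟩
    rw [Subgroup.mem_centralizer_iff] at h1 ⊢
    have hQ : Q ≤ Subgroup.centralizer ({t} : Set G) := by
      intro x hx
      rw [Subgroup.mem_centralizer_iff]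
      intro y hy
      rw [Set.mem_singleton_iff.mp hy]
      exact (h1 x hx).symm
    have hu : Subgroup.zpowers u ≤ Subgroup.centralizer ({t} : Set G) := by
      rw [Subgroup.zpowers_le, Subgroup.mem_centralizer_iff]
      intro y hy
      rw [Set.mem_singleton_iff.mp hy]
      exact h2
    intro x hx
    have := (sup_le hQ hu) hx
    rw [Subgroup.mem_centralizer_iff] at this
    exact (this t rfl).symm

theorem orbW_sup_eq {T P Q : Subgroup G} {u : G}
    (huT : ∀ t ∈ T, t ∈ Subgroup.centralizer (Q : Set G) → t * u * t⁻¹ = u) (v : P) :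
    orbW T P (Q ⊔ Subgroup.zpowers u) v = orbW T P Q v := by
  unfold orbW
  congr 2
  apply Nat.card_congr
  refine Equiv.subtypeEquivRight ?_
  intro v'
  constructor
  · rintro ⟨t, ht, htc, h⟩
    exact ⟨t, ht, (mem_centralizer_sup_zpowers.mp htc).1, h⟩
  · rintro ⟨t, ht, htc, h⟩
    refine ⟨t, ht, mem_centralizer_sup_zpowers.mpr ⟨htc, ?_⟩, h⟩
    have := huT t ht htc
    calc t * u = t * u * t⁻¹ * t := by group
      _ = u * t := by rw [this]

section Main

variable [Fintype G] {M : Ideal AlgInt} {p : ℕ} [Fact p.Prime] {P : Subgroup G}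
  {e : Set (IrrCharacter (Subgroup.centralizer (P : Set G)))}

theorem rk_eq_rk_sup_of {T : Subgroup G}
    (hTN : T ≤ Subgroup.normalizer (P : Set G)) (hCT : Subgroup.centralizer (P : Set G) ≤ T)
    (hidx : ¬ p ∣ (Subgroup.centralizer (P : Set G)).relIndex T)
    (hKEY1 : ∀ Q : Subgroup G, Q ≤ P →
      ∑ᶠ v : P, orbW T P Q v * (rk p M P e (Q ⊔ Subgroup.zpowers (v : G)) : ℂ) =
        (kk p M P e Q : ℂ))
    (hKEY0 : ∀ Q : Subgroup G, Q ≤ P → ∀ η : P →* ℂˣ,
      (∀ t ∈ T, t ∈ Subgroup.centralizer (Q : Set G) → ∀ v v' : P,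
        t * (v : G) * t⁻¹ = (v' : G) → η v' = η v) →
      (∃ v : P, η v ≠ 1) →
      ∑ᶠ v : P, orbW T P Q v * ((η v : ℂˣ) : ℂ) *
        (rk p M P e (Q ⊔ Subgroup.zpowers (v : G)) : ℂ) = 0)
    (hCENT : ∀ Q : Subgroup G, Q ≤ P → ∀ v : G, v ∈ P →
      (∀ g ∈ Subgroup.centralizer (Q : Set G), g * v = v * g) →
      rk p M P e (Q ⊔ Subgroup.zpowers v) = rk p M P e Q)
    (hETA : ∀ S : Subgroup G, S ≤ Subgroup.normalizer (P : Set G) →
      Subgroup.centralizer (P : Set G) ≤ S →
      ¬ p ∣ (Subgroup.centralizer (P : Set G)).relIndex S → ∀ Z : Subgroup G, Z ≤ P →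
      (∀ s ∈ S, ∀ z ∈ Z, s * z * s⁻¹ = z) → ∀ {u : G} (hu : u ∈ P),
      (∀ s ∈ S, s * u * s⁻¹ = u) → u ∉ Z →
      ∃ η : P →* ℂˣ, (∀ s ∈ S, ∀ v v' : P, s * (v : G) * s⁻¹ = (v' : G) → η v' = η v) ∧
        (∀ z : P, (z : G) ∈ Z → η z = 1) ∧ η ⟨u, hu⟩ ≠ 1)
    {Q : Subgroup G} (hQP : Q ≤ P) {u : G} (hu : u ∈ P)
    (huT : ∀ t ∈ T, t ∈ Subgroup.centralizer (Q : Set G) → t * u * t⁻¹ = u) :
    rk p M P e Q = rk p M P e (Q ⊔ Subgroup.zpowers u) ∧
      kk p M P e Q = kk p M P e (Q ⊔ Subgroup.zpowers u) := by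
  classical
  have main : ∀ n : ℕ, ∀ Q : Subgroup G, Q ≤ P →
      Nat.card (Subgroup.centralizer (Q : Set G)) = n → ∀ u : G, u ∈ P →
      (∀ t ∈ T, t ∈ Subgroup.centralizer (Q : Set G) → t * u * t⁻¹ = u) →
      rk p M P e Q = rk p M P e (Q ⊔ Subgroup.zpowers u) ∧
        kk p M P e Q = kk p M P e (Q ⊔ Subgroup.zpowers u) := by
    intro n
    induction n using Nat.strong_induction_on with
    | _ n ih =>
    intro Q hQP hn u hu huT
    have hQ'P : Q ⊔ Subgroup.zpowers u ≤ P := sup_le hQP ((Subgroup.zpowers_le).mpr hu)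
    have horb : ∀ v : P, orbW T P (Q ⊔ Subgroup.zpowers u) v = orbW T P Q v :=
      orbW_sup_eq huT
    -- `kk` from termwise equality of the ranks
    have hkk : (∀ v : P, rk p M P e (Q ⊔ Subgroup.zpowers (v : G)) =
        rk p M P e (Q ⊔ Subgroup.zpowers u ⊔ Subgroup.zpowers (v : G))) →
        kk p M P e Q = kk p M P e (Q ⊔ Subgroup.zpowers u) := by
      intro hterm
      have h1 := hKEY1 Q hQP
      have h2 := hKEY1 (Q ⊔ Subgroup.zpowers u) hQ'P
      have : (kk p M P e Q : ℂ) = (kk p M P e (Q ⊔ Subgroup.zpowers u) : ℂ) := by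
        rw [← h1, ← h2]
        apply finsum_congr
        intro v
        rw [horb v, hterm v]
      exact_mod_cast this
    by_cases hc : ∀ g ∈ Subgroup.centralizer (Q : Set G), g * u = u * g
    · -- `u` central in `C_G(Q)`
      refine ⟨(hCENT Q hQP u hu hc).symm, hkk ?_⟩
      intro v
      rw [sup_right_comm]
      refine (hCENT (Q ⊔ Subgroup.zpowers (v : G)) (sup_le hQP ((Subgroup.zpowers_le).mpr v.2)) u hu
        ?_).symm
      intro g hg
      exact hc g (Subgroup.centralizer_le (by exact_mod_cast (le_sup_left :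
        Q ≤ Q ⊔ Subgroup.zpowers (v : G))) hg)
    · -- the main case
      push Not at hc
      obtain ⟨g₀, hg₀, hg₀u⟩ := hc
      set S : Subgroup G := T ⊓ Subgroup.centralizer (Q : Set G) with hS
      set Z : Subgroup G :=
        P ⊓ Subgroup.centralizer ((Subgroup.centralizer (Q : Set G) : Subgroup G) : Set G) with hZ
      have hmemZ : ∀ z : G, z ∈ Z ↔ z ∈ P ∧ ∀ g ∈ Subgroup.centralizer (Q : Set G),
          g * z = z * g := by
        intro z
        rw [hZ, Subgroup.mem_inf, Subgroup.mem_centralizer_iff]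
        rfl
      have hSN : S ≤ Subgroup.normalizer (P : Set G) := inf_le_left.trans hTN
      have hCS : Subgroup.centralizer (P : Set G) ≤ S :=
        le_inf hCT (Subgroup.centralizer_le (by exact_mod_cast hQP))
      have hidxS : ¬ p ∣ (Subgroup.centralizer (P : Set G)).relIndex S := by
        intro hdvd
        apply hidx
        rw [← Subgroup.relIndex_mul_relIndex _ S T hCS inf_le_left]
        exact Dvd.dvd.mul_right hdvd _
      have hZP : Z ≤ P := inf_le_left
      have hZS : ∀ s ∈ S, ∀ z ∈ Z, s * z * s⁻¹ = z := by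
        intro s hs z hz
        have h1 := ((hmemZ z).mp hz).2 s (Subgroup.mem_inf.mp hs).2
        rw [h1]
        group
      have huS : ∀ s ∈ S, s * u * s⁻¹ = u := fun s hs =>
        huT s (Subgroup.mem_inf.mp hs).1 (Subgroup.mem_inf.mp hs).2
      have huZ : u ∉ Z := fun h => hg₀u (((hmemZ u).mp h).2 g₀ hg₀)
      obtain ⟨η, hηinv, hηZ, hηu⟩ := hETA S hSN hCS hidxS Z hZP hZS hu huS huZ
      -- the two vanishing sums
      have hηT : ∀ t ∈ T, t ∈ Subgroup.centralizer (Q : Set G) → ∀ v v' : P,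
          t * (v : G) * t⁻¹ = (v' : G) → η v' = η v := fun t ht htc v v' h =>
        hηinv t (Subgroup.mem_inf.mpr ⟨ht, htc⟩) v v' h
      have hηT' : ∀ t ∈ T,
          t ∈ Subgroup.centralizer ((Q ⊔ Subgroup.zpowers u : Subgroup G) : Set G) →
          ∀ v v' : P, t * (v : G) * t⁻¹ = (v' : G) → η v' = η v := fun t ht htc v v' h =>
        hηT t ht (mem_centralizer_sup_zpowers.mp htc).1 v v' h
      have hne : ∃ v : P, η v ≠ 1 := ⟨⟨u, hu⟩, hηu⟩
      have k0 := hKEY0 Q hQP η hηT hne
      have k0' := hKEY0 (Q ⊔ Subgroup.zpowers u) hQ'P η hηT' hne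
      -- the terms outside `Z` agree by induction
      have hout : ∀ v : P, (v : G) ∉ Z → rk p M P e (Q ⊔ Subgroup.zpowers (v : G)) =
          rk p M P e (Q ⊔ Subgroup.zpowers u ⊔ Subgroup.zpowers (v : G)) := by
        intro v hv
        have hvP : Q ⊔ Subgroup.zpowers (v : G) ≤ P := sup_le hQP ((Subgroup.zpowers_le).mpr v.2)
        have hnc : ∃ g ∈ Subgroup.centralizer (Q : Set G), g * (v : G) ≠ (v : G) * g := by
          by_contra hcon
          push Not at hcon
          exact hv ((hmemZ v).mpr ⟨v.2, hcon⟩)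
        obtain ⟨g, hg, hgv⟩ := hnc
        have hle : Subgroup.centralizer ((Q ⊔ Subgroup.zpowers (v : G) : Subgroup G) : Set G) ≤
            Subgroup.centralizer (Q : Set G) :=
          Subgroup.centralizer_le (by exact_mod_cast (le_sup_left :
            Q ≤ Q ⊔ Subgroup.zpowers (v : G)))
        have hlt : Nat.card (Subgroup.centralizer
            ((Q ⊔ Subgroup.zpowers (v : G) : Subgroup G) : Set G)) < n := by
          rw [← hn]
          have h1 : Nat.card (Subgroup.centralizer
              ((Q ⊔ Subgroup.zpowers (v : G) : Subgroup G) : Set G)) =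
              ((Subgroup.centralizer
                ((Q ⊔ Subgroup.zpowers (v : G) : Subgroup G) : Set G) : Subgroup G) : Set G).ncard :=
            Nat.card_coe_set_eq _
          have h2 : Nat.card (Subgroup.centralizer (Q : Set G)) =
              ((Subgroup.centralizer (Q : Set G) : Subgroup G) : Set G).ncard :=
            Nat.card_coe_set_eq _
          rw [h1, h2]
          apply Set.ncard_lt_ncard _ (Set.toFinite _)
          refine ⟨hle, ?_⟩
          intro hcon
          have := hcon hg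
          exact hgv (mem_centralizer_sup_zpowers.mp this).2
        have := (ih _ hlt (Q ⊔ Subgroup.zpowers (v : G)) hvP rfl u hu
          (fun t ht htc => huT t ht (hle htc))).1
        rw [this, sup_right_comm]
      -- the terms inside `Z`
      have hin : ∀ v : P, (v : G) ∈ Z →
          orbW T P Q v = 1 ∧ η v = 1 ∧ rk p M P e (Q ⊔ Subgroup.zpowers (v : G)) = rk p M P e Q ∧
          rk p M P e (Q ⊔ Subgroup.zpowers u ⊔ Subgroup.zpowers (v : G)) =
            rk p M P e (Q ⊔ Subgroup.zpowers u) := by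
        intro v hv
        have hcomm := ((hmemZ v).mp hv).2
        refine ⟨?_, hηZ v hv, hCENT Q hQP v v.2 hcomm, hCENT _ hQ'P v v.2 ?_⟩
        · unfold orbW
          have : Nat.card {v' : P // ∃ t : G, t ∈ T ∧ t ∈ Subgroup.centralizer (Q : Set G) ∧
              t * (v : G) * t⁻¹ = (v' : G)} = 1 := by
            rw [Nat.card_eq_one_iff_unique]
            refine ⟨⟨?_⟩, ⟨⟨v, 1, T.one_mem, Subgroup.one_mem _, by group⟩⟩⟩
            rintro ⟨a, t, ht, htc, ha⟩ ⟨b, t', ht', htc', hb⟩
            apply Subtype.ext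
            apply Subtype.ext
            rw [← ha, ← hb, hcomm t htc, hcomm t' htc']
            group
          rw [this]
          simp
        · intro g hg
          exact hcomm g (mem_centralizer_sup_zpowers.mp hg).1
      -- subtract
      haveI : Fintype P := Fintype.ofFinite P
      have hsub : ∑ v : P, orbW T P Q v * ((η v : ℂˣ) : ℂ) *
          ((rk p M P e (Q ⊔ Subgroup.zpowers (v : G)) : ℂ) -
            (rk p M P e (Q ⊔ Subgroup.zpowers u ⊔ Subgroup.zpowers (v : G)) : ℂ)) = 0 := by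
        rw [finsum_eq_sum_of_fintype] at k0 k0'
        simp_rw [mul_sub]
        rw [Finset.sum_sub_distrib, k0]
        have : ∑ v : P, orbW T P Q v * ((η v : ℂˣ) : ℂ) *
            (rk p M P e (Q ⊔ Subgroup.zpowers u ⊔ Subgroup.zpowers (v : G)) : ℂ) = 0 := by
          rw [← k0']
          apply Finset.sum_congr rfl
          intro v _
          rw [horb v]
        rw [this, sub_zero]
      have hterm : ∀ v : P, orbW T P Q v * ((η v : ℂˣ) : ℂ) *
          ((rk p M P e (Q ⊔ Subgroup.zpowers (v : G)) : ℂ) -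
            (rk p M P e (Q ⊔ Subgroup.zpowers u ⊔ Subgroup.zpowers (v : G)) : ℂ)) =
          if (v : G) ∈ Z then ((rk p M P e Q : ℂ) - (rk p M P e (Q ⊔ Subgroup.zpowers u) : ℂ))
          else 0 := by
        intro v
        split_ifs with hv
        · obtain ⟨h1, h2, h3, h4⟩ := hin v hv
          rw [h1, h2, h3, h4]
          simp
        · rw [hout v hv, sub_self, mul_zero]
      rw [Finset.sum_congr rfl (fun v _ => hterm v), ← Finset.sum_filter, Finset.sum_const,
        nsmul_eq_mul] at hsub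
      have hcard : ((Finset.univ.filter (fun v : P => (v : G) ∈ Z)).card : ℂ) ≠ 0 := by
        have : 0 < (Finset.univ.filter (fun v : P => (v : G) ∈ Z)).card :=
          Finset.card_pos.mpr ⟨1, by simp [Z.one_mem]⟩
        exact_mod_cast this.ne'
      have hrk : rk p M P e Q = rk p M P e (Q ⊔ Subgroup.zpowers u) := by
        have := (mul_eq_zero.mp hsub).resolve_left hcard
        exact_mod_cast sub_eq_zero.mp this
      refine ⟨hrk, hkk ?_⟩
      intro v
      by_cases hv : (v : G) ∈ Z
      · obtain ⟨-, -, h3, h4⟩ := hin v hv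
        rw [h3, h4, hrk]
      · exact hout v hv
  exact main _ Q hQP rfl u hu huT

end Main

end Cfsg.Agent.Lib.Helper78.WAT
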