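import Mathlib
import Cfsg.Agent.Lib.Helper16.BPRobIrr

/-!
# WAT-[TRACE] (helper78): the trace formula for a `*`-action on a block

`(P, e)` a maximal pair of `B`; `star` a map on `Irr(G)` with `star χ ∈ B` and `star χ` having the
local data of `η * χ` for all `χ ∈ B`.  Then
`#{χ ∈ B | star χ = χ} = ∑_{v ∈ P} |[v]_Fus|⁻¹ · η v · l(b_v)`, `b_v = subF v`.
-/

set_option autoImplicit false
set_option linter.unusedSectionVars false
set_option linter.unusedVariables false
set_option linter.style.haveILetI false

namespace Cfsg.Agent.Lib.Helper78.WAT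

open Cfsg Finset Cfsg.Agent.Lib.Helper16 Cfsg.Agent.Lib.Helper16.BP Cfsg.Agent.Lib.Helper78
  Cfsg.Agent.Lib.Helper82
open scoped ComplexConjugate

universe u

variable {G : Type u} [Group G] [Fintype G] {M : Ideal AlgInt}

attribute [local instance 2000] locCFintype

variable {p : ℕ} [Fact p.Prime] {B : Set (IrrCharacter G)} {P : Subgroup G}
  {e : Set (IrrCharacter (Subgroup.centralizer (P : Set G)))}

open scoped Classical in
/-- the diagonal contributions of the members of `B` to the subsection `(v, b_v)` add up to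
`l(b_v)` -/
theorem sum_mem_mv_self (hM : IsPModular p M) (hmax : IsMaximalBrauerPair p M B P e) (v : P) :
    ∑ χ ∈ Finset.univ.filter (fun χ : IrrCharacter G => χ ∈ B),
      mv p M P e (v : G) (χ : G → ℂ) (χ : G → ℂ) =
      (blockRank p (subF p M P e (v : G)) : ℂ) := by
  have hPe : IsBrauerPair p M P e := hmax.1.1
  rw [Finset.sum_filter]
  have h1 : ∀ χ : IrrCharacter G,
      (if χ ∈ B then mv p M P e (v : G) (χ : G → ℂ) (χ : G → ℂ) else 0) =
        mv p M P e (v : G) (χ : G → ℂ) (χ : G → ℂ) := by
    intro χ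
    split_ifs with h
    · rfl
    · exact (mv_eq_zero_of_not_mem hM hmax v.2 _ χ h).symm
  rw [Finset.sum_congr rfl (fun χ _ => h1 χ)]
  unfold mv
  exact sum_secM_self hM (v : G) (exists_orderOf_of_mem hPe.1 v.2) (locC (v : G))
    (locC_mem_iff (v : G)) (subF_spec hM hPe v.2).1

open scoped Classical in
/-- **WAT-[TRACE]**: the number of fixed points of a `*`-action. -/
theorem trace_formula (hM : IsPModular p M) (hmax : IsMaximalBrauerPair p M B P e) {η : P → ℂ}
    (star : IrrCharacter G → IrrCharacter G)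
    (hstar : ∀ χ ∈ B, star χ ∈ B ∧ IsStarOf p M P e η (χ : G → ℂ) (star χ : G → ℂ)) :
    (Nat.card {χ : IrrCharacter G // χ ∈ B ∧ star χ = χ} : ℂ) =
      ∑ v : P, ((Nat.card {v' : P // Fus p M P e (v : G) (v' : G)} : ℂ))⁻¹ * η v *
        (blockRank p (subF p M P e (v : G)) : ℂ) := by
  have hPe : IsBrauerPair p M P e := hmax.1.1
  -- the left side as a sum of inner products
  have hL : (Nat.card {χ : IrrCharacter G // χ ∈ B ∧ star χ = χ} : ℂ) =
      ∑ χ ∈ Finset.univ.filter (fun χ : IrrCharacter G => χ ∈ B),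
        classInner (star χ : G → ℂ) (χ : G → ℂ) := by
    rw [Nat.card_eq_fintype_card, Fintype.card_subtype, Finset.card_eq_sum_ones, Nat.cast_sum,
      ← Finset.filter_filter, Finset.sum_filter]
    apply Finset.sum_congr rfl
    intro χ _
    split_ifs with h
    · rw [h, classInner_irr_self χ.2]
      simp
    · rw [classInner_irr_ne (star χ).2 χ.2 (fun h' => h (Subtype.ext h'))]
  rw [hL]
  -- expand each inner product over the subsections
  have h1 : ∀ χ ∈ Finset.univ.filter (fun χ : IrrCharacter G => χ ∈ B),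
      classInner (star χ : G → ℂ) (χ : G → ℂ) =
        ∑ v : P, ((Nat.card {v' : P // Fus p M P e (v : G) (v' : G)} : ℂ))⁻¹ * η v *
          mv p M P e (v : G) (χ : G → ℂ) (χ : G → ℂ) := by
    intro χ hχ
    simp only [Finset.mem_filter, Finset.mem_univ, true_and] at hχ
    obtain ⟨hsB, hS⟩ := hstar χ hχ
    rw [classInner_eq_sum_mv_fus hM hmax (isClassFunction_irr (star χ))
      (classInner_irr_eq_zero_of_not_mem hsB) (isClassFunction_irr χ)]
    apply Finset.sum_congr rfl
    intro v _
    rw [mv_star hM hPe hS (isStarOf_one (p := p) (M := M) (P := P) (e := e) (χ : G → ℂ)) v,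
      map_one, mul_one, mul_assoc]
  rw [Finset.sum_congr rfl h1, Finset.sum_comm]
  apply Finset.sum_congr rfl
  intro v _
  rw [← Finset.mul_sum, sum_mem_mv_self hM hmax v]

end Cfsg.Agent.Lib.Helper78.WAT
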