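import Mathlib
import Cfsg.Agent.Lib.Helper78.WATTrace
import Cfsg.Agent.Lib.Helper77.Linear
import Cfsg.Agent.Lib.Helper26.IrrFacts

/-!
# WAT-[ACT] (helper78): the weighted subsection sums of a block with abelian defect group

`(P, e)` a maximal pair of `B` with `P` abelian, `BPFull` the `*`-theorem.  For a homomorphism
`lam : P →* ℂˣ` constant on the fusion classes of subsections,
`∑_{v ∈ P} |[v]|⁻¹ · lam v · l(b_v) = k(B)` if `lam = 1` and `= 0` otherwise
(the `*`-action of `lam` on `Irr(B)` is free; trace formula).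
-/

set_option autoImplicit false
set_option linter.unusedSectionVars false
set_option linter.unusedVariables false
set_option linter.style.haveILetI false

namespace Cfsg.Agent.Lib.Helper78.WAT

open Cfsg Finset Cfsg.Agent.Lib.Helper16 Cfsg.Agent.Lib.Helper16.BP Cfsg.Agent.Lib.Helper78
  Cfsg.Agent.Lib.Helper82
open scoped ComplexConjugate

universe u

variable {G : Type u} [Group G] [Fintype G] {M : Ideal AlgInt}

attribute [local instance 2000] locCFintype

variable {p : ℕ} [Fact p.Prime] {B : Set (IrrCharacter G)} {P : Subgroup G}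
  {e : Set (IrrCharacter (Subgroup.centralizer (P : Set G)))}

/-- a homomorphism constant on the fusion classes is fusion stable -/
theorem isFusionStable_of_fus_invariant (hM : IsPModular p M) (hPe : IsBrauerPair p M P e)
    (lam : P →* ℂˣ)
    (hlam : ∀ v v' : P, Fus p M P e (v : G) (v' : G) → lam v = lam v') :
    IsFusionStable p M P e (fun v : P => ((lam v : ℂˣ) : ℂ)) := by
  intro u v hu hv fu fv g hfu hfv hg hex
  have h1 : fu = subF p M P e u := eq_subF hM hPe hu hfu
  have h2 : fv = subF p M P e v := eq_subF hM hPe hv hfv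
  subst h1 h2
  show ((lam ⟨u, hu⟩ : ℂˣ) : ℂ) = ((lam ⟨v, hv⟩ : ℂˣ) : ℂ)
  rw [hlam ⟨u, hu⟩ ⟨v, hv⟩ ⟨g, hg, hex⟩]

/-- unimodularity of a linear character of a finite group -/
theorem hom_mul_conj {H : Type*} [Group H] [Finite H] (lam : H →* ℂˣ) (v : H) :
    ((lam v : ℂˣ) : ℂ) * conj ((lam v : ℂˣ) : ℂ) = 1 := by
  have h1 : ((lam v : ℂˣ) : ℂ) ^ orderOf v = 1 := by
    rw [← Units.val_pow_eq_pow_val, ← map_pow, pow_orderOf_eq_one, map_one, Units.val_one]
  have h2 : ‖((lam v : ℂˣ) : ℂ)‖ = 1 :=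
    Complex.norm_eq_one_of_pow_eq_one h1 (orderOf_pos v).ne'
  rw [Complex.mul_conj, Complex.normSq_eq_norm_sq, h2]
  simp

/-- (W1) the `*`-product of `lam` with a member of `B` -/
theorem exists_star_of_hom (hM : IsPModular p M) (hmax : IsMaximalBrauerPair p M B P e)
    (hBP : BPFull p M B P e) (lam : P →* ℂˣ)
    (hlam : ∀ v v' : P, Fus p M P e (v : G) (v' : G) → lam v = lam v')
    {χ : IrrCharacter G} (hχ : χ ∈ B) :
    ∃ ψ : IrrCharacter G, ψ ∈ B ∧
      IsStarOf p M P e (fun v : P => ((lam v : ℂˣ) : ℂ)) (χ : G → ℂ) (ψ : G → ℂ) := by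
  have hPe : IsBrauerPair p M P e := hmax.1.1
  have hfinP : Fintype P := Fintype.ofFinite P
  have hg : IsGeneralizedCharacter P (fun v : P => ((lam v : ℂˣ) : ℂ)) :=
    Cfsg.Agent.Lib.Helper26.isGeneralizedCharacter_of_isCharacter
      (IsIrrCharacter.isCharacter (Cfsg.Agent.Lib.Helper77.isIrrCharacter_of_monoidHom lam))
  obtain ⟨θ, hZ, hS⟩ := hBP _ hg (isFusionStable_of_fus_invariant hM hPe lam hlam) χ hχ
  obtain ⟨ψ, hψB, hθψ, -⟩ := star_irr hM hmax (hom_mul_conj lam) (by simp) hχ hZ hS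
  exact ⟨ψ, hψB, hθψ ▸ hS⟩

open scoped Classical in
/-- **WAT-[ACT]** = (W1)+(W2)+(W3): the weighted sums over the subsections. -/
theorem sum_weight_mul (hM : IsPModular p M) (hmax : IsMaximalBrauerPair p M B P e)
    (hBP : BPFull p M B P e) (hPab : ∀ x ∈ P, ∀ y ∈ P, x * y = y * x) (lam : P →* ℂˣ)
    (hlam : ∀ v v' : P, Fus p M P e (v : G) (v' : G) → lam v = lam v') :
    ∑ v : P, ((Nat.card {v' : P // Fus p M P e (v : G) (v' : G)} : ℂ))⁻¹ *
        ((lam v : ℂˣ) : ℂ) * (blockRank p (subF p M P e (v : G)) : ℂ) =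
      if lam = 1 then (Nat.card B : ℂ) else 0 := by
  -- the action map
  have hex : ∀ χ : IrrCharacter G, ∃ ψ : IrrCharacter G, χ ∈ B →
      (ψ ∈ B ∧ IsStarOf p M P e (fun v : P => ((lam v : ℂˣ) : ℂ)) (χ : G → ℂ) (ψ : G → ℂ)) := by
    intro χ
    by_cases hχ : χ ∈ B
    · obtain ⟨ψ, h1, h2⟩ := exists_star_of_hom hM hmax hBP lam hlam hχ
      exact ⟨ψ, fun _ => ⟨h1, h2⟩⟩
    · exact ⟨χ, fun h => absurd h hχ⟩
  choose star hstar using hex
  rw [← trace_formula hM hmax star hstar]
  split_ifs with h1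
  · -- trivial character: every member of `B` is fixed
    subst h1
    congr 1
    apply Nat.card_congr
    refine Equiv.subtypeEquivRight ?_
    intro χ
    constructor
    · exact fun h => h.1
    · intro hχ
      refine ⟨hχ, ?_⟩
      obtain ⟨hsB, hS⟩ := hstar χ hχ
      have hS1 : IsStarOf p M P e (fun v : P => (((1 : P →* ℂˣ) v : ℂˣ) : ℂ)) (χ : G → ℂ)
          (χ : G → ℂ) := by
        have : (fun v : P => (((1 : P →* ℂˣ) v : ℂˣ) : ℂ)) = fun _ => (1 : ℂ) := by
          funext v
          simp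
        rw [this]
        exact isStarOf_one _
      exact Subtype.ext (eq_of_isStarOf hM hmax (isZSpan_irr hsB) (isZSpan_irr hχ) hS hS1)
  · -- no fixed points
    have hempty : IsEmpty {χ : IrrCharacter G // χ ∈ B ∧ star χ = χ} := by
      constructor
      rintro ⟨χ, hχ, hfix⟩
      apply h1
      obtain ⟨hsB, hS⟩ := hstar χ hχ
      rw [hfix] at hS
      apply MonoidHom.ext
      intro v
      apply Units.ext
      have hvc : (v : G) ∈ Subgroup.centralizer (P : Set G) := by
        rw [Subgroup.mem_centralizer_iff]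
        intro y hy
        exact hPab y hy v v.2
      exact eq_one_of_isStarOf_self_of_central hM hmax hχ hS v hvc
    rw [Nat.card_of_isEmpty]
    simp

end Cfsg.Agent.Lib.Helper78.WAT
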