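import Mathlib

/-!
# BP-[ROB-COUNT] (helper78): orbit counting for a group action given as a functional relation
-/

set_option autoImplicit false
set_option linter.style.haveILetI false
set_option linter.unusedSectionVars false
set_option linter.unusedVariables false

namespace Cfsg.Agent.Lib.Helper78.BP

/-- orbit counting for an action given as a functional relation -/
theorem index_dvd_card_of_rel {L : Type*} [Group L] [Finite L] {X : Type*} [Finite X]
    (L₀ : Subgroup L) (R : L → X → X → Prop) (hex : ∀ l x, ∃ y, R l x y)
    (huniq : ∀ l x y y', R l x y → R l x y' → y = y') (hone : ∀ x, R 1 x x)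
    (hmul : ∀ l l' x y z, R l x y → R l' y z → R (l' * l) x z)
    (hstab : ∀ l x, R l x x → l ∈ L₀) : L₀.index ∣ Nat.card X := by
  classical
  letI act : MulAction L X :=
    { smul := fun l x => (hex l x).choose
      one_smul := fun x => huniq 1 x _ _ (hex 1 x).choose_spec (hone x)
      mul_smul := fun l' l x => huniq (l' * l) x _ _ (hex (l' * l) x).choose_spec
        (hmul l l' x _ _ (hex l x).choose_spec (hex l' _).choose_spec) }
  have hspec : ∀ (l : L) (x : X), R l x (l • x) := fun l x => (hex l x).choose_spec
  have hst : ∀ x : X, MulAction.stabilizer L x ≤ L₀ := by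
    intro x l hl
    rw [MulAction.mem_stabilizer_iff] at hl
    have := hspec l x
    rw [hl] at this
    exact hstab l x this
  haveI : Fintype (MulAction.orbitRel.Quotient L X) := Fintype.ofFinite _
  rw [Nat.card_congr (MulAction.selfEquivSigmaOrbits L X), Nat.card_sigma]
  apply Finset.dvd_sum
  intro ω _
  rw [Nat.card_coe_set_eq, ← MulAction.index_stabilizer]
  exact Subgroup.index_dvd_of_le (hst _)

end Cfsg.Agent.Lib.Helper78.BP
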