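import Mathlib
import Cfsg.Agent.Lib.Helper78.FiniteAbelianDual

/-!
# BP-[ROB-DUAL] (helper78): characters of a finite group trivial on a subgroup `N ⊇ [P, P]`

`card_dual_of_commutator_le`: there are `|P : N|` of them; `index_dual_trivial_on`: those trivial on
a further subgroup `Z` form a subgroup of index `|Z : Z ∩ N|`.
-/

set_option autoImplicit false
set_option linter.unusedSectionVars false
set_option linter.unusedVariables false
set_option linter.style.haveILetI false

namespace Cfsg.Agent.Lib.Helper78.BP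

open Cfsg Cfsg.Agent.Lib.Helper78
open scoped commutatorElement

section Dual

variable {P : Type*} [Group P] [Finite P] (N : Subgroup P) [N.Normal]

/-- the quotient by a subgroup containing the commutator subgroup is commutative -/
theorem quot_mul_comm (hN : commutator P ≤ N) (a b : P ⧸ N) : a * b = b * a := by
  obtain ⟨x, rfl⟩ := QuotientGroup.mk_surjective a
  obtain ⟨y, rfl⟩ := QuotientGroup.mk_surjective b
  rw [← QuotientGroup.mk_mul, ← QuotientGroup.mk_mul, QuotientGroup.eq]
  apply hN
  have : (x * y)⁻¹ * (y * x) = ⁅y⁻¹, x⁻¹⁆ := by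
    rw [commutatorElement_def]
    group
  rw [this, commutator_def]
  exact Subgroup.commutator_mem_commutator (Subgroup.mem_top _) (Subgroup.mem_top _)

/-- the commutative group structure on such a quotient -/
@[reducible] def quotCommGroup (hN : commutator P ≤ N) : CommGroup (P ⧸ N) :=
  { (inferInstance : Group (P ⧸ N)) with mul_comm := quot_mul_comm N hN }

theorem card_dual_of_commutator_le (hN : commutator P ≤ N) :
    Nat.card (P ⧸ N →* ℂˣ) = N.index := by
  letI : CommGroup (P ⧸ N) := quotCommGroup N hN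
  haveI : Fintype (P ⧸ N) := Fintype.ofFinite _
  haveI := hasEnoughRoots_exponent (A := P ⧸ N)
  exact CommGroup.card_monoidHom_of_hasEnoughRootsOfUnity (P ⧸ N) ℂ

theorem index_dual_trivial_on (hN : commutator P ≤ N) (Z : Subgroup P)
    (L₀ : Subgroup (P ⧸ N →* ℂˣ))
    (hL₀ : ∀ l : P ⧸ N →* ℂˣ, l ∈ L₀ ↔ ∀ z ∈ Z, l (QuotientGroup.mk z) = 1) :
    L₀.index = N.relIndex Z := by
  letI : CommGroup (P ⧸ N) := quotCommGroup N hN
  haveI : Fintype (P ⧸ N) := Fintype.ofFinite _
  haveI := hasEnoughRoots_exponent (A := P ⧸ N)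
  set Zb : Subgroup (P ⧸ N) := Z.map (QuotientGroup.mk' N) with hZb
  haveI : Fintype Zb := Fintype.ofFinite _
  haveI hZr := hasEnoughRoots_exponent (A := Zb)
  -- `L₀` is the kernel of the restriction map
  have hker : L₀ = (MonoidHom.domRestrictHom Zb ℂˣ).ker := by
    ext l
    rw [hL₀, MonoidHom.mem_ker]
    constructor
    · intro h
      ext ⟨a, ha⟩
      obtain ⟨z, hz, rfl⟩ := ha
      have := h z hz
      simpa using congrArg Units.val this
    · intro h z hz
      have := DFunLike.congr_fun h (⟨QuotientGroup.mk z, ⟨z, hz, rfl⟩⟩ : Zb)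
      simpa using this
  have hsurj : Function.Surjective (MonoidHom.domRestrictHom Zb ℂˣ) :=
    MonoidHom.domRestrict_surjective (M := ℂ) Zb
  rw [hker, Subgroup.index_ker, MonoidHom.range_eq_top.mpr hsurj, Subgroup.card_top,
    CommGroup.card_monoidHom_of_hasEnoughRootsOfUnity Zb ℂ]
  -- `|Z N / N| = |Z : Z ∩ N|`
  set g : Z →* P ⧸ N := (QuotientGroup.mk' N).comp Z.subtype with hg
  have hrange : g.range = Zb := by
    rw [hg, MonoidHom.range_comp, Subgroup.range_subtype]
  have hgker : g.ker = N.subgroupOf Z := by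
    rw [hg, ← MonoidHom.comap_ker, QuotientGroup.ker_mk']
    rfl
  rw [← hrange, ← Nat.card_congr (QuotientGroup.quotientKerEquivRange g).toEquiv, hgker]
  rfl

end Dual

end Cfsg.Agent.Lib.Helper78.BP
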