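import Mathlib
import Cfsg.Prelude.Def_BlockFusion

/-!
# BP-[ROB-FOC] (helper78): the focal subgroup of a fusion system over `P` lies in `P` and contains
the commutator subgroup of `P`.
-/

set_option autoImplicit false

namespace Cfsg.Agent.Lib.Helper78.BP

open Cfsg

universe u

variable {G : Type u} [Group G] {P : Subgroup G}

/-- the focal subgroup of a fusion system over `P` lies in `P` -/
theorem focal_le (F : FusionSystem P) : F.focalSubgroup ≤ P := by
  unfold FusionSystem.focalSubgroup
  rw [Subgroup.closure_le]
  rintro y ⟨Q, φ, x, hφ, rfl⟩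
  exact P.mul_mem (P.inv_mem ((F.le_of_mem hφ).1 x.2)) ((F.le_of_mem hφ).2 x)

/-- the focal subgroup contains the commutators of `P` -/
theorem commutator_le_focal (F : FusionSystem P) :
    commutator P ≤ F.focalSubgroup.subgroupOf P := by
  rw [commutator_def, Subgroup.commutator_le]
  intro a _ b _
  rw [Subgroup.mem_subgroupOf]
  apply Subgroup.subset_closure
  refine ⟨P, conjHom P (b : G), a⁻¹, F.conj_mem le_rfl b.2, ?_⟩
  simp only [conjHom, MonoidHom.coe_comp, MulEquiv.coe_toMonoidHom, Function.comp_apply,
    Subgroup.coe_subtype, MulAut.conj_apply, commutatorElement_def]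
  simp [mul_assoc]

end Cfsg.Agent.Lib.Helper78.BP
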