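import Mathlib
import Cfsg.Prelude.Def_BlockFusion
import Cfsg.Agent.Lib.Helper16.BPRobIrr
import Cfsg.Agent.Lib.Helper16.BPRobFocal
import Cfsg.Agent.Lib.Helper78.BPRobFoc
import Cfsg.Agent.Lib.Helper78.BPRobCount
import Cfsg.Agent.Lib.Helper78.BPRobDual
import Cfsg.Agent.Lib.Helper77.Linear
import Cfsg.Agent.Lib.Helper26.IrrFacts

/-!
# BP-[L5-ROB] (helper78): the Robinson rows S4684 + S4685 from the `*`-theorem `BPFull`

`(P, e)` a maximal pair of the block `B`, `F` its fusion system, `N = foc(F) ∩ P ⊴ P`.  The group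
`Λ = (P ⧸ N →* ℂˣ)` acts on the characters of height `h` in `B` by `l • χ = etaOf l * χ` (helper16's
Robinson toolkit `BPRobIrr`, `BPRobFocal`); the action is free for `h = 0` and the stabilizers are
trivial on `Z(P)` in general.  Orbit counting (`BPRobCount`) and duality (`BPRobDual`) give
`|P : foc| ∣ k₀(B)` and `|Z(P) : Z(P) ∩ foc| ∣ k_h(B)`.
-/

set_option autoImplicit false
set_option linter.unusedSectionVars false
set_option linter.unusedVariables false
set_option linter.style.haveILetI false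

namespace Cfsg.Agent.Lib.Helper78.BP

open Cfsg Cfsg.Agent.Lib.Helper16 Cfsg.Agent.Lib.Helper16.BP Cfsg.Agent.Lib.Helper78
open scoped ComplexConjugate

universe u


section Lin

variable {Q : Type*} [Group Q] [Finite Q] (N : Subgroup Q) [N.Normal]

/-- the linear character of `Q` attached to a character of `Q ⧸ N` -/
noncomputable def etaOf (l : Q ⧸ N →* ℂˣ) : Q → ℂ :=
  fun x => ((l (QuotientGroup.mk x) : ℂˣ) : ℂ)

theorem etaOf_one : etaOf N (1 : Q ⧸ N →* ℂˣ) = fun _ => (1 : ℂ) := by
  funext x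
  simp [etaOf]

theorem etaOf_mul (l l' : Q ⧸ N →* ℂˣ) : etaOf N (l' * l) = etaOf N l' * etaOf N l := by
  funext x
  simp [etaOf]

theorem etaOf_apply_one (l : Q ⧸ N →* ℂˣ) : etaOf N l 1 = 1 := by
  simp [etaOf]

theorem etaOf_unimodular (l : Q ⧸ N →* ℂˣ) (v : Q) : etaOf N l v * conj (etaOf N l v) = 1 := by
  have hfin : Fintype Q := Fintype.ofFinite Q
  have h : etaOf N l v ^ orderOf v = 1 := by
    unfold etaOf
    rw [← Units.val_pow_eq_pow_val, ← map_pow, ← QuotientGroup.mk_pow, pow_orderOf_eq_one]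
    simp
  have hn : ‖etaOf N l v‖ = 1 := Complex.norm_eq_one_of_pow_eq_one h (orderOf_pos v).ne'
  rw [Complex.mul_conj, Complex.normSq_eq_norm_sq, hn]
  simp

theorem isGeneralizedCharacter_etaOf (l : Q ⧸ N →* ℂˣ) :
    IsGeneralizedCharacter Q (etaOf N l) := by
  have hfin : Fintype Q := Fintype.ofFinite Q
  exact Cfsg.Agent.Lib.Helper26.isGeneralizedCharacter_of_isCharacter
    (IsIrrCharacter.isCharacter
      (Cfsg.Agent.Lib.Helper77.isIrrCharacter_of_monoidHom (l.comp (QuotientGroup.mk' N))))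

theorem etaOf_eq_of_mem (l : Q ⧸ N →* ℂˣ) {u v : Q} (h : u⁻¹ * v ∈ N) :
    etaOf N l u = etaOf N l v := by
  unfold etaOf
  rw [QuotientGroup.eq.mpr h]

theorem eq_one_of_etaOf_eq_one (l : Q ⧸ N →* ℂˣ) (h : ∀ v : Q, etaOf N l v = 1) : l = 1 := by
  apply MonoidHom.ext
  intro a
  obtain ⟨v, rfl⟩ := QuotientGroup.mk_surjective a
  exact Units.ext (h v)

/-- the characters of `Q ⧸ N` trivial on (the image of) `Z` -/
def dualTrivOn (Z : Subgroup Q) : Subgroup (Q ⧸ N →* ℂˣ) where
  carrier := {l | ∀ z ∈ Z, l (QuotientGroup.mk z) = 1}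
  one_mem' := by intro z _; rfl
  mul_mem' := by
    intro a b ha hb z hz
    rw [MonoidHom.mul_apply, ha z hz, hb z hz, one_mul]
  inv_mem' := by
    intro a ha z hz
    rw [MonoidHom.inv_apply, ha z hz, inv_one]

end Lin

section Rows

variable {G : Type u} [Group G] [Fintype G] {M : Ideal AlgInt} {p : ℕ} [Fact p.Prime]
  {B : Set (IrrCharacter G)} {P : Subgroup G}
  {e : Set (IrrCharacter (Subgroup.centralizer (P : Set G)))}

theorem focal_normal (F : FusionSystem P) : (F.focalSubgroup.subgroupOf P).Normal := by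
  rw [← Subgroup.commutator_top_left_le_iff]
  refine le_trans ?_ (commutator_le_focal F)
  rw [commutator_def]
  exact Subgroup.commutator_mono le_rfl le_top

theorem blockHeight_eq_of_apply_one_eq {χ ψ : G → ℂ} (h : ψ 1 = χ 1) :
    blockHeight p B ψ = blockHeight p B χ := by
  unfold blockHeight charDegree
  rw [h]

/-- the common core of the two rows: orbit counting for the action of the characters of
`P / foc(F)` on the characters of height `h` in `B` -/
theorem index_dvd_card_height (hM : IsPModular p M) (hmax : IsMaximalBrauerPair p M B P e)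
    (hBP : BPFull p M B P e) (F : FusionSystem P) (hF : IsBlockFusionSystemOn p M B P e F)
    [hn : (F.focalSubgroup.subgroupOf P).Normal] (h : ℕ)
    (L₀ : Subgroup (P ⧸ F.focalSubgroup.subgroupOf P →* ℂˣ))
    (hstab : ∀ (l : P ⧸ F.focalSubgroup.subgroupOf P →* ℂˣ) (χ : IrrCharacter G), χ ∈ B →
      blockHeight p B (χ : G → ℂ) = h →
      IsStarOf p M P e (etaOf (F.focalSubgroup.subgroupOf P) l) (χ : G → ℂ) (χ : G → ℂ) →
        l ∈ L₀) :
    L₀.index ∣ Nat.card {χ : IrrCharacter G // χ ∈ B ∧ blockHeight p B (χ : G → ℂ) = h} := by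
  classical
  have hfinL : Finite (P ⧸ F.focalSubgroup.subgroupOf P →* ℂˣ) := by
    have hpos : 0 < Nat.card (P ⧸ F.focalSubgroup.subgroupOf P →* ℂˣ) := by
      rw [card_dual_of_commutator_le _ (commutator_le_focal F)]
      exact Nat.pos_of_ne_zero Subgroup.index_ne_zero_of_finite
    exact (Nat.card_pos_iff.mp hpos).2
  have hstable : ∀ l : P ⧸ F.focalSubgroup.subgroupOf P →* ℂˣ,
      IsFusionStable p M P e (etaOf (F.focalSubgroup.subgroupOf P) l) := by
    intro l
    exact isFusionStable_of_focal hM hF (l.comp (QuotientGroup.mk' (F.focalSubgroup.subgroupOf P)))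
      (fun y hy => by
        rw [MonoidHom.comp_apply, QuotientGroup.mk'_apply,
          (QuotientGroup.eq_one_iff y).mpr (Subgroup.mem_subgroupOf.mpr hy), map_one])
  apply index_dvd_card_of_rel L₀
    (fun l (χ ψ : {χ : IrrCharacter G // χ ∈ B ∧ blockHeight p B (χ : G → ℂ) = h}) =>
      IsStarOf p M P e (etaOf (F.focalSubgroup.subgroupOf P) l) (χ.1 : G → ℂ) (ψ.1 : G → ℂ))
  · -- existence
    intro l χ
    obtain ⟨θ, hZ, hS⟩ := hBP _ (isGeneralizedCharacter_etaOf _ l) (hstable l) χ.1 χ.2.1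
    obtain ⟨ψ, hψB, hθψ, hval⟩ := star_irr hM hmax (etaOf_unimodular _ l) (etaOf_apply_one _ l)
      χ.2.1 hZ hS
    have h1 : (ψ : G → ℂ) 1 = (χ.1 : G → ℂ) 1 := hval 1 (by
      rw [orderOf_one]
      exact (Fact.out : p.Prime).one_lt.ne' ∘ Nat.dvd_one.mp)
    refine ⟨⟨ψ, hψB, ?_⟩, ?_⟩
    · rw [blockHeight_eq_of_apply_one_eq h1]
      exact χ.2.2
    · show IsStarOf p M P e _ _ (ψ : G → ℂ)
      rw [← hθψ]
      exact hS
  · -- uniqueness
    intro l χ ψ ψ' hS hS'
    have := eq_of_isStarOf hM hmax (isZSpan_irr ψ.2.1) (isZSpan_irr ψ'.2.1) hS hS'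
    exact Subtype.ext (Subtype.ext this)
  · -- one
    intro χ
    show IsStarOf p M P e (etaOf _ 1) _ _
    rw [etaOf_one]
    exact isStarOf_one _
  · -- mul
    intro l l' χ ψ ω hS hS'
    show IsStarOf p M P e (etaOf _ (l' * l)) _ _
    rw [etaOf_mul]
    exact isStarOf_mul hS hS'
  · -- stabilizers
    intro l χ hS
    exact hstab l χ.1 χ.2.1 χ.2.2 hS

/-- **S4684 from `BPFull`.** -/
theorem stmt4684_of_BPFull (hM : IsPModular p M) (hmax : IsMaximalBrauerPair p M B P e)
    (hBP : BPFull p M B P e) (F : FusionSystem P) (hF : IsBlockFusionSystemOn p M B P e F) :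
    (F.focalSubgroup.subgroupOf P).index ∣
      Nat.card {χ : IrrCharacter G // χ ∈ B ∧ blockHeight p B (χ : G → ℂ) = 0} := by
  haveI hn : (F.focalSubgroup.subgroupOf P).Normal := focal_normal F
  have key := index_dvd_card_height hM hmax hBP F hF 0 ⊥ (by
    intro l χ hχ h0 hS
    rw [Subgroup.mem_bot]
    apply eq_one_of_etaOf_eq_one
    intro v
    exact eq_one_of_isStarOf_self_of_height_zero hM hmax hχ h0 hS v)
  rwa [Subgroup.index_bot, card_dual_of_commutator_le _ (commutator_le_focal F)] at key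

/-- **S4685 from `BPFull`.** -/
theorem stmt4685_of_BPFull (hM : IsPModular p M) (hmax : IsMaximalBrauerPair p M B P e)
    (hBP : BPFull p M B P e) (F : FusionSystem P) (hF : IsBlockFusionSystemOn p M B P e F) (h : ℕ) :
    ((P ⊓ Subgroup.centralizer (P : Set G) ⊓ F.focalSubgroup).subgroupOf
      (P ⊓ Subgroup.centralizer (P : Set G))).index ∣
      Nat.card {χ : IrrCharacter G // χ ∈ B ∧ blockHeight p B (χ : G → ℂ) = h} := by
  haveI hn : (F.focalSubgroup.subgroupOf P).Normal := focal_normal F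
  have key := index_dvd_card_height hM hmax hBP F hF h
    (dualTrivOn (F.focalSubgroup.subgroupOf P) ((Subgroup.centralizer (P : Set G)).subgroupOf P))
    (by
      intro l χ hχ _ hS z hz
      have := eq_one_of_isStarOf_self_of_central hM hmax hχ hS z
        (by rwa [Subgroup.mem_subgroupOf] at hz)
      apply Units.ext
      exact this)
  rw [index_dual_trivial_on _ (commutator_le_focal F)
    ((Subgroup.centralizer (P : Set G)).subgroupOf P) _ (fun l => Iff.rfl)] at key
  have h1 : (F.focalSubgroup.subgroupOf P).relIndex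
      ((Subgroup.centralizer (P : Set G)).subgroupOf P) =
      ((P ⊓ Subgroup.centralizer (P : Set G) ⊓ F.focalSubgroup).subgroupOf
        (P ⊓ Subgroup.centralizer (P : Set G))).index := by
    rw [← Subgroup.inf_subgroupOf_left (Subgroup.centralizer (P : Set G)) P,
      Subgroup.relIndex_subgroupOf inf_le_left, Subgroup.inf_subgroupOf_left]
    rfl
  rwa [h1] at key

end Rows

end Cfsg.Agent.Lib.Helper78.BP
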