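import Mathlib
import Cfsg.Agent.Lib.Helper30.BSW.CharDefs

set_option autoImplicit false

/-!
# S3282 (abstract Brauer-Suzuki-Wall), module [C4] (helper78)

* `exists_real_dual`: the dual group of `K` has a unique character `ν` of order two;
* `sgn_spec`: `ψ z = sgn ψ z = ± 1` for `z * z = 1`;
* `sum_sgn`: `∑ ψ, ψ t = 0`.
-/

namespace Cfsg.Agent.Lib.Helper78.BSWC4

open Cfsg Cfsg.Agent.Lib.Helper30.BSW Cfsg.Agent.Lib.Helper78
open scoped ComplexConjugate IsMulCommutative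

variable {G : Type*} [Group G] [Fintype G] {t s : G} {K : Subgroup G} [IsMulCommutative ↥K]
  [Fintype ↥K] [Fintype (↥K →* ℂˣ)]

omit [Fintype G] [Fintype (↥K →* ℂˣ)] in
theorem exists_real_dual (h : Hyp t s K) (b : Basic t s K) :
    ∃ ν : ↥K →* ℂˣ, ν ≠ 1 ∧ ∀ ψ : ↥K →* ℂˣ, ψ⁻¹ = ψ ↔ ψ = 1 ∨ ψ = ν := by
  have hroots := hasEnoughRoots_exponent (A := ↥K)
  obtain ⟨e⟩ := CommGroup.monoidHom_mulEquiv_of_hasEnoughRootsOfUnity ↥K ℂ
  have ht1 : t ≠ 1 := by
    intro h1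
    have := h.ht
    rw [h1, orderOf_one] at this
    omega
  have htt : t * t = 1 := by
    have := pow_orderOf_eq_one t
    rw [h.ht, pow_two] at this
    exact this
  refine ⟨e.symm ⟨t, h.htK⟩, ?_, ?_⟩
  · intro h1
    have h2 : e (e.symm ⟨t, h.htK⟩) = e 1 := by rw [h1]
    rw [e.apply_symm_apply, map_one] at h2
    apply ht1
    have := congrArg Subtype.val h2
    simpa using this
  · intro ψ
    constructor
    · intro hψ
      have h1 : e ψ * e ψ = 1 := by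
        have : e ψ⁻¹ = e ψ := by rw [hψ]
        rw [map_inv] at this
        calc e ψ * e ψ = (e ψ)⁻¹ * e ψ := by rw [this]
          _ = 1 := inv_mul_cancel _
      have h2 : ((e ψ : ↥K) : G) * ((e ψ : ↥K) : G) = 1 := by
        have := congrArg Subtype.val h1
        simpa using this
      rcases b.sq_eq_one _ (e ψ).2 h2 with h3 | h3
      · left
        have : e ψ = 1 := Subtype.ext h3
        rw [← e.symm_apply_apply ψ, this, map_one]
      · right
        have : e ψ = ⟨t, h.htK⟩ := Subtype.ext h3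
        rw [← e.symm_apply_apply ψ, this]
    · rintro (rfl | rfl)
      · exact inv_one (G := ↥K →* ℂˣ)
      · have h1 : (⟨t, h.htK⟩ : ↥K)⁻¹ = ⟨t, h.htK⟩ := by
          apply Subtype.ext
          rw [Subgroup.coe_inv]
          exact inv_eq_of_mul_eq_one_left htt
        calc (e.symm ⟨t, h.htK⟩)⁻¹ = e.symm (⟨t, h.htK⟩ : ↥K)⁻¹ := (map_inv e.symm _).symm
          _ = e.symm ⟨t, h.htK⟩ := by rw [h1]

theorem sgn_spec {A : Type*} [Group A] (ψ : A →* ℂˣ) {z : A} (hz : z * z = 1) :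
    ((ψ z : ℂˣ) : ℂ) = (sgn ψ z : ℂ) ∧ (sgn ψ z = 1 ∨ sgn ψ z = -1) := by
  classical
  have h1 : ((ψ z : ℂˣ) : ℂ) * ((ψ z : ℂˣ) : ℂ) = 1 := by
    rw [← Units.val_mul, ← map_mul, hz, map_one, Units.val_one]
  have h2 : ((ψ z : ℂˣ) : ℂ) = 1 ∨ ((ψ z : ℂˣ) : ℂ) = -1 := by
    have : (((ψ z : ℂˣ) : ℂ) - 1) * (((ψ z : ℂˣ) : ℂ) + 1) = 0 := by
      ring_nf
      rw [pow_two, h1]
      ring
    rcases mul_eq_zero.mp this with h | h
    · left
      exact sub_eq_zero.mp h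
    · right
      exact eq_neg_of_add_eq_zero_left h
  unfold sgn
  by_cases h : ((ψ z : ℂˣ) : ℂ) = 1
  · rw [if_pos h, h]
    exact ⟨by norm_num, Or.inl rfl⟩
  · rw [if_neg h]
    rcases h2 with h2 | h2
    · exact absurd h2 h
    · rw [h2]
      exact ⟨by norm_num, Or.inr rfl⟩

omit [Fintype G] in
theorem sum_sgn (h : Hyp t s K) : ∑ ψ : ↥K →* ℂˣ, sgn ψ (⟨t, h.htK⟩ : ↥K) = 0 := by
  classical
  have ht1 : t ≠ 1 := by
    intro h1
    have := h.ht
    rw [h1, orderOf_one] at this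
    omega
  have htt : (⟨t, h.htK⟩ : ↥K) * ⟨t, h.htK⟩ = 1 := by
    apply Subtype.ext
    have := pow_orderOf_eq_one t
    rw [h.ht, pow_two] at this
    simpa using this
  have hne : (⟨t, h.htK⟩ : ↥K) ≠ 1 := by
    intro h1
    apply ht1
    have := congrArg Subtype.val h1
    simpa using this
  have h1 := dual_sum_apply (A := ↥K) (⟨t, h.htK⟩ : ↥K)
  rw [if_neg hne] at h1
  have h2 : ((∑ ψ : ↥K →* ℂˣ, sgn ψ (⟨t, h.htK⟩ : ↥K) : ℤ) : ℂ) = 0 := by
    push_cast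
    rw [← h1]
    apply Finset.sum_congr rfl
    intro ψ _
    exact ((sgn_spec ψ htt).1).symm
  exact_mod_cast h2

end Cfsg.Agent.Lib.Helper78.BSWC4
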