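import Mathlib

/-!
# S0997 (Brauer–Tuan) arithmetic modules (helper78, for helper17)

`[A97-Q2]` `arith_plus_q2`, `[A97-TYPES-A]` `types_A`, `[A97-B1]` `arith_B1`, `[A97-NZ-B]` `S0_ne_zero_B`,
`[A97-LT]` `card_lt_A`, `card_lt_B`; statements exactly as in `Lib/Helper17/BT/SPINE97.md`.
Auxiliary: `class_plus`.  Mathlib only.
-/

set_option autoImplicit false
set_option linter.unusedVariables false

namespace Cfsg.Agent.Lib.Helper78.BTArith97

/-- Classification of the possible degrees, case `ε = 1`: `p = 2e+1`, `e + 1 = 2^c`. -/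
theorem class_plus {p e c d b : ℕ} {a : ℤ} (hpe : p = 2 * e + 1) (hec : e + 1 = 2 ^ c)
    (he : 1 ≤ e)
    (hd : d ∣ 2 ^ b * e) (heven : 2 ∣ d) (ha : a = 1 ∨ a = -1)
    (hmod : (p : ℤ) ∣ (d : ℤ) - a) :
    (d = 2 * e ∧ a = -1) ∨ d = 2 ^ (c + 1) ∨ 2 ^ (c + 2) ∣ d := by
  have he_odd : Odd e := by
    rcases Nat.even_or_odd e with h | h
    · exfalso
      have hc : c ≠ 0 := by
        rintro rfl
        omega
      have : Even (2 ^ c) := (Nat.even_pow' hc).2 even_two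
      rw [← hec] at this
      rcases h with ⟨k, hk⟩
      rcases this with ⟨l, hl⟩
      omega
    · exact h
  have hd0 : d ≠ 0 := by
    rintro rfl
    have := Nat.eq_zero_of_zero_dvd hd
    have h2 : 2 ^ b * e ≠ 0 := by positivity
    exact h2 this
  obtain ⟨v, μ, hμ, hdv⟩ := Nat.exists_eq_two_pow_mul_odd hd0
  have hv1 : 1 ≤ v := by
    by_contra h
    have : v = 0 := by omega
    subst this
    rw [pow_zero, one_mul] at hdv
    subst hdv
    exact (Nat.not_even_iff_odd.2 hμ) (even_iff_two_dvd.2 heven)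
  by_cases hvc : c + 2 ≤ v
  · right; right
    rw [hdv]
    exact Dvd.dvd.mul_right (pow_dvd_pow 2 hvc) μ
  have hvc' : v ≤ c + 1 := by omega
  -- μ ∣ e
  have hμe : μ ∣ e := by
    have h1 : μ ∣ 2 ^ b * e := Dvd.dvd.trans ⟨2 ^ v, by rw [hdv]; ring⟩ hd
    have hcop : Nat.Coprime μ (2 ^ b) := by
      apply Nat.Coprime.pow_right
      exact (Nat.coprime_comm.1 (Nat.coprime_two_left.2 hμ))
    exact hcop.dvd_of_dvd_mul_left h1
  obtain ⟨ν, hν⟩ := hμe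
  have hν1 : 1 ≤ ν := by
    rcases Nat.eq_zero_or_pos ν with h | h
    · subst h; omega
    · exact h
  have hνe : ν ≤ e := by
    have hμ1 : 1 ≤ μ := hμ.pos
    calc ν = 1 * ν := (one_mul _).symm
      _ ≤ μ * ν := Nat.mul_le_mul_right _ hμ1
      _ = e := hν.symm
  have hν_odd : Odd ν := by
    rw [hν] at he_odd
    exact (Nat.odd_mul.1 he_odd).2
  -- the key congruence
  obtain ⟨w, hw⟩ : ∃ w, v = w + 1 := ⟨v - 1, by omega⟩
  have hkey : (p : ℤ) ∣ a * (ν : ℤ) + 2 ^ w := by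
    have h1 : (p : ℤ) ∣ ((d : ℤ) - a) * ν := Dvd.dvd.mul_right hmod _
    have h2 : (d : ℤ) * ν = 2 ^ v * (e : ℤ) := by
      rw [hdv, hν]
      push_cast
      ring
    have h3 : (2 : ℤ) ^ v * (e : ℤ) + 2 ^ w = 2 ^ w * (p : ℤ) := by
      rw [hw, hpe]
      push_cast
      ring
    have h4 : a * (ν : ℤ) + 2 ^ w = 2 ^ w * (p : ℤ) - ((d : ℤ) - a) * ν := by
      rw [← h3, ← h2]
      ring
    rw [h4]
    exact Dvd.dvd.sub (Dvd.intro_left _ rfl) h1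
  have hwc : w ≤ c := by omega
  have h2w : (2 : ℕ) ^ w ≤ e + 1 := by
    rw [hec]
    exact Nat.pow_le_pow_right (by norm_num) hwc
  have h2w1 : 1 ≤ (2 : ℕ) ^ w := Nat.one_le_two_pow
  rcases ha with ha | ha
  · -- a = 1
    right; left
    rw [ha, one_mul] at hkey
    have hkey' : p ∣ ν + 2 ^ w := by
      have : ((ν + 2 ^ w : ℕ) : ℤ) = (ν : ℤ) + 2 ^ w := by push_cast; ring
      rw [← this] at hkey
      exact_mod_cast hkey
    have hle : ν + 2 ^ w ≤ p := by omega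
    have hpos : 0 < ν + 2 ^ w := by omega
    have heq : ν + 2 ^ w = p := by
      obtain ⟨k, hk⟩ := hkey'
      rcases Nat.eq_zero_or_pos k with h | h
      · subst h; omega
      · have : p ≤ p * k := Nat.le_mul_of_pos_right p h
        omega
    have hνe' : ν = e := by omega
    have h2w' : 2 ^ w = 2 ^ c := by omega
    have hwc' : w = c := Nat.pow_right_injective (le_refl 2) h2w'
    have hμ1 : μ = 1 := by
      rw [hνe'] at hν
      have : e * 1 = e * μ := by rw [mul_one, mul_comm]; exact hν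
      exact (Nat.eq_of_mul_eq_mul_left (by omega) this).symm
    rw [hdv, hμ1, mul_one, hw, hwc']
  · -- a = -1
    left
    rw [ha] at hkey
    have hkey2 : (p : ℤ) ∣ (2 : ℤ) ^ w - ν := by
      have : (2 : ℤ) ^ w - ν = -1 * (ν : ℤ) + 2 ^ w := by ring
      rw [this]; exact hkey
    have habs : |(2 : ℤ) ^ w - ν| < p := by
      rw [abs_lt]
      have h1 : ((2 : ℕ) ^ w : ℤ) ≤ (e : ℤ) + 1 := by exact_mod_cast h2w
      have h2 : (1 : ℤ) ≤ ((2 : ℕ) ^ w : ℤ) := by exact_mod_cast h2w1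
      have h3 : (ν : ℤ) ≤ e := by exact_mod_cast hνe
      have h4 : (1 : ℤ) ≤ ν := by exact_mod_cast hν1
      have h5 : (p : ℤ) = 2 * e + 1 := by rw [hpe]; push_cast; ring
      push_cast at h1 h2
      constructor <;> linarith
    have hzero : (2 : ℤ) ^ w - ν = 0 := Int.eq_zero_of_abs_lt_dvd hkey2 habs
    have hνw : ν = 2 ^ w := by
      have : (ν : ℤ) = ((2 ^ w : ℕ) : ℤ) := by push_cast; linarith
      exact_mod_cast this
    have hw0 : w = 0 := by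
      by_contra h
      have : Even (2 ^ w) := (Nat.even_pow' h).2 even_two
      rw [← hνw] at this
      exact (Nat.not_even_iff_odd.2 hν_odd) this
    subst hw0
    rw [pow_zero] at hνw
    subst hνw
    rw [mul_one] at hν
    subst hν
    refine ⟨?_, ha⟩
    rw [hdv, hw]
    ring

/-- [A97-TYPES-A] -/
theorem types_A (m b d : ℕ) (a : ℤ) (hm : 2 ≤ m) (ha : a = 1 ∨ a = -1)
    (hdd : d ∣ 2 ^ b * (2 ^ m - 1)) (hmod : ((2 ^ (m + 1) - 1 : ℕ) : ℤ) ∣ (d : ℤ) - a) :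
    (a = 1 ∧ ∃ k : ℕ, d = 2 ^ (k * (m + 1))) ∨
    (a = -1 ∧ ∃ k : ℕ, d = 2 ^ (k * (m + 1) + 1) * (2 ^ m - 1)) := by
  obtain ⟨e, he⟩ : ∃ e, 2 ^ m = e + 1 := ⟨2 ^ m - 1, by
    have : 1 ≤ 2 ^ m := Nat.one_le_two_pow
    omega⟩
  have he3 : 3 ≤ e := by
    have : 2 ^ 2 ≤ 2 ^ m := Nat.pow_le_pow_right (by norm_num) hm
    omega
  have hee : 2 ^ m - 1 = e := by omega
  have hpp : 2 ^ (m + 1) - 1 = 2 * e + 1 := by rw [pow_succ, he]; omega
  rw [hee] at hdd ⊢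
  rw [hpp] at hmod
  have he_odd : Odd e := by
    have : Even (2 ^ m) := (Nat.even_pow' (by omega)).2 even_two
    rw [he] at this
    rcases this with ⟨l, hl⟩
    exact ⟨l - 1, by omega⟩
  have hd0 : d ≠ 0 := by
    rintro rfl
    have := Nat.eq_zero_of_zero_dvd hdd
    have h2 : 2 ^ b * e ≠ 0 := by
      have : 0 < e := by omega
      positivity
    exact h2 this
  obtain ⟨v, μ, hμ, hdv⟩ := Nat.exists_eq_two_pow_mul_odd hd0
  have hμe : μ ∣ e := by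
    have h1 : μ ∣ 2 ^ b * e := Dvd.dvd.trans ⟨2 ^ v, by rw [hdv]; ring⟩ hdd
    have hcop : Nat.Coprime μ (2 ^ b) := by
      apply Nat.Coprime.pow_right
      exact (Nat.coprime_comm.1 (Nat.coprime_two_left.2 hμ))
    exact hcop.dvd_of_dvd_mul_left h1
  have hμ1 : 1 ≤ μ := hμ.pos
  have hμle : μ ≤ e := Nat.le_of_dvd (by omega) hμe
  set k := v / (m + 1) with hk
  set β := v % (m + 1) with hβ
  have hvk : v = k * (m + 1) + β := by
    rw [hk, hβ, mul_comm]; exact (Nat.div_add_mod v (m + 1)).symm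
  have hβm : β ≤ m := by
    have : β < m + 1 := Nat.mod_lt _ (by omega)
    omega
  have hdd' : d = 2 ^ (k * (m + 1)) * (2 ^ β * μ) := by
    rw [hdv, hvk, pow_add]; ring
  have hpZ : (((2 * e + 1 : ℕ)) : ℤ) = 2 ^ (m + 1) - 1 := by
    have : ((2 ^ m : ℕ) : ℤ) = ((e + 1 : ℕ) : ℤ) := by rw [he]
    push_cast at this
    push_cast
    rw [pow_succ, this]; ring
  have hpk : (((2 * e + 1 : ℕ)) : ℤ) ∣ (2 : ℤ) ^ (k * (m + 1)) - 1 := by
    rw [hpZ, mul_comm k, pow_mul]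
    have := sub_dvd_pow_sub_pow ((2 : ℤ) ^ (m + 1)) 1 k
    rwa [one_pow] at this
  have hmod' : (((2 * e + 1 : ℕ)) : ℤ) ∣ ((2 ^ β * μ : ℕ) : ℤ) - a := by
    have h1 : ((2 ^ β * μ : ℕ) : ℤ) - a =
        ((d : ℤ) - a) - ((2 : ℤ) ^ (k * (m + 1)) - 1) * ((2 ^ β * μ : ℕ) : ℤ) := by
      rw [hdd']; push_cast; ring
    rw [h1]
    exact Dvd.dvd.sub hmod (Dvd.dvd.mul_right hpk _)
  rcases Nat.eq_zero_or_pos β with hβ0 | hβpos
  · -- β = 0
    rw [hβ0, pow_zero, one_mul] at hmod' hdd'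
    left
    rcases ha with ha | ha
    · refine ⟨ha, k, ?_⟩
      rw [ha] at hmod'
      have h1 : |(μ : ℤ) - 1| < ((2 * e + 1 : ℕ) : ℤ) := by
        rw [abs_lt]
        have h2 : (1 : ℤ) ≤ μ := by exact_mod_cast hμ1
        have h3 : (μ : ℤ) ≤ e := by exact_mod_cast hμle
        push_cast
        constructor <;> linarith
      have h2 := Int.eq_zero_of_abs_lt_dvd hmod' h1
      have h3 : μ = 1 := by
        have : (μ : ℤ) = 1 := by linarith
        exact_mod_cast this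
      rw [hdd', h3, mul_one]
    · exfalso
      rw [ha] at hmod'
      have h1 : (0 : ℤ) < (μ : ℤ) - -1 := by
        have h2 : (1 : ℤ) ≤ μ := by exact_mod_cast hμ1
        linarith
      have h2 := Int.le_of_dvd h1 hmod'
      have h3 : (μ : ℤ) ≤ e := by exact_mod_cast hμle
      push_cast at h2
      linarith
  · -- β ≥ 1
    right
    have hd'dvd : 2 ^ β * μ ∣ 2 ^ β * e := Nat.mul_dvd_mul_left _ hμe
    have h2d' : 2 ∣ 2 ^ β * μ := Dvd.dvd.mul_right (dvd_pow_self 2 (by omega)) _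
    rcases class_plus (p := 2 * e + 1) (e := e) (c := m) (d := 2 ^ β * μ) (b := β) (a := a)
      rfl he.symm (by omega) hd'dvd h2d' ha hmod' with h | h | h
    · refine ⟨h.2, k, ?_⟩
      rw [hdd', h.1, pow_succ]; ring
    · exfalso
      -- 2^β μ = 2^(m+1), β ≤ m
      have h1 : 2 ^ (m + 1) = 2 ^ β * 2 ^ (m + 1 - β) := by
        rw [← pow_add]; congr 1; omega
      rw [h1] at h
      have h2 : μ = 2 ^ (m + 1 - β) := Nat.eq_of_mul_eq_mul_left (by positivity) h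
      have : Even (2 ^ (m + 1 - β)) := (Nat.even_pow' (by omega)).2 even_two
      rw [← h2] at this
      exact (Nat.not_even_iff_odd.2 hμ) this
    · exfalso
      have h1 : 2 ^ (m + 2) = 2 ^ β * 2 ^ (m + 2 - β) := by
        rw [← pow_add]; congr 1; omega
      rw [h1] at h
      have h2 : 2 ^ (m + 2 - β) ∣ μ := Nat.dvd_of_mul_dvd_mul_left (by positivity) h
      have h3 : 2 ∣ μ := Dvd.dvd.trans (dvd_pow_self 2 (by omega)) h2
      exact (Nat.not_even_iff_odd.2 hμ) (even_iff_two_dvd.2 h3)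

section arith
variable {ι : Type*} [DecidableEq ι]

/-- [A97-LT] -/
theorem card_lt_A (m : ℕ) (hm : 1 ≤ m) :
    (2 ^ (m + 1) - 1) * 2 ^ (m + 1) * (2 ^ m - 1) < (2 ^ (m + 1) - 1) ^ 3 := by
  obtain ⟨u, hu⟩ : ∃ u, 2 ^ m = u + 2 := by
    have : 2 ^ 1 ≤ 2 ^ m := Nat.pow_le_pow_right (by norm_num) hm
    exact ⟨2 ^ m - 2, by omega⟩
  have h1 : 2 ^ (m + 1) = 2 * u + 4 := by rw [pow_succ, hu]; ring
  rw [h1, hu]
  have h2 : 2 * u + 4 - 1 = 2 * u + 3 := by omega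
  have h3 : u + 2 - 1 = u + 1 := by omega
  rw [h2, h3]
  have h4 : (2 * u + 4) * (u + 1) < (2 * u + 3) ^ 2 := by nlinarith
  calc (2 * u + 3) * (2 * u + 4) * (u + 1) = (2 * u + 3) * ((2 * u + 4) * (u + 1)) := by ring
    _ < (2 * u + 3) * (2 * u + 3) ^ 2 := Nat.mul_lt_mul_of_pos_left h4 (by omega)
    _ = (2 * u + 3) ^ 3 := by ring

theorem card_lt_B (α : ℕ) (hα : 1 ≤ α) :
    (2 ^ (α + 1) + 1) * 2 ^ (α + 1) * (2 ^ α + 1) < (2 ^ (α + 1) + 1) ^ 3 := by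
  obtain ⟨u, hu⟩ : ∃ u, 2 ^ α = u + 2 := by
    have : 2 ^ 1 ≤ 2 ^ α := Nat.pow_le_pow_right (by norm_num) hα
    exact ⟨2 ^ α - 2, by omega⟩
  have h1 : 2 ^ (α + 1) = 2 * u + 4 := by rw [pow_succ, hu]; ring
  rw [h1, hu]
  have h4 : (2 * u + 4) * (u + 2 + 1) < (2 * u + 4 + 1) ^ 2 := by nlinarith
  calc (2 * u + 4 + 1) * (2 * u + 4) * (u + 2 + 1)
      = (2 * u + 4 + 1) * ((2 * u + 4) * (u + 2 + 1)) := by ring
    _ < (2 * u + 4 + 1) * (2 * u + 4 + 1) ^ 2 := Nat.mul_lt_mul_of_pos_left h4 (by omega)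
    _ = (2 * u + 4 + 1) ^ 3 := by ring

/-- [A97-NZ-B] -/
theorem S0_ne_zero_B (S : Finset ι) (a : ι → ℤ) (d : ι → ℕ) (triv : ι) (α : ℕ) (δ ε : ℤ)
    (hα : 1 ≤ α) (htriv : triv ∈ S) (hatriv : a triv = 1) (hdtriv : d triv = 1)
    (hS : ∀ i ∈ S, i ≠ triv → ∃ k : ℕ, d i = 2 ^ (k * (α + 1) + 1) * (2 ^ α + 1)) :
    ∑ i ∈ S, a i * (d i : ℤ) - δ * (ε * ((2 ^ α + 1 : ℕ) : ℤ)) ≠ 0 := by
  intro h0
  have hsplit : ∑ i ∈ S, a i * (d i : ℤ) = 1 + ∑ i ∈ S.erase triv, a i * (d i : ℤ) := by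
    rw [← Finset.add_sum_erase S _ htriv, hatriv, hdtriv]
    norm_num
  have hgS : ((2 ^ α + 1 : ℕ) : ℤ) ∣ ∑ i ∈ S.erase triv, a i * (d i : ℤ) := by
    apply Finset.dvd_sum
    intro i hi
    obtain ⟨k, hk⟩ := hS i (Finset.mem_of_mem_erase hi) (Finset.ne_of_mem_erase hi)
    have : (2 ^ α + 1 : ℕ) ∣ d i := by rw [hk]; exact Dvd.intro_left _ rfl
    have h2 : ((2 ^ α + 1 : ℕ) : ℤ) ∣ (d i : ℤ) := by exact_mod_cast this
    exact Dvd.dvd.mul_left h2 _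
  have h1 : ((2 ^ α + 1 : ℕ) : ℤ) ∣ 1 := by
    have : (1 : ℤ) = δ * (ε * ((2 ^ α + 1 : ℕ) : ℤ)) - ∑ i ∈ S.erase triv, a i * (d i : ℤ) := by
      rw [hsplit] at h0; linarith
    rw [this]
    exact Dvd.dvd.sub (Dvd.dvd.mul_left (Dvd.intro_left _ rfl) _) hgS
  have h2 := Int.le_of_dvd (by norm_num) h1
  have h3 : (1 : ℤ) ≤ 2 ^ α := one_le_pow₀ (by norm_num)
  push_cast at h2
  linarith

/-- [A97-B1] -/
theorem arith_B1 (X : Finset ι) (a : ι → ℤ) (d : ι → ℕ) (triv : ι) (p b : ℕ)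
    (hp5 : 5 ≤ p)
    (htriv : triv ∈ X) (hatriv : a triv = 1) (hdtriv : d triv = 1)
    (ha : ∀ i ∈ X, a i = 1 ∨ a i = -1)
    (hdd : ∀ i ∈ X, d i ∣ 2 ^ b * (p - 2))
    (hsum : -((p - 2 : ℕ) : ℤ) = ∑ i ∈ X, a i * (d i : ℤ)) (hXcard : X.card = 2) :
    ∃ i₂ ∈ X, i₂ ≠ triv ∧ d i₂ = p - 1 ∧ a i₂ = -1 ∧ X = {triv, i₂} ∧
      ∃ m : ℕ, p - 1 = 2 ^ m ∧ m ≤ b := by
  have hcard1 : (X.erase triv).card = 1 := by
    rw [Finset.card_erase_of_mem htriv, hXcard]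
  obtain ⟨i₂, hi₂⟩ := Finset.card_eq_one.1 hcard1
  have hi₂mem : i₂ ∈ X.erase triv := by rw [hi₂]; exact Finset.mem_singleton_self _
  have hi₂X : i₂ ∈ X := Finset.mem_of_mem_erase hi₂mem
  have hne : i₂ ≠ triv := Finset.ne_of_mem_erase hi₂mem
  have hXeq : X = {triv, i₂} := by
    rw [← Finset.insert_erase htriv, hi₂]
  have hsum' : -((p - 2 : ℕ) : ℤ) = 1 + a i₂ * (d i₂ : ℤ) := by
    rw [hsum, ← Finset.add_sum_erase X _ htriv, hi₂, Finset.sum_singleton, hatriv, hdtriv]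
    norm_num
  have hp2 : ((p - 2 : ℕ) : ℤ) = (p : ℤ) - 2 := by
    have : 2 ≤ p := by omega
    push_cast [this]; ring
  rw [hp2] at hsum'
  have ha2 : a i₂ = -1 := by
    rcases ha i₂ hi₂X with h | h
    · exfalso
      rw [h, one_mul] at hsum'
      have : (0 : ℤ) ≤ (d i₂ : ℤ) := by positivity
      have hp5' : (5 : ℤ) ≤ p := by exact_mod_cast hp5
      linarith
    · exact h
  have hd2 : d i₂ = p - 1 := by
    rw [ha2] at hsum'
    have : (d i₂ : ℤ) = (p : ℤ) - 1 := by linarith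
    have h2 : ((p - 1 : ℕ) : ℤ) = (p : ℤ) - 1 := by
      have : 1 ≤ p := by omega
      push_cast [this]; ring
    rw [← h2] at this
    exact_mod_cast this
  refine ⟨i₂, hi₂X, hne, hd2, ha2, hXeq, ?_⟩
  have h1 : p - 1 ∣ 2 ^ b * (p - 2) := by rw [← hd2]; exact hdd i₂ hi₂X
  have hcop : Nat.Coprime (p - 1) (p - 2) := by
    have : p - 1 = (p - 2) + 1 := by omega
    rw [this]
    simp
  have h2 : p - 1 ∣ 2 ^ b := hcop.dvd_of_dvd_mul_right h1
  obtain ⟨m, hmb, hm⟩ := (Nat.dvd_prime_pow Nat.prime_two).1 h2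
  exact ⟨m, hm, hmb⟩

/-- [A97-Q2] -/
theorem arith_plus_q2 (X : Finset ι) (a : ι → ℤ) (d : ι → ℕ) (triv : ι) (p q b e : ℕ)
    (hq : q.Prime) (he : 2 ≤ e) (hpe : p = 2 * e + 1)
    (htriv : triv ∈ X) (hatriv : a triv = 1) (hdtriv : d triv = 1)
    (hqd : ∀ i ∈ X, i ≠ triv → q ∣ d i)
    (hsum : (e : ℤ) = ∑ i ∈ X, a i * (d i : ℤ))
    (i₂ : ι) (hi₂ : i₂ ∈ X) (hdi₂ : d i₂ = p + 1) (hdd : d i₂ ∣ q ^ b * e) :
    q = 2 ∧ ∃ m : ℕ, 2 ≤ m ∧ e = 2 ^ m - 1 ∧ p = 2 ^ (m + 1) - 1 ∧ m + 1 ≤ b := by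
  have hA : e + 1 ∣ q ^ b := by
    have h1 : e + 1 ∣ q ^ b * e := by
      refine Dvd.dvd.trans ?_ hdd
      rw [hdi₂, hpe]
      exact ⟨2, by ring⟩
    have hcop : Nat.Coprime (e + 1) e := by
      rw [Nat.coprime_comm]
      simp
    exact hcop.dvd_of_dvd_mul_right h1
  obtain ⟨m, hmb, hem⟩ := (Nat.dvd_prime_pow hq).1 hA
  have hm1 : 1 ≤ m := by
    by_contra h
    have : m = 0 := by omega
    subst this
    rw [pow_zero] at hem
    omega
  have hqe1 : (q : ℤ) ∣ (e : ℤ) + 1 := by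
    have : q ∣ e + 1 := by rw [hem]; exact dvd_pow_self _ (by omega)
    exact_mod_cast this
  have hsplit : ∑ i ∈ X, a i * (d i : ℤ) = 1 + ∑ i ∈ X.erase triv, a i * (d i : ℤ) := by
    rw [← Finset.add_sum_erase X _ htriv, hatriv, hdtriv]
    norm_num
  have hqS : (q : ℤ) ∣ ∑ i ∈ X.erase triv, a i * (d i : ℤ) := by
    apply Finset.dvd_sum
    intro i hi
    have : (q : ℤ) ∣ (d i : ℤ) := by
      exact_mod_cast hqd i (Finset.mem_of_mem_erase hi) (Finset.ne_of_mem_erase hi)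
    exact Dvd.dvd.mul_left this _
  have hq2 : q = 2 := by
    have h2 : (q : ℤ) ∣ 2 := by
      have : (2 : ℤ) = ((e : ℤ) + 1) - ∑ i ∈ X.erase triv, a i * (d i : ℤ) := by
        rw [hsum, hsplit]; ring
      rw [this]
      exact Dvd.dvd.sub hqe1 hqS
    have : q ∣ 2 := by exact_mod_cast h2
    exact (Nat.prime_dvd_prime_iff_eq hq Nat.prime_two).1 this
  subst hq2
  refine ⟨rfl, m, ?_, by omega, ?_, ?_⟩
  · by_contra h
    have : m = 1 := by omega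
    subst this
    omega
  · rw [pow_succ, ← hem, hpe]; omega
  · have he_odd : Odd e := by
      have : Even (2 ^ m) := (Nat.even_pow' (by omega)).2 even_two
      rw [← hem] at this
      rcases this with ⟨l, hl⟩
      exact ⟨l - 1, by omega⟩
    have hp1 : p + 1 = 2 ^ (m + 1) := by rw [pow_succ, ← hem, hpe]; ring
    have h1 : 2 ^ (m + 1) ∣ 2 ^ b * e := by rw [← hp1, ← hdi₂]; exact hdd
    have hcop : Nat.Coprime (2 ^ (m + 1)) e := by
      apply Nat.Coprime.pow_left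
      exact Nat.coprime_two_left.2 he_odd
    have h2 : 2 ^ (m + 1) ∣ 2 ^ b := hcop.dvd_of_dvd_mul_right h1
    exact (Nat.pow_dvd_pow_iff_le_right (by norm_num)).1 h2

end arith

end Cfsg.Agent.Lib.Helper78.BTArith97
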