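import Mathlib
import Cfsg.Agent.Lib.Helper78.BTArith97

/-!
# S0997 (Brauer–Tuan): all-in-one arithmetic lemmas (helper78; alternative packaging, backup)

`arith_plus97` (case `ε = 1`: `q = 2` and `p + 1 = 2^b`) and `arith_fermat97` (case `ε = -1`, `t = 2`,
`p = 2^(m'+1)+1`: `b = m'+1`), with `class_fermat`, `pow2_mod_fermat`, `pow2_eq_one_fermat`.  Mathlib only.
-/

set_option autoImplicit false
set_option linter.unusedVariables false

namespace Cfsg.Agent.Lib.Helper78.BTArith97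

/-- [AR-PLUS97] -/
theorem arith_plus97 {ι : Type*} [DecidableEq ι] (X B : Finset ι) (a : ι → ℤ) (d : ι → ℕ)
    (triv i₂ : ι) (p q b e : ℕ) (y : ℤ)
    (hp : p.Prime) (hq : q.Prime) (hpe : p = 2 * e + 1) (h7 : 7 ≤ p)
    (hBX : B ⊆ X) (htrivB : triv ∈ B) (hdtriv : d triv = 1) (hatriv : a triv = 1)
    (ha : ∀ i ∈ X, a i = 1 ∨ a i = -1)
    (hqd : ∀ i ∈ X, i ≠ triv → q ∣ d i)
    (hdd : ∀ i ∈ X, d i ∣ q ^ b * e)
    (hmod : ∀ i ∈ X, (p : ℤ) ∣ (d i : ℤ) - a i)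
    (hXcard : X.card = e)
    (hi₂ : i₂ ∈ X) (hdi₂ : d i₂ = p + 1)
    (hpow : ∀ i ∈ B, i ≠ triv → ∀ n : ℕ, d i ≠ q ^ n)
    (hy : y = 0 ∨ y = (e : ℤ))
    (hZ : (q : ℤ) ^ b ∣ ∑ i ∈ B, a i * (d i : ℤ) - y) :
    q = 2 ∧ p + 1 = 2 ^ b := by
  have he3 : 3 ≤ e := by omega
  -- Step A
  have hA : e + 1 ∣ q ^ b := by
    have h1 : e + 1 ∣ q ^ b * e := by
      refine Dvd.dvd.trans ?_ (hdd i₂ hi₂)
      rw [hdi₂, hpe]
      exact ⟨2, by ring⟩
    have hcop : Nat.Coprime (e + 1) e := by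
      rw [Nat.coprime_comm]
      simp
    exact hcop.dvd_of_dvd_mul_right h1
  obtain ⟨c, hcb, hec⟩ := (Nat.dvd_prime_pow hq).1 hA
  have hc1 : 1 ≤ c := by
    by_contra h
    have : c = 0 := by omega
    subst this
    rw [pow_zero] at hec
    omega
  have hb1 : 1 ≤ b := le_trans hc1 hcb
  -- Step B
  have hsplit : ∑ i ∈ B, a i * (d i : ℤ) = 1 + ∑ i ∈ B.erase triv, a i * (d i : ℤ) := by
    rw [← Finset.add_sum_erase B _ htrivB, hatriv, hdtriv]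
    norm_num
  have hqZ : (q : ℤ) ∣ ∑ i ∈ B, a i * (d i : ℤ) - y :=
    Dvd.dvd.trans (dvd_pow_self _ (by omega)) hZ
  have hqS : (q : ℤ) ∣ ∑ i ∈ B.erase triv, a i * (d i : ℤ) := by
    apply Finset.dvd_sum
    intro i hi
    have hiB : i ∈ B := Finset.mem_of_mem_erase hi
    have hne : i ≠ triv := Finset.ne_of_mem_erase hi
    have : (q : ℤ) ∣ (d i : ℤ) := by exact_mod_cast hqd i (hBX hiB) hne
    exact Dvd.dvd.mul_left this _
  have hq1y : (q : ℤ) ∣ 1 - y := by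
    have : (1 : ℤ) - y = (∑ i ∈ B, a i * (d i : ℤ) - y) -
        ∑ i ∈ B.erase triv, a i * (d i : ℤ) := by rw [hsplit]; ring
    rw [this]
    exact Dvd.dvd.sub hqZ hqS
  have hqe1 : (q : ℤ) ∣ (e : ℤ) + 1 := by
    have : q ∣ e + 1 := by rw [hec]; exact dvd_pow_self _ (by omega)
    exact_mod_cast this
  have hyq : y = (e : ℤ) ∧ q = 2 := by
    rcases hy with hy | hy
    · exfalso
      rw [hy, sub_zero] at hq1y
      have : q ∣ 1 := by exact_mod_cast hq1y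
      exact hq.one_lt.ne' (Nat.dvd_one.1 this)
    · refine ⟨hy, ?_⟩
      rw [hy] at hq1y
      have h2 : (q : ℤ) ∣ 2 := by
        have : (2 : ℤ) = (1 - (e : ℤ)) + ((e : ℤ) + 1) := by ring
        rw [this]
        exact Dvd.dvd.add hq1y hqe1
      have : q ∣ 2 := by exact_mod_cast h2
      exact (Nat.prime_dvd_prime_iff_eq hq Nat.prime_two).1 this
  obtain ⟨hye, hq2⟩ := hyq
  subst hq2
  refine ⟨rfl, ?_⟩
  -- Step C
  have hc2 : 2 ≤ c := by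
    by_contra h
    have : c = 1 := by omega
    subst this
    omega
  have he_odd : Odd e := by
    have : Even (2 ^ c) := (Nat.even_pow' (by omega)).2 even_two
    rw [← hec] at this
    rcases this with ⟨l, hl⟩
    exact ⟨l - 1, by omega⟩
  have hp1 : p + 1 = 2 ^ (c + 1) := by
    rw [pow_succ, ← hec, hpe]; ring
  have hcb1 : c + 1 ≤ b := by
    have h1 : 2 ^ (c + 1) ∣ 2 ^ b * e := by
      rw [← hp1, ← hdi₂]; exact hdd i₂ hi₂
    have hcop : Nat.Coprime (2 ^ (c + 1)) e := by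
      apply Nat.Coprime.pow_left
      exact Nat.coprime_two_left.2 he_odd
    have h2 : 2 ^ (c + 1) ∣ 2 ^ b := hcop.dvd_of_dvd_mul_right h1
    exact (Nat.pow_dvd_pow_iff_le_right (by norm_num)).1 h2
  -- Step D
  have hclass : ∀ i ∈ B.erase triv, (d i = 2 * e ∧ a i = -1) ∨ 2 ^ (c + 2) ∣ d i := by
    intro i hi
    have hiB : i ∈ B := Finset.mem_of_mem_erase hi
    have hne : i ≠ triv := Finset.ne_of_mem_erase hi
    have hiX := hBX hiB
    rcases class_plus hpe hec (by omega) (hdd i hiX) (hqd i hiX hne) (ha i hiX) (hmod i hiX)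
      with h | h | h
    · exact Or.inl h
    · exact absurd h (hpow i hiB hne (c + 1))
    · exact Or.inr h
  set C₀ := (B.erase triv).filter (fun i => d i = 2 * e) with hC₀
  obtain ⟨K, hK⟩ : ∃ K : ℤ, ∑ i ∈ B.erase triv, a i * (d i : ℤ) =
      -(2 * (e : ℤ)) * (C₀.card : ℤ) + 2 ^ (c + 2) * K := by
    rw [← Finset.sum_filter_add_sum_filter_not (B.erase triv) (fun i => d i = 2 * e)]
    have h1 : ∑ i ∈ (B.erase triv).filter (fun i => d i = 2 * e), a i * (d i : ℤ) =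
        -(2 * (e : ℤ)) * (C₀.card : ℤ) := by
      rw [Finset.sum_congr rfl (g := fun _ => -(2 * (e : ℤ)))]
      · rw [Finset.sum_const, nsmul_eq_mul]
        ring
      · intro i hi
        obtain ⟨hi1, hi2⟩ := Finset.mem_filter.1 hi
        rcases hclass i hi1 with h | h
        · rw [h.2, h.1]; push_cast; ring
        · exfalso
          rw [hi2] at h
          -- 2^(c+2) ∣ 2e, impossible since e odd
          have h3 : 2 ^ (c + 2) = 2 * 2 ^ (c + 1) := by rw [pow_succ]; ring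
          rw [h3] at h
          have h4 : 2 ^ (c + 1) ∣ e := Nat.dvd_of_mul_dvd_mul_left (by norm_num) h
          have h5 : 2 ∣ e := Dvd.dvd.trans (dvd_pow_self 2 (by omega)) h4
          exact (Nat.not_even_iff_odd.2 he_odd) (even_iff_two_dvd.2 h5)
    have h2 : (2 : ℤ) ^ (c + 2) ∣
        ∑ i ∈ (B.erase triv).filter (fun i => ¬ d i = 2 * e), a i * (d i : ℤ) := by
      apply Finset.dvd_sum
      intro i hi
      obtain ⟨hi1, hi2⟩ := Finset.mem_filter.1 hi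
      rcases hclass i hi1 with h | h
      · exact absurd h.1 hi2
      · have : ((2 ^ (c + 2) : ℕ) : ℤ) ∣ (d i : ℤ) := by exact_mod_cast h
        push_cast at this
        exact Dvd.dvd.mul_left this _
    obtain ⟨K, hK⟩ := h2
    exact ⟨K, by rw [h1, hK]⟩
  -- Step E
  have hC₀card : C₀.card + 2 ≤ e := by
    have hsub : C₀ ⊆ (X.erase triv).erase i₂ := by
      intro i hi
      obtain ⟨hi1, hi2⟩ := Finset.mem_filter.1 hi
      have hiB : i ∈ B := Finset.mem_of_mem_erase hi1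
      have hne : i ≠ triv := Finset.ne_of_mem_erase hi1
      refine Finset.mem_erase.2 ⟨?_, Finset.mem_erase.2 ⟨hne, hBX hiB⟩⟩
      rintro rfl
      rw [hdi₂] at hi2
      omega
    have h1 := Finset.card_le_card hsub
    have hne : i₂ ≠ triv := by
      rintro rfl
      rw [hdtriv] at hdi₂
      omega
    have h2 : i₂ ∈ X.erase triv := Finset.mem_erase.2 ⟨hne, hi₂⟩
    rw [Finset.card_erase_of_mem h2, Finset.card_erase_of_mem (hBX htrivB), hXcard] at h1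
    omega
  -- Step F/G
  obtain ⟨c', rfl⟩ : ∃ c', c = c' + 1 := ⟨c - 1, by omega⟩
  have hc'1 : 1 ≤ c' := by omega
  have heZ : (e : ℤ) = 2 ^ (c' + 1) - 1 := by
    have : ((e + 1 : ℕ) : ℤ) = ((2 ^ (c' + 1) : ℕ) : ℤ) := by rw [hec]
    push_cast at this
    linarith
  have hZform : ∑ i ∈ B, a i * (d i : ℤ) - y =
      1 - (e : ℤ) - 2 * (e : ℤ) * (C₀.card : ℤ) + 2 ^ (c' + 1 + 2) * K := by
    rw [hsplit, hK, hye]; ring
  have hZ1 : (2 : ℤ) ^ (c' + 1 + 1) ∣ ∑ i ∈ B, a i * (d i : ℤ) - y := by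
    refine Dvd.dvd.trans ?_ hZ
    push_cast
    exact pow_dvd_pow 2 hcb1
  have hdiv1 : (2 : ℤ) ^ (c' + 1) ∣ 1 + (C₀.card : ℤ) - 2 ^ c' := by
    rw [hZform, heZ] at hZ1
    have h1 : (1 : ℤ) - (2 ^ (c' + 1) - 1) - 2 * (2 ^ (c' + 1) - 1) * (C₀.card : ℤ) +
        2 ^ (c' + 1 + 2) * K =
        2 * (1 + (C₀.card : ℤ) - 2 ^ c') + 2 ^ (c' + 1 + 1) * (2 * K - (C₀.card : ℤ)) := by
      ring
    rw [h1] at hZ1
    have h2 : (2 : ℤ) ^ (c' + 1 + 1) ∣ 2 * (1 + (C₀.card : ℤ) - 2 ^ c') :=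
      (Int.dvd_add_left (Dvd.intro _ rfl)).1 hZ1
    rw [pow_succ _ (c' + 1), mul_comm] at h2
    exact Int.dvd_of_mul_dvd_mul_left (by norm_num) h2
  have hc₀ : (C₀.card : ℤ) = 2 ^ c' - 1 := by
    have habs : |1 + (C₀.card : ℤ) - 2 ^ c'| < 2 ^ (c' + 1) := by
      rw [abs_lt]
      have h1 : ((C₀.card + 2 : ℕ) : ℤ) ≤ (e : ℤ) := by exact_mod_cast hC₀card
      push_cast at h1
      have h2 : (0 : ℤ) ≤ (C₀.card : ℤ) := by positivity
      have h3 : (0 : ℤ) < 2 ^ c' := by positivity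
      have h4 : (2 : ℤ) ^ (c' + 1) = 2 * 2 ^ c' := by rw [pow_succ]; ring
      constructor <;> nlinarith
    have := Int.eq_zero_of_abs_lt_dvd hdiv1 habs
    linarith
  by_contra hne
  have hb2 : c' + 1 + 2 ≤ b := by
    rcases Nat.lt_or_ge b (c' + 1 + 2) with h | h
    · exfalso
      apply hne
      rw [hp1]
      congr 1
      omega
    · exact h
  have hZ2 : (2 : ℤ) ^ (c' + 1 + 2) ∣ ∑ i ∈ B, a i * (d i : ℤ) - y := by
    refine Dvd.dvd.trans ?_ hZ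
    push_cast
    exact pow_dvd_pow 2 hb2
  rw [hZform, heZ, hc₀] at hZ2
  have h1 : (1 : ℤ) - (2 ^ (c' + 1) - 1) - 2 * (2 ^ (c' + 1) - 1) * (2 ^ c' - 1) +
      2 ^ (c' + 1 + 2) * K =
      2 ^ (c' + 1 + 1) * (1 - 2 ^ c' + 2 * K) := by
    ring
  rw [h1, pow_succ _ (c' + 1 + 1)] at hZ2
  have h2 : (2 : ℤ) ∣ 1 - 2 ^ c' + 2 * K := by
    have h3 : (2 : ℤ) ^ (c' + 1 + 1) * 2 ∣ 2 ^ (c' + 1 + 1) * (1 - 2 ^ c' + 2 * K) := hZ2
    exact Int.dvd_of_mul_dvd_mul_left (by positivity) h3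
  obtain ⟨c'', rfl⟩ : ∃ c'', c' = c'' + 1 := ⟨c' - 1, by omega⟩
  have h3 : (1 : ℤ) - 2 ^ (c'' + 1) + 2 * K = 1 + 2 * (K - 2 ^ c'') := by
    rw [pow_succ]; ring
  rw [h3] at h2
  omega

/-- powers of two modulo the Fermat number `2^(m'+1) + 1`. -/
theorem pow2_mod_fermat (m' : ℕ) (v : ℕ) :
    ∃ r : ℕ, r ≤ m' ∧ ∃ σ : ℤ, (σ = 1 ∨ σ = -1) ∧
      ((2 : ℤ) ^ (m' + 1) + 1) ∣ (2 : ℤ) ^ v - σ * 2 ^ r := by
  induction v with
  | zero => exact ⟨0, Nat.zero_le _, 1, Or.inl rfl, by simp⟩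
  | succ v ih =>
    obtain ⟨r, hr, σ, hσ, hdiv⟩ := ih
    rcases Nat.lt_or_ge r m' with h | h
    · refine ⟨r + 1, h, σ, hσ, ?_⟩
      have : (2 : ℤ) ^ (v + 1) - σ * 2 ^ (r + 1) = 2 * ((2 : ℤ) ^ v - σ * 2 ^ r) := by
        rw [pow_succ, pow_succ]; ring
      rw [this]
      exact Dvd.dvd.mul_left hdiv _
    · have hrm : r = m' := le_antisymm hr h
      subst hrm
      refine ⟨0, Nat.zero_le _, -σ, ?_, ?_⟩
      · rcases hσ with h | h
        · right; rw [h]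
        · left; rw [h]; norm_num
      · have : (2 : ℤ) ^ (v + 1) - -σ * 2 ^ 0 =
            2 * ((2 : ℤ) ^ v - σ * 2 ^ r) + σ * ((2 : ℤ) ^ (r + 1) + 1) := by
          rw [pow_succ, pow_succ]; ring
        rw [this]
        exact Dvd.dvd.add (Dvd.dvd.mul_left hdiv _) (Dvd.intro_left _ rfl)

/-- Classification of the possible degrees, case `ε = -1`, `t = 2`: `p = 2^(m'+1) + 1`,
`g₀ = 2^m' + 1`. -/
theorem class_fermat {p m' d b : ℕ} {a : ℤ} (hpm : p = 2 ^ (m' + 1) + 1) (hm' : 1 ≤ m')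
    (hd : d ∣ 2 ^ b * (2 ^ m' + 1)) (ha : a = 1 ∨ a = -1)
    (hmod : (p : ℤ) ∣ (d : ℤ) - a) :
    (∃ n : ℕ, d = 2 ^ n) ∨ (2 ^ m' + 1) ∣ d := by
  have hg_odd : Odd (2 ^ m' + 1) := by
    have : Even (2 ^ m') := (Nat.even_pow' (by omega)).2 even_two
    exact Even.add_one this
  have hd0 : d ≠ 0 := by
    rintro rfl
    have := Nat.eq_zero_of_zero_dvd hd
    have h2 : 2 ^ b * (2 ^ m' + 1) ≠ 0 := by positivity
    exact h2 this
  obtain ⟨v, μ, hμ, hdv⟩ := Nat.exists_eq_two_pow_mul_odd hd0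
  have hμg : μ ∣ 2 ^ m' + 1 := by
    have h1 : μ ∣ 2 ^ b * (2 ^ m' + 1) := Dvd.dvd.trans ⟨2 ^ v, by rw [hdv]; ring⟩ hd
    have hcop : Nat.Coprime μ (2 ^ b) := by
      apply Nat.Coprime.pow_right
      exact (Nat.coprime_comm.1 (Nat.coprime_two_left.2 hμ))
    exact hcop.dvd_of_dvd_mul_left h1
  obtain ⟨ν, hν⟩ := hμg
  have hν1 : 1 ≤ ν := by
    rcases Nat.eq_zero_or_pos ν with h | h
    · subst h; omega
    · exact h
  have hμ1 : 1 ≤ μ := hμ.pos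
  have hνg : ν ≤ 2 ^ m' + 1 := by
    calc ν = 1 * ν := (one_mul _).symm
      _ ≤ μ * ν := Nat.mul_le_mul_right _ hμ1
      _ = 2 ^ m' + 1 := hν.symm
  have hν_odd : Odd ν := by
    rw [hν] at hg_odd
    exact (Nat.odd_mul.1 hg_odd).2
  have hpZ : (p : ℤ) = 2 ^ (m' + 1) + 1 := by rw [hpm]; push_cast; ring
  -- p ∣ 2 a ν - 2^v
  have hkey : (p : ℤ) ∣ 2 * a * (ν : ℤ) - 2 ^ v := by
    have h1 : (p : ℤ) ∣ ((d : ℤ) - a) * (2 * ν) := Dvd.dvd.mul_right hmod _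
    have h2 : (d : ℤ) * (2 * ν) = 2 ^ v * ((p : ℤ) + 1) := by
      have : (d : ℤ) * ν = 2 ^ v * (2 ^ m' + 1) := by
        have h3 : d * ν = 2 ^ v * (2 ^ m' + 1) := by rw [hdv, hν]; ring
        exact_mod_cast h3
      rw [hpZ]
      calc (d : ℤ) * (2 * ν) = 2 * ((d : ℤ) * ν) := by ring
        _ = 2 * (2 ^ v * (2 ^ m' + 1)) := by rw [this]
        _ = 2 ^ v * (2 ^ (m' + 1) + 1 + 1) := by rw [pow_succ]; ring
    have h4 : 2 * a * (ν : ℤ) - 2 ^ v = 2 ^ v * (p : ℤ) - ((d : ℤ) - a) * (2 * ν) := by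
      have : ((d : ℤ) - a) * (2 * ν) = (d : ℤ) * (2 * ν) - 2 * a * ν := by ring
      rw [this, h2]; ring
    rw [h4]
    exact Dvd.dvd.sub (Dvd.intro_left _ rfl) h1
  obtain ⟨r, hr, σ, hσ, hdiv⟩ := pow2_mod_fermat m' v
  rw [← hpZ] at hdiv
  -- p ∣ 2 ν - τ 2^r with τ = a σ
  have hkey2 : (p : ℤ) ∣ 2 * (ν : ℤ) - (a * σ) * 2 ^ r := by
    have h1 : (p : ℤ) ∣ 2 * a * (ν : ℤ) - σ * 2 ^ r := by
      have : 2 * a * (ν : ℤ) - σ * 2 ^ r = (2 * a * (ν : ℤ) - 2 ^ v) + ((2 : ℤ) ^ v - σ * 2 ^ r) := by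
        ring
      rw [this]
      exact Dvd.dvd.add hkey hdiv
    have h2 : 2 * (ν : ℤ) - (a * σ) * 2 ^ r = a * (2 * a * (ν : ℤ) - σ * 2 ^ r) := by
      have ha2 : a * a = 1 := by rcases ha with h | h <;> rw [h] <;> norm_num
      calc 2 * (ν : ℤ) - (a * σ) * 2 ^ r = 2 * (1 : ℤ) * ν - a * σ * 2 ^ r := by ring
        _ = 2 * (a * a) * ν - a * σ * 2 ^ r := by rw [ha2]
        _ = a * (2 * a * (ν : ℤ) - σ * 2 ^ r) := by ring
    rw [h2]
    exact Dvd.dvd.mul_left h1 _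
  have h2r1 : (1 : ℤ) ≤ 2 ^ r := one_le_pow₀ (by norm_num)
  have h2r2 : (2 : ℤ) ^ r ≤ 2 ^ m' := pow_le_pow_right₀ (by norm_num) hr
  have hν1Z : (1 : ℤ) ≤ ν := by exact_mod_cast hν1
  have hνgZ : (ν : ℤ) ≤ 2 ^ m' + 1 := by exact_mod_cast hνg
  have hpm2 : (2 : ℤ) ^ (m' + 1) = 2 * 2 ^ m' := by rw [pow_succ]; ring
  have hm'4 : (2 : ℤ) ≤ 2 ^ m' := by
    calc (2 : ℤ) = 2 ^ 1 := by norm_num
      _ ≤ 2 ^ m' := pow_le_pow_right₀ (by norm_num) hm'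
  have hτ : a * σ = 1 ∨ a * σ = -1 := by
    rcases ha with h | h <;> rcases hσ with h' | h' <;> rw [h, h'] <;> norm_num
  rcases hτ with hτ | hτ
  · rw [hτ, one_mul] at hkey2
    -- 2ν - 2^r ∈ {0, p}
    obtain ⟨k, hk⟩ := hkey2
    have hk01 : k = 0 ∨ k = 1 := by
      have h1 : -(p : ℤ) < (p : ℤ) * k := by rw [← hk]; rw [hpZ]; linarith
      have h2 : (p : ℤ) * k < (p : ℤ) * 2 := by rw [← hk]; rw [hpZ]; linarith
      have hp0 : (0 : ℤ) < p := by rw [hpZ]; positivity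
      have h3 : k < 2 := lt_of_mul_lt_mul_left h2 hp0.le
      have h4 : -1 < k := by
        have : (p : ℤ) * (-1) < (p : ℤ) * k := by linarith
        exact lt_of_mul_lt_mul_left this hp0.le
      omega
    rcases hk01 with rfl | rfl
    · -- 2ν = 2^r
      right
      rw [mul_zero] at hk
      have h2ν : 2 * ν = 2 ^ r := by
        have : ((2 * ν : ℕ) : ℤ) = ((2 ^ r : ℕ) : ℤ) := by push_cast; linarith
        exact_mod_cast this
      obtain ⟨r', rfl⟩ : ∃ r', r = r' + 1 := by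
        rcases r with _ | r'
        · rw [pow_zero] at h2ν; omega
        · exact ⟨r', rfl⟩
      rw [pow_succ] at h2ν
      have hνr : ν = 2 ^ r' := by omega
      have hr'0 : r' = 0 := by
        by_contra h
        have : Even (2 ^ r') := (Nat.even_pow' h).2 even_two
        rw [← hνr] at this
        exact (Nat.not_even_iff_odd.2 hν_odd) this
      subst hr'0
      rw [pow_zero] at hνr
      subst hνr
      rw [mul_one] at hν
      rw [hdv, ← hν]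
      exact Dvd.intro_left _ rfl
    · -- 2ν = p + 2^r
      left
      rw [mul_one] at hk
      have h1 : (2 : ℤ) ^ r = 1 := by rw [hpZ] at hk; linarith
      have h2 : (ν : ℤ) = 2 ^ m' + 1 := by rw [hpZ, hpm2] at hk; linarith
      have hνg' : ν = 2 ^ m' + 1 := by exact_mod_cast h2
      have hμ1' : μ = 1 := by
        rw [hνg'] at hν
        have h3 : (2 ^ m' + 1) * 1 = (2 ^ m' + 1) * μ := by rw [mul_one, mul_comm]; exact hν
        exact (Nat.eq_of_mul_eq_mul_left (by positivity) h3).symm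
      exact ⟨v, by rw [hdv, hμ1', mul_one]⟩
  · exfalso
    rw [hτ] at hkey2
    have hkey3 : (p : ℤ) ∣ 2 * (ν : ℤ) + 2 ^ r := by
      have : 2 * (ν : ℤ) + 2 ^ r = 2 * (ν : ℤ) - -1 * 2 ^ r := by ring
      rw [this]; exact hkey2
    obtain ⟨k, hk⟩ := hkey3
    have hp0 : (0 : ℤ) < p := by rw [hpZ]; positivity
    have hk1 : k = 1 := by
      have h1 : (p : ℤ) * 0 < (p : ℤ) * k := by rw [← hk]; linarith
      have h2 : (p : ℤ) * k < (p : ℤ) * 2 := by rw [← hk]; rw [hpZ, hpm2]; linarith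
      have h3 : k < 2 := lt_of_mul_lt_mul_left h2 hp0.le
      have h4 : 0 < k := lt_of_mul_lt_mul_left h1 hp0.le
      omega
    subst hk1
    rw [mul_one, hpZ] at hk
    -- 2ν + 2^r = 2^(m'+1) + 1 : parity
    rcases r with _ | r'
    · rw [pow_zero] at hk
      have h2 : (ν : ℤ) = 2 ^ m' := by rw [hpm2] at hk; linarith
      have h3 : ν = 2 ^ m' := by exact_mod_cast h2
      have : Even (2 ^ m') := (Nat.even_pow' (by omega)).2 even_two
      rw [← h3] at this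
      exact (Nat.not_even_iff_odd.2 hν_odd) this
    · rw [pow_succ, hpm2] at hk
      omega

/-- `2^j ≡ 1` modulo the Fermat number `2^(m'+1)+1` with `j < 2(m'+1)` forces `j = 0`. -/
theorem pow2_eq_one_fermat {m' j : ℕ} (hj : j < 2 * (m' + 1))
    (hdiv : ((2 : ℤ) ^ (m' + 1) + 1) ∣ (2 : ℤ) ^ j - 1) : j = 0 := by
  by_contra hj0
  have hP0 : (0 : ℤ) < (2 : ℤ) ^ (m' + 1) + 1 := by positivity
  rcases Nat.lt_or_ge (m' + 1) j with h | h
  · -- j = m'+1 + r, 0 < r < m'+1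
    obtain ⟨r, rfl⟩ : ∃ r, j = m' + 1 + r := ⟨j - (m' + 1), by omega⟩
    have hr0 : 0 < r := by omega
    have hrm : r ≤ m' := by omega
    have h1 : (2 : ℤ) ^ (m' + 1 + r) - 1 =
        ((2 : ℤ) ^ (m' + 1) + 1) * 2 ^ r - (2 ^ r + 1) := by
      rw [pow_add]; ring
    rw [h1] at hdiv
    have h2 : ((2 : ℤ) ^ (m' + 1) + 1) ∣ (2 : ℤ) ^ r + 1 := by
      have := Dvd.dvd.sub (Dvd.intro _ rfl : ((2 : ℤ) ^ (m' + 1) + 1) ∣
        ((2 : ℤ) ^ (m' + 1) + 1) * 2 ^ r) hdiv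
      simpa using this
    have h3 : (2 : ℤ) ^ r + 1 < (2 : ℤ) ^ (m' + 1) + 1 := by
      have : (2 : ℤ) ^ r < 2 ^ (m' + 1) := pow_lt_pow_right₀ (by norm_num) (by omega)
      linarith
    have h4 : (0 : ℤ) < (2 : ℤ) ^ r + 1 := by positivity
    have := Int.le_of_dvd h4 h2
    linarith
  · have h3 : (2 : ℤ) ^ j - 1 < (2 : ℤ) ^ (m' + 1) + 1 := by
      have : (2 : ℤ) ^ j ≤ 2 ^ (m' + 1) := pow_le_pow_right₀ (by norm_num) h
      linarith
    have h4 : (0 : ℤ) < (2 : ℤ) ^ j - 1 := by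
      have : (2 : ℤ) ^ 1 ≤ 2 ^ j := pow_le_pow_right₀ (by norm_num) (by omega)
      norm_num at this
      linarith
    have := Int.le_of_dvd h4 hdiv
    linarith

/-- [AR-F97] -/
theorem arith_fermat97 {ι : Type*} [DecidableEq ι] (X B : Finset ι) (a : ι → ℤ) (d : ι → ℕ)
    (triv : ι) (p b m' S : ℕ) (y : ℤ)
    (hpm : p = 2 ^ (m' + 1) + 1) (hm' : 2 ≤ m')
    (hBX : B ⊆ X) (htrivB : triv ∈ B) (hdtriv : d triv = 1) (hatriv : a triv = 1)
    (ha : ∀ i ∈ X, a i = 1 ∨ a i = -1)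
    (hqd : ∀ i ∈ X, i ≠ triv → 2 ∣ d i)
    (hdd : ∀ i ∈ X, d i ∣ 2 ^ b * (2 ^ m' + 1))
    (hmod : ∀ i ∈ X, (p : ℤ) ∣ (d i : ℤ) - a i)
    (hpow : ∀ i ∈ B, i ≠ triv → ∀ n : ℕ, d i ≠ 2 ^ n)
    (hy : y = 0 ∨ y = -((2 ^ m' + 1 : ℕ) : ℤ))
    (hZ : (2 : ℤ) ^ b ∣ ∑ i ∈ B, a i * (d i : ℤ) - y)
    (hZsq : (∑ i ∈ B, a i * (d i : ℤ) - y) ^ 2 ≤ ((p * (p * 2 ^ b * (2 ^ m' + 1)) : ℕ) : ℤ))
    (hS : 2 ^ m' * S = 2 ^ b * (2 ^ m' + 1)) (hSmod : (p : ℤ) ∣ (S : ℤ) - 1) :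
    b = m' + 1 := by
  have hg_odd : Odd (2 ^ m' + 1) := by
    have : Even (2 ^ m') := (Nat.even_pow' (by omega)).2 even_two
    exact Even.add_one this
  have hpZ : (p : ℤ) = 2 ^ (m' + 1) + 1 := by rw [hpm]; push_cast; ring
  have hpm2 : (2 : ℤ) ^ (m' + 1) = 2 * 2 ^ m' := by rw [pow_succ]; ring
  -- Step 1
  have hmb : m' ≤ b := by
    have h1 : 2 ^ m' ∣ 2 ^ b * (2 ^ m' + 1) := ⟨S, hS.symm⟩
    have hcop : Nat.Coprime (2 ^ m') (2 ^ m' + 1) := by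
      apply Nat.Coprime.pow_left
      exact Nat.coprime_two_left.2 hg_odd
    have h2 : 2 ^ m' ∣ 2 ^ b := hcop.dvd_of_dvd_mul_right h1
    exact (Nat.pow_dvd_pow_iff_le_right (by norm_num)).1 h2
  obtain ⟨k, rfl⟩ : ∃ k, b = m' + k := ⟨b - m', by omega⟩
  have hSk : S = 2 ^ k * (2 ^ m' + 1) := by
    have h1 : 2 ^ m' * S = 2 ^ m' * (2 ^ k * (2 ^ m' + 1)) := by rw [hS, pow_add]; ring
    exact Nat.eq_of_mul_eq_mul_left (by positivity) h1
  -- Step 2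
  have h2k : (p : ℤ) ∣ (2 : ℤ) ^ k - 2 := by
    have h1 : (2 : ℤ) ^ k - 2 = 2 * ((S : ℤ) - 1) - 2 ^ k * (p : ℤ) := by
      rw [hSk, hpZ, hpm2]; push_cast; ring
    rw [h1]
    exact Dvd.dvd.sub (Dvd.dvd.mul_left hSmod _) (Dvd.intro_left _ rfl)
  have hp0 : (0 : ℤ) < p := by rw [hpZ]; positivity
  have hp5 : (5 : ℤ) ≤ p := by
    rw [hpZ, hpm2]
    have : (2 : ℤ) ^ 1 ≤ 2 ^ m' := pow_le_pow_right₀ (by norm_num) (by omega)
    norm_num at this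
    linarith
  obtain ⟨j, rfl⟩ : ∃ j, k = j + 1 := by
    rcases k with _ | j
    · exfalso
      rw [pow_zero] at h2k
      have h1 : (p : ℤ) ∣ 1 := by
        have : (1 : ℤ) = -((1 : ℤ) - 2) := by norm_num
        rw [this]; exact (dvd_neg).2 h2k
      have := Int.le_of_dvd (by norm_num) h1
      linarith
    · exact ⟨j, rfl⟩
  have h2j : (p : ℤ) ∣ (2 : ℤ) ^ j - 1 := by
    have h1 : (2 : ℤ) ^ (j + 1) - 2 = 2 * ((2 : ℤ) ^ j - 1) := by rw [pow_succ]; ring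
    rw [h1] at h2k
    have hcop : IsCoprime (p : ℤ) 2 := by
      rw [hpZ, hpm2]
      exact ⟨1, -(2 : ℤ) ^ m', by ring⟩
    exact hcop.dvd_of_dvd_mul_left h2k
  -- Step 5: Z ≠ 0
  have hsplit : ∑ i ∈ B, a i * (d i : ℤ) = 1 + ∑ i ∈ B.erase triv, a i * (d i : ℤ) := by
    rw [← Finset.add_sum_erase B _ htrivB, hatriv, hdtriv]
    norm_num
  have h2Z : (2 : ℤ) ∣ ∑ i ∈ B, a i * (d i : ℤ) - y :=
    Dvd.dvd.trans (dvd_pow_self _ (by omega)) hZ
  have h2S : (2 : ℤ) ∣ ∑ i ∈ B.erase triv, a i * (d i : ℤ) := by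
    apply Finset.dvd_sum
    intro i hi
    have hiB : i ∈ B := Finset.mem_of_mem_erase hi
    have hne : i ≠ triv := Finset.ne_of_mem_erase hi
    have : ((2 : ℕ) : ℤ) ∣ (d i : ℤ) := by exact_mod_cast hqd i (hBX hiB) hne
    exact Dvd.dvd.mul_left (by simpa using this) _
  have hyg : y = -((2 ^ m' + 1 : ℕ) : ℤ) := by
    rcases hy with hy | hy
    · exfalso
      rw [hy, sub_zero, hsplit] at h2Z
      have : (2 : ℤ) ∣ 1 := (Int.dvd_add_left h2S).1 h2Z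
      omega
    · exact hy
  have hgS : ((2 ^ m' + 1 : ℕ) : ℤ) ∣ ∑ i ∈ B.erase triv, a i * (d i : ℤ) := by
    apply Finset.dvd_sum
    intro i hi
    have hiB : i ∈ B := Finset.mem_of_mem_erase hi
    have hne : i ≠ triv := Finset.ne_of_mem_erase hi
    have hiX := hBX hiB
    rcases class_fermat hpm (by omega) (hdd i hiX) (ha i hiX) (hmod i hiX) with ⟨n, hn⟩ | h
    · exact absurd hn (hpow i hiB hne n)
    · have : ((2 ^ m' + 1 : ℕ) : ℤ) ∣ (d i : ℤ) := by exact_mod_cast h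
      exact Dvd.dvd.mul_left this _
  have hZne : ∑ i ∈ B, a i * (d i : ℤ) - y ≠ 0 := by
    intro h0
    rw [hsplit, hyg] at h0
    have h1 : ((2 ^ m' + 1 : ℕ) : ℤ) ∣ 1 := by
      have : (1 : ℤ) = -(∑ i ∈ B.erase triv, a i * (d i : ℤ)) - ((2 ^ m' + 1 : ℕ) : ℤ) := by
        linarith
      rw [this]
      exact Dvd.dvd.sub ((dvd_neg).2 hgS) (dvd_refl _)
    have h2 := Int.le_of_dvd (by norm_num) h1
    have h3 : (1 : ℤ) ≤ 2 ^ m' := one_le_pow₀ (by norm_num)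
    push_cast at h2
    linarith
  -- Step 3: the bound
  have hbound : (2 : ℤ) ^ (m' + (j + 1)) ≤ (p : ℤ) * p * (2 ^ m' + 1) := by
    obtain ⟨w, hw⟩ := hZ
    have hw0 : w ≠ 0 := by
      rintro rfl
      rw [mul_zero] at hw
      exact hZne hw
    have hw1 : 1 ≤ w ^ 2 := by
      have : 0 < w ^ 2 := by positivity
      omega
    rw [hw] at hZsq
    push_cast at hZsq
    have hpos : (0 : ℤ) < (2 : ℤ) ^ (m' + (j + 1)) := by positivity
    have h1 : (2 : ℤ) ^ (m' + (j + 1)) * (2 : ℤ) ^ (m' + (j + 1)) ≤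
        (2 : ℤ) ^ (m' + (j + 1)) * ((p : ℤ) * p * (2 ^ m' + 1)) := by
      calc (2 : ℤ) ^ (m' + (j + 1)) * (2 : ℤ) ^ (m' + (j + 1))
          ≤ (2 : ℤ) ^ (m' + (j + 1)) * (2 : ℤ) ^ (m' + (j + 1)) * w ^ 2 := by nlinarith
        _ = ((2 : ℤ) ^ (m' + (j + 1)) * w) ^ 2 := by ring
        _ ≤ (p : ℤ) * ((p : ℤ) * 2 ^ (m' + (j + 1)) * (2 ^ m' + 1)) := hZsq
        _ = (2 : ℤ) ^ (m' + (j + 1)) * ((p : ℤ) * p * (2 ^ m' + 1)) := by ring
    exact le_of_mul_le_mul_left h1 hpos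
  have hjlt : j < 2 * (m' + 1) := by
    by_contra hge
    have hge' : 2 * (m' + 1) ≤ j := by omega
    have h1 : (2 : ℤ) ^ (m' + (2 * (m' + 1) + 1)) ≤ 2 ^ (m' + (j + 1)) :=
      pow_le_pow_right₀ (by norm_num) (by omega)
    have h2 : (2 : ℤ) ^ (m' + (2 * (m' + 1) + 1)) = 8 * ((2 : ℤ) ^ m') ^ 3 := by
      have : m' + (2 * (m' + 1) + 1) = 3 + 3 * m' := by ring
      rw [this, pow_add, pow_mul']
      norm_num
    have hu : (4 : ℤ) ≤ 2 ^ m' := by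
      calc (4 : ℤ) = 2 ^ 2 := by norm_num
        _ ≤ 2 ^ m' := pow_le_pow_right₀ (by norm_num) hm'
    rw [hpZ, hpm2] at hbound
    nlinarith [hbound, h1, h2, hu, mul_pos (by linarith : (0:ℤ) < 2 ^ m') (by linarith : (0:ℤ) < 2 ^ m')]
  rw [hpZ] at h2j
  have := pow2_eq_one_fermat hjlt h2j
  omega

end Cfsg.Agent.Lib.Helper78.BTArith97
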