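import Mathlib
import Cfsg.Agent.Lib.Helper78.WBOCor
import Cfsg.Agent.Lib.Helper79.ClassCount
import Cfsg.Agent.Lib.Helper79.Schur
import Cfsg.Agent.Lib.Helper78.CharBasic

/-!
# Intersections of a `p`-block and a `q`-block in groups without elements of order `pq`

`sum_inter_mul_conj_eq_zero`: if `G` has no element of order `pq`, `y` is `p`-singular and `x` is
`q`-singular, then `∑_{χ ∈ Bp ∩ Bq} conj (χ y) * χ x = 0`.
`exists_sum_inter_eq_pow_mul`: consequently `∑_{χ ∈ Bp ∩ Bq} χ(1) χ(y)` is `|G|_q` times an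
algebraic integer (S4731).
-/

set_option autoImplicit false
set_option linter.unusedSectionVars false
set_option linter.style.haveILetI false

namespace Cfsg.Agent.Lib.Helper78

open Cfsg
open scoped ComplexConjugate

variable {G : Type*} [Group G] [Fintype G]

/-- In a group without elements of order `pq`, `q`-singular elements are `p`-regular. -/
theorem not_dvd_orderOf_of_no_pq {p q : ℕ} (hp : p.Prime) (hq : q.Prime) (hpq : p ≠ q)
    (hno : ∀ g : G, orderOf g ≠ p * q) {x : G} (hx : q ∣ orderOf x) : ¬ p ∣ orderOf x := by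
  intro hpx
  have hcop : Nat.Coprime p q := (Nat.coprime_primes hp hq).mpr hpq
  have hdvd : p * q ∣ orderOf x := hcop.mul_dvd_of_dvd_of_dvd hpx hx
  obtain ⟨k, hk⟩ := hdvd
  have hx0 : orderOf x ≠ 0 := (orderOf_pos x).ne'
  have hk0 : k ≠ 0 := by
    rintro rfl
    exact hx0 (by simpa using hk)
  have hkd : k ∣ orderOf x := ⟨p * q, by rw [hk]; ring⟩
  have h1 : orderOf (x ^ k) = p * q := by
    rw [orderOf_pow_of_dvd hk0 hkd, hk]
    exact Nat.mul_div_cancel _ (Nat.pos_of_ne_zero hk0)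
  exact hno _ h1

open scoped Classical in
/-- Key vanishing. -/
theorem sum_inter_mul_conj_eq_zero {p q : ℕ} [Fact p.Prime] [Fact q.Prime] (hpq : p ≠ q)
    {Mp Mq : Ideal AlgInt} (hMp : IsPModular p Mp) (hMq : IsPModular q Mq)
    (hno : ∀ g : G, orderOf g ≠ p * q)
    {Bp : Set (IrrCharacter G)} (hBp : IsPBlock Mp Bp)
    {Bq : Set (IrrCharacter G)} (hBq : IsPBlock Mq Bq)
    {x y : G} (hy : p ∣ orderOf y) (hx : q ∣ orderOf x) :
    ∑ χ ∈ Finset.univ.filter (fun χ : IrrCharacter G => χ ∈ Bp ∩ Bq),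
      conj ((χ : G → ℂ) y) * (χ : G → ℂ) x = 0 := by
  have hp : p.Prime := Fact.out
  have hq : q.Prime := Fact.out
  have hcard : (Fintype.card G : ℂ) ≠ 0 := by exact_mod_cast Fintype.card_ne_zero
  -- the double sum
  have h1 : ∑ z : G, blockKernel Bq x z * blockKernel Bp z y = 0 := by
    apply Finset.sum_eq_zero
    intro z _
    by_cases hz : q ∣ orderOf z
    · have hzp : ¬ p ∣ orderOf z := not_dvd_orderOf_of_no_pq hp hq hpq hno hz
      rw [blockKernel_eq_zero_right hMp hBp hzp hy, mul_zero]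
    · rw [blockKernel_eq_zero_left hMq hBq hz hx, zero_mul]
  have h2 : ∑ z : G, blockKernel Bq x z * blockKernel Bp z y =
      (Fintype.card G : ℂ) * ∑ χ ∈ Finset.univ.filter (fun χ : IrrCharacter G => χ ∈ Bp ∩ Bq),
        conj ((χ : G → ℂ) y) * (χ : G → ℂ) x := by
    have h3 : ∀ z : G, blockKernel Bq x z * blockKernel Bp z y =
        ∑ χ ∈ Finset.univ.filter (fun χ : IrrCharacter G => χ ∈ Bp),
          conj ((χ : G → ℂ) y) * (blockKernel Bq x z * (χ : G → ℂ) z) := by
      intro z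
      have hdef : blockKernel Bp z y = ∑ χ ∈ Finset.univ.filter (fun χ : IrrCharacter G => χ ∈ Bp),
          (χ : G → ℂ) z * conj ((χ : G → ℂ) y) := rfl
      rw [hdef, Finset.mul_sum]
      apply Finset.sum_congr rfl
      intro χ _
      ring
    simp_rw [h3]
    rw [Finset.sum_comm]
    simp_rw [← Finset.mul_sum, sum_blockKernel_mul_irr]
    have hfil : Finset.univ.filter (fun χ : IrrCharacter G => χ ∈ Bp ∩ Bq) =
        (Finset.univ.filter (fun χ : IrrCharacter G => χ ∈ Bp)).filter (fun χ => χ ∈ Bq) := by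
      rw [Finset.filter_filter]
      rfl
    rw [hfil, Finset.mul_sum]
    conv_rhs => rw [Finset.sum_filter]
    apply Finset.sum_congr rfl
    intro χ _
    split_ifs
    · ring
    · ring
  rw [h1] at h2
  exact (mul_eq_zero.mp h2.symm).resolve_left hcard

open scoped Classical in
/-- The sum of `χ(1) χ(y)` over `Bp ∩ Bq` is `|G|_q` times an algebraic integer. -/
theorem exists_sum_inter_eq_pow_mul {p q : ℕ} [Fact p.Prime] [Fact q.Prime] (hpq : p ≠ q)
    {Mp Mq : Ideal AlgInt} (hMp : IsPModular p Mp) (hMq : IsPModular q Mq)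
    (hno : ∀ g : G, orderOf g ≠ p * q)
    {Bp : Set (IrrCharacter G)} (hBp : IsPBlock Mp Bp)
    {Bq : Set (IrrCharacter G)} (hBq : IsPBlock Mq Bq)
    {y : G} (hy : p ∣ orderOf y) :
    ∃ ω : AlgInt, ∑ χ ∈ Finset.univ.filter (fun χ : IrrCharacter G => χ ∈ Bp ∩ Bq),
      (charDegree (χ : G → ℂ) : ℂ) * (χ : G → ℂ) y =
        (q : ℂ) ^ (Nat.card G).factorization q * (ω : ℂ) := by
  have hq : q.Prime := Fact.out
  obtain ⟨Q⟩ : Nonempty (Sylow q G) := inferInstance
  haveI : Fintype (Q : Subgroup G) := Fintype.ofFinite _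
  have hQcard : Nat.card (Q : Subgroup G) = q ^ (Nat.card G).factorization q :=
    Q.card_eq_multiplicity
  choose m hm using fun χ : IrrCharacter G =>
    Cfsg.Agent.Lib.Helper79.sum_subgroup_irr χ (Q : Subgroup G)
  set I := Finset.univ.filter (fun χ : IrrCharacter G => χ ∈ Bp ∩ Bq) with hI
  -- the function `x ↦ ∑ conj (χ y) χ x` summed over `Q`
  have h1 : ∑ u : (Q : Subgroup G), ∑ χ ∈ I, conj ((χ : G → ℂ) y) * (χ : G → ℂ) (u : G) =
      ∑ χ ∈ I, conj ((χ : G → ℂ) y) * (χ : G → ℂ) 1 := by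
    rw [Finset.sum_eq_single (1 : (Q : Subgroup G))]
    · simp
    · intro u _ hu
      apply sum_inter_mul_conj_eq_zero hpq hMp hMq hno hBp hBq hy
      obtain ⟨k, hk⟩ := (IsPGroup.iff_orderOf.mp Q.2) u
      rw [← Subgroup.orderOf_coe] at hk
      rw [hk]
      have hk0 : k ≠ 0 := by
        rintro rfl
        rw [pow_zero, orderOf_eq_one_iff] at hk
        exact hu (Subtype.ext hk)
      exact dvd_pow_self q hk0
    · intro h
      exact absurd (Finset.mem_univ _) h
  have h2 : ∑ u : (Q : Subgroup G), ∑ χ ∈ I, conj ((χ : G → ℂ) y) * (χ : G → ℂ) (u : G) =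
      (Nat.card (Q : Subgroup G) : ℂ) * ∑ χ ∈ I, conj ((χ : G → ℂ) y) * (m χ : ℂ) := by
    rw [Finset.sum_comm, Finset.mul_sum]
    apply Finset.sum_congr rfl
    intro χ _
    rw [← Finset.mul_sum, hm χ]
    ring
  have h3 : ∑ χ ∈ I, conj ((χ : G → ℂ) y) * (χ : G → ℂ) 1 =
      (Nat.card (Q : Subgroup G) : ℂ) * ∑ χ ∈ I, conj ((χ : G → ℂ) y) * (m χ : ℂ) :=
    h1.symm.trans h2
  have h4 := congrArg (starRingEnd ℂ) h3
  have hint : IsIntegral ℤ (∑ χ ∈ I, (χ : G → ℂ) y * (m χ : ℂ)) := by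
    apply IsIntegral.sum
    intro χ _
    exact (Cfsg.Agent.Lib.Helper79.isIntegral_irr χ y).mul (isIntegral_natCast _)
  refine ⟨⟨_, hint⟩, ?_⟩
  rw [map_sum, map_mul, map_sum, map_natCast] at h4
  simp only [map_mul, Complex.conj_conj, map_natCast] at h4
  rw [hQcard] at h4
  push_cast at h4
  rw [← h4]
  apply Finset.sum_congr rfl
  intro χ _
  rw [IsCharacter.apply_one_eq_charDegree (IsIrrCharacter.isCharacter χ.2), map_natCast]
  ring

end Cfsg.Agent.Lib.Helper78
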