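import Mathlib
import Cfsg.Agent.Lib.Helper17.BT.Defs
import Cfsg.Agent.Lib.Helper78.CharOrtho
import Cfsg.Agent.Lib.Helper97.BTToolOne

/-!
# S0997 module [BT-NORM] (helper78)

In the Brauer–Tuan configuration, the integer `Z` of `[BT-TOOL1]` (the sum over `X ∩ Bq` of
`a χ χ(1)` minus the contribution of `Y`) satisfies `Z² ≤ p |G|`: it equals
`∑_{χ ∈ (X ∪ Y) ∩ Bq} χ(1) χ(x)` for `x ∈ P ∖ 1`, and Cauchy–Schwarz with the two orthogonality
relations bounds this.  No hypothesis on `Bq`.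
-/

set_option autoImplicit false
open Cfsg
open scoped ComplexConjugate

namespace Cfsg.Agent.Lib.Helper78.BTNorm

open Cfsg.Agent.Lib.Helper17.BT

variable {G : Type*} [Group G] [Finite G] {p : ℕ} [Fact p.Prime] {M : Ideal Cfsg.AlgInt}
  {P : Sylow p G} {e t : ℕ} {ε : ℤ} {a : IrrCharacter G → ℤ} {X Y : Finset (IrrCharacter G)}

/-- Cauchy–Schwarz for a finite family of complex numbers weighted by naturals. -/
theorem normSq_sum_le {ι : Type*} (T : Finset ι) (d : ι → ℕ) (v : ι → ℂ) :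
    Complex.normSq (∑ i ∈ T, (d i : ℂ) * v i) ≤
      (∑ i ∈ T, ((d i : ℝ)) ^ 2) * ∑ i ∈ T, Complex.normSq (v i) := by
  have h1 : ‖∑ i ∈ T, (d i : ℂ) * v i‖ ≤ ∑ i ∈ T, (d i : ℝ) * ‖v i‖ := by
    refine (norm_sum_le _ _).trans (le_of_eq ?_)
    apply Finset.sum_congr rfl
    intro i _
    rw [norm_mul, Complex.norm_natCast]
  have h2 : (∑ i ∈ T, (d i : ℝ) * ‖v i‖) ^ 2 ≤
      (∑ i ∈ T, ((d i : ℝ)) ^ 2) * ∑ i ∈ T, ‖v i‖ ^ 2 :=
    Finset.sum_mul_sq_le_sq_mul_sq T _ _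
  have h3 : ∀ i, ‖v i‖ ^ 2 = Complex.normSq (v i) := fun i => (Complex.normSq_eq_norm_sq _).symm
  simp only [h3] at h2
  rw [Complex.normSq_eq_norm_sq]
  refine le_trans ?_ h2
  have h0 : 0 ≤ ‖∑ i ∈ T, (d i : ℂ) * v i‖ := norm_nonneg _
  nlinarith

open scoped Classical in
/-- MODULE [BT-NORM] -/
theorem bt_block_sum_sq_le (D : BTData p M P e t ε a X Y) (Bq : Set (IrrCharacter G))
    (hY : (∀ θ ∈ Y, θ ∈ Bq) ∨ (∀ θ ∈ Y, θ ∉ Bq)) :
    ((∑ χ ∈ X.filter (fun χ => χ ∈ Bq), a χ * (charDegree (χ : G → ℂ) : ℤ)) -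
      (if ∀ θ ∈ Y, θ ∈ Bq then ε * ((if ε = 1 then e else p - e : ℕ) : ℤ) else 0)) ^ 2 ≤
      ((p * Nat.card G : ℕ) : ℤ) := by
  have : Fintype G := Fintype.ofFinite G
  obtain ⟨x, hxP, hx1, hxo⟩ := Cfsg.Agent.Lib.Helper97.BTTool.bt_exists_x D
  -- the X part
  have hXpart : ∑ χ ∈ X.filter (fun χ => χ ∈ Bq),
      ((charDegree (χ : G → ℂ) : ℂ) * (χ : G → ℂ) x) =
      ((∑ χ ∈ X.filter (fun χ => χ ∈ Bq), a χ * (charDegree (χ : G → ℂ) : ℤ) : ℤ) : ℂ) := by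
    push_cast
    apply Finset.sum_congr rfl
    intro χ hχ
    rw [D.hXval χ (Finset.mem_filter.mp hχ).1 x hxP hx1]
    ring
  have hdeg : ∀ θ ∈ Y, charDegree (θ : G → ℂ) = (if ε = 1 then e else p - e : ℕ) := by
    intro θ hθ
    unfold charDegree
    rw [D.hdegY θ hθ]
    split_ifs
    · simp
    · simp
  have hYne : Y.Nonempty := by
    rw [← Finset.card_pos, D.hYcard]
    exact lt_of_lt_of_le (by norm_num) D.ht
  have hYpart : ∑ θ ∈ Y.filter (fun χ => χ ∈ Bq),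
      ((charDegree (θ : G → ℂ) : ℂ) * (θ : G → ℂ) x) =
      ((-(if ∀ θ ∈ Y, θ ∈ Bq then ε * ((if ε = 1 then e else p - e : ℕ) : ℤ) else 0) : ℤ) : ℂ) := by
    rcases hY with hY | hY
    · rw [if_pos hY, Finset.filter_true_of_mem hY]
      have h1 : ∑ θ ∈ Y, ((charDegree (θ : G → ℂ) : ℂ) * (θ : G → ℂ) x) =
          (((if ε = 1 then e else p - e : ℕ) : ℕ) : ℂ) * ∑ θ ∈ Y, (θ : G → ℂ) x := by
        rw [Finset.mul_sum]
        apply Finset.sum_congr rfl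
        intro θ hθ
        rw [hdeg θ hθ]
      rw [h1, D.hYsum x hxP hx1]
      push_cast
      ring
    · have hnot : ¬ ∀ θ ∈ Y, θ ∈ Bq := by
        intro h
        obtain ⟨θ, hθ⟩ := hYne
        exact hY θ hθ (h θ hθ)
      rw [if_neg hnot, Finset.filter_false_of_mem hY]
      simp
  -- the sum over `T = (X ∪ Y) ∩ Bq`
  have hT : ∑ χ ∈ (X ∪ Y).filter (fun χ => χ ∈ Bq),
      ((charDegree (χ : G → ℂ) : ℂ) * (χ : G → ℂ) x) =
      (((∑ χ ∈ X.filter (fun χ => χ ∈ Bq), a χ * (charDegree (χ : G → ℂ) : ℤ)) -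
      (if ∀ θ ∈ Y, θ ∈ Bq then ε * ((if ε = 1 then e else p - e : ℕ) : ℤ) else 0) : ℤ) : ℂ) := by
    rw [Finset.filter_union, Finset.sum_union (Finset.disjoint_filter_filter D.hdisj), hXpart,
      hYpart]
    push_cast
    ring
  -- Cauchy–Schwarz
  have hCS := normSq_sum_le ((X ∪ Y).filter (fun χ => χ ∈ Bq))
    (fun χ => charDegree (χ : G → ℂ)) (fun χ => (χ : G → ℂ) x)
  rw [hT] at hCS
  -- bound the two factors
  have hsub : (X ∪ Y).filter (fun χ => χ ∈ Bq) ⊆ (Finset.univ : Finset (IrrCharacter G)) :=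
    Finset.subset_univ _
  have hA : ∑ χ ∈ (X ∪ Y).filter (fun χ => χ ∈ Bq), ((charDegree (χ : G → ℂ) : ℝ)) ^ 2 ≤
      (Nat.card G : ℝ) := by
    have h1 : ∑ χ ∈ (X ∪ Y).filter (fun χ => χ ∈ Bq), ((charDegree (χ : G → ℂ) : ℝ)) ^ 2 ≤
        ∑ χ : IrrCharacter G, ((charDegree (χ : G → ℂ) : ℝ)) ^ 2 :=
      Finset.sum_le_sum_of_subset_of_nonneg hsub (fun _ _ _ => by positivity)
    refine h1.trans (le_of_eq ?_)
    have h2 := Cfsg.Agent.Lib.Helper78.second_orthogonality_of_isConj (G := G)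
      (IsConj.refl (1 : G))
    have h3 : Subgroup.centralizer ({(1 : G)} : Set G) = ⊤ := by
      ext g
      simp [Subgroup.mem_centralizer_iff]
    rw [h3, Subgroup.card_top] at h2
    have h4 : ((∑ χ : IrrCharacter G, ((charDegree (χ : G → ℂ) : ℝ)) ^ 2 : ℝ) : ℂ) =
        (Nat.card G : ℂ) := by
      rw [← h2]
      push_cast
      apply Finset.sum_congr rfl
      intro χ _
      have h5 : (χ : G → ℂ) 1 = (charDegree (χ : G → ℂ) : ℂ) :=
        Cfsg.Agent.Lib.Helper78.IsCharacter.apply_one_eq_charDegree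
          (Cfsg.Agent.Lib.Helper78.IsIrrCharacter.isCharacter χ.2)
      rw [h5, Complex.conj_natCast]
      ring
    exact_mod_cast h4
  have hB : ∑ χ ∈ (X ∪ Y).filter (fun χ => χ ∈ Bq), Complex.normSq ((χ : G → ℂ) x) ≤
      (p : ℝ) := by
    have h1 : ∑ χ ∈ (X ∪ Y).filter (fun χ => χ ∈ Bq), Complex.normSq ((χ : G → ℂ) x) ≤
        ∑ χ : IrrCharacter G, Complex.normSq ((χ : G → ℂ) x) :=
      Finset.sum_le_sum_of_subset_of_nonneg hsub (fun _ _ _ => Complex.normSq_nonneg _)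
    refine h1.trans (le_of_eq ?_)
    have h2 := Cfsg.Agent.Lib.Helper78.second_orthogonality_of_isConj (G := G) (IsConj.refl x)
    rw [D.hcent x hxP hx1, D.hPcard] at h2
    have h3 : ((∑ ζ : IrrCharacter G, Complex.normSq ((ζ : G → ℂ) x) : ℝ) : ℂ) = (p : ℂ) := by
      rw [← h2]
      push_cast
      apply Finset.sum_congr rfl
      intro ζ _
      rw [Complex.mul_conj]
    exact_mod_cast h3
  have hfin : Complex.normSq (((((∑ χ ∈ X.filter (fun χ => χ ∈ Bq),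
      a χ * (charDegree (χ : G → ℂ) : ℤ)) -
      (if ∀ θ ∈ Y, θ ∈ Bq then ε * ((if ε = 1 then e else p - e : ℕ) : ℤ) else 0) : ℤ)) : ℂ)) ≤
      (Nat.card G : ℝ) * (p : ℝ) := by
    refine hCS.trans ?_
    have h0 : (0 : ℝ) ≤ ∑ χ ∈ (X ∪ Y).filter (fun χ => χ ∈ Bq),
        Complex.normSq ((χ : G → ℂ) x) :=
      Finset.sum_nonneg (fun _ _ => Complex.normSq_nonneg _)
    have h0' : (0 : ℝ) ≤ (Nat.card G : ℝ) := by positivity
    exact mul_le_mul hA hB h0 h0'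
  rw [Complex.normSq_intCast] at hfin
  have hfin' : (((((∑ χ ∈ X.filter (fun χ => χ ∈ Bq),
      a χ * (charDegree (χ : G → ℂ) : ℤ)) -
      (if ∀ θ ∈ Y, θ ∈ Bq then ε * ((if ε = 1 then e else p - e : ℕ) : ℤ) else 0)) ^ 2 : ℤ)) : ℝ) ≤
      (((p * Nat.card G : ℕ) : ℤ) : ℝ) := by
    push_cast
    push_cast at hfin
    nlinarith [hfin]
  exact_mod_cast hfin'

end Cfsg.Agent.Lib.Helper78.BTNorm
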