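import Cfsg.Agent.Lib.Helper16.BrauerIdem
import Cfsg.Agent.Lib.Helper16.BrauerFirst
import Cfsg.Agent.Lib.Helper78.SMTOrtho

/-!
# Local blocks with a unit idempotent coefficient (helper78)

For a `p`-subgroup `P` and `P C_G(P) ≤ H ≤ N_G(P)`: if the idempotent of the block `B` of `G` has a
coefficient outside the local ideal at `g ∈ C_G(P)`, then some block `b` of `H` induces `B` and
has its idempotent coefficient at `g` outside the local ideal.
-/

set_option autoImplicit false

namespace Cfsg.Agent.Lib.Helper78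

open Cfsg MonoidAlgebra Cfsg.Agent.Lib.Helper16
open scoped ComplexConjugate

universe u

section Partition

variable {K : Type u} [Group K] [Fintype K] {M : Ideal AlgInt} [hMp : M.IsPrime]

open scoped Classical in
/-- The block idempotents form a partition of unity. -/
theorem sum_blockIdem_eq_one :
    ∑ q : Quotient (sameBlockSetoid M K), blockIdem M (Quotient.out q) =
      (1 : Subalgebra.center ℂ (MonoidAlgebra ℂ K)) := by
  apply eq_of_forall_omegaHom_eq
  intro ψ
  rw [map_sum, map_one]
  rw [Finset.sum_eq_single (Quotient.mk (sameBlockSetoid M K) ψ)]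
  · apply omegaHom_blockIdem_of_mem
    have h : (sameBlockSetoid M K).r (Quotient.out (Quotient.mk (sameBlockSetoid M K) ψ)) ψ :=
      Quotient.exact (s := sameBlockSetoid M K) (Quotient.out_eq _)
    exact h
  · intro q _ hq
    apply omegaHom_blockIdem_of_not_mem
    intro hmem
    apply hq
    have h : (sameBlockSetoid M K).r (Quotient.out q) ψ := hmem
    have := Quotient.sound (s := sameBlockSetoid M K) h
    rw [Quotient.out_eq] at this
    exact this
  · intro h
    exact absurd (Finset.mem_univ _) h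

end Partition

theorem idem_aux_three {R : Type*} [CommRing R] (W E : R) (hEE : E * E = E) :
    (W * E) * (W * E) - (W * E) = (W * W - W) * E := by
  linear_combination (W * W) * hEE

section Local

variable {G : Type u} [Group G] [Fintype G] {M : Ideal AlgInt}

/-- If the block idempotent of `B` has a coefficient outside the ideal at `g ∈ C_G(P)`, then some
block `b` of `H` (`P C_G(P) ≤ H ≤ N_G(P)`) induces `B` and has idempotent coefficient at `g`
outside the ideal. -/
theorem exists_isInducedBlock_coeff_unit {p : ℕ} [Fact p.Prime]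
    (hM : IsPModular p M) (P H : Subgroup G) [Fintype H] (hP : IsPGroup p P) (hPH : P ≤ H)
    (hCH : Subgroup.centralizer (P : Set G) ≤ H) (hHN : H ≤ Subgroup.normalizer (P : Set G))
    {B : Set (IrrCharacter G)} (hB : IsPBlock M B) (g : G)
    (hg : g ∈ Subgroup.centralizer (P : Set G)) (hcoef : ¬ MemLocalIdeal M (blockCoeff B g)) :
    ∃ ξ : IrrCharacter H, IsInducedBlock M H (blockOf M (ξ : H → ℂ)) B ∧
      ¬ MemLocalIdeal M (blockCoeff (blockOf M (ξ : H → ℂ)) ⟨g, hCH hg⟩) := by
  classical
  have hMp := isPModular_isPrime hM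
  obtain ⟨χB, rfl⟩ := hB
  set e := blockIdem M χB with he
  have heR : CoeffsInRing M (e : MonoidAlgebra ℂ G) := fun x => blockIdem_mem χB x
  have hwc : brP P H (e : MonoidAlgebra ℂ G) ∈ Subalgebra.center ℂ (MonoidAlgebra ℂ H) :=
    brP_mem_center P H hHN e.2
  set W : Subalgebra.center ℂ (MonoidAlgebra ℂ H) := ⟨brP P H (e : MonoidAlgebra ℂ G), hwc⟩ with hW
  have hWO : W ∈ centerOrder H M := fun x => brP_coeffsInRing P H heR x
  have hee : (e : MonoidAlgebra ℂ G) * (e : MonoidAlgebra ℂ G) = (e : MonoidAlgebra ℂ G) :=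
    congrArg Subtype.val (blockIdem_mul_self (M := M) χB)
  have hδ : CoeffsInIdeal M (((W * W - W : Subalgebra.center ℂ (MonoidAlgebra ℂ H))) :
      MonoidAlgebra ℂ H) := by
    have h1 := brP_mul_coeffsInIdeal hM P H hP hCH e.2 e.2 heR heR
    rw [hee] at h1
    have h2 := h1.neg
    rw [neg_sub] at h2
    exact h2
  have hχB : χB ∈ blockOf M (χB : G → ℂ) := self_mem_blockOf hMp.ne_top χB
  -- the coefficient of `W` at `g`
  have hWg : (W : MonoidAlgebra ℂ H).coeff ⟨g, hCH hg⟩ = blockCoeff (blockOf M (χB : G → ℂ)) g := by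
    rw [hW]
    show (brP P H (e : MonoidAlgebra ℂ G)).coeff ⟨g, hCH hg⟩ = _
    rw [coeff_brP, if_pos hg, coeff_blockIdem]
  -- decompose `W` along the blocks of `H`
  have hdec : (W : MonoidAlgebra ℂ H) = ∑ q : Quotient (sameBlockSetoid M H),
      ((W * blockIdem M (Quotient.out q) : Subalgebra.center ℂ (MonoidAlgebra ℂ H)) :
        MonoidAlgebra ℂ H) := by
    have h1 : W = ∑ q : Quotient (sameBlockSetoid M H), W * blockIdem M (Quotient.out q) := by
      rw [← Finset.mul_sum, sum_blockIdem_eq_one, mul_one]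
    conv_lhs => rw [h1]
    push_cast
    rfl
  have hex : ∃ q : Quotient (sameBlockSetoid M H), ¬ MemLocalIdeal M
      (((W * blockIdem M (Quotient.out q) : Subalgebra.center ℂ (MonoidAlgebra ℂ H)) :
        MonoidAlgebra ℂ H).coeff ⟨g, hCH hg⟩) := by
    by_contra hcon
    push Not at hcon
    apply hcoef
    rw [← hWg, hdec, MonoidAlgebra.coeff_sum, Finsupp.finsetSum_apply]
    exact memLocalIdeal_sum _ _ (fun q _ => hcon q)
  obtain ⟨q, hq⟩ := hex
  set ξ := Quotient.out q with hξ
  set E := blockIdem M ξ with hE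
  have hEO : E ∈ centerOrder H M := blockIdem_mem ξ
  have hEE : E * E = E := blockIdem_mul_self ξ
  -- the block of `ξ` induces `B`
  have hψex : ∃ ψ ∈ blockOf M (ξ : H → ℂ), ¬ MemLocalIdeal M
      (brauerLam P H (ψ : H → ℂ) (e : MonoidAlgebra ℂ G)) := by
    by_contra hcon
    push Not at hcon
    apply hq
    have hWE : CoeffsInIdeal M (((W * E : Subalgebra.center ℂ (MonoidAlgebra ℂ H))) :
        MonoidAlgebra ℂ H) := by
      apply coeffsInIdeal_of_idem
      · exact Subring.mul_mem _ hWO hEO
      · have e1 : (W * E) * (W * E) - (W * E) = (W * W - W) * E :=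
          idem_aux_three W E hEE
        rw [e1]
        have e2 : ((((W * W - W) * E : Subalgebra.center ℂ (MonoidAlgebra ℂ H))) :
            MonoidAlgebra ℂ H) =
            (((W * W - W : Subalgebra.center ℂ (MonoidAlgebra ℂ H))) : MonoidAlgebra ℂ H) *
              (E : MonoidAlgebra ℂ H) := by
          push_cast
          rfl
        rw [e2]
        exact hδ.mul_right (fun x => hEO x)
      · intro ψ
        rw [map_mul]
        by_cases hψ : ψ ∈ blockOf M (ξ : H → ℂ)
        · rw [omegaHom_blockIdem_of_mem ξ hψ, mul_one]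
          exact hcon ψ hψ
        · rw [omegaHom_blockIdem_of_not_mem ξ hψ, mul_zero]
          exact memLocalIdeal_zero hMp.ne_top
    exact hWE _
  obtain ⟨ψ, hψb, hψ⟩ := hψex
  have hind0 := isInducedBlock_of_brauerLam_blockIdem hM P H hP hPH hCH hHN χB ψ hψ
  have hbeq : blockOf M (ψ : H → ℂ) = blockOf M (ξ : H → ℂ) := blockOf_eq_of_mem hψb
  rw [hbeq] at hind0
  refine ⟨ξ, hind0, ?_⟩
  -- `E - W E` has coefficients in the ideal
  have hV : CoeffsInIdeal M (((E - W * E : Subalgebra.center ℂ (MonoidAlgebra ℂ H))) :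
      MonoidAlgebra ℂ H) := by
    apply coeffsInIdeal_of_idem
    · exact Subring.sub_mem _ hEO (Subring.mul_mem _ hWO hEO)
    · have e1 : (E - W * E) * (E - W * E) - (E - W * E) = (W * W - W) * E :=
        idem_aux_two W E hEE
      rw [e1]
      have e2 : ((((W * W - W) * E : Subalgebra.center ℂ (MonoidAlgebra ℂ H))) :
          MonoidAlgebra ℂ H) =
          (((W * W - W : Subalgebra.center ℂ (MonoidAlgebra ℂ H))) : MonoidAlgebra ℂ H) *
            (E : MonoidAlgebra ℂ H) := by
        push_cast
        rfl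
      rw [e2]
      exact hδ.mul_right (fun x => hEO x)
    · intro θ
      rw [map_sub, map_mul]
      by_cases hθ : θ ∈ blockOf M (ξ : H → ℂ)
      · rw [omegaHom_blockIdem_of_mem ξ hθ, mul_one]
        have := brauerLam_sub_omegaHom_of_isInducedBlock hM P H hP hPH hHN hind0 hθ hχB
          (blockIdem_mem χB)
        rw [omegaHom_blockIdem_of_mem χB hχB] at this
        exact memLocalIdeal_sub_comm.mp this
      · rw [omegaHom_blockIdem_of_not_mem ξ hθ, mul_zero, sub_self]
        exact memLocalIdeal_zero hMp.ne_top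
  intro hcon
  apply hq
  have h1 := hV ⟨g, hCH hg⟩
  have e3 : (((E - W * E : Subalgebra.center ℂ (MonoidAlgebra ℂ H))) : MonoidAlgebra ℂ H) =
      (E : MonoidAlgebra ℂ H) -
        (((W * E : Subalgebra.center ℂ (MonoidAlgebra ℂ H))) : MonoidAlgebra ℂ H) := by
    push_cast
    rfl
  rw [e3, coeff_sub, Finsupp.sub_apply, coeff_blockIdem] at h1
  exact (memLocalIdeal_congr h1).mp hcon

end Local

end Cfsg.Agent.Lib.Helper78
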