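import Mathlib
import Cfsg.Agent.Lib.Helper78.ExcDual
import Cfsg.Agent.Lib.Helper78.ExcAbstract

/-!
# Orbit sums of characters at an involution, orbits of length three (helper78)

`Γ` acts on the finite abelian group `A`, all non-identity elements having the same stabilizer `S`
of index three.  For a nonprincipal `ψ` and an involution `x`, the orbit sum
`τ = ∑_{ψ' ∈ orbit ψ} ψ' x` satisfies `τ ^ 2 = 3 + 2 * τ`.
-/

set_option autoImplicit false
set_option linter.unusedSectionVars false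

namespace Cfsg.Agent.Lib.Helper78

open scoped ComplexConjugate

section OrbitSum

variable {A Γ : Type*} [CommGroup A] [Fintype A] [Group Γ] [Fintype Γ] [MulDistribMulAction Γ A]
  (S : Subgroup Γ) (hS : ∀ y : A, y ≠ 1 → ∀ n : Γ, n • y = y ↔ n ∈ S)

theorem sq_sum_three_of_sq_eq_one {a b c : ℂ} (ha : a ^ 2 = 1) (hb : b ^ 2 = 1) (hc : c ^ 2 = 1)
    (habc : a * b * c = 1) : (a + b + c) ^ 2 = 3 + 2 * (a + b + c) := by
  have hab : a * b = c := by
    calc a * b = a * b * c ^ 2 := by rw [hc, mul_one]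
      _ = (a * b * c) * c := by ring
      _ = c := by rw [habc, one_mul]
  have hbc : b * c = a := by
    calc b * c = a ^ 2 * (b * c) := by rw [ha, one_mul]
      _ = a * (a * b * c) := by ring
      _ = a := by rw [habc, mul_one]
  have hca : c * a = b := by
    calc c * a = b ^ 2 * (c * a) := by rw [hb, one_mul]
      _ = b * (a * b * c) := by ring
      _ = b := by rw [habc, mul_one]
  calc (a + b + c) ^ 2 = a ^ 2 + b ^ 2 + c ^ 2 + 2 * (a * b + b * c + c * a) := by ring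
    _ = 3 + 2 * (a + b + c) := by rw [ha, hb, hc, hab, hbc, hca]; ring

include hS in
open scoped Classical in
theorem orbit_sum_sq_of_involution (hm : Fintype.card Γ = Nat.card S * 3)
    {ψ : A →* ℂˣ} (hψ : ψ ≠ 1) {x : A} (hx : x * x = 1) :
    (∑ᶠ ψ' ∈ {ψ' : A →* ℂˣ | ∃ n : Γ, ∀ y : A, ψ' (n • y) = ψ y}, ((ψ' x : ℂˣ) : ℂ)) ^ 2 =
      3 + 2 * ∑ᶠ ψ' ∈ {ψ' : A →* ℂˣ | ∃ n : Γ, ∀ y : A, ψ' (n • y) = ψ y},
        ((ψ' x : ℂˣ) : ℂ) := by
  have := Fintype.ofFinite (A →* ℂˣ)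
  have hSpos : 0 < Nat.card S := Nat.card_pos
  obtain ⟨O, hO⟩ : ∃ O : Finset (A →* ℂˣ),
      O = Finset.univ.filter (fun ψ' : A →* ℂˣ => dualRel Γ ψ ψ') := ⟨_, rfl⟩
  have hsum : ∀ f : (A →* ℂˣ) → ℂ,
      ∑ᶠ ψ' ∈ {ψ' : A →* ℂˣ | ∃ n : Γ, ∀ y : A, ψ' (n • y) = ψ y}, f ψ' = ∑ ψ' ∈ O, f ψ' := by
    intro f
    rw [finsum_mem_eq_sum_filter_of_fintype, hO]
    apply Finset.sum_congr _ (fun _ _ => rfl)
    ext ψ'
    simp only [Finset.mem_filter, Finset.mem_univ, true_and, Set.mem_ofPred_eq]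
    rfl
  rw [hsum]
  have hcard : O.card = 3 := by
    have h := card_dualRel_class S hS hψ
    rw [← hO, hm, mul_comm] at h
    exact Nat.eq_of_mul_eq_mul_left hSpos h
  obtain ⟨α, β, γ, hαβ, hαγ, hβγ, hOeq⟩ := Finset.card_eq_three.mp hcard
  have hmemO : ∀ ψ', ψ' ∈ O ↔ dualRel Γ ψ ψ' := by
    intro ψ'
    rw [hO]
    simp
  -- the product over the orbit is invariant, hence trivial
  have hclosed : ∀ (n : Γ) ψ', ψ' ∈ O → dualTwist n ψ' ∈ O := by
    intro n ψ' h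
    rw [hmemO] at h ⊢
    exact dualRel_trans h ((dualRel_iff _ _).mpr ⟨n⁻¹, dualTwist_inv_cancel n ψ'⟩)
  have hprodinv : ∀ n : Γ, dualTwist n (∏ ψ' ∈ O, ψ') = ∏ ψ' ∈ O, ψ' := by
    intro n
    have h1 : dualTwist n (∏ ψ' ∈ O, ψ') = ∏ ψ' ∈ O, dualTwist n ψ' := by
      ext y
      rw [dualTwist_apply, MonoidHom.finsetProd_apply, MonoidHom.finsetProd_apply]
      simp only [dualTwist_apply]
    rw [h1]
    apply Finset.prod_nbij' (fun ψ' => dualTwist n ψ') (fun ψ' => dualTwist n⁻¹ ψ')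
    · intro ψ' h
      exact hclosed n ψ' h
    · intro ψ' h
      exact hclosed n⁻¹ ψ' h
    · intro ψ' _
      exact dualTwist_inv_cancel n ψ'
    · intro ψ' _
      exact dualTwist_cancel_inv n ψ'
    · intro ψ' _
      rfl
  have hprod1 : ∏ ψ' ∈ O, ψ' = 1 := by
    by_contra hne
    -- an element outside `S`
    have hex : ∃ n : Γ, n ∉ S := by
      by_contra hall
      push Not at hall
      have h1 : Nat.card S = Fintype.card Γ := by
        rw [← Nat.card_eq_fintype_card]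
        exact Nat.card_congr ⟨fun s => s.1, fun n => ⟨n, hall n⟩, fun _ => rfl, fun _ => rfl⟩
      rw [hm] at h1
      omega
    obtain ⟨n, hn⟩ := hex
    exact hn ((dualTwist_eq_self_iff S hS hne n).mp (hprodinv n))
  have hsq : ∀ ψ' : A →* ℂˣ, ((ψ' x : ℂˣ) : ℂ) ^ 2 = 1 := by
    intro ψ'
    rw [pow_two, ← Units.val_mul, ← map_mul, hx, map_one, Units.val_one]
  have habc : ((α x : ℂˣ) : ℂ) * ((β x : ℂˣ) : ℂ) * ((γ x : ℂˣ) : ℂ) = 1 := by
    have h1 : (∏ ψ' ∈ O, ψ') x = 1 := by rw [hprod1, MonoidHom.one_apply]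
    rw [hOeq, Finset.prod_insert (by simp [hαβ, hαγ]), Finset.prod_insert (by simp [hβγ]),
      Finset.prod_singleton, MonoidHom.mul_apply, MonoidHom.mul_apply] at h1
    have h2 := congrArg (fun u : ℂˣ => (u : ℂ)) h1
    simp only [Units.val_mul, Units.val_one] at h2
    rw [← h2]
    ring
  rw [hOeq, Finset.sum_insert (by simp [hαβ, hαγ]), Finset.sum_insert (by simp [hβγ]),
    Finset.sum_singleton]
  have := sq_sum_three_of_sq_eq_one (hsq α) (hsq β) (hsq γ) habc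
  rw [← add_assoc]
  exact this

end OrbitSum

end Cfsg.Agent.Lib.Helper78
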