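import Mathlib
import Cfsg.Agent.S4709
import Cfsg.Agent.Lib.Helper78.InvolKernel
import Cfsg.Agent.Lib.Helper78.OrbitSumInvolution
import Cfsg.Agent.Lib.Helper78.BrauerThreeArith

set_option autoImplicit false
open Cfsg

/-!
# Brauer's theorem for inertial index three: normalized exceptional character data (helper78)
-/

namespace Cfsg.Agent.Lib.Helper78

open scoped ComplexConjugate

open scoped Classical in
/-- The normalized form (`d = 0`) of the exceptional character data for inertial index three. -/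
structure Normalized0 {G : Type*} [Group G] [Finite G] (p : ℕ) [Fact p.Prime]
    (M : Ideal Cfsg.AlgInt) (P : Sylow p G) (δ : ℤ)
    (ζ : (↥(P : Subgroup G) →* ℂˣ) → IrrCharacter G) (a : IrrCharacter G → ℤ)
    (Y : Finset (IrrCharacter G)) : Prop where
  hδ : δ = 1 ∨ δ = -1
  hYB : ∀ η ∈ Y, η ∈ principalBlock M G
  hζY : ∀ ψ : ↥(P : Subgroup G) →* ℂˣ, ψ ≠ 1 → ζ ψ ∈ Y
  hYsurj : ∀ η ∈ Y, ∃ ψ : ↥(P : Subgroup G) →* ℂˣ, ψ ≠ 1 ∧ ζ ψ = η
  hζR : ∀ ψ ψ' : ↥(P : Subgroup G) →* ℂˣ, ψ ≠ 1 →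
    (∃ n : Subgroup.normalizer ((P : Subgroup G) : Set G),
      ∀ y : ↥(P : Subgroup G), ψ' (n • y) = ψ y) → ζ ψ' = ζ ψ
  hYcard : Y.card * 3 = Nat.card P - 1
  htriv : ∀ χ : IrrCharacter G, (χ : G → ℂ) = (fun _ => 1) → χ ∉ Y
  hatriv : ∀ χ : IrrCharacter G, (χ : G → ℂ) = (fun _ => 1) → a χ = 1
  haout : ∀ χ : IrrCharacter G, χ ∉ principalBlock M G → a χ = 0
  hX : ∀ χ ∈ principalBlock M G, χ ∉ Y → ∀ y : ↥(P : Subgroup G), y ≠ 1 →
    (χ : G → ℂ) y = (a χ : ℂ)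
  hval : ∀ ψ : ↥(P : Subgroup G) →* ℂˣ, ψ ≠ 1 → ∀ y : ↥(P : Subgroup G), y ≠ 1 →
    (ζ ψ : G → ℂ) y = (δ : ℂ) *
      ∑ᶠ ψ' ∈ {ψ' : ↥(P : Subgroup G) →* ℂˣ |
        ∃ n : Subgroup.normalizer ((P : Subgroup G) : Set G),
          ∀ y : ↥(P : Subgroup G), ψ' (n • y) = ψ y}, ((ψ' y : ℂˣ) : ℂ)
  hS3 : ∑ χ ∈ Finset.univ.filter (· ∉ Y), a χ ^ 2 = 3
  hsumY : ∀ y : ↥(P : Subgroup G), y ≠ 1 → ∑ η ∈ Y, (η : G → ℂ) y = -(δ : ℂ)
  hreg : ∀ g : G, ¬ p ∣ orderOf g →
    (∀ η ∈ Y, ∀ η' ∈ Y, (η : G → ℂ) g = (η' : G → ℂ) g) ∧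
    ∀ η ∈ Y, ∑ χ ∈ Finset.univ.filter (· ∉ Y), (a χ : ℂ) * (χ : G → ℂ) g =
      (δ : ℂ) * (η : G → ℂ) g

theorem ten_ne_prime_pow {p n : ℕ} (hp : p.Prime) : p ^ n ≠ 10 := by
  intro h
  have h2 : 2 ∣ p ^ n := by rw [h]; norm_num
  have h5 : 5 ∣ p ^ n := by rw [h]; norm_num
  have h2' := (Nat.prime_dvd_prime_iff_eq Nat.prime_two hp).mp (Nat.prime_two.dvd_of_dvd_pow h2)
  have h5' := (Nat.prime_dvd_prime_iff_eq Nat.prime_five hp).mp (Nat.prime_five.dvd_of_dvd_pow h5)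
  omega

open scoped Classical in
theorem normalized0 {G : Type*} [Group G] [Finite G] (p : ℕ) [Fact p.Prime] (M : Ideal Cfsg.AlgInt)
    (hM : Cfsg.IsPModular p M) (P : Sylow p G) [hab : IsMulCommutative P]
    (hm2 : 3 + 1 < Nat.card P)
    (hCN : (Subgroup.centralizer ((P : Subgroup G) : Set G)).relIndex
      (Subgroup.normalizer ((P : Subgroup G) : Set G)) = 3)
    (hfrob : ∀ y : G, y ∈ (P : Subgroup G) → y ≠ 1 →
      Subgroup.centralizer ({y} : Set G) ⊓ Subgroup.normalizer ((P : Subgroup G) : Set G) =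
        Subgroup.centralizer ((P : Subgroup G) : Set G)) :
    ∃ (δ : ℤ) (ζ : (↥(P : Subgroup G) →* ℂˣ) → IrrCharacter G) (a : IrrCharacter G → ℤ)
      (Y : Finset (IrrCharacter G)), Normalized0 p M P δ ζ a Y := by
  have hp : p.Prime := Fact.out
  obtain ⟨δ, d, ζ, a, Y, hδ, hYB, hζY, hYsurj, hζR, hYcard, htriv, haout, hX, hval, hnorm,
    hreg⟩ := Cfsg.Agent.S4709.main_aux p M hM P 3 hm2 hCN hfrob
  have hnorm4 : (d - δ) ^ 2 + ((Y.card : ℤ) - 1) * d ^ 2 +
      ∑ χ ∈ Finset.univ.filter (· ∉ Y), a χ ^ 2 = 4 := by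
    rw [hnorm]
    norm_num
  -- the principal character
  obtain ⟨triv, htrivdef⟩ : ∃ triv : IrrCharacter G,
      triv = ⟨fun _ => 1, Cfsg.Agent.Lib.Helper80.isIrrCharacter_one⟩ := ⟨_, rfl⟩
  have htrivB : triv ∈ principalBlock M G := by
    rw [htrivdef]
    exact Cfsg.Agent.Lib.Helper74.one_mem_principalBlock hM G
  have htrivfun : (triv : G → ℂ) = fun _ => 1 := by rw [htrivdef]
  have htrivY : triv ∉ Y := htriv triv htrivfun
  have heqtriv : ∀ χ : IrrCharacter G, (χ : G → ℂ) = (fun _ => 1) → χ = triv := by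
    intro χ hχ
    apply Subtype.ext
    rw [hχ, htrivfun]
  -- a nontrivial element of `P`
  obtain ⟨y₀, hy₀⟩ : ∃ y₀ : ↥(P : Subgroup G), y₀ ≠ 1 := by
    have hfinP : Fintype ↥(P : Subgroup G) := Fintype.ofFinite _
    by_contra hc
    push Not at hc
    have h1 : Nat.card ↥(P : Subgroup G) ≤ 1 := by
      rw [Nat.card_eq_fintype_card]
      exact Fintype.card_le_one_iff.mpr (fun a b => by rw [hc a, hc b])
    have h2 : Nat.card ↥(P : Subgroup G) = Nat.card P := rfl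
    omega
  have hatriv : a triv = 1 := by
    have h1 := hX triv htrivB htrivY y₀ hy₀
    rw [htrivfun] at h1
    have h2 : (1 : ℂ) = (a triv : ℂ) := h1
    exact_mod_cast h2.symm
  have hS1 : 1 ≤ ∑ χ ∈ Finset.univ.filter (· ∉ Y), a χ ^ 2 := by
    have h1 : a triv ^ 2 ≤ ∑ χ ∈ Finset.univ.filter (· ∉ Y), a χ ^ 2 :=
      Finset.single_le_sum (f := fun χ => a χ ^ 2) (fun χ _ => sq_nonneg _)
        (by simp [htrivY])
    rw [hatriv] at h1
    linarith
  have hY2 : 2 ≤ Y.card := by omega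
  obtain ⟨η₀, hη₀⟩ : ∃ η₀, η₀ ∈ Y := by
    apply Finset.card_pos.mp
    omega
  have hone : ¬ p ∣ orderOf (1 : G) := by
    rw [orderOf_one]
    exact hp.one_lt.ne' ∘ Nat.dvd_one.mp
  have hdeg0 : (η₀ : G → ℂ) 1 ≠ 0 := by
    rw [IsCharacter.apply_one_eq_charDegree (IsIrrCharacter.isCharacter η₀.2)]
    exact_mod_cast (IsIrrCharacter.charDegree_pos η₀.2).ne'
  -- the sum of the exceptional characters at `y`
  have hsumY : ∀ y : ↥(P : Subgroup G), y ≠ 1 →
      ∑ η ∈ Y, (η : G → ℂ) y = (Y.card : ℂ) * (d : ℂ) - (δ : ℂ) := by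
    intro y hy
    have hy1 : (y : G) ≠ 1 := fun h => hy (Subtype.ext h)
    have h1 := sum_principalBlock_mul_pRegular hM P y.2 hy1 hone
    have h2 := (hreg 1 hone).2 η₀ hη₀
    have h3 : ∑ χ ∈ Finset.univ.filter (fun χ : IrrCharacter G => χ ∈ principalBlock M G),
        (χ : G → ℂ) y * (χ : G → ℂ) 1 =
        (∑ η ∈ Y, (η : G → ℂ) y) * (η₀ : G → ℂ) 1 +
          ∑ χ ∈ Finset.univ.filter (· ∉ Y), (a χ : ℂ) * (χ : G → ℂ) 1 := by
      rw [Finset.sum_filter, ← Finset.sum_filter_add_sum_filter_not Finset.univ (· ∈ Y)]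
      congr 1
      · rw [Finset.filter_mem_eq_inter, Finset.univ_inter, Finset.sum_mul]
        apply Finset.sum_congr rfl
        intro η hη
        rw [if_pos (hYB η hη), (hreg 1 hone).1 η hη η₀ hη₀]
      · apply Finset.sum_congr rfl
        intro χ hχ
        have hχY : χ ∉ Y := (Finset.mem_filter.mp hχ).2
        by_cases hχB : χ ∈ principalBlock M G
        · rw [if_pos hχB, hX χ hχB hχY y hy]
        · rw [if_neg hχB, haout χ hχB]
          simp
    rw [h3] at h1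
    have h4 : (∑ η ∈ Y, (η : G → ℂ) y - ((Y.card : ℂ) * (d : ℂ) - (δ : ℂ))) *
        (η₀ : G → ℂ) 1 = 0 := by
      linear_combination h1 - h2
    rcases mul_eq_zero.mp h4 with h5 | h5
    · exact sub_eq_zero.mp h5
    · exact absurd h5 hdeg0
  rcases norm_eq_cases_three hδ hY2 hS1 hnorm4 with ⟨hd, hS⟩ | ⟨hd, hS⟩
  · -- `d = 0`
    refine ⟨δ, ζ, a, Y, hδ, hYB, hζY, hYsurj, hζR, hYcard, htriv, ?_, haout, hX, ?_, hS, ?_, ?_⟩
    · intro χ hχ
      rw [heqtriv χ hχ]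
      exact hatriv
    · intro ψ hψ y hy
      rw [hval ψ hψ y hy, hd]
      push_cast
      ring
    · intro y hy
      rw [hsumY y hy, hd]
      push_cast
      ring
    · intro g hg
      refine ⟨(hreg g hg).1, ?_⟩
      intro η hη
      have h1 := (hreg g hg).2 η hη
      rw [hd] at h1
      push_cast at h1
      linear_combination h1
  · -- `d = δ`
    have hYc : Y.card = 2 ∨ Y.card = 3 ∨ Y.card = 4 := by omega
    rcases hYc with hY | hY | hY
    · -- relabel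
      have hS3 : ∑ χ ∈ Finset.univ.filter (· ∉ Y), a χ ^ 2 = 3 := by
        rw [hY] at hS
        push_cast at hS
        linarith
      obtain ⟨ηa, ηb, hab', hYeq⟩ := Finset.card_eq_two.mp hY
      obtain ⟨sw, hsw⟩ : ∃ sw : IrrCharacter G → IrrCharacter G,
          sw = fun χ => if χ = ηa then ηb else ηa := ⟨_, rfl⟩
      have hswa : sw ηa = ηb := by rw [hsw]; simp
      have hswb : sw ηb = ηa := by rw [hsw]; simp [hab'.symm]
      have hswY : ∀ χ, sw χ ∈ Y := by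
        intro χ
        rw [hsw, hYeq]
        simp only
        split_ifs <;> simp
      have hsumab : ∀ y : ↥(P : Subgroup G), y ≠ 1 →
          (ηa : G → ℂ) y + (ηb : G → ℂ) y = (δ : ℂ) := by
        intro y hy
        have h1 := hsumY y hy
        rw [hYeq, Finset.sum_pair hab', hd] at h1
        rw [h1]
        simp only [Finset.card_pair hab']
        push_cast
        ring
      refine ⟨-δ, fun ψ => sw (ζ ψ), a, Y, ?_, hYB, fun ψ _ => hswY _, ?_, ?_, hYcard, htriv, ?_,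
        haout, hX, ?_, hS3, ?_, ?_⟩
      · rcases hδ with h | h <;> rw [h] <;> norm_num
      · intro η hη
        rw [hYeq] at hη
        rcases Finset.mem_insert.mp hη with h | h
        · obtain ⟨ψ, hψ, hζψ⟩ := hYsurj ηb (by rw [hYeq]; simp)
          exact ⟨ψ, hψ, by rw [hζψ, hswb, h]⟩
        · rw [Finset.mem_singleton] at h
          obtain ⟨ψ, hψ, hζψ⟩ := hYsurj ηa (by rw [hYeq]; simp)
          exact ⟨ψ, hψ, by rw [hζψ, hswa, h]⟩
      · intro ψ ψ' hψ hn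
        show sw (ζ ψ') = sw (ζ ψ)
        rw [hζR ψ ψ' hψ hn]
      · intro χ hχ
        rw [heqtriv χ hχ]
        exact hatriv
      · intro ψ hψ y hy
        have h1 := hval ψ hψ y hy
        have h2 := hζY ψ hψ
        have h3 := hsumab y hy
        rw [hd] at h1
        rw [hYeq] at h2
        show (sw (ζ ψ) : G → ℂ) y = _
        rcases Finset.mem_insert.mp h2 with h | h
        · rw [h, hswa]
          rw [h] at h1
          push_cast
          linear_combination h3 - h1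
        · rw [Finset.mem_singleton] at h
          rw [h, hswb]
          rw [h] at h1
          push_cast
          linear_combination h3 - h1
      · intro y hy
        rw [hsumY y hy, hd, hY]
        push_cast
        ring
      · intro g hg
        refine ⟨(hreg g hg).1, ?_⟩
        intro η hη
        have h1 := (hreg g hg).2 η hη
        rw [hd, hY] at h1
        push_cast at h1 ⊢
        linear_combination h1
    · -- `|P| = 10`
      exfalso
      obtain ⟨n, hn⟩ := IsPGroup.iff_card.mp P.isPGroup'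
      have h2 : Nat.card ↥(P : Subgroup G) = Nat.card P := rfl
      apply ten_ne_prime_pow (n := n) hp
      omega
    · -- `|P| = 13`
      exfalso
      have hS1' : ∑ χ ∈ Finset.univ.filter (· ∉ Y), a χ ^ 2 = 1 := by
        rw [hY] at hS
        push_cast at hS
        linarith
      have htrivT : triv ∈ Finset.univ.filter (· ∉ Y) := by simp [htrivY]
      have hrest : ∑ χ ∈ (Finset.univ.filter (· ∉ Y)).erase triv, a χ ^ 2 = 0 := by
        have h1 := Finset.add_sum_erase (Finset.univ.filter (· ∉ Y)) (fun χ => a χ ^ 2) htrivT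
        rw [hatriv, hS1'] at h1
        linarith
      have hzero : ∀ χ ∈ (Finset.univ.filter (· ∉ Y)).erase triv, a χ = 0 := by
        intro χ hχ
        have h1 := (Finset.sum_eq_zero_iff_of_nonneg (fun χ _ => sq_nonneg (a χ))).mp hrest χ hχ
        exact pow_eq_zero_iff (by norm_num) |>.mp h1
      have h2 := (hreg 1 hone).2 η₀ hη₀
      rw [← Finset.add_sum_erase (Finset.univ.filter (· ∉ Y)) _ htrivT,
        Finset.sum_eq_zero (fun χ hχ => by rw [hzero χ hχ]; simp), hatriv, htrivfun, hd, hY,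
        IsCharacter.apply_one_eq_charDegree (IsIrrCharacter.isCharacter η₀.2)] at h2
      have h3 : (4 * δ - δ) * (charDegree (η₀ : G → ℂ) : ℤ) + 1 = 0 := by
        have : (((4 * δ - δ) * (charDegree (η₀ : G → ℂ) : ℤ) + 1 : ℤ) : ℂ) = 0 := by
          push_cast
          linear_combination h2
        exact_mod_cast this
      rcases hδ with h | h <;> rw [h] at h3 <;> omega

open scoped Classical in
/-- The two nonprincipal nonexceptional characters. -/
structure ThreeSplit {G : Type*} [Group G] [Finite G]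
    (M : Ideal Cfsg.AlgInt) (a : IrrCharacter G → ℤ)
    (Y : Finset (IrrCharacter G)) (χ₂ χ₃ : IrrCharacter G) : Prop where
  h2B : χ₂ ∈ principalBlock M G
  h3B : χ₃ ∈ principalBlock M G
  h2Y : χ₂ ∉ Y
  h3Y : χ₃ ∉ Y
  h23 : χ₂ ≠ χ₃
  h2t : (χ₂ : G → ℂ) ≠ (fun _ => 1)
  h3t : (χ₃ : G → ℂ) ≠ (fun _ => 1)
  hall : ∀ χ ∈ principalBlock M G, χ ∉ Y → (χ : G → ℂ) = (fun _ => 1) ∨ χ = χ₂ ∨ χ = χ₃
  ha2 : a χ₂ = 1 ∨ a χ₂ = -1
  ha3 : a χ₃ = 1 ∨ a χ₃ = -1
  hsplit : ∀ f : IrrCharacter G → ℂ, (∀ χ, χ ∉ principalBlock M G → f χ = 0) →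
    ∑ χ ∈ Finset.univ.filter (· ∉ Y), f χ =
      f ⟨fun _ => 1, Cfsg.Agent.Lib.Helper80.isIrrCharacter_one⟩ + f χ₂ + f χ₃

open scoped Classical in
theorem threeSplit {G : Type*} [Group G] [Finite G] (p : ℕ) [Fact p.Prime] (M : Ideal Cfsg.AlgInt)
    (hM : Cfsg.IsPModular p M) (P : Sylow p G) [hab : IsMulCommutative P]
    (hm2 : 3 + 1 < Nat.card P)
    {δ : ℤ} {ζ : (↥(P : Subgroup G) →* ℂˣ) → IrrCharacter G} {a : IrrCharacter G → ℤ}
    {Y : Finset (IrrCharacter G)} (hN : Normalized0 p M P δ ζ a Y) :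
    ∃ χ₂ χ₃ : IrrCharacter G, ThreeSplit M a Y χ₂ χ₃ := by
  obtain ⟨triv, htrivdef⟩ : ∃ triv : IrrCharacter G,
      triv = ⟨fun _ => 1, Cfsg.Agent.Lib.Helper80.isIrrCharacter_one⟩ := ⟨_, rfl⟩
  have htrivB : triv ∈ principalBlock M G := by
    rw [htrivdef]
    exact Cfsg.Agent.Lib.Helper74.one_mem_principalBlock hM G
  have htrivfun : (triv : G → ℂ) = fun _ => 1 := by rw [htrivdef]
  have htrivY : triv ∉ Y := hN.htriv triv htrivfun
  have heqtriv : ∀ χ : IrrCharacter G, (χ : G → ℂ) = (fun _ => 1) → χ = triv := by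
    intro χ hχ
    apply Subtype.ext
    rw [hχ, htrivfun]
  have hatriv : a triv = 1 := hN.hatriv triv htrivfun
  -- a nontrivial element of `P`
  obtain ⟨y₀, hy₀⟩ : ∃ y₀ : ↥(P : Subgroup G), y₀ ≠ 1 := by
    have hfinP : Fintype ↥(P : Subgroup G) := Fintype.ofFinite _
    by_contra hc
    push Not at hc
    have h1 : Nat.card ↥(P : Subgroup G) ≤ 1 := by
      rw [Nat.card_eq_fintype_card]
      exact Fintype.card_le_one_iff.mpr (fun a b => by rw [hc a, hc b])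
    have h2 : Nat.card ↥(P : Subgroup G) = Nat.card P := rfl
    omega
  have haX : ∀ χ ∈ principalBlock M G, χ ∉ Y → a χ ≠ 0 := by
    intro χ hχ hχY h0
    have h1 := hN.hX χ hχ hχY y₀ hy₀
    rw [h0] at h1
    exact principalBlock_apply_ne_zero hM P hχ y₀.2 (by simpa using h1)
  -- the set `X'`
  obtain ⟨X'', hX''⟩ : ∃ X'' : Finset (IrrCharacter G),
      X'' = Finset.univ.filter (fun χ => χ ∈ principalBlock M G ∧ χ ∉ Y) := ⟨_, rfl⟩
  obtain ⟨X', hX'⟩ : ∃ X' : Finset (IrrCharacter G), X' = X''.erase triv := ⟨_, rfl⟩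
  have htrivX'' : triv ∈ X'' := by
    rw [hX'']
    simp [htrivB, htrivY]
  have hmemX' : ∀ χ, χ ∈ X' ↔ χ ≠ triv ∧ χ ∈ principalBlock M G ∧ χ ∉ Y := by
    intro χ
    rw [hX', hX'']
    simp
  have hsplit0 : ∀ {N : Type} [AddCommMonoid N] (f : IrrCharacter G → N),
      (∀ χ, χ ∉ principalBlock M G → f χ = 0) →
      ∑ χ ∈ Finset.univ.filter (· ∉ Y), f χ = f triv + ∑ χ ∈ X', f χ := by
    intro N _ f hf
    rw [hX', Finset.add_sum_erase X'' f htrivX'', hX'']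
    symm
    apply Finset.sum_subset
    · intro χ hχ
      simp only [Finset.mem_filter, Finset.mem_univ, true_and] at hχ ⊢
      exact hχ.2
    · intro χ hχ hχ'
      simp only [Finset.mem_filter, Finset.mem_univ, true_and] at hχ hχ'
      apply hf
      intro hB
      exact hχ' ⟨hB, hχ⟩
  have hsq2 : ∑ χ ∈ X', a χ ^ 2 = 2 := by
    have h1 := hsplit0 (fun χ => a χ ^ 2) (fun χ hχ => by
      show a χ ^ 2 = 0
      rw [hN.haout χ hχ]
      norm_num)
    rw [hN.hS3, hatriv] at h1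
    linarith
  have hge1 : ∀ χ ∈ X', 1 ≤ a χ ^ 2 := by
    intro χ hχ
    have h1 := (hmemX' χ).mp hχ
    rw [one_le_sq_iff_one_le_abs]
    exact Int.one_le_abs (haX χ h1.2.1 h1.2.2)
  have hcardle : (X'.card : ℤ) ≤ 2 := by
    have h1 : ∑ χ ∈ X', (1 : ℤ) ≤ ∑ χ ∈ X', a χ ^ 2 := Finset.sum_le_sum hge1
    rw [Finset.sum_const, nsmul_eq_mul, mul_one] at h1
    linarith
  have hcard2 : X'.card = 2 := by
    have h0 : X'.card ≤ 2 := by exact_mod_cast hcardle
    have h1 : X'.card = 0 ∨ X'.card = 1 ∨ X'.card = 2 := by omega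
    rcases h1 with h | h | h
    · exfalso
      rw [Finset.card_eq_zero] at h
      rw [h, Finset.sum_empty] at hsq2
      norm_num at hsq2
    · exfalso
      obtain ⟨χ, hχ⟩ := Finset.card_eq_one.mp h
      rw [hχ, Finset.sum_singleton] at hsq2
      have h3 : a χ ≤ 1 ∧ -1 ≤ a χ := by constructor <;> nlinarith
      obtain ⟨h4, h5⟩ := h3
      have h6 : a χ = -1 ∨ a χ = 0 ∨ a χ = 1 := by omega
      rcases h6 with h6 | h6 | h6 <;> rw [h6] at hsq2 <;> norm_num at hsq2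
    · exact h
  obtain ⟨χ₂, χ₃, h23, hXeq⟩ := Finset.card_eq_two.mp hcard2
  have h2X : χ₂ ∈ X' := by rw [hXeq]; simp
  have h3X : χ₃ ∈ X' := by rw [hXeq]; simp
  have h2 := (hmemX' χ₂).mp h2X
  have h3 := (hmemX' χ₃).mp h3X
  have hsq : a χ₂ ^ 2 + a χ₃ ^ 2 = 2 := by
    rw [hXeq, Finset.sum_pair h23] at hsq2
    exact hsq2
  have hpm : ∀ x : ℤ, x ^ 2 = 1 → x = 1 ∨ x = -1 := by
    intro x hx
    have h3 : x ≤ 1 ∧ -1 ≤ x := by constructor <;> nlinarith
    obtain ⟨h4, h5⟩ := h3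
    have h6 : x = -1 ∨ x = 0 ∨ x = 1 := by omega
    rcases h6 with h6 | h6 | h6
    · exact Or.inr h6
    · rw [h6] at hx
      norm_num at hx
    · exact Or.inl h6
  have ha2sq : a χ₂ ^ 2 = 1 := by
    have := hge1 χ₂ h2X
    have := hge1 χ₃ h3X
    linarith
  have ha3sq : a χ₃ ^ 2 = 1 := by linarith
  refine ⟨χ₂, χ₃, h2.2.1, h3.2.1, h2.2.2, h3.2.2, h23, ?_, ?_, ?_, hpm _ ha2sq, hpm _ ha3sq, ?_⟩
  · intro h
    exact h2.1 (heqtriv χ₂ h)
  · intro h
    exact h3.1 (heqtriv χ₃ h)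
  · intro χ hχB hχY
    by_cases hχt : χ = triv
    · left
      rw [hχt, htrivfun]
    · right
      have h1 : χ ∈ X' := (hmemX' χ).mpr ⟨hχt, hχB, hχY⟩
      rw [hXeq] at h1
      simpa using h1
  · intro f hf
    rw [hsplit0 f hf, hXeq, Finset.sum_pair h23, ← htrivdef]
    ring

open scoped Classical in
theorem rel_at {G : Type*} [Group G] [Finite G] {p : ℕ} [Fact p.Prime] {M : Ideal Cfsg.AlgInt}
    {P : Sylow p G}
    {δ : ℤ} {ζ : (↥(P : Subgroup G) →* ℂˣ) → IrrCharacter G} {a : IrrCharacter G → ℤ}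
    {Y : Finset (IrrCharacter G)} (hN : Normalized0 p M P δ ζ a Y)
    {χ₂ χ₃ : IrrCharacter G} (hT : ThreeSplit M a Y χ₂ χ₃)
    {g : G} (hg : ¬ p ∣ orderOf g) {η : IrrCharacter G} (hη : η ∈ Y) :
    1 + (a χ₂ : ℂ) * (χ₂ : G → ℂ) g + (a χ₃ : ℂ) * (χ₃ : G → ℂ) g = (δ : ℂ) * (η : G → ℂ) g := by
  have h1 := (hN.hreg g hg).2 η hη
  rw [hT.hsplit (fun χ => (a χ : ℂ) * (χ : G → ℂ) g) (fun χ hχ => by
    show (a χ : ℂ) * (χ : G → ℂ) g = 0
    rw [hN.haout χ hχ]
    simp), hN.hatriv _ rfl] at h1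
  rw [← h1]
  push_cast
  ring

open scoped Classical in
theorem sum_block_split {G : Type*} [Group G] [Finite G] {p : ℕ} [Fact p.Prime]
    {M : Ideal Cfsg.AlgInt} (hM : Cfsg.IsPModular p M) {P : Sylow p G}
    {δ : ℤ} {ζ : (↥(P : Subgroup G) →* ℂˣ) → IrrCharacter G} {a : IrrCharacter G → ℤ}
    {Y : Finset (IrrCharacter G)} (hN : Normalized0 p M P δ ζ a Y)
    {χ₂ χ₃ : IrrCharacter G} (hT : ThreeSplit M a Y χ₂ χ₃) (F : IrrCharacter G → ℂ) :
    ∑ χ ∈ Finset.univ.filter (fun χ : IrrCharacter G => χ ∈ principalBlock M G), F χ =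
      ∑ η ∈ Y, F η + F ⟨fun _ => 1, Cfsg.Agent.Lib.Helper80.isIrrCharacter_one⟩ + F χ₂ + F χ₃ := by
  rw [Finset.sum_filter, ← Finset.sum_filter_add_sum_filter_not Finset.univ (· ∈ Y),
    Finset.filter_mem_eq_inter, Finset.univ_inter,
    hT.hsplit (fun χ => if χ ∈ principalBlock M G then F χ else 0) (fun χ hχ => if_neg hχ),
    if_pos hT.h2B, if_pos hT.h3B,
    if_pos (Cfsg.Agent.Lib.Helper74.one_mem_principalBlock hM G),
    Finset.sum_congr rfl (fun η hη => if_pos (hN.hYB η hη))]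
  ring

end Cfsg.Agent.Lib.Helper78
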