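import Mathlib
import Cfsg.Agent.Lib.Helper78.GagQuot

/-!
# Project GAG (helper76), module GAG-[ISO] (helper78): `Z(H) ≅ Z(H₁)` and `H ↪ H₁`
-/

set_option autoImplicit false

namespace Cfsg.Agent.Lib.Helper76.Gag

open scoped commutatorElement IsMulCommutative
open Cfsg.Agent.Lib.Helper3.Wreath

universe u

section level2

variable (p : ℕ) [Fact p.Prime] {K : Type u} [Group K] (s : K →* Cp p) (c : Subgroup.center K)

theorem jHom_mulSingle (k : Cp p) (t : Subgroup.center K) :
    jHom p (Pi.mulSingle k t) = (base (Pi.mulSingle k (t : K)) : K ≀ᵣ Cp p) := by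
  ext j
  · show ((Pi.mulSingle k t : Cp p → Subgroup.center K) j : K) =
      (Pi.mulSingle k (t : K) : Cp p → K) j
    by_cases hj : j = k
    · subst hj
      rw [Pi.mulSingle_eq_same, Pi.mulSingle_eq_same]
    · rw [Pi.mulSingle_eq_of_ne hj, Pi.mulSingle_eq_of_ne hj]
      rfl
  · rfl

theorem PhiFun_mulSingle_one (t : Subgroup.center K) :
    PhiFun p s c (Pi.mulSingle (1 : Cp p) t) = t := by
  rw [PhiFun_mulSingle]
  have : Multiplicative.toAdd (1 : Cp p) = 0 := rfl
  rw [this, zero_mul, cpow_zero, mul_one]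

/-- the embedding `x ↦ [base (δ₁ (ι x))]` -/
def embH (h : StepHyp p s c) {H : Type u} [Group H] (ι : H →* K) : H →* H1 p s c h :=
  (QuotientGroup.mk' (Rsub p s c h)).comp
    ((base : (Cp p → K) →* K ≀ᵣ Cp p).comp
      ((MonoidHom.mulSingle (fun _ : Cp p => K) (1 : Cp p)).comp ι))

theorem embH_apply (h : StepHyp p s c) {H : Type u} [Group H] (ι : H →* K) (x : H) :
    embH p s c h ι x =
      (QuotientGroup.mk (base (Pi.mulSingle (1 : Cp p) (ι x)) : K ≀ᵣ Cp p) : H1 p s c h) := rfl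

theorem embH_injective (h : StepHyp p s c) {H : Type u} [Group H] (ι : H →* K)
    (hι : EmbHyp p s ι) : Function.Injective (embH p s c h ι) := by
  rw [injective_iff_map_eq_one]
  intro x hx
  rw [embH_apply] at hx
  have h1 : (base (Pi.mulSingle (1 : Cp p) (ι x)) : K ≀ᵣ Cp p) ∈ Rsub p s c h :=
    (QuotientGroup.eq_one_iff _).mp hx
  obtain ⟨f, hf1, hf2⟩ := h1
  have hfk : ∀ k : Cp p, (f k : K) = (Pi.mulSingle (1 : Cp p) (ι x) : Cp p → K) k := by
    intro k
    have := congrArg (fun w : K ≀ᵣ Cp p => w.left k) hf2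
    simpa using this
  have hf : f = Pi.mulSingle (1 : Cp p) (f 1) := by
    funext k
    apply Subtype.ext
    by_cases hk : k = 1
    · subst hk
      rw [Pi.mulSingle_eq_same]
    · rw [Pi.mulSingle_eq_of_ne hk, hfk k, Pi.mulSingle_eq_of_ne hk]
      rfl
  rw [hf, PhiFun_mulSingle_one] at hf1
  have h2 : ι x = 1 := by
    have := hfk 1
    rw [Pi.mulSingle_eq_same] at this
    rw [← this, hf1]
    rfl
  exact hι.inj (by rw [h2, map_one])

/-- `H ↪ H₁` via `x ↦ [base (δ₁ (ι x))]` -/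
theorem exists_embed_H (h : StepHyp p s c) {H : Type u} [Group H] (ι : H →* K)
    (hι : EmbHyp p s ι) : ∃ f : H →* H1 p s c h, Function.Injective f :=
  ⟨embH p s c h ι, embH_injective p s c h ι hι⟩

theorem embH_mem_center (h : StepHyp p s c) {H : Type u} [Group H] (ι : H →* K)
    (hι : EmbHyp p s ι) (z : H) (hz : z ∈ Subgroup.center H) :
    embH p s c h ι z ∈ Subgroup.center (H1 p s c h) := by
  have hz' : ι z ∈ Subgroup.center K := (hι.center_iff z).mpr hz
  rw [embH_apply]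
  have h1 : (base (Pi.mulSingle (1 : Cp p) (ι z)) : K ≀ᵣ Cp p) =
      jHom p (Pi.mulSingle (1 : Cp p) (⟨ι z, hz'⟩ : Subgroup.center K)) := by
    rw [jHom_mulSingle]
  rw [h1, mk_mem_center_iff, jHom_mem_Z1set_iff, PhiFun_mulSingle_one]
  exact hι.s_ι z

/-- `Z(H) ≅ Z(H₁)` via `z ↦ [j (δ₁ (ι z))]` -/
theorem exists_center_equiv (h : StepHyp p s c) {H : Type u} [Group H] (ι : H →* K)
    (hι : EmbHyp p s ι) : Nonempty (Subgroup.center H ≃* Subgroup.center (H1 p s c h)) := by
  let φ : Subgroup.center H →* Subgroup.center (H1 p s c h) :=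
    ((embH p s c h ι).comp (Subgroup.center H).subtype).codRestrict (Subgroup.center (H1 p s c h))
      (fun z => embH_mem_center p s c h ι hι (z : H) z.2)
  have hφ : ∀ z : Subgroup.center H, ((φ z : Subgroup.center (H1 p s c h)) : H1 p s c h) =
      embH p s c h ι (z : H) := fun z => rfl
  refine ⟨MulEquiv.ofBijective φ ⟨?_, ?_⟩⟩
  · intro a b hab
    have h1 : embH p s c h ι (a : H) = embH p s c h ι (b : H) := by
      rw [← hφ a, ← hφ b, hab]
    exact Subtype.ext (embH_injective p s c h ι hι h1)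
  · rintro ⟨y, hy⟩
    obtain ⟨w, rfl⟩ := QuotientGroup.mk_surjective y
    have hw : w ∈ Z1set p s c := (mk_mem_center_iff p s c h w).mp hy
    obtain ⟨f, hf1, rfl⟩ := hw
    obtain ⟨z, hz⟩ := hι.surj (PhiFun p s c f : K) (PhiFun p s c f).2 hf1
    have hzc : z ∈ Subgroup.center H := by
      rw [← hι.center_iff, hz]
      exact (PhiFun p s c f).2
    refine ⟨⟨z, hzc⟩, ?_⟩
    apply Subtype.ext
    rw [hφ]
    show embH p s c h ι z = (QuotientGroup.mk (jHom p f) : H1 p s c h)
    rw [embH_apply]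
    have h1 : (base (Pi.mulSingle (1 : Cp p) (ι z)) : K ≀ᵣ Cp p) =
        jHom p (Pi.mulSingle (1 : Cp p) (PhiFun p s c f)) := by
      rw [jHom_mulSingle, hz]
    rw [h1]
    symm
    apply QuotientGroup.eq.mpr
    rw [← map_inv, ← map_mul]
    show jHom p (f⁻¹ * Pi.mulSingle (1 : Cp p) (PhiFun p s c f)) ∈ Rset p s c
    rw [jHom_mem_Rset_iff, PhiFun_mul p s c h.c_pow, PhiFun_inv p s c h.c_pow, PhiFun_mulSingle_one,
      inv_mul_cancel]

end level2

end Cfsg.Agent.Lib.Helper76.Gag
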