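import Mathlib
import Cfsg.Agent.Lib.Helper76.Gag.Defs2

/-!
# Project GAG (helper76), module GAG-[SPEC] (helper78): the specialisation `K = H × C_p`
-/

set_option autoImplicit false

namespace Cfsg.Agent.Lib.Helper76.Gag

open scoped commutatorElement IsMulCommutative
open Cfsg.Agent.Lib.Helper3.Wreath

universe u

section spec

variable (p : ℕ) [Fact p.Prime] {H : Type u} [Group H]

theorem mem_center_prod_iff (x : H × Cp p) :
    x ∈ Subgroup.center (H × Cp p) ↔ x.1 ∈ Subgroup.center H := by
  rw [Subgroup.mem_center_iff, Subgroup.mem_center_iff]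
  constructor
  · intro h g
    have := congrArg Prod.fst (h (g, 1))
    simpa using this
  · intro h g
    apply Prod.ext
    · simpa using h g.1
    · simp only [Prod.snd_mul]
      exact mul_comm _ _

/-- `(c₀, 1)` as an element of the centre of `H × C_p` -/
def cK (c₀ : Subgroup.center H) : Subgroup.center (H × Cp p) :=
  ⟨((c₀ : H), 1), (mem_center_prod_iff p _).2 c₀.2⟩

theorem stepHyp_prod (hstar : StarC H) (c₀ : Subgroup.center H) (hc : c₀ ^ p = 1) (hne : c₀ ≠ 1) :
    StepHyp p (MonoidHom.snd H (Cp p)) (cK p c₀) := by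
  refine ⟨?_, ?_, rfl, ?_, ?_⟩
  · apply Subtype.ext
    have h1 : ((c₀ : H)) ^ p = 1 := by
      have := congrArg Subtype.val hc
      simpa using this
    show (((cK p c₀) ^ p : Subgroup.center (H × Cp p)) : H × Cp p) = 1
    rw [Subgroup.coe_pow]
    show (((c₀ : H), (1 : Cp p)) : H × Cp p) ^ p = 1
    rw [Prod.pow_mk, h1, one_pow]
    rfl
  · intro h
    apply hne
    apply Subtype.ext
    have := congrArg (fun t : Subgroup.center (H × Cp p) => (t : H × Cp p).1) h
    exact this
  · intro x hx
    have hx1 : x.1 ∉ Subgroup.center H := fun h => hx ((mem_center_prod_iff p x).2 h)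
    obtain ⟨g, hg, hg1⟩ := hstar x.1 hx1
    refine ⟨(g, 1), ?_, ?_⟩
    · rw [mem_center_prod_iff]
      exact hg
    · intro h
      apply hg1
      exact congrArg Prod.fst h
  · refine ⟨⟨((1 : H), Multiplicative.ofAdd 1), ?_⟩, rfl⟩
    rw [mem_center_prod_iff]
    exact Subgroup.one_mem _

theorem embHyp_prod : EmbHyp p (MonoidHom.snd H (Cp p)) (MonoidHom.inl H (Cp p)) := by
  refine ⟨?_, fun _ => rfl, ?_, ?_⟩
  · intro a b hab
    exact congrArg Prod.fst hab
  · intro x
    rw [mem_center_prod_iff]
    rfl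
  · intro t _ ht
    refine ⟨t.1, ?_⟩
    apply Prod.ext
    · rfl
    · exact ht.symm

end spec

end Cfsg.Agent.Lib.Helper76.Gag
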