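import Cfsg.Agent.Lib.Helper99.KSL.Defs
import Cfsg.Agent.Lib.Helper99.GLClassCount

/-!
# Sheet KSL (S2479, helper99): module [SUM-W] (helper78)

`sum_w_dvd_le`: the number of invariant tuples all of whose block sizes are divisible by `γ` is at
most `q ^ (n / γ)`.
-/

set_option autoImplicit false

universe u

namespace Cfsg.Agent.Lib.Helper99.KSL

open Polynomial Finset DirectSum
open Cfsg.Agent.Lib.Helper99.GLClass

section field

variable {F : Type u} [Field F]

variable [Fintype F]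

/-- SUMW: membership in `Td`. -/
theorem sumw_mem_Td {n : ℕ} (d : Fin n → ℕ) (H : Fin n → F[X]) :
    H ∈ Td F d ↔ ∀ j, (H j).Monic ∧ (H j).natDegree = d j ∧ (H j).coeff 0 ≠ 0 := by
  unfold Td
  rw [Fintype.mem_piFinset]
  exact forall_congr' fun j => mem_Pset (d j) (H j)

/-- SUMW: the cardinality of `Td`. -/
theorem sumw_card_Td {n : ℕ} (d : Fin n → ℕ) : (Td F d).card = w (Fintype.card F) d := by
  unfold Td w
  rw [Fintype.card_piFinset]
  exact Finset.prod_congr rfl fun j _ => card_Pset (d j)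

/-- SUMW: entries of a degree sequence at block sizes not divisible by `γ` vanish. -/
theorem sumw_eq_zero_of_not_dvd {n : ℕ} (d : Fin n → ℕ) (γ : ℕ) (hd : γ ∣ dgcd d) (j : Fin n)
    (hj : ¬ γ ∣ (j : ℕ) + 1) : d j = 0 := by
  by_contra h
  apply hj
  refine hd.trans ?_
  unfold dgcd
  exact Finset.gcd_dvd (f := fun j : Fin n => (j : ℕ) + 1) (by simp [h])

/-- SUMW: reindexing a sum over the multiples of `γ`. -/
theorem sumw_sum_reindex (n γ : ℕ) (hγ : 1 ≤ γ) (hdvd : γ ∣ n) (g : ℕ → ℕ)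
    (hg : ∀ j, j < n → ¬ γ ∣ j + 1 → g j = 0) :
    ∑ j ∈ range n, g j = ∑ i ∈ range (n / γ), g (γ * (i + 1) - 1) := by
  have hmul : γ * (n / γ) = n := Nat.mul_div_cancel' hdvd
  have h1 : ∑ j ∈ range n, g j = ∑ j ∈ (range n).filter (fun j => γ ∣ j + 1), g j := by
    rw [Finset.sum_filter]
    apply Finset.sum_congr rfl
    intro j hj
    split_ifs with h
    · rfl
    · exact hg j (Finset.mem_range.mp hj) h
  rw [h1]
  symm
  apply Finset.sum_nbij' (fun i => γ * (i + 1) - 1) (fun j => (j + 1) / γ - 1)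
  · intro i hi
    rw [Finset.mem_range] at hi
    rw [Finset.mem_filter, Finset.mem_range]
    have h2 : γ * (i + 1) ≤ γ * (n / γ) := Nat.mul_le_mul_left _ hi
    have h3 : 1 ≤ γ * (i + 1) := Nat.mul_pos hγ (Nat.succ_pos i)
    refine ⟨by omega, ?_⟩
    have : γ * (i + 1) - 1 + 1 = γ * (i + 1) := by omega
    rw [this]
    exact Dvd.intro _ rfl
  · intro j hj
    rw [Finset.mem_filter, Finset.mem_range] at hj
    rw [Finset.mem_range]
    obtain ⟨k, hk⟩ := hj.2
    have hk1 : 1 ≤ k := by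
      rcases Nat.eq_zero_or_pos k with h0 | h0
      · rw [h0, mul_zero] at hk; omega
      · exact h0
    rw [hk, Nat.mul_div_cancel_left _ hγ]
    have : γ * k ≤ γ * (n / γ) := by rw [hmul, ← hk]; omega
    have := Nat.le_of_mul_le_mul_left this hγ
    omega
  · intro i _
    have h3 : 1 ≤ γ * (i + 1) := Nat.mul_pos hγ (Nat.succ_pos i)
    have : γ * (i + 1) - 1 + 1 = γ * (i + 1) := by omega
    show (γ * (i + 1) - 1 + 1) / γ - 1 = i
    rw [this, Nat.mul_div_cancel_left _ hγ]
    omega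
  · intro j hj
    rw [Finset.mem_filter, Finset.mem_range] at hj
    obtain ⟨k, hk⟩ := hj.2
    have hk1 : 1 ≤ k := by
      rcases Nat.eq_zero_or_pos k with h0 | h0
      · rw [h0, mul_zero] at hk; omega
      · exact h0
    show γ * ((j + 1) / γ - 1 + 1) - 1 = j
    rw [hk, Nat.mul_div_cancel_left _ hγ]
    have : k - 1 + 1 = k := by omega
    rw [this, ← hk]
    omega
  · intro i _
    rfl

/-- [SUM-W] number of invariant tuples all of whose block sizes are divisible by `γ`. -/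
theorem sum_w_dvd_le (n γ : ℕ) (hn : 1 ≤ n) (hγ : 1 ≤ γ) (hdvd : γ ∣ n) :
    ∑ d ∈ (degSeq n).filter (fun d => γ ∣ dgcd d), w (Fintype.card F) d ≤
      Fintype.card F ^ (n / γ) := by
  classical
  set m := n / γ with hm
  have hmul : γ * m = n := Nat.mul_div_cancel' hdvd
  have hm1 : 1 ≤ m := by
    rcases Nat.eq_zero_or_pos m with h0 | h0
    · rw [h0, mul_zero] at hmul; omega
    · exact h0
  set S := (degSeq n).filter (fun d => γ ∣ dgcd d) with hS
  -- the sum is the cardinality of a disjoint union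
  have hdisj : (S : Set (Fin n → ℕ)).PairwiseDisjoint (fun d => Td F d) := by
    intro d _ d' _ hne
    rw [Function.onFun, Finset.disjoint_left]
    intro H hH hH'
    apply hne
    funext j
    rw [← ((sumw_mem_Td d H).mp hH j).2.1, ← ((sumw_mem_Td d' H).mp hH' j).2.1]
  have hsum : ∑ d ∈ S, w (Fintype.card F) d = (S.biUnion (fun d => Td F d)).card := by
    rw [Finset.card_biUnion hdisj]
    exact Finset.sum_congr rfl fun d _ => (sumw_card_Td d).symm
  rw [hsum]
  -- the index map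
  have hidx : ∀ i : Fin m, γ * ((i : ℕ) + 1) - 1 < n := by
    intro i
    have h2 : γ * ((i : ℕ) + 1) ≤ γ * m := Nat.mul_le_mul_left _ i.2
    have h3 : 1 ≤ γ * ((i : ℕ) + 1) := Nat.mul_pos hγ (Nat.succ_pos _)
    omega
  let φ : {H // H ∈ S.biUnion (fun d => Td F d)} → (Fin m → F[X]) :=
    fun H i => H.1 ⟨γ * ((i : ℕ) + 1) - 1, hidx i⟩
  have hmemU : ∀ H : {H // H ∈ S.biUnion (fun d => Td F d)},
      ∃ d ∈ degSeq n, γ ∣ dgcd d ∧ H.1 ∈ Td F d := by
    intro H
    obtain ⟨d, hd, hH⟩ := Finset.mem_biUnion.mp H.2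
    rw [hS, Finset.mem_filter] at hd
    exact ⟨d, hd.1, hd.2, hH⟩
  have hone : ∀ H : {H // H ∈ S.biUnion (fun d => Td F d)}, ∀ j : Fin n,
      ¬ γ ∣ (j : ℕ) + 1 → H.1 j = 1 := by
    intro H j hj
    obtain ⟨d, -, hγd, hH⟩ := hmemU H
    have h0 := sumw_eq_zero_of_not_dvd d γ hγd j hj
    obtain ⟨hmon, hdeg, -⟩ := (sumw_mem_Td d H.1).mp hH j
    rw [h0] at hdeg
    exact eq_one_of_monic_natDegree_zero hmon hdeg
  have hφinj : Function.Injective φ := by
    intro H H' hHH'
    apply Subtype.ext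
    funext j
    by_cases hj : γ ∣ (j : ℕ) + 1
    · obtain ⟨k, hk⟩ := hj
      have hk1 : 1 ≤ k := by
        rcases Nat.eq_zero_or_pos k with h0 | h0
        · rw [h0, mul_zero] at hk; omega
        · exact h0
      have hkm : k - 1 < m := by
        have : γ * k ≤ γ * m := by rw [hmul, ← hk]; exact j.2
        have := Nat.le_of_mul_le_mul_left this hγ
        omega
      have h1 := congrFun hHH' ⟨k - 1, hkm⟩
      have h2 : (⟨γ * (((⟨k - 1, hkm⟩ : Fin m) : ℕ) + 1) - 1, hidx ⟨k - 1, hkm⟩⟩ : Fin n) = j := by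
        apply Fin.ext
        simp only
        have : k - 1 + 1 = k := by omega
        rw [this, ← hk]
        omega
      simp only [φ] at h1
      rw [h2] at h1
      exact h1
    · rw [hone H j hj, hone H' j hj]
  have hgood : ∀ H i, (φ H i).Monic ∧ (φ H i).coeff 0 ≠ 0 := by
    intro H i
    obtain ⟨d, -, -, hH⟩ := hmemU H
    obtain ⟨hmon, -, h0⟩ := (sumw_mem_Td d H.1).mp hH ⟨γ * ((i : ℕ) + 1) - 1, hidx i⟩
    exact ⟨hmon, h0⟩
  have hsumφ : ∀ H, ∑ i : Fin m, ((i : ℕ) + 1) * (φ H i).natDegree = m := by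
    intro H
    obtain ⟨d, hd, hγd, hH⟩ := hmemU H
    have hdeg : ∀ j, (H.1 j).natDegree = d j := fun j => ((sumw_mem_Td d H.1).mp hH j).2.1
    have hdn : ∑ j : Fin n, ((j : ℕ) + 1) * d j = n := by
      unfold degSeq at hd
      exact (Finset.mem_filter.mp hd).2
    -- pass to sums over ranges
    let D : ℕ → ℕ := fun j => if h : j < n then d ⟨j, h⟩ else 0
    have h1 : ∑ j : Fin n, ((j : ℕ) + 1) * d j = ∑ j ∈ range n, (j + 1) * D j := by
      rw [← Fin.sum_univ_eq_sum_range (fun j => (j + 1) * D j) n]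
      apply Finset.sum_congr rfl
      intro j _
      simp only [D, j.2, dif_pos]
    have h2 : ∑ i : Fin m, ((i : ℕ) + 1) * (φ H i).natDegree =
        ∑ i ∈ range m, (i + 1) * D (γ * (i + 1) - 1) := by
      rw [← Fin.sum_univ_eq_sum_range (fun i => (i + 1) * D (γ * (i + 1) - 1)) m]
      apply Finset.sum_congr rfl
      intro i _
      simp only [φ, D, hidx i, dif_pos, hdeg]
    have h3 := sumw_sum_reindex n γ hγ hdvd (fun j => (j + 1) * D j) (by
      intro j hj hjγ
      simp only [D, hj, dif_pos]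
      rw [sumw_eq_zero_of_not_dvd d γ hγd ⟨j, hj⟩ hjγ, mul_zero])
    rw [h2]
    rw [h1, h3] at hdn
    have h4 : ∑ i ∈ range (n / γ), (γ * (i + 1) - 1 + 1) * D (γ * (i + 1) - 1) =
        γ * ∑ i ∈ range m, (i + 1) * D (γ * (i + 1) - 1) := by
      rw [Finset.mul_sum]
      apply Finset.sum_congr rfl
      intro i _
      have h5 : 1 ≤ γ * (i + 1) := Nat.mul_pos hγ (Nat.succ_pos i)
      have : γ * (i + 1) - 1 + 1 = γ * (i + 1) := by omega
      rw [this, mul_assoc]
    rw [h4] at hdn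
    have : γ * ∑ i ∈ range m, (i + 1) * D (γ * (i + 1) - 1) = γ * m := by rw [hdn, hmul]
    exact Nat.eq_of_mul_eq_mul_left hγ this
  obtain ⟨-, hcard⟩ := card_le_of_injective_tuples m hm1 φ hφinj hgood hsumφ
  rw [Nat.card_eq_fintype_card, Fintype.card_coe] at hcard
  exact hcard

end field

end Cfsg.Agent.Lib.Helper99.KSL
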