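import Cfsg.Agent.Lib.Helper99.KSL.Defs
import Cfsg.Agent.Lib.Helper99.GLClassCount
import Cfsg.Agent.Lib.Helper96.KslCycIdx
import Cfsg.Agent.Lib.Helper78.KslSumW

/-!
# Sheet KSL (S2479, helper99): module [COUNT-D] (helper78)

`card_Td_tdet_le`: among the `w(d)` invariant tuples with degree sequence `d`, at most
`w(d) gd(d) / (q-1)` have `tdet = 1` (scale the constant terms).
-/

set_option autoImplicit false

universe u

namespace Cfsg.Agent.Lib.Helper99.KSL

open Polynomial Finset DirectSum
open Cfsg.Agent.Lib.Helper99.GLClass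

section field

variable {F : Type u} [Field F]

/-- COUNTD: scaling the constant term of a polynomial by `c`. -/
noncomputable def countdScl (c : F) (f : F[X]) : F[X] := f + C ((c - 1) * f.coeff 0)

theorem countd_scl_monic (c : F) {f : F[X]} (hf : f.Monic) (hd : f.natDegree ≠ 0) :
    (countdScl c f).Monic := by
  unfold countdScl
  apply hf.add_of_left
  apply lt_of_le_of_lt degree_C_le
  rw [← natDegree_pos_iff_degree_pos]
  exact Nat.pos_of_ne_zero hd

theorem countd_scl_natDegree (c : F) (f : F[X]) : (countdScl c f).natDegree = f.natDegree := by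
  unfold countdScl
  exact natDegree_add_C

theorem countd_scl_coeff_zero (c : F) (f : F[X]) : (countdScl c f).coeff 0 = c * f.coeff 0 := by
  unfold countdScl
  rw [coeff_add, coeff_C_zero]
  ring

theorem countd_scl_sc (c : F) (f : F[X]) : sc (countdScl c f) = c * sc f := by
  unfold sc
  rw [countd_scl_natDegree, countd_scl_coeff_zero]
  ring

theorem countd_scl_injective {c : F} (hc : c ≠ 0) : Function.Injective (countdScl c) := by
  intro f g hfg
  have h0 : f.coeff 0 = g.coeff 0 := by
    have := congrArg (fun p : F[X] => p.coeff 0) hfg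
    simp only [countd_scl_coeff_zero] at this
    exact mul_left_cancel₀ hc this
  unfold countdScl at hfg
  rw [h0] at hfg
  exact add_right_cancel hfg

variable {n : ℕ}

/-- COUNTD: the scaling action on tuples. -/
noncomputable def countdAct (d : Fin n → ℕ) (γ : Fin n → Fˣ) (H : Fin n → F[X]) : Fin n → F[X] :=
  fun j => if d j = 0 then H j else countdScl (γ j : F) (H j)

/-- COUNTD: the character by which `tdet` is scaled. -/
def countdChi (d : Fin n → ℕ) : (Fin n → Fˣ) →* Fˣ where
  toFun γ := ∏ j : Fin n, if d j = 0 then 1 else γ j ^ ((j : ℕ) + 1)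
  map_one' := by simp
  map_mul' a b := by
    rw [← Finset.prod_mul_distrib]
    apply Finset.prod_congr rfl
    intro j _
    split_ifs
    · simp
    · simp [mul_pow]

theorem countd_act_injective (d : Fin n → ℕ) (γ : Fin n → Fˣ) :
    Function.Injective (countdAct (F := F) d γ) := by
  intro H H' h
  funext j
  have hj := congrFun h j
  unfold countdAct at hj
  split_ifs at hj with h0
  · exact hj
  · exact countd_scl_injective (γ j).ne_zero hj

variable [Fintype F]

theorem countd_act_mem (d : Fin n → ℕ) (γ : Fin n → Fˣ) {H : Fin n → F[X]} (hH : H ∈ Td F d) :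
    countdAct d γ H ∈ Td F d := by
  rw [sumw_mem_Td] at hH ⊢
  intro j
  obtain ⟨hmon, hdeg, h0⟩ := hH j
  unfold countdAct
  split_ifs with hd
  · exact ⟨hmon, hdeg, h0⟩
  · refine ⟨countd_scl_monic _ hmon (by rw [hdeg]; exact hd), ?_, ?_⟩
    · rw [countd_scl_natDegree, hdeg]
    · rw [countd_scl_coeff_zero]
      exact mul_ne_zero (γ j).ne_zero h0

omit [Fintype F] in
theorem countd_tdet_act (d : Fin n → ℕ) (γ : Fin n → Fˣ) (H : Fin n → F[X]) :
    tdet (countdAct d γ H) = ((countdChi d γ : Fˣ) : F) * tdet H := by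
  unfold tdet countdChi
  simp only [MonoidHom.coe_mk, OneHom.coe_mk, Units.coe_prod]
  rw [← Finset.prod_mul_distrib]
  apply Finset.prod_congr rfl
  intro j _
  unfold countdAct
  split_ifs with hd
  · simp
  · rw [countd_scl_sc, mul_pow]
    simp

theorem countd_index_le (d : Fin n → ℕ) :
    (countdChi (F := F) d).range.index ≤ gd (Fintype.card F) d := by
  classical
  set T : Finset (Fin n) := univ.filter (fun j : Fin n => d j ≠ 0) with hT
  set S : Finset ℕ := T.image (fun j : Fin n => (j : ℕ) + 1) with hS
  have hpow : ∀ m ∈ S, ∀ c : Fˣ, c ^ m ∈ (countdChi (F := F) d).range := by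
    intro m hm c
    rw [hS, Finset.mem_image] at hm
    obtain ⟨j, hj, rfl⟩ := hm
    rw [hT, Finset.mem_filter] at hj
    rw [MonoidHom.mem_range]
    refine ⟨Pi.mulSingle j c, ?_⟩
    unfold countdChi
    simp only [MonoidHom.coe_mk, OneHom.coe_mk]
    rw [Finset.prod_eq_single j]
    · rw [if_neg hj.2, Pi.mulSingle_eq_same]
    · intro i _ hij
      split_ifs
      · rfl
      · rw [Pi.mulSingle_eq_of_ne hij, one_pow]
    · intro h
      exact absurd (Finset.mem_univ j) h
  have h1 := index_le_gcd_of_pow_mem (countdChi (F := F) d).range S hpow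
  have h2 : Nat.card Fˣ = Fintype.card F - 1 := by
    rw [Nat.card_eq_fintype_card, Fintype.card_units]
  have h3 : S.gcd id = dgcd d := by
    rw [hS, Finset.gcd_image]
    rfl
  rw [h2, h3] at h1
  exact h1

open Classical in
/-- [COUNT-D] tuples of degree sequence `d` and determinant one. -/
theorem card_Td_tdet_le (d : Fin n → ℕ) :
    (Fintype.card F - 1) * ((Td F d).filter (fun H => tdet H = 1)).card ≤
      gd (Fintype.card F) d * w (Fintype.card F) d := by
  set Q : Subgroup Fˣ := (countdChi (F := F) d).range with hQ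
  set S1 : Finset (Fin n → F[X]) := (Td F d).filter (fun H => tdet H = 1) with hS1
  -- a preimage under `χ` for every element of `Q`
  have hex : ∀ v : Q, ∃ γ : Fin n → Fˣ, countdChi d γ = (v : Fˣ) := fun v =>
    MonoidHom.mem_range.mp v.2
  choose Γ hΓ using hex
  let Ψ : Q × {H // H ∈ S1} → {H // H ∈ Td F d} := fun x =>
    ⟨countdAct d (Γ x.1) x.2.1, countd_act_mem d (Γ x.1) (Finset.mem_filter.mp x.2.2).1⟩
  have hΨ : Function.Injective Ψ := by
    rintro ⟨v, H⟩ ⟨v', H'⟩ hxy
    have h1 : countdAct d (Γ v) H.1 = countdAct d (Γ v') H'.1 := congrArg Subtype.val hxy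
    have h2 := congrArg tdet h1
    rw [countd_tdet_act, countd_tdet_act, (Finset.mem_filter.mp H.2).2,
      (Finset.mem_filter.mp H'.2).2, mul_one, mul_one, hΓ, hΓ] at h2
    have hv : v = v' := Subtype.ext (Units.ext h2)
    subst hv
    have h3 := countd_act_injective d (Γ v) h1
    rw [Prod.mk.injEq]
    exact ⟨rfl, Subtype.ext h3⟩
  have hcard : Nat.card Q * S1.card ≤ w (Fintype.card F) d := by
    have h1 := Nat.card_le_card_of_injective Ψ hΨ
    rw [Nat.card_prod, Nat.card_eq_fintype_card (α := {H // H ∈ S1}), Fintype.card_coe,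
      Nat.card_eq_fintype_card (α := {H // H ∈ Td F d}), Fintype.card_coe, sumw_card_Td] at h1
    exact h1
  have hidx : Q.index ≤ gd (Fintype.card F) d := countd_index_le d
  have hmul : Nat.card Q * Q.index = Fintype.card F - 1 := by
    rw [Subgroup.card_mul_index, Nat.card_eq_fintype_card, Fintype.card_units]
  calc (Fintype.card F - 1) * S1.card = Q.index * (Nat.card Q * S1.card) := by
        rw [← hmul]; ring
    _ ≤ gd (Fintype.card F) d * w (Fintype.card F) d := Nat.mul_le_mul hidx hcard

end field

end Cfsg.Agent.Lib.Helper99.KSL
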