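import Cfsg.Agent.Lib.Helper99.KSL.Defs
import Cfsg.Agent.Lib.Helper96.KslCycIdx

/-!
# Sheet KSL (S2479, helper99): module [IDX] in `_of` form (helper78)

`isInv_index_le_of_h78`: the index of `det C_GL(a)` in `Fˣ` is at most `tg q H`, given the statement
of [CENT] as a hypothesis ([CYC-IDX] of helper96 is used directly).
-/

set_option autoImplicit false

universe u

namespace Cfsg.Agent.Lib.Helper99.KSL

open Polynomial Finset DirectSum
open Cfsg.Agent.Lib.Helper99.GLClass

section field

variable {F : Type u} [Field F]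

variable {n : ℕ}

/-- [IDX] in `_of` form; `hcent` is the statement of [CENT] (`exists_centralizer_det_pow`) at `a`,
for index types in the universe of `F`. -/
theorem isInv_index_le_of_h78 [Fintype F] {a : Matrix.GeneralLinearGroup (Fin n) F}
    (hcent : ∀ {ι : Type u} [Fintype ι] [DecidableEq ι] (p : ι → F[X]) (e : ι → ℕ),
      (∀ i, Irreducible (p i)) →
      (matMod (a : Matrix (Fin n) (Fin n) F) ≃ₗ[F[X]] ⨁ i, F[X] ⧸ (F[X] ∙ p i ^ e i)) →
      ∀ (i : ι) (c : Fˣ),
        ∃ h ∈ Subgroup.centralizer {a}, Matrix.GeneralLinearGroup.det h = c ^ e i)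
    {H : Fin n → F[X]} (h : IsInv a H) :
    ((Subgroup.centralizer {a}).map Matrix.GeneralLinearGroup.det).index ≤
      tg (Fintype.card F) H := by
  classical
  obtain ⟨ι, hι, hdec, p, e, hp, ⟨eq⟩, hH⟩ := h
  set D : Subgroup Fˣ := (Subgroup.centralizer {a}).map Matrix.GeneralLinearGroup.det with hD
  set T : Finset (Fin n) := univ.filter (fun j : Fin n => (H j).natDegree ≠ 0) with hT
  set S : Finset ℕ := T.image (fun j : Fin n => (j : ℕ) + 1) with hS
  have hpow : ∀ m ∈ S, ∀ c : Fˣ, c ^ m ∈ D := by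
    intro m hm c
    rw [hS, Finset.mem_image] at hm
    obtain ⟨j, hj, rfl⟩ := hm
    rw [hT, Finset.mem_filter] at hj
    have hne : (Finset.univ.filter (fun i => e i = (j : ℕ) + 1)).Nonempty := by
      by_contra hcon
      rw [Finset.not_nonempty_iff_eq_empty] at hcon
      apply hj.2
      rw [hH j, hcon, Finset.prod_empty, natDegree_one]
    obtain ⟨i, hi⟩ := hne
    rw [Finset.mem_filter] at hi
    obtain ⟨g, hg, hdet⟩ := hcent p e hp eq i c
    rw [hD, Subgroup.mem_map]
    exact ⟨g, hg, by rw [hdet, hi.2]⟩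
  have h1 := index_le_gcd_of_pow_mem D S hpow
  have h2 : Nat.card Fˣ = Fintype.card F - 1 := by
    rw [Nat.card_eq_fintype_card, Fintype.card_units]
  have h3 : S.gcd id = dgcd (fun j => (H j).natDegree) := by
    rw [hS, Finset.gcd_image]
    rfl
  rw [h2, h3] at h1
  exact h1

end field

end Cfsg.Agent.Lib.Helper99.KSL
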