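import Cfsg.Agent.Lib.Helper99.KSL.Defs
import Cfsg.Agent.Lib.Helper99.GLClassCount
import Cfsg.Agent.Lib.Helper54.KslSlgl
import Cfsg.Agent.Lib.Helper78.KslSumW

/-!
# Sheet KSL (S2479, helper99): module [K-LE] in `_of` form (helper78)

`card_SL_mul_le_of_h78`: the master inequality `(q-1) k(SL_n) ≤ Σ_d w(d) gd(d)²`, given the statements
of [IDX], [DETT], [COUNT-D] as hypotheses ([SLGL] of helper54 is used directly).
-/

set_option autoImplicit false

universe u

namespace Cfsg.Agent.Lib.Helper99.KSL

open Polynomial Finset DirectSum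
open Cfsg.Agent.Lib.Helper99.GLClass

section field

variable {F : Type u} [Field F]

variable [Fintype F]

open Classical in
/-- [K-LE] in `_of` form; hypotheses = statements of [IDX], [DETT], [COUNT-D]. -/
theorem card_SL_mul_le_of_h78 (n : ℕ) (_hn : 1 ≤ n)
    (hidx : ∀ {a : Matrix.GeneralLinearGroup (Fin n) F} {H : Fin n → F[X]}, IsInv a H →
      ((Subgroup.centralizer {a}).map Matrix.GeneralLinearGroup.det).index ≤
        tg (Fintype.card F) H)
    (hdett : ∀ {a : Matrix.GeneralLinearGroup (Fin n) F} {H : Fin n → F[X]}, IsInv a H →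
      ((Matrix.GeneralLinearGroup.det a : Fˣ) : F) = tdet H)
    (hcount : ∀ d : Fin n → ℕ,
      (Fintype.card F - 1) * ((Td F d).filter (fun H => tdet H = 1)).card ≤
        gd (Fintype.card F) d * w (Fintype.card F) d) :
    (Fintype.card F - 1) * Nat.card (ConjClasses (Matrix.SpecialLinearGroup (Fin n) F)) ≤
      ∑ d ∈ degSeq n, w (Fintype.card F) d * gd (Fintype.card F) d ^ 2 := by
  let φ : ConjClasses (Matrix.GeneralLinearGroup (Fin n) F) → (Fin n → F[X]) :=
    fun c => (exists_isInv (Quotient.out c)).choose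
  have hφ : ∀ c, IsInv (Quotient.out c) (φ c) := fun c => (exists_isInv (Quotient.out c)).choose_spec
  have hinj : Function.Injective φ := by
    intro c c' h
    have h1 := hφ c
    have h2 := hφ c'
    rw [← h] at h2
    have h3 := IsInv.isConj h1 h2
    rw [← ConjClasses.mk_eq_mk_iff_isConj] at h3
    have e1 : ConjClasses.mk (Quotient.out c) = c := Quotient.out_eq c
    have e2 : ConjClasses.mk (Quotient.out c') = c' := Quotient.out_eq c'
    rw [← e1, ← e2, h3]
  set s : Finset (Fin n → F[X]) :=
    (degSeq n).biUnion (fun d => (Td F d).filter (fun H => tdet H = 1)) with hs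
  have hmain : ∀ C : ConjClasses (Matrix.GeneralLinearGroup (Fin n) F),
      Matrix.GeneralLinearGroup.det (Quotient.out C) = 1 →
        φ C ∈ s ∧ ((Subgroup.centralizer {Quotient.out C}).map
          Matrix.GeneralLinearGroup.det).index ≤ tg (Fintype.card F) (φ C) := by
    intro C hdet
    refine ⟨?_, hidx (hφ C)⟩
    obtain ⟨hgood, hsum⟩ := (hφ C).good
    rw [hs, Finset.mem_biUnion]
    refine ⟨fun j => (φ C j).natDegree, ?_, ?_⟩
    · unfold degSeq
      rw [Finset.mem_filter, Fintype.mem_piFinset]
      refine ⟨fun j => ?_, hsum⟩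
      rw [Finset.mem_range]
      have h1 : ((j : ℕ) + 1) * (φ C j).natDegree ≤ n :=
        le_of_le_of_eq (Finset.single_le_sum
          (f := fun j : Fin n => ((j : ℕ) + 1) * (φ C j).natDegree)
          (fun _ _ => Nat.zero_le _) (Finset.mem_univ j)) hsum
      have h2 : (φ C j).natDegree ≤ ((j : ℕ) + 1) * (φ C j).natDegree :=
        Nat.le_mul_of_pos_left _ (Nat.succ_pos _)
      omega
    · rw [Finset.mem_filter, sumw_mem_Td]
      refine ⟨fun j => ⟨(hgood j).1, rfl, (hgood j).2⟩, ?_⟩
      rw [← hdett (hφ C), hdet]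
      simp
  have h1 := card_conjClasses_SL_le n s (tg (Fintype.card F)) φ hinj hmain
  -- evaluate the sum over `s`
  have hdisj : ((degSeq n : Finset (Fin n → ℕ)) : Set (Fin n → ℕ)).PairwiseDisjoint
      (fun d => (Td F d).filter (fun H => tdet H = 1)) := by
    intro d _ d' _ hne
    rw [Function.onFun, Finset.disjoint_left]
    intro H hH hH'
    apply hne
    funext j
    rw [← ((sumw_mem_Td d H).mp (Finset.mem_filter.mp hH).1 j).2.1,
      ← ((sumw_mem_Td d' H).mp (Finset.mem_filter.mp hH').1 j).2.1]
  have h2 : ∑ H ∈ s, tg (Fintype.card F) H =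
      ∑ d ∈ degSeq n, gd (Fintype.card F) d * ((Td F d).filter (fun H => tdet H = 1)).card := by
    rw [hs, Finset.sum_biUnion hdisj]
    apply Finset.sum_congr rfl
    intro d _
    rw [Finset.sum_congr rfl (g := fun _ => gd (Fintype.card F) d), Finset.sum_const, smul_eq_mul,
      mul_comm]
    intro H hH
    have hdeg : (fun j => (H j).natDegree) = d := by
      funext j
      exact ((sumw_mem_Td d H).mp (Finset.mem_filter.mp hH).1 j).2.1
    unfold tg
    rw [hdeg]
  rw [h2] at h1
  calc (Fintype.card F - 1) * Nat.card (ConjClasses (Matrix.SpecialLinearGroup (Fin n) F))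
      ≤ (Fintype.card F - 1) *
        ∑ d ∈ degSeq n, gd (Fintype.card F) d * ((Td F d).filter (fun H => tdet H = 1)).card :=
        Nat.mul_le_mul_left _ h1
    _ = ∑ d ∈ degSeq n, gd (Fintype.card F) d *
        ((Fintype.card F - 1) * ((Td F d).filter (fun H => tdet H = 1)).card) := by
        rw [Finset.mul_sum]
        apply Finset.sum_congr rfl
        intro d _
        ring
    _ ≤ ∑ d ∈ degSeq n, gd (Fintype.card F) d *
        (gd (Fintype.card F) d * w (Fintype.card F) d) :=
        Finset.sum_le_sum fun d _ => Nat.mul_le_mul_left _ (hcount d)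
    _ = ∑ d ∈ degSeq n, w (Fintype.card F) d * gd (Fintype.card F) d ^ 2 := by
        apply Finset.sum_congr rfl
        intro d _
        ring

end field

end Cfsg.Agent.Lib.Helper99.KSL
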