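import Cfsg.Agent.Lib.Helper99.KSL.Defs
import Cfsg.Agent.Lib.Helper78.KslKLeOf
import Cfsg.Agent.Lib.Helper78.KslCountD
import Cfsg.Agent.Lib.Helper99.KSL.Idx
import Cfsg.Agent.Lib.Helper43.KslDetBlocks

/-!
# Sheet KSL (S2479, helper99): module [K-LE] (helper78), exact statement

Glue of `card_SL_mul_le_of_h78` with [IDX] (helper99), [DETT] (helper43), [COUNT-D] (helper78).
-/

set_option autoImplicit false

universe u

namespace Cfsg.Agent.Lib.Helper99.KSL

open Polynomial Finset DirectSum
open Cfsg.Agent.Lib.Helper99.GLClass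

section field

variable {F : Type u} [Field F]

variable [Fintype F]

/-- [K-LE] the master inequality. -/
theorem card_SL_mul_le (n : ℕ) (hn : 1 ≤ n) :
    (Fintype.card F - 1) * Nat.card (ConjClasses (Matrix.SpecialLinearGroup (Fin n) F)) ≤
      ∑ d ∈ degSeq n, w (Fintype.card F) d * gd (Fintype.card F) d ^ 2 :=
  card_SL_mul_le_of_h78 n hn (fun h => isInv_index_le h) (fun h => isInv_det_eq h)
    (fun d => card_Td_tdet_le d)

end field

end Cfsg.Agent.Lib.Helper99.KSL
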