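import Cfsg.Agent.Lib.Helper99.KSL.Defs
import Cfsg.Agent.Lib.Helper78.KslSumW
import Cfsg.Agent.Lib.Helper6.KslNumLargeOf

/-!
# Sheet KSL (S2479, helper99): module [NUM-LARGE] (helper78), exact statement

Glue: helper6's `num_large_of` (pure arithmetic) + [SUM-W] (`sum_w_dvd_le`, Lib/Helper78/KslSumW.lean).
-/

set_option autoImplicit false

universe u

namespace Cfsg.Agent.Lib.Helper99.KSL

open Polynomial Finset DirectSum
open Cfsg.Agent.Lib.Helper99.GLClass

section field

variable {F : Type u} [Field F]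

variable [Fintype F]

/-- [NUM-LARGE] -/
theorem num_large (n : ℕ) (hn : 5 ≤ n) :
    ∑ d ∈ degSeq n, w (Fintype.card F) d * gd (Fintype.card F) d ^ 2 ≤
      (Fintype.card F - 1) * (Fintype.card F ^ (n - 1) + 3 * Fintype.card F ^ (n - 2)) :=
  Cfsg.Agent.Lib.Helper6.KSL.num_large_of (Fintype.card F) n Fintype.one_lt_card hn
    (fun γ hγ hdvd => sum_w_dvd_le (F := F) n γ (by omega) hγ hdvd)

end field

end Cfsg.Agent.Lib.Helper99.KSL
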