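import Mathlib
import Cfsg.Agent.Lib.Helper16.LocalRing

/-!
# p-adic valuation facts read off from the local ring (helper78)
-/

set_option autoImplicit false
set_option linter.style.haveILetI false

namespace Cfsg.Agent.Lib.Helper78

open Cfsg.Agent.Lib.Helper16

variable {M : Ideal AlgInt} {p : ℕ}

/-- If `N / D ≡ 1` modulo the local ideal then `N` and `D` have the same `p`-part. -/
theorem factorization_eq_of_div_sub_one_memLocalIdeal (hM : IsPModular p M) {N D : ℕ}
    (hD : D ≠ 0) (h : MemLocalIdeal M ((N : ℂ) / (D : ℂ) - 1)) :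
    N ≠ 0 ∧ N.factorization p = D.factorization p := by
  haveI hMp := isPModular_isPrime hM
  have hp := isPModular_prime hM
  have hN : N ≠ 0 := by
    rintro rfl
    simp only [Nat.cast_zero, zero_div, zero_sub] at h
    exact one_not_memLocalIdeal (M := M) (by simpa using memLocalIdeal_neg h)
  refine ⟨hN, ?_⟩
  set u : ℂ := (N : ℂ) / (D : ℂ) with hu
  have huS : MemLocalRing M u := by
    have := memLocalRing_add (memLocalRing_of_memLocalIdeal h) (memLocalRing_one hMp.ne_top)
    simpa using this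
  have hu𝔪 : ¬ MemLocalIdeal M u := by
    intro hu'
    have := memLocalIdeal_sub hu' h
    simp only [sub_sub_cancel] at this
    exact one_not_memLocalIdeal this
  have hDc : (D : ℂ) ≠ 0 := by exact_mod_cast hD
  have huD : u * (D : ℂ) = (N : ℂ) := by rw [hu]; field_simp
  -- decompositions
  have hNd := Nat.ordProj_mul_ordCompl_eq_self N p
  have hDd := Nat.ordProj_mul_ordCompl_eq_self D p
  have hN' := Nat.not_dvd_ordCompl hp hN
  have hD' := Nat.not_dvd_ordCompl hp hD
  set j := N.factorization p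
  set k := D.factorization p
  set N' := N / p ^ j
  set D' := D / p ^ k
  have hpS : MemLocalRing M (p : ℂ) := memLocalRing_natCast hMp.ne_top p
  have hN'S : MemLocalRing M (N' : ℂ) := memLocalRing_natCast hMp.ne_top N'
  have hD'S : MemLocalRing M (D' : ℂ) := memLocalRing_natCast hMp.ne_top D'
  have hN'𝔪 : ¬ MemLocalIdeal M (N' : ℂ) := fun h' => hN' ((memLocalIdeal_natCast_iff hM _).mp h')
  have hD'𝔪 : ¬ MemLocalIdeal M (D' : ℂ) := fun h' => hD' ((memLocalIdeal_natCast_iff hM _).mp h')
  have hpc : (p : ℂ) ≠ 0 := by exact_mod_cast hp.ne_zero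
  have eq1 : u * ((p : ℂ) ^ k * (D' : ℂ)) = (p : ℂ) ^ j * (N' : ℂ) := by
    have h1 : ((p ^ k * D' : ℕ) : ℂ) = (D : ℂ) := by exact_mod_cast congrArg (Nat.cast (R := ℂ)) hDd
    have h2 : ((p ^ j * N' : ℕ) : ℂ) = (N : ℂ) := by exact_mod_cast congrArg (Nat.cast (R := ℂ)) hNd
    push_cast at h1 h2
    rw [h1, h2, huD]
  rcases lt_trichotomy j k with hlt | heq | hgt
  · exfalso
    -- N' = u * p^(k-j) * D'
    have : (N' : ℂ) = u * ((p : ℂ) ^ (k - j) * (D' : ℂ)) := by
      have hk : k = j + (k - j) := by omega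
      rw [hk, pow_add] at eq1
      have hpj : (p : ℂ) ^ j ≠ 0 := pow_ne_zero _ hpc
      apply mul_left_cancel₀ hpj
      linear_combination -eq1
    apply hN'𝔪
    rw [this]
    apply memLocalIdeal_mul_left huS
    apply memLocalIdeal_mul_right _ hD'S
    rw [memLocalIdeal_pow_iff hpS (by omega)]
    exact memLocalIdeal_p hM
  · exact heq
  · exfalso
    have : u * (D' : ℂ) = (p : ℂ) ^ (j - k) * (N' : ℂ) := by
      have hj : j = k + (j - k) := by omega
      rw [hj, pow_add] at eq1
      have hpk : (p : ℂ) ^ k ≠ 0 := pow_ne_zero _ hpc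
      apply mul_left_cancel₀ hpk
      linear_combination eq1
    have hmem : MemLocalIdeal M (u * (D' : ℂ)) := by
      rw [this]
      apply memLocalIdeal_mul_right _ hN'S
      rw [memLocalIdeal_pow_iff hpS (by omega)]
      exact memLocalIdeal_p hM
    rcases (memLocalIdeal_mul_iff huS hD'S).mp hmem with h' | h'
    · exact hu𝔪 h'
    · exact hD'𝔪 h'

end Cfsg.Agent.Lib.Helper78
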