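import Mathlib

/-!
# Central idempotents of a group algebra in characteristic `p` and `p`-subgroups

If `z` is a nonzero central idempotent of `k[C]` (`k` a commutative ring of characteristic `p`)
and `R` is a `p`-subgroup of `C`, then `z * ∑_{r ∈ R} r ≠ 0`
(`idem_mul_subgroupSum_ne_zero`): the block `z k[C]` is a free right `kR`-module.  The proof
produces a nonzero `R`-fixed vector in `z k[C]` by counting fixed points on the (finite) additive
group generated by the `R`-orbit of `z`.
-/

set_option autoImplicit false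

namespace Cfsg.Agent.Lib.Helper78

open MonoidAlgebra

section PGroupIdem

variable {k : Type*} [CommRing k] {C : Type*} [Group C] [Fintype C]

/-- `(q, r) ↦ q.out * r` as an equivalence `(C ⧸ R) × R ≃ C`. -/
noncomputable def quotProdEquiv (R : Subgroup C) : (C ⧸ R) × R ≃ C where
  toFun qr := qr.1.out * (qr.2 : C)
  invFun c := ((QuotientGroup.mk c : C ⧸ R),
    ⟨((QuotientGroup.mk c : C ⧸ R)).out⁻¹ * c,
      QuotientGroup.eq.mp (QuotientGroup.out_eq' (QuotientGroup.mk c : C ⧸ R))⟩)
  left_inv qr := by
    obtain ⟨q, r⟩ := qr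
    have h : (QuotientGroup.mk (q.out * (r : C)) : C ⧸ R) = q := by
      rw [QuotientGroup.mk_mul_of_mem _ r.2, QuotientGroup.out_eq']
    apply Prod.ext
    · exact h
    · apply Subtype.ext
      show ((QuotientGroup.mk (q.out * (r : C)) : C ⧸ R)).out⁻¹ * (q.out * (r : C)) = (r : C)
      rw [h, inv_mul_cancel_left]
  right_inv c := by
    show ((QuotientGroup.mk c : C ⧸ R)).out * (((QuotientGroup.mk c : C ⧸ R)).out⁻¹ * c) = c
    rw [mul_inv_cancel_left]

open scoped Classical in
/-- A right-`R`-invariant element is a left multiple of the sum of `R`. -/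
theorem eq_mul_subgroupSum_of_invariant (R : Subgroup C) [Fintype R] (x : MonoidAlgebra k C)
    (hx : ∀ (c : C) (r : R), x.coeff (c * (r : C)) = x.coeff c) :
    x = (∑ q : C ⧸ R, x.coeff q.out • single (q.out : C) (1 : k)) *
      ∑ r : R, single (r : C) (1 : k) := by
  rw [Finset.sum_mul_sum]
  have h1 : x = ∑ c : C, single c (x.coeff c) := by
    ext c
    rw [coeff_sum, Finsupp.finsetSum_apply]
    simp [coeff_single, Finsupp.single_apply]
  conv_lhs => rw [h1]
  rw [← Equiv.sum_comp (quotProdEquiv R), Fintype.sum_prod_type]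
  apply Finset.sum_congr rfl
  intro q _
  apply Finset.sum_congr rfl
  intro r _
  have he : quotProdEquiv R (q, r) = q.out * (r : C) := rfl
  rw [he, hx, smul_mul_assoc, single_mul_single, one_mul, smul_single, smul_eq_mul, mul_one]

open scoped Classical in
/-- **Freeness of a block over a `p`-subgroup**: a nonzero central idempotent of `k[C]`
(`char k = p`) is not annihilated by the sum of a `p`-subgroup. -/
theorem idem_mul_subgroupSum_ne_zero {p : ℕ} [hp : Fact p.Prime] [CharP k p]
    (z : MonoidAlgebra k C) (hzc : ∀ c : C, z * single c (1 : k) = single c (1 : k) * z)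
    (hzz : z * z = z) (hz0 : z ≠ 0) (R : Subgroup C) [Fintype R] (hR : IsPGroup p R) :
    z * ∑ r : R, single (r : C) (1 : k) ≠ 0 := by
  intro hzero
  -- the additive group generated by the orbit of `z`
  obtain ⟨W, hWdef⟩ : ∃ W : AddSubgroup (MonoidAlgebra k C),
      W = AddSubgroup.closure (Set.range (fun r : R => z * single (r : C) (1 : k))) := ⟨_, rfl⟩
  have hzW : z ∈ W := by
    rw [hWdef]
    apply AddSubgroup.subset_closure
    exact ⟨1, by simp [← one_def]⟩
  have h1 : ∀ x ∈ W, z * x = x := by
    intro x hx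
    rw [hWdef] at hx
    induction hx using AddSubgroup.closure_induction with
    | mem y hy =>
      obtain ⟨r, rfl⟩ := hy
      rw [← mul_assoc, hzz]
    | zero => rw [mul_zero]
    | add a b _ _ ha hb => rw [mul_add, ha, hb]
    | neg a _ ha => rw [mul_neg, ha]
  have h2 : ∀ x ∈ W, ∀ r : R, x * single (r : C) (1 : k) ∈ W := by
    intro x hx r
    rw [hWdef] at hx ⊢
    induction hx using AddSubgroup.closure_induction with
    | mem y hy =>
      obtain ⟨s, rfl⟩ := hy
      apply AddSubgroup.subset_closure
      refine ⟨s * r, ?_⟩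
      show z * single ((s * r : R) : C) (1 : k) = z * single (s : C) 1 * single (r : C) 1
      rw [mul_assoc, single_mul_single, one_mul, Subgroup.coe_mul]
    | zero => rw [zero_mul]; exact AddSubgroup.zero_mem _
    | add a b _ _ ha hb => rw [add_mul]; exact AddSubgroup.add_mem _ ha hb
    | neg a _ ha => rw [neg_mul]; exact AddSubgroup.neg_mem _ ha
  have h3 : ∀ x : MonoidAlgebra k C, p • x = 0 := by
    intro x
    rw [← Nat.cast_smul_eq_nsmul k, CharP.cast_eq_zero, zero_smul]
  -- finiteness of `W`
  have hfg : AddGroup.FG W := by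
    rw [AddGroup.fg_iff_addSubgroup_fg, AddSubgroup.fg_iff]
    exact ⟨_, hWdef.symm, Set.finite_range _⟩
  have : Module.Finite ℤ W := Module.Finite.iff_addGroup_fg.mpr hfg
  have : Finite W := by
    apply Module.finite_of_fg_torsion
    intro x
    refine ⟨⟨(p : ℤ), mem_nonZeroDivisors_of_ne_zero (by exact_mod_cast hp.out.ne_zero)⟩, ?_⟩
    apply Subtype.ext
    show ((p : ℤ) • x : W).1 = 0
    rw [AddSubgroup.coe_zsmul, natCast_zsmul]
    exact h3 x.1
  -- `p` divides the order of `W`
  have hpW : p ∣ Nat.card W := by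
    have hz' : (⟨z, hzW⟩ : W) ≠ 0 := fun h => hz0 (congrArg Subtype.val h)
    have hord : addOrderOf (⟨z, hzW⟩ : W) ∣ p := by
      apply addOrderOf_dvd_of_nsmul_eq_zero
      apply Subtype.ext
      show ((p • (⟨z, hzW⟩ : W) : W) : MonoidAlgebra k C) = 0
      rw [AddSubgroup.coe_nsmul]
      exact h3 z
    rcases (Nat.dvd_prime hp.out).mp hord with h | h
    · exact absurd (AddMonoid.addOrderOf_eq_one_iff.mp h) hz'
    · rw [← h]
      exact addOrderOf_dvd_natCard _
  -- the action of `R` on `W` by right multiplication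
  let act : MulAction R W :=
    { smul := fun r x => ⟨x.1 * single ((r⁻¹ : R) : C) (1 : k), h2 x.1 x.2 r⁻¹⟩
      one_smul := by
        intro x
        apply Subtype.ext
        show x.1 * single (((1 : R)⁻¹ : R) : C) (1 : k) = x.1
        simp [← one_def]
      mul_smul := by
        intro r s x
        apply Subtype.ext
        show x.1 * single (((r * s)⁻¹ : R) : C) (1 : k) =
          x.1 * single ((s⁻¹ : R) : C) 1 * single ((r⁻¹ : R) : C) 1
        rw [mul_assoc, single_mul_single, one_mul, mul_inv_rev, Subgroup.coe_mul] }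
  have h0fix : (0 : W) ∈ MulAction.fixedPoints R W := by
    intro r
    apply Subtype.ext
    show (0 : W).1 * single ((r⁻¹ : R) : C) (1 : k) = (0 : W).1
    simp
  obtain ⟨x, hxfix, hx0⟩ := hR.exists_fixed_point_of_prime_dvd_card_of_fixed_point W hpW h0fix
  have hxr : ∀ r : R, x.1 * single (r : C) (1 : k) = x.1 := by
    intro r
    have h' : x.1 * single (((r⁻¹)⁻¹ : R) : C) (1 : k) = x.1 :=
      congrArg Subtype.val (hxfix r⁻¹)
    rw [inv_inv] at h'
    exact h'
  have hinv : ∀ (c : C) (r : R), x.1.coeff (c * (r : C)) = x.1.coeff c := by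
    intro c r
    have := congrArg (fun y : MonoidAlgebra k C => y.coeff (c * (r : C))) (hxr r)
    simp only [coeff_mul_single_apply, mul_one, mul_inv_cancel_right] at this
    exact this.symm
  have hx1 := eq_mul_subgroupSum_of_invariant R x.1 hinv
  have hcomm : z * (∑ q : C ⧸ R, x.1.coeff q.out • single (q.out : C) (1 : k)) =
      (∑ q : C ⧸ R, x.1.coeff q.out • single (q.out : C) (1 : k)) * z := by
    rw [Finset.mul_sum, Finset.sum_mul]
    apply Finset.sum_congr rfl
    intro q _
    rw [mul_smul_comm, hzc, smul_mul_assoc]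
  have hxz : x.1 = 0 := by
    rw [← h1 x.1 x.2, hx1, ← mul_assoc, hcomm, mul_assoc, hzero, mul_zero]
  exact hx0 (Subtype.ext hxz.symm)

end PGroupIdem

end Cfsg.Agent.Lib.Helper78
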