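import Mathlib

/-!
# The trace of a `p^n`-th power in a group algebra of characteristic `p` (helper78)

For `a ∈ k[G]` (`k` commutative of characteristic `p`, `q = p ^ n`):
`(a ^ q).coeff 1 = ∑_{g ^ q = 1} (a.coeff g) ^ q` (`coeff_one_pow_prime_pow`), by letting the
cyclic group of order `q` rotate the `q`-tuples with product `1`.  Consequently, over a reduced
ring, the coefficients of a nilpotent element over the `p`-elements sum to zero
(`sum_coeff_pElements_eq_zero_of_pow_eq_zero`).
-/

set_option autoImplicit false

namespace Cfsg.Agent.Lib.Helper78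

open MonoidAlgebra

section FixedPointSum

variable {α : Type*} [Fintype α] [DecidableEq α] {k : Type*} [CommRing k]

open scoped Classical in
/-- Sums of functions invariant under a map of `p`-power order only see the fixed points, in
characteristic `p`. -/
theorem sum_eq_sum_fixed_of_pow_eq_one {p n : ℕ} [hp : Fact p.Prime] [CharP k p]
    (f : Function.End α) (hf : f ^ p ^ n = 1) (F : α → k) (hF : ∀ x, F (f x) = F x) :
    ∑ x : α, F x = ∑ x ∈ Finset.univ.filter (fun x => f x = x), F x := by
  have hinj : Function.Injective f := by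
    have hone : f ^ (p ^ n - 1) * f = 1 := by
      rw [← pow_succ, Nat.sub_add_cancel (Nat.one_le_pow n p hp.out.pos), hf]
    intro x y hxy
    have hx : (f ^ (p ^ n - 1)) (f x) = x := congrFun hone x
    have hy : (f ^ (p ^ n - 1)) (f y) = y := congrFun hone y
    rw [← hx, ← hy, hxy]
  rw [← Finset.sum_filter_add_sum_filter_not Finset.univ (fun x => f x = x)]
  have hzero : ∑ x ∈ Finset.univ.filter (fun x => ¬ f x = x), F x = 0 := by
    rw [← Finset.sum_fiberwise_of_maps_to (s := Finset.univ.filter (fun x => ¬ f x = x))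
      (t := Finset.univ.image F) (g := F)
      (fun x _ => Finset.mem_image_of_mem F (Finset.mem_univ x))]
    apply Finset.sum_eq_zero
    intro c _
    have hconst : ∀ x ∈ (Finset.univ.filter (fun x => ¬ f x = x)).filter (fun x => F x = c),
        F x = c := fun x hx => (Finset.mem_filter.mp hx).2
    rw [Finset.sum_congr rfl hconst, Finset.sum_const, nsmul_eq_mul]
    -- the cardinality is divisible by `p`
    have hdvd : p ∣ ((Finset.univ.filter (fun x => ¬ f x = x)).filter (fun x => F x = c)).card := by
      have hcard : ((Finset.univ.filter (fun x => ¬ f x = x)).filter (fun x => F x = c)).card =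
          Fintype.card {x : α // ¬ f x = x ∧ F x = c} := by
        rw [Fintype.card_subtype, Finset.filter_filter]
      rw [hcard]
      -- the restriction of `f`
      let fβ : Function.End {x : α // ¬ f x = x ∧ F x = c} := fun x =>
        ⟨f x.1, fun h => x.2.1 (hinj h), by rw [hF]; exact x.2.2⟩
      have hpow : ∀ m : ℕ, ∀ x : {x : α // ¬ f x = x ∧ F x = c},
          ((fβ ^ m) x).1 = (f ^ m) x.1 := by
        intro m
        induction m with
        | zero => intro x; rfl
        | succ m ih =>
          intro x
          rw [pow_succ, pow_succ]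
          show ((fβ ^ m) (fβ x)).1 = (f ^ m) (f x.1)
          rw [ih]
      have hfβ : fβ ^ p ^ n = 1 := by
        funext x
        apply Subtype.ext
        rw [hpow, hf]
        rfl
      have h1 := Equiv.Perm.card_fixedPoints_modEq (p := p) (n := n) hfβ
      have h2 : Fintype.card (Function.fixedPoints fβ) = 0 := by
        rw [Fintype.card_eq_zero_iff]
        constructor
        rintro ⟨x, hx⟩
        apply x.2.1
        exact congrArg Subtype.val hx
      rw [h2] at h1
      exact (Nat.modEq_zero_iff_dvd).mp h1
    obtain ⟨m, hm⟩ := hdvd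
    rw [hm, Nat.cast_mul, CharP.cast_eq_zero, zero_mul, zero_mul]
  rw [hzero, add_zero]

end FixedPointSum

section PowCoeff

variable {G : Type*} [Group G] [Fintype G] [DecidableEq G] {k : Type*} [CommRing k]

/-- `G × Vector G m ≃ Vector G (m+1)` by consing. -/
def vectorConsEquiv (m : ℕ) : G × List.Vector G m ≃ List.Vector G (m + 1) where
  toFun xw := xw.1 ::ᵥ xw.2
  invFun v := (v.head, v.tail)
  left_inv xw := by simp
  right_inv v := by simp

theorem coeff_pow_eq_sum_vector (a : MonoidAlgebra k G) (m : ℕ) (g : G) :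
    (a ^ m).coeff g = ∑ v : List.Vector G m,
      if v.toList.prod = g then (v.toList.map (fun x => a.coeff x)).prod else 0 := by
  induction m generalizing g with
  | zero =>
    rw [pow_zero, one_def]
    have huniv : (Finset.univ : Finset (List.Vector G 0)) = {List.Vector.nil} := by
      ext v; simp [List.Vector.eq_nil v]
    rw [huniv, Finset.sum_singleton, List.Vector.toList_nil]
    simp [coeff_single, Finsupp.single_apply]
  | succ m ih =>
    rw [pow_succ', coeff_mul_apply_left, Finsupp.sum_fintype _ _ (fun _ => zero_mul _)]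
    rw [← Equiv.sum_comp (vectorConsEquiv m), Fintype.sum_prod_type]
    apply Finset.sum_congr rfl
    intro x _
    rw [ih, Finset.mul_sum]
    apply Finset.sum_congr rfl
    intro w _
    have h1 : (vectorConsEquiv m (x, w)).toList = x :: w.toList := by
      simp [vectorConsEquiv]
    rw [h1, List.map_cons, List.prod_cons, List.prod_cons]
    by_cases h : w.toList.prod = x⁻¹ * g
    · rw [if_pos h, if_pos (by rw [h, mul_inv_cancel_left])]
    · rw [if_neg h, if_neg (by intro h'; exact h (by rw [← h', inv_mul_cancel_left])), mul_zero]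

open Equiv.Perm in
open scoped Classical in
/-- The coefficient of `1` in `a ^ q`, `q = p ^ n`, in characteristic `p`. -/
theorem coeff_one_pow_prime_pow {p : ℕ} [hp : Fact p.Prime] [CharP k p]
    (a : MonoidAlgebra k G) (n : ℕ) :
    (a ^ p ^ n).coeff 1 = ∑ g : G, if g ^ p ^ n = 1 then (a.coeff g) ^ p ^ n else 0 := by
  obtain ⟨q, hq⟩ : ∃ q, q = p ^ n := ⟨_, rfl⟩
  have hq0 : q ≠ 0 := by rw [hq]; exact pow_ne_zero _ hp.out.ne_zero
  rw [← hq, coeff_pow_eq_sum_vector]
  -- Step 1: sum over the vectors with product one
  obtain ⟨F, hF⟩ : ∃ F : vectorsProdEqOne G q → k,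
      F = fun v => (v.1.toList.map (fun x => a.coeff x)).prod := ⟨_, rfl⟩
  have h1 : (∑ v : List.Vector G q,
      if v.toList.prod = 1 then (v.toList.map (fun x => a.coeff x)).prod else 0) =
      ∑ v : vectorsProdEqOne G q, F v := by
    rw [← Finset.sum_filter, hF]
    exact Finset.sum_subtype (Finset.univ.filter (fun v : List.Vector G q => v.toList.prod = 1))
      (p := fun v => v ∈ vectorsProdEqOne G q)
      (fun v => by simp [VectorsProdEqOne.mem_iff])
      (fun v => (v.toList.map (fun x => a.coeff x)).prod)
  rw [h1]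
  -- Step 2: rotation
  obtain ⟨f, hf⟩ : ∃ f : Function.End (vectorsProdEqOne G q),
      f = fun v => VectorsProdEqOne.rotate v 1 := ⟨_, rfl⟩
  have hfpow : ∀ (j : ℕ) (v : vectorsProdEqOne G q), (f ^ j) v = VectorsProdEqOne.rotate v j := by
    intro j
    induction j with
    | zero => intro v; rw [VectorsProdEqOne.rotate_zero]; rfl
    | succ j ih =>
      intro v
      rw [pow_succ]
      show (f ^ j) (f v) = _
      rw [ih, hf, VectorsProdEqOne.rotate_rotate, add_comm]
  have hfq : f ^ p ^ n = 1 := by
    funext v
    rw [← hq, hfpow, VectorsProdEqOne.rotate_length]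
    rfl
  have hFinv : ∀ v, F (f v) = F v := by
    intro v
    rw [hF, hf]
    show (List.map (fun x => a.coeff x) (v.1.toList.rotate 1)).prod = _
    rw [List.map_rotate]
    exact (List.rotate_perm _ 1).prod_eq
  rw [sum_eq_sum_fixed_of_pow_eq_one f hfq F hFinv, ← Finset.sum_filter]
  -- Step 3: fixed vectors are the constant ones
  symm
  refine Finset.sum_bij
    (fun g hg => (⟨⟨List.replicate q g, List.length_replicate⟩, by
      show (List.replicate q g).prod = 1
      rw [List.prod_replicate]
      exact (Finset.mem_filter.mp hg).2⟩ : vectorsProdEqOne G q)) ?_ ?_ ?_ ?_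
  · intro g hg
    rw [Finset.mem_filter]
    refine ⟨Finset.mem_univ _, ?_⟩
    rw [hf]
    exact Subtype.ext (Subtype.ext (List.rotate_replicate g q 1))
  · intro g₁ hg₁ g₂ hg₂ h
    have h2 : List.replicate q g₁ = List.replicate q g₂ :=
      congrArg (fun v : vectorsProdEqOne G q => v.1.toList) h
    exact (List.replicate_right_inj hq0).mp h2
  · intro v hv
    have hv1 : f v = v := (Finset.mem_filter.mp hv).2
    rw [hf] at hv1
    have hv2 : v.1.toList.rotate 1 = v.1.toList :=
      congrArg (fun v : vectorsProdEqOne G q => v.1.toList) hv1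
    obtain ⟨g, hg⟩ := List.rotate_one_eq_self_iff_eq_replicate.mp hv2
    rw [List.Vector.toList_length] at hg
    have hgq : g ^ q = 1 := by
      have h3 : v.1.toList.prod = 1 := v.2
      rw [hg, List.prod_replicate] at h3
      exact h3
    refine ⟨g, Finset.mem_filter.mpr ⟨Finset.mem_univ _, hgq⟩, ?_⟩
    exact Subtype.ext (Subtype.ext hg.symm)
  · intro g hg
    rw [hF]
    show _ = (List.map (fun x => a.coeff x) (List.replicate q g)).prod
    rw [List.map_replicate, List.prod_replicate]

open scoped Classical in
/-- Over a reduced ring of characteristic `p`, the coefficients of a nilpotent element of the group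
algebra over the `p`-elements sum to zero. -/
theorem sum_coeff_pElements_eq_zero_of_pow_eq_zero {p : ℕ} [hp : Fact p.Prime] [CharP k p]
    [IsReduced k] (a : MonoidAlgebra k G) {m : ℕ} (ha : a ^ m = 0) :
    ∑ x : G, (if ∃ j : ℕ, orderOf x = p ^ j then a.coeff x else 0) = 0 := by
  have : ExpChar k p := ExpChar.prime hp.out
  obtain ⟨n, hn⟩ : ∃ n, n = m + Fintype.card G := ⟨_, rfl⟩
  have hmq : m ≤ p ^ n := by
    have h1 : n < p ^ n := Nat.lt_pow_self hp.out.one_lt
    omega
  have haq : a ^ p ^ n = 0 := pow_eq_zero_of_le hmq ha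
  have hiff : ∀ x : G, (∃ j : ℕ, orderOf x = p ^ j) ↔ x ^ p ^ n = 1 := by
    intro x
    constructor
    · rintro ⟨j, hj⟩
      rw [← orderOf_dvd_iff_pow_eq_one, hj]
      apply pow_dvd_pow
      have h1 : j < p ^ j := Nat.lt_pow_self hp.out.one_lt
      have h2 : orderOf x ≤ Fintype.card G := orderOf_le_card_univ
      omega
    · intro h
      obtain ⟨j, _, hj⟩ := (Nat.dvd_prime_pow hp.out).mp (orderOf_dvd_of_pow_eq_one h)
      exact ⟨j, hj⟩
  have h0 : (a ^ p ^ n).coeff 1 = 0 := by rw [haq]; rfl
  rw [coeff_one_pow_prime_pow] at h0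
  have h1 : ∑ g : G, (if g ^ p ^ n = 1 then (a.coeff g) ^ p ^ n else 0) =
      (∑ x : G, (if ∃ j : ℕ, orderOf x = p ^ j then a.coeff x else 0)) ^ p ^ n := by
    rw [sum_pow_char_pow]
    apply Finset.sum_congr rfl
    intro g _
    by_cases hg : g ^ p ^ n = 1
    · rw [if_pos hg, if_pos ((hiff g).mpr hg)]
    · rw [if_neg hg, if_neg (fun h => hg ((hiff g).mp h)),
        zero_pow (pow_ne_zero _ hp.out.ne_zero)]
  rw [h1] at h0
  exact IsNilpotent.eq_zero ⟨_, h0⟩

end PowCoeff

end Cfsg.Agent.Lib.Helper78
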