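import Cfsg.Agent.Lib.Helper78.RotationTrace
import Cfsg.Agent.Lib.Helper16.MinMax
import Cfsg.Agent.Lib.Helper16.LocalRing

/-!
# Nilpotent elements modulo the local ideal and `p`-elements (helper78)

Transfer of `sum_coeff_pElements_eq_zero_of_pow_eq_zero` to the congruence framework: if `a ∈ ℂ[G]`
has locally integral coefficients and some power of `a` has all coefficients in the local ideal,
then the sum of the coefficients of `a` over the `p`-elements lies in the local ideal.
-/

set_option autoImplicit false

namespace Cfsg.Agent.Lib.Helper78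

open Cfsg MonoidAlgebra Cfsg.Agent.Lib.Helper16

section Local

variable {G : Type*} [Group G] [Fintype G] {M : Ideal AlgInt}

open scoped Classical in
theorem sum_coeff_pElements_memLocalIdeal {p : ℕ} [hp : Fact p.Prime]
    (hM : IsPModular p M) (a : MonoidAlgebra ℂ G) (haR : CoeffsInRing M a) {m : ℕ}
    (ham : CoeffsInIdeal M (a ^ m)) :
    MemLocalIdeal M (∑ x : G, (if ∃ j : ℕ, orderOf x = p ^ j then a.coeff x else 0)) := by
  have hMp : M.IsPrime := isPModular_isPrime hM
  -- the residue ring
  let ι : localSubring M →+* ℂ := (localSubring M).subtype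
  let π : localSubring M →+* (localSubring M ⧸ localIdeal M) := Ideal.Quotient.mk (localIdeal M)
  have : Nontrivial (localSubring M ⧸ localIdeal M) :=
    Ideal.Quotient.nontrivial_iff.mpr localIdeal_ne_top
  have : CharP (localSubring M ⧸ localIdeal M) p := by
    rw [CharP.charP_iff_prime_eq_zero hp.out]
    have h1 : ((p : localSubring M)) ∈ localIdeal M := by
      rw [mem_localIdeal]
      have := memLocalIdeal_p hM
      simpa using this
    have h2 : π (p : localSubring M) = 0 := Ideal.Quotient.eq_zero_iff_mem.mpr h1
    simpa using h2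
  -- the lift of `a` to the local ring
  obtain ⟨a', ha'def⟩ : ∃ a' : MonoidAlgebra (localSubring M) G,
      a' = ∑ c : G, single c (⟨a.coeff c, haR c⟩ : localSubring M) := ⟨_, rfl⟩
  have ha'coeff : ∀ c : G, ((a'.coeff c : localSubring M) : ℂ) = a.coeff c := by
    intro c
    rw [ha'def, coeff_sum, Finsupp.finsetSum_apply, Finset.sum_eq_single c]
    · simp [coeff_single]
    · intro b _ hb
      simp [coeff_single, hb]
    · intro h; exact absurd (Finset.mem_univ c) h
  have hιa : mapRingHom G ι a' = a := by
    ext c
    rw [coeff_mapRingHom]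
    exact ha'coeff c
  have hker : ∀ y : MonoidAlgebra (localSubring M) G,
      CoeffsInIdeal M (mapRingHom G ι y) → mapRingHom G π y = 0 := by
    intro y hy
    ext c
    rw [coeff_mapRingHom]
    have := hy c
    rw [coeff_mapRingHom] at this
    exact Ideal.Quotient.eq_zero_iff_mem.mpr this
  have hnil : (mapRingHom G π a') ^ m = 0 := by
    rw [← map_pow]
    apply hker
    rw [map_pow, hιa]
    exact ham
  have hmain := sum_coeff_pElements_eq_zero_of_pow_eq_zero (p := p) (mapRingHom G π a') hnil
  have h1 : ∑ x : G, (if ∃ j : ℕ, orderOf x = p ^ j then (mapRingHom G π a').coeff x else 0) =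
      π (∑ x : G, (if ∃ j : ℕ, orderOf x = p ^ j then a'.coeff x else 0)) := by
    rw [map_sum]
    apply Finset.sum_congr rfl
    intro x _
    split_ifs
    · rw [coeff_mapRingHom]
    · rw [map_zero]
  rw [h1] at hmain
  have h2 := Ideal.Quotient.eq_zero_iff_mem.mp hmain
  rw [mem_localIdeal] at h2
  have h3 : ((∑ x : G, (if ∃ j : ℕ, orderOf x = p ^ j then a'.coeff x else 0) : localSubring M) : ℂ)
      = ∑ x : G, (if ∃ j : ℕ, orderOf x = p ^ j then a.coeff x else 0) := by
    have : ((∑ x : G, (if ∃ j : ℕ, orderOf x = p ^ j then a'.coeff x else 0) : localSubring M) : ℂ)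
        = ι (∑ x : G, (if ∃ j : ℕ, orderOf x = p ^ j then a'.coeff x else 0)) := rfl
    rw [this, map_sum]
    apply Finset.sum_congr rfl
    intro x _
    split_ifs
    · exact ha'coeff x
    · rw [map_zero]
  rw [h3] at h2
  exact h2

end Local

end Cfsg.Agent.Lib.Helper78
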