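import Mathlib
import Cfsg.Prelude.Def_Solvable
import Cfsg.Agent.S0039

/-!
# S3999 core modules (helper78): [CARD-PRED] and [G-FROB]
-/

set_option autoImplicit false

namespace Cfsg.Agent.Lib.Helper78.S3999

open Cfsg

/-- counting by order, for one group -/
theorem card_pred_eq_sum {X : Type*} [Group X] [Finite X] (P : ℕ → Prop) [DecidablePred P] (N : ℕ)
    (hN : Nat.card X ≤ N) :
    Nat.card {g : X // P (orderOf g)} =
      ∑ m ∈ (Finset.range (N + 1)).filter P, Nat.card {g : X // orderOf g = m} := by
  classical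
  have : Fintype X := Fintype.ofFinite X
  rw [Nat.card_eq_fintype_card, Fintype.card_subtype]
  rw [Finset.card_eq_sum_card_fiberwise (f := fun g : X => orderOf g)
    (t := (Finset.range (N + 1)).filter P)]
  · apply Finset.sum_congr rfl
    intro m hm
    rw [Nat.card_eq_fintype_card, Fintype.card_subtype]
    congr 1
    ext g
    simp only [Finset.mem_filter, Finset.mem_univ, true_and]
    constructor
    · rintro ⟨_, h⟩; exact h
    · intro h
      refine ⟨?_, h⟩
      rw [h]
      exact (Finset.mem_filter.mp hm).2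
  · intro g hg
    have hg' : P (orderOf g) := by
      simpa only [Finset.coe_filter, Finset.mem_univ, true_and, Set.mem_ofPred_eq] using hg
    have h1 : orderOf g ≤ Fintype.card X := orderOf_le_card_univ
    rw [← Nat.card_eq_fintype_card] at h1
    have : orderOf g ∈ (Finset.range (N + 1)).filter P :=
      Finset.mem_filter.mpr ⟨Finset.mem_range.mpr (by omega), hg'⟩
    exact this

/-- [CARD-PRED] equal order types give equal counts for every predicate on the order. -/
theorem card_pred_eq_of_orderType {F G : Type*} [Group F] [Finite F] [Group G] [Finite G]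
    (hT : ∀ m : ℕ, Nat.card {g : F // orderOf g = m} = Nat.card {h : G // orderOf h = m})
    (P : ℕ → Prop) :
    Nat.card {g : F // P (orderOf g)} = Nat.card {h : G // P (orderOf h)} := by
  classical
  rw [card_pred_eq_sum (X := F) P (max (Nat.card F) (Nat.card G)) (le_max_left _ _),
    card_pred_eq_sum (X := G) P (max (Nat.card F) (Nat.card G)) (le_max_right _ _)]
  exact Finset.sum_congr rfl (fun m _ => hT m)

/-- equal order types give equal orders -/
theorem card_eq_of_orderType {F G : Type*} [Group F] [Finite F] [Group G] [Finite G]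
    (hT : ∀ m : ℕ, Nat.card {g : F // orderOf g = m} = Nat.card {h : G // orderOf h = m}) :
    Nat.card F = Nat.card G := by
  have h := card_pred_eq_of_orderType hT (fun _ => True)
  have e1 : Nat.card {g : F // True} = Nat.card F := Nat.card_congr (Equiv.subtypeUnivEquiv (fun _ => trivial))
  have e2 : Nat.card {g : G // True} = Nat.card G := Nat.card_congr (Equiv.subtypeUnivEquiv (fun _ => trivial))
  rw [← e1, ← e2]; exact h

/-- [G-FROB] a proper nontrivial normal Hall subgroup such that no element has order divisible by a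
prime of `|K|` and a prime of `|G : K|` has a Frobenius complement as complement. -/
theorem frobenius_of_normal_hall {G : Type*} [Group G] [Finite G] (K : Subgroup G) [K.Normal]
    (hK1 : K ≠ ⊥) (hK2 : K ≠ ⊤) (hcop : (Nat.card K).Coprime K.index)
    (hmix : ∀ (g : G) (p q : ℕ), p.Prime → q.Prime → p ∣ Nat.card K → q ∣ K.index →
      ¬ (p ∣ orderOf g ∧ q ∣ orderOf g)) :
    ∃ C : Subgroup G, Cfsg.IsFrobeniusComplement C ∧ Subgroup.IsComplement' K C := by
  obtain ⟨C, hC⟩ := Subgroup.exists_right_complement'_of_coprime hcop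
  have hCbot : C ≠ ⊥ := by
    intro h
    rw [h] at hC
    exact hK2 (Subgroup.isComplement'_bot_right.mp hC)
  have hidx : K.index = Nat.card C := hC.symm.index_eq_card
  refine ⟨C, ?_, hC⟩
  rw [Cfsg.Agent.S0039.result K C hC hK1 hCbot]
  intro h hhC hh1
  rw [eq_bot_iff]
  intro k hk
  rw [Subgroup.mem_bot]
  by_contra hk1
  obtain ⟨hkK, hkc⟩ := Subgroup.mem_inf.mp hk
  have hcomm : Commute k h := by
    have := Subgroup.mem_centralizer_iff.mp hkc h (Set.mem_singleton h)
    exact this.symm
  have hok : orderOf k ∣ Nat.card K := by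
    have := orderOf_dvd_natCard (⟨k, hkK⟩ : K)
    rwa [Subgroup.orderOf_mk] at this
  have hoh : orderOf h ∣ K.index := by
    rw [hidx]
    have := orderOf_dvd_natCard (⟨h, hhC⟩ : C)
    rwa [Subgroup.orderOf_mk] at this
  have hco : (orderOf k).Coprime (orderOf h) :=
    Nat.Coprime.coprime_dvd_left hok (Nat.Coprime.coprime_dvd_right hoh hcop)
  have hmul : orderOf (k * h) = orderOf k * orderOf h :=
    hcomm.orderOf_mul_eq_mul_orderOf_of_coprime hco
  have hk1' : orderOf k ≠ 1 := fun h' => hk1 (orderOf_eq_one_iff.mp h')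
  have hh1' : orderOf h ≠ 1 := fun h' => hh1 (orderOf_eq_one_iff.mp h')
  obtain ⟨p, hp, hpk⟩ := Nat.exists_prime_and_dvd hk1'
  obtain ⟨q, hq, hqh⟩ := Nat.exists_prime_and_dvd hh1'
  refine hmix (k * h) p q hp hq (hpk.trans hok) (hqh.trans hoh) ⟨?_, ?_⟩
  · rw [hmul]; exact hpk.mul_right _
  · rw [hmul]; exact hqh.mul_left _

end Cfsg.Agent.Lib.Helper78.S3999
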