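import Mathlib
import Cfsg.Prelude.Def_Solvable
import Cfsg.Agent.S0034
import Cfsg.Agent.S0035
import Cfsg.Agent.S0042

/-!
# S3999 modules (helper78): [F-NOMIX], [SOLV-IFF], [CTYPE]
-/

set_option autoImplicit false

namespace Cfsg.Agent.Lib.Helper78.S3999

open Cfsg
open scoped Pointwise

/-- order and index of a Frobenius complement are coprime -/
theorem frob_coprime {F : Type*} [Group F] [Finite F] (C : Subgroup F)
    (hC : Cfsg.IsFrobeniusComplement C) : (Nat.card C).Coprime C.index := by
  have h := (Cfsg.Agent.S0034.result C hC).2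
  have h' : C.index ≡ 1 [MOD Nat.card C] := h
  have := h'.gcd_eq
  rw [Nat.gcd_one_left] at this
  rw [Nat.Coprime, Nat.gcd_comm]
  exact this

/-- the kernel as a subgroup, with all its properties -/
theorem frob_kernel {F : Type*} [Group F] [Finite F] (C : Subgroup F)
    (hC : Cfsg.IsFrobeniusComplement C) :
    ∃ N : Subgroup F, (N : Set F) = Cfsg.frobeniusKernel C ∧ N.Normal ∧ Group.IsNilpotent N ∧
      Subgroup.IsComplement' N C ∧ Nat.card N = C.index := by
  obtain ⟨N, hNset, hNn, hnil⟩ := Cfsg.Agent.S0042.result C hC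
  obtain ⟨N', hN'set, -, hc⟩ := Cfsg.Agent.S0035.result C hC
  have : N' = N := SetLike.coe_injective (hN'set.trans hNset.symm)
  subst this
  exact ⟨N', hNset, hNn, hnil, hc, hc.index_eq_card.symm⟩

/-- an element outside the kernel has order dividing `|C|` -/
theorem orderOf_dvd_of_not_mem_kernel {F : Type*} [Group F] [Finite F] (C : Subgroup F)
    {g : F} (hg : g ∉ Cfsg.frobeniusKernel C) : orderOf g ∣ Nat.card C := by
  have : ∃ x : F, g ∈ MulAut.conj x • C := by
    by_contra h
    push Not at h
    exact hg (Or.inr h)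
  obtain ⟨x, hx⟩ := this
  rw [Cfsg.Agent.S0034.mem_conj_smul_iff] at hx
  have h1 : orderOf (x⁻¹ * g * x) = orderOf g := by
    have : x⁻¹ * g * x = MulAut.conj x⁻¹ g := by simp
    rw [this, MulEquiv.orderOf_eq]
  rw [← h1]
  have := orderOf_dvd_natCard (⟨x⁻¹ * g * x, hx⟩ : C)
  rwa [Subgroup.orderOf_mk] at this

/-- [F-NOMIX] no element of a Frobenius group has order divisible by a prime of the kernel and a prime of
the complement; and the two orders are coprime. -/
theorem frob_no_mixed {F : Type*} [Group F] [Finite F] (C : Subgroup F)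
    (hC : Cfsg.IsFrobeniusComplement C) :
    (Nat.card C).Coprime C.index ∧
    ∀ (g : F) (p q : ℕ), p.Prime → q.Prime → p ∣ C.index → q ∣ Nat.card C →
      ¬ (p ∣ orderOf g ∧ q ∣ orderOf g) := by
  have hcop := frob_coprime C hC
  refine ⟨hcop, ?_⟩
  intro g p q hp hq hpi hqc ⟨hpg, hqg⟩
  obtain ⟨N, hNset, -, -, -, hNcard⟩ := frob_kernel C hC
  by_cases hg : g ∈ Cfsg.frobeniusKernel C
  · have hgN : g ∈ N := by
      have : g ∈ (N : Set F) := hNset ▸ hg
      exact this
    have h1 : orderOf g ∣ C.index := by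
      rw [← hNcard]
      have := orderOf_dvd_natCard (⟨g, hgN⟩ : N)
      rwa [Subgroup.orderOf_mk] at this
    have : q ∣ Nat.gcd (Nat.card C) C.index := Nat.dvd_gcd hqc (hqg.trans h1)
    rw [hcop] at this
    exact hq.one_lt.ne' (Nat.dvd_one.mp this)
  · have h1 := orderOf_dvd_of_not_mem_kernel C hg
    have : p ∣ Nat.gcd (Nat.card C) C.index := Nat.dvd_gcd (hpg.trans h1) hpi
    rw [hcop] at this
    exact hp.one_lt.ne' (Nat.dvd_one.mp this)

/-- [SOLV-IFF] a Frobenius group is solvable iff its complement is. -/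
theorem frob_solvable_iff {G : Type*} [Group G] [Finite G] (C : Subgroup G)
    (hC : Cfsg.IsFrobeniusComplement C) : Group.IsSolvable G ↔ Group.IsSolvable C := by
  constructor
  · intro h
    exact Group.isSolvable_of_isSolvable_injective (Subgroup.subtype_injective C)
  · intro h
    obtain ⟨N, -, hNn, hnil, hc, -⟩ := frob_kernel C hC
    have hNs : Group.IsSolvable N := inferInstance
    -- `C → G ⧸ N` is surjective
    let f : C →* G ⧸ N := (QuotientGroup.mk' N).comp C.subtype
    have hf : Function.Surjective f := by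
      intro y
      obtain ⟨g, rfl⟩ := QuotientGroup.mk'_surjective N y
      have hprod : g ∈ (N : Set G) * (C : Set G) := by
        rw [hc.mul_eq]; exact Set.mem_univ g
      obtain ⟨n, hn, c, hc', rfl⟩ := hprod
      refine ⟨⟨c, hc'⟩, ?_⟩
      show QuotientGroup.mk' N c = QuotientGroup.mk' N (n * c)
      rw [map_mul]
      have : QuotientGroup.mk' N n = 1 := (QuotientGroup.eq_one_iff n).mpr hn
      rw [this, one_mul]
    have hQ : Group.IsSolvable (G ⧸ N) := Group.isSolvable_of_surjective hf
    refine Group.isSolvable_of_ker_le_range N.subtype (QuotientGroup.mk' N) ?_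
    rw [QuotientGroup.ker_mk', Subgroup.range_subtype]

/-- [CTYPE] in a Frobenius group the elements of order `m > 1`, `m` prime to the index of the complement,
are distributed over the `|G : C|` conjugates of `C`. -/
theorem frob_card_orderOf {G : Type*} [Group G] [Finite G] (C : Subgroup G)
    (hC : Cfsg.IsFrobeniusComplement C) (m : ℕ) (hm : 1 < m) (hcop : m.Coprime C.index) :
    Nat.card {g : G // orderOf g = m} = C.index * Nat.card {c : C // orderOf c = m} := by
  obtain ⟨N, hNset, -, -, -, hNcard⟩ := frob_kernel C hC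
  have hconj : ∀ (x : G) (c : C), orderOf (x * (c : G) * x⁻¹) = orderOf c := by
    intro x c
    have : x * (c : G) * x⁻¹ = MulAut.conj x (c : G) := by simp
    rw [this, MulEquiv.orderOf_eq, Subgroup.orderOf_coe]
  let φ : (G ⧸ C) × {c : C // orderOf c = m} → {g : G // orderOf g = m} :=
    fun qc => ⟨qc.1.out * (qc.2.1 : G) * qc.1.out⁻¹, by rw [hconj]; exact qc.2.2⟩
  have hinj : Function.Injective φ := by
    rintro ⟨q, c, hc⟩ ⟨q', c', hc'⟩ h
    have h0 : q.out * (c : G) * q.out⁻¹ = q'.out * (c' : G) * q'.out⁻¹ := congrArg Subtype.val h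
    set g := q.out * (c : G) * q.out⁻¹ with hg
    have hg1 : g ≠ 1 := by
      intro h1
      have : orderOf g = m := by rw [hg, hconj]; exact hc
      rw [h1, orderOf_one] at this
      omega
    have hm1 : g ∈ MulAut.conj q.out • C := by
      rw [Cfsg.Agent.S0034.mem_conj_smul_iff, hg]
      have : q.out⁻¹ * (q.out * (c : G) * q.out⁻¹) * q.out = (c : G) := by group
      rw [this]; exact c.2
    have hm2 : g ∈ MulAut.conj q'.out • C := by
      rw [Cfsg.Agent.S0034.mem_conj_smul_iff, h0]
      have : q'.out⁻¹ * (q'.out * (c' : G) * q'.out⁻¹) * q'.out = (c' : G) := by group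
      rw [this]; exact c'.2
    have hq := Cfsg.Agent.S0034.ti hC hg1 hm1 hm2
    have hqq : q = q' := by
      have : (QuotientGroup.mk q.out : G ⧸ C) = QuotientGroup.mk q'.out :=
        QuotientGroup.eq.mpr hq
      rwa [QuotientGroup.out_eq', QuotientGroup.out_eq'] at this
    subst hqq
    have hcc : (c : G) = (c' : G) := by
      have h3 : q.out * (c : G) * q.out⁻¹ = q.out * (c' : G) * q.out⁻¹ := hg.symm.trans h0
      exact mul_left_cancel (mul_right_cancel h3)
    have : c = c' := Subtype.ext hcc
    subst this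
    rfl
  have hsurj : Function.Surjective φ := by
    rintro ⟨g, hg⟩
    have hgN : g ∉ Cfsg.frobeniusKernel C := by
      intro hgk
      have hgN : g ∈ N := by
        have : g ∈ (N : Set G) := hNset ▸ hgk
        exact this
      have h1 : orderOf g ∣ C.index := by
        rw [← hNcard]
        have := orderOf_dvd_natCard (⟨g, hgN⟩ : N)
        rwa [Subgroup.orderOf_mk] at this
      rw [hg] at h1
      have : m ∣ Nat.gcd m C.index := Nat.dvd_gcd dvd_rfl h1
      rw [hcop] at this
      have := Nat.dvd_one.mp this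
      omega
    have : ∃ x : G, g ∈ MulAut.conj x • C := by
      by_contra h
      push Not at h
      exact hgN (Or.inr h)
    obtain ⟨x, hx⟩ := this
    rw [Cfsg.Agent.S0034.mem_conj_smul_iff] at hx
    set q : G ⧸ C := QuotientGroup.mk x with hq
    have hout : x⁻¹ * q.out ∈ C := QuotientGroup.eq.mp (by rw [hq, QuotientGroup.out_eq'])
    set c₀ : G := x⁻¹ * q.out with hc₀
    have hy : q.out = x * c₀ := by rw [hc₀]; group
    have hmem : q.out⁻¹ * g * q.out ∈ C := by
      have : q.out⁻¹ * g * q.out = c₀⁻¹ * (x⁻¹ * g * x) * c₀ := by rw [hy]; group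
      rw [this]
      exact C.mul_mem (C.mul_mem (C.inv_mem hout) hx) hout
    have hord : orderOf (⟨q.out⁻¹ * g * q.out, hmem⟩ : C) = m := by
      rw [Subgroup.orderOf_mk]
      have : q.out⁻¹ * g * q.out = MulAut.conj q.out⁻¹ g := by simp
      rw [this, MulEquiv.orderOf_eq]; exact hg
    refine ⟨(q, ⟨⟨q.out⁻¹ * g * q.out, hmem⟩, hord⟩), ?_⟩
    apply Subtype.ext
    show q.out * (q.out⁻¹ * g * q.out) * q.out⁻¹ = g
    group
  have hcard := Nat.card_congr (Equiv.ofBijective φ ⟨hinj, hsurj⟩)
  rw [← hcard, Nat.card_prod, Subgroup.index]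

end Cfsg.Agent.Lib.Helper78.S3999
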