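import Mathlib
import Cfsg.Prelude.Def_Solvable

/-!
# S3999 [SOLV-NOTPHI] (helper78 hedge): a finite solvable group never has exactly six Sylow
5-subgroups (special case of P. Hall's theorem on the number of Sylow subgroups of a solvable group).
-/

set_option autoImplicit false

namespace Cfsg.Agent.Lib.Helper78.S3999Hall

open Subgroup

/-- an abelian normal nontrivial subgroup contains a nontrivial normal `r`-subgroup of the group -/
theorem exists_normal_pgroup_of_abelian_normal {X : Type*} [Group X] [Finite X] (A : Subgroup X)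
    [hAn : A.Normal] (hA : A ≠ ⊥) (hcomm : ∀ a ∈ A, ∀ b ∈ A, a * b = b * a) :
    ∃ (r : ℕ) (N : Subgroup X), r.Prime ∧ N.Normal ∧ N ≠ ⊥ ∧ IsPGroup r N := by
  have hcard : Nat.card A ≠ 1 := fun h => hA (Subgroup.card_eq_one.mp h)
  have hr : (Nat.card A).minFac.Prime := Nat.minFac_prime hcard
  have : Fact (Nat.card A).minFac.Prime := ⟨hr⟩
  obtain ⟨x, hx⟩ := exists_prime_orderOf_dvd_card' (G := A) (Nat.card A).minFac
    (Nat.minFac_dvd _)
  let N : Subgroup X :=
    { carrier := {a | a ∈ A ∧ a ^ (Nat.card A).minFac = 1}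
      one_mem' := ⟨A.one_mem, one_pow _⟩
      mul_mem' := fun {a b} ha hb => ⟨A.mul_mem ha.1 hb.1, by
        rw [(show Commute a b from hcomm a ha.1 b hb.1).mul_pow, ha.2, hb.2, one_mul]⟩
      inv_mem' := fun {a} ha => ⟨A.inv_mem ha.1, by rw [inv_pow, ha.2, inv_one]⟩ }
  refine ⟨(Nat.card A).minFac, N, hr, ?_, ?_, ?_⟩
  · constructor
    intro n hn g
    refine ⟨hAn.conj_mem n hn.1 g, ?_⟩
    rw [conj_pow, hn.2, mul_one, mul_inv_cancel]
  · intro h
    have hxN : (x : X) ∈ N := by
      refine ⟨x.2, ?_⟩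
      have : x ^ (Nat.card A).minFac = 1 := by rw [← hx]; exact pow_orderOf_eq_one x
      have := congrArg Subtype.val this
      simpa using this
    rw [h, Subgroup.mem_bot] at hxN
    have : x = 1 := Subtype.ext hxN
    rw [this, orderOf_one] at hx
    exact hr.one_lt.ne hx
  · intro g
    refine ⟨1, ?_⟩
    apply Subtype.ext
    rw [pow_one]
    exact g.2.2

/-- (L1) a nontrivial finite solvable group has a nontrivial normal `r`-subgroup -/
theorem exists_normal_pgroup {X : Type*} [Group X] [Finite X] [Nontrivial X]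
    (hs : Group.IsSolvable X) :
    ∃ (r : ℕ) (N : Subgroup X), r.Prime ∧ N.Normal ∧ N ≠ ⊥ ∧ IsPGroup r N := by
  obtain ⟨n, hn⟩ := hs.solvable
  induction n with
  | zero =>
    exfalso
    rw [derivedSeries_zero] at hn
    exact top_ne_bot hn
  | succ k ih =>
    by_cases hk : derivedSeries X k = ⊥
    · exact ih hk
    · rw [derivedSeries_succ] at hn
      have hle : derivedSeries X k ≤ centralizer (derivedSeries X k : Set X) :=
        (Subgroup.commutator_eq_bot_iff_le_centralizer).mp hn
      refine exists_normal_pgroup_of_abelian_normal (derivedSeries X k) hk ?_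
      intro a ha b hb
      exact ((Subgroup.mem_centralizer_iff.mp (hle hb)) a ha)

/-- (L2) the number of Sylow subgroups of a quotient divides the number of Sylow subgroups -/
theorem card_sylow_dvd_of_surjective {G G' : Type*} [Group G] [Finite G] [Group G'] (f : G →* G')
    (hf : Function.Surjective f) (p : ℕ) [Fact p.Prime] :
    Nat.card (Sylow p G') ∣ Nat.card (Sylow p G) := by
  have : Finite G' := Finite.of_surjective f hf
  obtain ⟨Q⟩ : Nonempty (Sylow p G) := inferInstance
  rw [Q.card_eq_index_normalizer, (Q.mapSurjective hf).card_eq_index_normalizer]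
  rw [← Subgroup.index_comap_of_surjective _ hf]
  apply Subgroup.index_dvd_of_le
  exact Subgroup.map_le_iff_le_comap.mp (le_normalizer_map f)

theorem index_eq_relIndex_of_sup_eq_top {X : Type*} [Group X] [Finite X] (H M : Subgroup X)
    [M.Normal] (h : H ⊔ M = ⊤) : H.index = H.relIndex M := by
  have e1 : M.index = M.relIndex H := by
    have := relIndex_sup_right (H := H) (K := M)
    rw [h, relIndex_top_right] at this
    exact this
  have a1 : Nat.card (H ⊓ M : Subgroup X) * M.relIndex H = Nat.card H := by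
    have := relIndex_mul_relIndex (H := (⊥ : Subgroup X)) (K := H ⊓ M) (L := H) bot_le inf_le_left
    rwa [relIndex_bot_left, relIndex_bot_left, inf_relIndex_left] at this
  have a2 : Nat.card (H ⊓ M : Subgroup X) * H.relIndex M = Nat.card M := by
    have := relIndex_mul_relIndex (H := (⊥ : Subgroup X)) (K := H ⊓ M) (L := M) bot_le inf_le_right
    rwa [relIndex_bot_left, relIndex_bot_left, inf_relIndex_right] at this
  have b1 : Nat.card H * H.index = Nat.card X := H.card_mul_index
  have b2 : Nat.card M * M.index = Nat.card X := M.card_mul_index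
  have hc : 0 < Nat.card (H ⊓ M : Subgroup X) := Nat.card_pos
  have hM : 0 < M.index := Nat.pos_of_ne_zero index_ne_zero_of_finite
  rw [← a1, ← e1] at b1
  rw [← a2] at b2
  have : (Nat.card (H ⊓ M : Subgroup X) * M.index) * H.index =
      (Nat.card (H ⊓ M : Subgroup X) * M.index) * H.relIndex M := by
    rw [b1, ← b2]; ring
  exact Nat.eq_of_mul_eq_mul_left (Nat.mul_pos hc hM) this

/-- (L3) -/
theorem card_sylow_dvd_card_of_quot_unique {X : Type*} [Group X] [Finite X] (N : Subgroup X)
    [N.Normal] (p : ℕ) [Fact p.Prime] (h1 : Nat.card (Sylow p (X ⧸ N)) = 1) :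
    Nat.card (Sylow p X) ∣ Nat.card N := by
  obtain ⟨Q⟩ : Nonempty (Sylow p X) := inferInstance
  have hf : Function.Surjective (QuotientGroup.mk' N) := QuotientGroup.mk'_surjective N
  have hQ'n : ((Q.mapSurjective hf : Sylow p (X ⧸ N)) : Subgroup (X ⧸ N)).Normal := by
    rw [(Q.mapSurjective hf).card_eq_index_normalizer, Subgroup.index_eq_one] at h1
    exact normalizer_eq_top_iff.mp h1
  have hMn : (((Q.mapSurjective hf : Sylow p (X ⧸ N)) : Subgroup (X ⧸ N)).comap
      (QuotientGroup.mk' N)).Normal := hQ'n.comap _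
  have hQM : (Q : Subgroup X) ≤ ((Q.mapSurjective hf : Sylow p (X ⧸ N)) : Subgroup (X ⧸ N)).comap
      (QuotientGroup.mk' N) := Subgroup.le_comap_map _ _
  have hfr := Sylow.normalizer_sup_eq_top' Q hQM
  rw [Q.card_eq_index_normalizer, index_eq_relIndex_of_sup_eq_top _ _ hfr]
  have hdvd := relIndex_dvd_card (H := normalizer (Q : Set X))
    (K := ((Q.mapSurjective hf : Sylow p (X ⧸ N)) : Subgroup (X ⧸ N)).comap (QuotientGroup.mk' N))
  have hcardM : Nat.card (((Q.mapSurjective hf : Sylow p (X ⧸ N)) : Subgroup (X ⧸ N)).comap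
      (QuotientGroup.mk' N)) =
      Nat.card N * Nat.card ((Q.mapSurjective hf : Sylow p (X ⧸ N)) : Subgroup (X ⧸ N)) :=
    QuotientGroup.card_preimage_mk N
      (((Q.mapSurjective hf : Sylow p (X ⧸ N)) : Subgroup (X ⧸ N)) : Set (X ⧸ N))
  obtain ⟨k, hk⟩ := (Q.mapSurjective hf).2.exists_card_eq
  rw [hcardM] at hdvd
  have hk' : Nat.card ((Q.mapSurjective hf : Sylow p (X ⧸ N)) : Subgroup (X ⧸ N)) = p ^ k := hk
  rw [hk'] at hdvd
  refine Nat.Coprime.dvd_of_dvd_mul_right ?_ hdvd
  apply Nat.Coprime.pow_right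
  rw [← index_eq_relIndex_of_sup_eq_top _ _ hfr, ← Q.card_eq_index_normalizer]
  have hmod := card_sylow_modEq_one p X
  have hp : p.Prime := Fact.out
  rw [Nat.coprime_comm, hp.coprime_iff_not_dvd]
  intro hdiv
  have h0 : Nat.card (Sylow p X) ≡ 0 [MOD p] := (Nat.modEq_zero_iff_dvd).mpr hdiv
  have h10 : 1 ≡ 0 [MOD p] := hmod.symm.trans h0
  have : p ∣ 1 := (Nat.modEq_zero_iff_dvd).mp h10
  exact hp.one_lt.ne' (Nat.dvd_one.mp this)

/-- (L4) -/
theorem card_orderOf_five {X : Type*} [Group X] [Finite X]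
    (h5 : (Nat.card X).factorization 5 = 1) :
    Nat.card {x : X // orderOf x = 5} = 4 * Nat.card (Sylow 5 X) := by
  classical
  have : Fact (Nat.Prime 5) := ⟨by norm_num⟩
  have : Fintype (Sylow 5 X) := Fintype.ofFinite _
  have hP : ∀ P : Sylow 5 X, Nat.card (P : Subgroup X) = 5 := fun P => by
    rw [P.card_eq_multiplicity, h5, pow_one]
  have hord : ∀ (P : Sylow 5 X) (x : X), x ∈ P → x ≠ 1 → orderOf x = 5 := by
    intro P x hx hx1
    have hdvd : orderOf x ∣ 5 := by
      have := orderOf_dvd_natCard (⟨x, hx⟩ : (P : Subgroup X))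
      rwa [Subgroup.orderOf_mk, hP P] at this
    rcases (Nat.dvd_prime (by norm_num : Nat.Prime 5)).mp hdvd with h | h
    · exact absurd (orderOf_eq_one_iff.mp h) hx1
    · exact h
  have hz : ∀ x : X, orderOf x = 5 →
      Nat.card (zpowers x) = 5 ^ (Nat.card X).factorization 5 := by
    intro x hx; rw [Nat.card_zpowers, hx, h5, pow_one]
  let e : {x : X // orderOf x = 5} ≃ {q : Sylow 5 X × X // q.2 ∈ q.1 ∧ q.2 ≠ 1} :=
    { toFun := fun x => ⟨(Sylow.ofCard (zpowers x.1) (hz x.1 x.2), x.1), mem_zpowers x.1, by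
        intro h
        have h' : x.1 = 1 := h
        have := x.2; rw [h', orderOf_one] at this; omega⟩
      invFun := fun q => ⟨q.1.2, hord q.1.1 q.1.2 q.2.1 q.2.2⟩
      left_inv := fun x => rfl
      right_inv := by
        rintro ⟨⟨P, x⟩, hxP, hx1⟩
        apply Subtype.ext
        apply Prod.ext
        · apply Sylow.ext
          apply Subgroup.eq_of_le_of_card_ge
          · show zpowers x ≤ P
            rw [zpowers_le]; exact hxP
          · show Nat.card P ≤ Nat.card (zpowers x)
            rw [hP P, Nat.card_zpowers, hord P x hxP hx1]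
        · rfl }
  rw [Nat.card_congr e]
  rw [Nat.card_congr (Equiv.subtypeProdEquivSigmaSubtype
    (fun (P : Sylow 5 X) (x : X) => x ∈ P ∧ x ≠ 1))]
  rw [Nat.card_sigma]
  have h4 : ∀ P : Sylow 5 X, Nat.card {x : X // x ∈ P ∧ x ≠ 1} = 4 := by
    intro P
    have e1 : Nat.card {x : X // x ∈ P ∧ x ≠ 1} = (((P : Subgroup X) : Set X) \ {1}).ncard := by
      rw [← Nat.card_coe_set_eq]
      exact Nat.card_congr (Equiv.subtypeEquivRight (by intro x; simp))
    rw [e1, Set.ncard_sdiff_singleton_of_mem (P : Subgroup X).one_mem, ← Nat.card_coe_set_eq]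
    have : Nat.card ((P : Subgroup X) : Set X) = 5 := hP P
    rw [this]
  simp only [h4]
  rw [Finset.sum_const, Finset.card_univ, smul_eq_mul, Nat.card_eq_fintype_card, mul_comm]

universe u

/-- P. Hall (special case): a finite solvable group never has exactly six Sylow 5-subgroups. -/
theorem card_sylow_five_ne_six_aux : ∀ (n : ℕ) (X : Type u) [Group X] [Finite X],
    Nat.card X = n → Group.IsSolvable X → Nat.card (Sylow 5 X) ≠ 6 := by
  intro n
  induction n using Nat.strong_induction_on with
  | _ n ih =>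
    intro X _ _ hn hs h6
    have : Fact (Nat.Prime 5) := ⟨by norm_num⟩
    by_cases hnt : Nontrivial X
    · obtain ⟨r, N, hr, hNn, hNbot, hNp⟩ := exists_normal_pgroup hs
      have : Fact r.Prime := ⟨hr⟩
      have hsY : Group.IsSolvable (X ⧸ N) :=
        Group.isSolvable_of_surjective (QuotientGroup.mk'_surjective N)
      have hcard : Nat.card X = Nat.card (X ⧸ N) * Nat.card N :=
        Subgroup.card_eq_card_quotient_mul_card_subgroup N
      have hN1 : 1 < Nat.card N := by
        have h0 : 0 < Nat.card N := Nat.card_pos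
        have h1 : Nat.card N ≠ 1 := fun h => hNbot (Subgroup.card_eq_one.mp h)
        omega
      have hYpos : 0 < Nat.card (X ⧸ N) := Nat.card_pos
      have hlt : Nat.card (X ⧸ N) < n := by
        rw [← hn, hcard]
        nlinarith
      have hne := ih _ hlt (X ⧸ N) rfl hsY
      have hd : Nat.card (Sylow 5 (X ⧸ N)) ∣ 6 := by
        rw [← h6]
        exact card_sylow_dvd_of_surjective (QuotientGroup.mk' N) (QuotientGroup.mk'_surjective N) 5
      have hm : Nat.card (Sylow 5 (X ⧸ N)) ≡ 1 [MOD 5] := card_sylow_modEq_one 5 (X ⧸ N)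
      have h1 : Nat.card (Sylow 5 (X ⧸ N)) = 1 := by
        have hle : Nat.card (Sylow 5 (X ⧸ N)) ≤ 6 := Nat.le_of_dvd (by norm_num) hd
        unfold Nat.ModEq at hm
        have hpos : 0 < Nat.card (Sylow 5 (X ⧸ N)) := Nat.card_pos
        interval_cases h : Nat.card (Sylow 5 (X ⧸ N)) <;> omega
      have hdvd := card_sylow_dvd_card_of_quot_unique N 5 h1
      rw [h6] at hdvd
      obtain ⟨j, hj⟩ := hNp.exists_card_eq
      rw [hj] at hdvd
      have h2 : 2 ∣ r := (Nat.prime_two.dvd_of_dvd_pow ((by norm_num : 2 ∣ 6).trans hdvd))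
      have h3 : 3 ∣ r := (Nat.prime_three.dvd_of_dvd_pow ((by norm_num : 3 ∣ 6).trans hdvd))
      have e2 : 2 = r := (Nat.prime_dvd_prime_iff_eq Nat.prime_two hr).mp h2
      have e3 : 3 = r := (Nat.prime_dvd_prime_iff_eq Nat.prime_three hr).mp h3
      omega
    · rw [not_nontrivial_iff_subsingleton] at hnt
      have : Subsingleton (Sylow 5 X) := ⟨fun P Q => Sylow.ext (Subsingleton.elim _ _)⟩
      have : Nat.card (Sylow 5 X) ≤ 1 := Finite.card_le_one_iff_subsingleton.mpr this
      omega

theorem card_sylow_five_ne_six {X : Type*} [Group X] [Finite X] (hs : Group.IsSolvable X) :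
    Nat.card (Sylow 5 X) ≠ 6 :=
  card_sylow_five_ne_six_aux _ X rfl hs

/-- [SOLV-NOTPHI] a solvable group (in particular a solvable Frobenius complement) does not have
`5 ‖ |X|` together with exactly 24 elements of order 5 (that would be six Sylow 5-subgroups). -/
theorem solvable_complement_not_phi {X : Type*} [Group X] [Finite X] (hs : Group.IsSolvable X)
    (_hFC : ∃ (L : Type) (_ : Group L) (_ : Finite L) (H : Subgroup L),
      Cfsg.IsFrobeniusComplement H ∧ Nonempty (X ≃* H)) :
    ¬ ((Nat.card X).factorization 5 = 1 ∧ Nat.card {x : X // orderOf x = 5} = 24) := by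
  rintro ⟨h5, h24⟩
  rw [card_orderOf_five h5] at h24
  have h6 : Nat.card (Sylow 5 X) = 6 := by omega
  exact card_sylow_five_ne_six hs h6

end Cfsg.Agent.Lib.Helper78.S3999Hall
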