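import Mathlib
import Cfsg.Prelude.Def_Solvable
import Cfsg.Agent.S3359
import Cfsg.Agent.S3378
import Cfsg.Agent.Lib.Helper35.FCNonsolvD
import Cfsg.Agent.Lib.Helper89.S3999SL25

/-!
# S3999 [NS-PHI] (helper78 hedge): a non-solvable Frobenius complement `X` has `5 ‖ |X|` and exactly
24 elements of order 5 (from the structure theorem S3359).
-/

set_option autoImplicit false

namespace Cfsg.Agent.Lib.Helper78.S3999Ns

open Cfsg

/-- elements of order 5 of `X` lie in `S` -/
theorem mem_S_of_orderOf_five {X : Type*} [Group X] [Finite X] (G₀ S M : Subgroup X)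
    (hidx : G₀.index = 1 ∨ G₀.index = 2) (hSM : S ⊔ M = G₀) (hinf : S ⊓ M = ⊥)
    (hcomm : ∀ s ∈ S, ∀ x ∈ M, s * x = x * s) (hM : (Nat.card M).Coprime 30)
    (x : X) (hx : orderOf x = 5) : x ∈ S := by
  have hx5 : x ^ 5 = 1 := by rw [← hx]; exact pow_orderOf_eq_one x
  have hxG₀ : x ∈ G₀ := by
    rcases hidx with h | h
    · rw [Subgroup.index_eq_one.mp h]; exact Subgroup.mem_top x
    · have h2 : x ^ 2 ∈ G₀ := Subgroup.sq_mem_of_index_two h x
      have h6 : (x ^ 2) ^ 3 ∈ G₀ := G₀.pow_mem h2 3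
      have : (x ^ 2) ^ 3 = x := by
        rw [← pow_mul]
        show x ^ 6 = x
        rw [show (6 : ℕ) = 5 + 1 from rfl, pow_succ, hx5, one_mul]
      rwa [this] at h6
  rw [← hSM] at hxG₀
  obtain ⟨s, hs, m, hm, rfl⟩ := Cfsg.Agent.Lib.Helper35.FCD.exists_mul_of_mem_sup S M hcomm hxG₀
  have hc : Commute s m := hcomm s hs m hm
  have h5 : s ^ 5 * m ^ 5 = 1 := by rw [← hc.mul_pow]; exact hx5
  have hs5 : s ^ 5 = (m ^ 5)⁻¹ := eq_inv_of_mul_eq_one_left h5
  have hmem : s ^ 5 ∈ S ⊓ M :=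
    ⟨S.pow_mem hs 5, by rw [hs5]; exact M.inv_mem (M.pow_mem hm 5)⟩
  rw [hinf, Subgroup.mem_bot] at hmem
  have hm5 : m ^ 5 = 1 := by rw [hmem, one_mul] at h5; exact h5
  have hm1 : m = 1 := by
    have hd1 : orderOf m ∣ 5 := orderOf_dvd_of_pow_eq_one hm5
    have hd2 : orderOf m ∣ Nat.card M := by
      have := orderOf_dvd_natCard (⟨m, hm⟩ : M)
      rwa [Subgroup.orderOf_mk] at this
    have hd3 : orderOf m ∣ Nat.gcd (Nat.card M) 30 :=
      Nat.dvd_gcd hd2 (hd1.trans (by norm_num))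
    rw [hM] at hd3
    exact orderOf_eq_one_iff.mp (Nat.dvd_one.mp hd3)
  rw [hm1, mul_one]
  exact hs

/-- [NS-PHI] -/
theorem nonsolvable_complement_phi {X : Type*} [Group X] [Finite X] (hns : ¬ Group.IsSolvable X)
    (hFC : ∃ (L : Type) (_ : Group L) (_ : Finite L) (H : Subgroup L),
      Cfsg.IsFrobeniusComplement H ∧ Nonempty (X ≃* H)) :
    (Nat.card X).factorization 5 = 1 ∧ Nat.card {x : X // orderOf x = 5} = 24 := by
  obtain ⟨G₀, -, hidx, S, M, hSM, hinf, hcomm, ⟨e⟩, -, hM⟩ := Cfsg.Agent.S3359.result hns hFC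
  constructor
  · have hS : Nat.card S = 120 := (Nat.card_congr e.toEquiv).trans Cfsg.Agent.S3378.card_SL25
    have hG₀ : Nat.card G₀ = 120 * Nat.card M := by
      have := Cfsg.Agent.Lib.Helper35.FCD.card_sup S M hcomm hinf
      rw [hS, hSM] at this
      exact this
    have hX : Nat.card X = 5 * (24 * Nat.card M * G₀.index) := by
      rw [← G₀.card_mul_index, hG₀]; ring
    have h5p : (5 : ℕ).Prime := by norm_num
    have hMpos : 0 < Nat.card M := Nat.card_pos
    have hnd : ¬ 5 ∣ 24 * Nat.card M * G₀.index := by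
      intro h
      rcases (h5p.dvd_mul).mp h with h | h
      · rcases (h5p.dvd_mul).mp h with h | h
        · omega
        · have : 5 ∣ Nat.gcd (Nat.card M) 30 := Nat.dvd_gcd h (by norm_num)
          rw [hM] at this
          omega
      · rcases hidx with h' | h' <;> rw [h'] at h <;> omega
    have hne : 24 * Nat.card M * G₀.index ≠ 0 := by
      intro h0; rw [h0] at hnd; exact hnd (dvd_zero 5)
    rw [hX, Nat.factorization_mul (by norm_num) hne, Finsupp.add_apply,
      h5p.factorization_self, Nat.factorization_eq_zero_of_not_dvd hnd]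
  · have hmem := mem_S_of_orderOf_five G₀ S M hidx hSM hinf hcomm hM
    let φ : {x : X // orderOf x = 5} ≃ {s : S // orderOf s = 5} :=
      { toFun := fun x => ⟨⟨x.1, hmem x.1 x.2⟩, by rw [Subgroup.orderOf_mk]; exact x.2⟩
        invFun := fun s => ⟨(s.1 : X), by rw [Subgroup.orderOf_coe]; exact s.2⟩
        left_inv := fun x => rfl
        right_inv := fun s => rfl }
    let ψ : {s : S // orderOf s = 5} ≃
        {t : Matrix.SpecialLinearGroup (Fin 2) (ZMod 5) // orderOf t = 5} :=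
      e.toEquiv.subtypeEquiv (fun s => by
        show orderOf s = 5 ↔ orderOf (e s) = 5
        rw [MulEquiv.orderOf_eq])
    rw [Nat.card_congr (φ.trans ψ)]
    exact Cfsg.Agent.Lib.Helper89.S3999.sl25_card_order_five

end Cfsg.Agent.Lib.Helper78.S3999Ns
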