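import Mathlib
import Cfsg.Agent.Lib.Helper78.S4700Defs

set_option autoImplicit false

/-!
# S4700: the arithmetic of the degrees of the principal block (helper78)

`HasFormula p n` (conclusion (iii) of S4700) holds as soon as `(p - 1) (1 + n p)` has a divisor
`1 + u p` with `1 ≤ u < n`.  So when it fails, the degrees of the principal block are as rigid as
under Brauer's bound `2 n < p + 3`.
-/

namespace Cfsg.Agent.Lib.Helper78.S4700

/-- A divisor `1 + u p` of `(p - 1) (1 + n p)` with `1 ≤ u < n` gives the formula. -/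
theorem formula_of_dvd {p n u : ℕ} (hu : 1 ≤ u) (hun : u < n)
    (hd : 1 + u * p ∣ (p - 1) * (1 + n * p)) (hp : 1 ≤ p) : HasFormula p n := by
  have hdZ : ((1 + u * p : ℕ) : ℤ) ∣ (((p - 1) * (1 + n * p) : ℕ) : ℤ) :=
    Int.natCast_dvd_natCast.mpr hd
  have hp1 : ((p - 1 : ℕ) : ℤ) = (p : ℤ) - 1 := by
    push_cast [Nat.cast_sub hp]; ring
  have key : ((1 + u * p : ℕ) : ℤ) ∣ ((u : ℤ) + 1) * ((n : ℤ) - u) := by
    have h1 : ((u : ℤ) + 1) * ((n : ℤ) - u) =
        (u : ℤ) ^ 2 * (((p - 1) * (1 + n * p) : ℕ) : ℤ) -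
          ((1 + u * p : ℕ) : ℤ) * ((n : ℤ) * (1 + u * p) + u - 2 * n - u * n) := by
      push_cast [hp1]; ring
    rw [h1]
    exact dvd_sub (Dvd.dvd.mul_left hdZ _) (dvd_mul_right _ _)
  obtain ⟨h, hh⟩ := key
  have hunZ : (u : ℤ) < n := by exact_mod_cast hun
  have huZ : (1 : ℤ) ≤ u := by exact_mod_cast hu
  have hpZ : (1 : ℤ) ≤ p := by exact_mod_cast hp
  have hApos : (0 : ℤ) < ((1 + u * p : ℕ) : ℤ) := by positivity
  have hLpos : (0 : ℤ) < ((u : ℤ) + 1) * ((n : ℤ) - u) := by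
    apply mul_pos <;> linarith
  have hhpos : 0 < h := by
    by_contra hcon
    push Not at hcon
    have : ((1 + u * p : ℕ) : ℤ) * h ≤ 0 := mul_nonpos_of_nonneg_of_nonpos hApos.le hcon
    linarith
  obtain ⟨h', hh'⟩ : ∃ h' : ℕ, (h' : ℤ) = h := ⟨h.toNat, Int.toNat_of_nonneg hhpos.le⟩
  refine ⟨h', u, ?_, hu, ?_⟩
  · have : (0 : ℤ) < (h' : ℤ) := by rw [hh']; exact hhpos
    exact_mod_cast this
  · have : ((n * (u + 1) : ℕ) : ℤ) = ((h' * u * p + u ^ 2 + u + h' : ℕ) : ℤ) := by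
      push_cast
      rw [hh']
      push_cast at hh
      linear_combination hh
    exact_mod_cast this

/-- `q ∣ p - 1` gives `IsCoprime p q` in `ℤ`. -/
theorem isCoprime_of_dvd_pred {p q : ℕ} (hq : q ∣ p - 1) (hp : 1 ≤ p) :
    IsCoprime (p : ℤ) (q : ℤ) := by
  obtain ⟨t, ht⟩ := hq
  have h1 : (p : ℤ) = q * t + 1 := by
    have : p = q * t + 1 := by omega
    exact_mod_cast this
  exact ⟨1, -(t : ℤ), by rw [h1]; ring⟩

/-- writing `z = 1 + u p` -/
theorem exists_eq_one_add_mul {p z : ℕ} (hp : 1 ≤ p) (hz0 : 0 < z)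
    (hcong : (p : ℤ) ∣ (z : ℤ) - 1) : ∃ u : ℕ, z = 1 + u * p := by
  obtain ⟨k, hk⟩ := hcong
  have hpZ : (1 : ℤ) ≤ p := by exact_mod_cast hp
  have hzZ : (0 : ℤ) < z := by exact_mod_cast hz0
  have hk0 : 0 ≤ k := by
    by_contra h
    push Not at h
    have : k ≤ -1 := by omega
    nlinarith
  obtain ⟨u, hu⟩ : ∃ u : ℕ, (u : ℤ) = k := ⟨k.toNat, Int.toNat_of_nonneg hk0⟩
  refine ⟨u, ?_⟩
  have : (z : ℤ) = 1 + u * p := by rw [hu]; linarith
  exact_mod_cast this

/-- Degrees of the characters of sign `+`. -/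
theorem deg_plus_gen {p q n z : ℕ} (hq : q ∣ p - 1) (hq0 : 0 < q) (hp : 2 ≤ p) (hz0 : 0 < z)
    (hz1 : z ≠ 1) (hcong : (p : ℤ) ∣ (z : ℤ) - 1) (hdvd : z ∣ q * (1 + n * p))
    (hno : ¬ HasFormula p n) : z = 1 + n * p := by
  obtain ⟨u, hu⟩ := exists_eq_one_add_mul (by omega) hz0 hcong
  have hu1 : 1 ≤ u := by
    rcases Nat.eq_zero_or_pos u with h | h
    · rw [h] at hu; simp at hu; exact absurd hu hz1
    · exact h
  have hqp : q < p := by
    have := Nat.le_of_dvd (by omega) hq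
    omega
  obtain ⟨m, hm⟩ := hdvd
  have hm0 : 0 < m := by
    rcases Nat.eq_zero_or_pos m with h | h
    · rw [h, mul_zero] at hm
      have : 0 < q * (1 + n * p) := Nat.mul_pos hq0 (by omega)
      omega
    · exact h
  -- `m ≡ q mod p`
  have hmq : (p : ℤ) ∣ (m : ℤ) - q := by
    refine ⟨(q : ℤ) * n - u * m, ?_⟩
    have h1 : ((q * (1 + n * p) : ℕ) : ℤ) = ((z * m : ℕ) : ℤ) := by rw [hm]
    rw [hu] at h1
    push_cast at h1
    linear_combination -h1
  have hmq' : q ≤ m := by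
    by_contra hlt
    push Not at hlt
    have h1 : (p : ℤ) ∣ (q : ℤ) - m := by
      have := hmq.neg_right
      rwa [neg_sub] at this
    have h2 : (0 : ℤ) < (q : ℤ) - m := by
      have : (m : ℤ) < q := by exact_mod_cast hlt
      linarith
    have h3 := Int.le_of_dvd h2 h1
    have h4 : (q : ℤ) < p := by exact_mod_cast hqp
    have h5 : (0 : ℤ) < m := by exact_mod_cast hm0
    linarith
  -- `z ≤ 1 + n p`
  have hzle : z ≤ 1 + n * p := by
    have h1 : z * q ≤ z * m := Nat.mul_le_mul (le_refl _) hmq'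
    rw [← hm] at h1
    have h2 : z * q ≤ (1 + n * p) * q := by rw [mul_comm (1 + n * p) q]; exact h1
    exact Nat.le_of_mul_le_mul_right h2 hq0
  have hun : u ≤ n := by
    rw [hu] at hzle
    have : u * p ≤ n * p := by omega
    exact Nat.le_of_mul_le_mul_right this (by omega)
  rcases Nat.lt_or_ge u n with hlt | hge
  · exfalso
    apply hno
    apply formula_of_dvd hu1 hlt _ (by omega)
    rw [← hu]
    obtain ⟨t, ht⟩ := hq
    exact ⟨m * t, by rw [ht]; calc q * t * (1 + n * p) = q * (1 + n * p) * t := by ring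
      _ = z * m * t := by rw [hm]
      _ = z * (m * t) := by ring⟩
  · have : u = n := le_antisymm hun hge
    rw [hu, this]

/-- The exceptional degree when `ε = 1`. -/
theorem deg_exc_plus_gen {p q n z : ℕ} (hqd : q ∣ p - 1) (hq0 : 0 < q) (hqp : q < p)
    (hp : 2 ≤ p) (hz0 : 0 < z) (hcong : (p : ℤ) ∣ (z : ℤ) - q) (hdvd : z ∣ q * (1 + n * p))
    (hne : z ≠ q * (1 + n * p)) (hno : ¬ HasFormula p n) : z = q := by
  obtain ⟨m, hm⟩ := hdvd
  have hm0 : 0 < m := by
    rcases Nat.eq_zero_or_pos m with h | h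
    · rw [h, mul_zero] at hm
      have : 0 < q * (1 + n * p) := Nat.mul_pos hq0 (by omega)
      omega
    · exact h
  obtain ⟨k, hk⟩ := hcong
  have hmZ : (q : ℤ) * (1 + n * p) = z * m := by exact_mod_cast hm
  -- `m ≡ 1 mod p`
  have hm1 : (p : ℤ) ∣ (m : ℤ) - 1 := by
    have h1 : (p : ℤ) ∣ (q : ℤ) * ((m : ℤ) - 1) := by
      refine ⟨(q : ℤ) * n - k * m, ?_⟩
      have hz : (z : ℤ) = q + p * k := by linarith
      rw [hz] at hmZ
      linear_combination -hmZ
    exact (isCoprime_of_dvd_pred hqd (by omega)).dvd_of_dvd_mul_left h1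
  obtain ⟨u, hu⟩ := exists_eq_one_add_mul (by omega) hm0 hm1
  rcases Nat.eq_zero_or_pos u with hu0 | hu1
  · exfalso
    rw [hu0] at hu
    simp at hu
    rw [hu, mul_one] at hm
    exact hne hm.symm
  rcases Nat.lt_or_ge u n with hlt | hge
  · exfalso
    apply hno
    apply formula_of_dvd hu1 hlt _ (by omega)
    rw [← hu]
    obtain ⟨t, ht⟩ := hqd
    exact ⟨z * t, by rw [ht]; calc q * t * (1 + n * p) = q * (1 + n * p) * t := by ring
      _ = z * m * t := by rw [hm]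
      _ = m * (z * t) := by ring⟩
  · -- `m ≥ 1 + n p`, so `z ≤ q`
    have hmS : 1 + n * p ≤ m := by
      rw [hu]
      have : n * p ≤ u * p := Nat.mul_le_mul hge (le_refl _)
      omega
    have hzq : z ≤ q := by
      have h1 : z * (1 + n * p) ≤ z * m := Nat.mul_le_mul (le_refl _) hmS
      rw [← hm] at h1
      exact Nat.le_of_mul_le_mul_right h1 (by omega)
    by_contra hzne
    have hlt : z < q := lt_of_le_of_ne hzq hzne
    have h1 : (p : ℤ) ∣ (q : ℤ) - z := ⟨-k, by linarith⟩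
    have h2 : (0 : ℤ) < (q : ℤ) - z := by
      have : (z : ℤ) < q := by exact_mod_cast hlt
      linarith
    have h3 := Int.le_of_dvd h2 h1
    have h4 : (q : ℤ) < p := by exact_mod_cast hqp
    have h5 : (0 : ℤ) < z := by exact_mod_cast hz0
    linarith

/-- The exceptional degree when `ε = -1`. -/
theorem deg_exc_minus_gen {p q t n z : ℕ} (hpqt : p - 1 = q * t) (hq : 1 ≤ q) (ht : 2 ≤ t)
    (hp : 2 ≤ p) (hz0 : 0 < z) (hcong : (p : ℤ) ∣ (z : ℤ) + q) (hdvd : z ∣ q * (1 + n * p))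
    (hno : ¬ HasFormula p n) : ∃ c : ℕ, 1 ≤ c ∧ z + q = c * p ∧ t * z = 1 + n * p := by
  obtain ⟨k, hk⟩ := hcong
  have hpZ : (2 : ℤ) ≤ p := by exact_mod_cast hp
  have hzZ : (0 : ℤ) < z := by exact_mod_cast hz0
  have hqZ : (1 : ℤ) ≤ q := by exact_mod_cast hq
  have hk1 : 1 ≤ k := by
    by_contra h
    push Not at h
    have : k ≤ 0 := by omega
    nlinarith
  obtain ⟨c, hc⟩ : ∃ c : ℕ, (c : ℤ) = k := ⟨k.toNat, Int.toNat_of_nonneg (by omega)⟩
  have hc1 : 1 ≤ c := by
    have : (1 : ℤ) ≤ c := by rw [hc]; exact hk1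
    exact_mod_cast this
  have hzc : z + q = c * p := by
    have : (z : ℤ) + q = c * p := by rw [hc]; linarith
    exact_mod_cast this
  refine ⟨c, hc1, hzc, ?_⟩
  have htc : 1 ≤ t * c - 1 := by
    have : 2 ≤ t * c := by nlinarith
    omega
  have hp1 : p = q * t + 1 := by omega
  have htz : t * z = 1 + (t * c - 1) * p := by
    have h1 : (t : ℤ) * z = 1 + ((t : ℤ) * c - 1) * p := by
      have h2 : (z : ℤ) = c * p - q := by
        have : (z : ℤ) + q = c * p := by exact_mod_cast hzc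
        linarith
      have h3 : (p : ℤ) = q * t + 1 := by exact_mod_cast hp1
      rw [h2]
      linear_combination h3
    have h4 : ((t * c - 1 : ℕ) : ℤ) = (t : ℤ) * c - 1 := by
      have : 1 ≤ t * c := by omega
      push_cast [Nat.cast_sub this]
      ring
    have : ((t * z : ℕ) : ℤ) = ((1 + (t * c - 1) * p : ℕ) : ℤ) := by
      push_cast [h4]
      exact h1
    exact_mod_cast this
  obtain ⟨m, hm⟩ : 1 + (t * c - 1) * p ∣ (p - 1) * (1 + n * p) := by
    rw [← htz, hpqt]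
    obtain ⟨m, hm⟩ := hdvd
    exact ⟨m, by
      calc q * t * (1 + n * p) = t * (q * (1 + n * p)) := by ring
        _ = t * (z * m) := by rw [hm]
        _ = t * z * m := by ring⟩
  -- the cofactor is `≡ -1 mod p`
  have hm0 : 0 < m := by
    rcases Nat.eq_zero_or_pos m with h | h
    · rw [h, mul_zero] at hm
      have : 0 < (p - 1) * (1 + n * p) := Nat.mul_pos (by omega) (by omega)
      omega
    · exact h
  have hp1Z : ((p - 1 : ℕ) : ℤ) = (p : ℤ) - 1 := by
    push_cast [Nat.cast_sub (by omega : 1 ≤ p)]; ring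
  have hmZ : ((p : ℤ) - 1) * (1 + n * p) = (1 + ((t * c - 1 : ℕ) : ℤ) * p) * m := by
    have : (((p - 1) * (1 + n * p) : ℕ) : ℤ) = (((1 + (t * c - 1) * p) * m : ℕ) : ℤ) := by
      rw [hm]
    push_cast [hp1Z] at this
    exact this
  have hmm : (p : ℤ) ∣ (m : ℤ) + 1 := by
    refine ⟨1 + ((p : ℤ) - 1) * n - ((t * c - 1 : ℕ) : ℤ) * m, ?_⟩
    linear_combination -hmZ
  have hmp : p - 1 ≤ m := by
    have h1 := Int.le_of_dvd (by positivity) hmm
    have : p ≤ m + 1 := by exact_mod_cast h1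
    omega
  -- `u ≤ n`
  have hun : t * c - 1 ≤ n := by
    by_contra hlt
    push Not at hlt
    have h1 : (1 + n * p) < 1 + (t * c - 1) * p := by
      have : n * p < (t * c - 1) * p := Nat.mul_lt_mul_of_pos_right hlt (by omega)
      omega
    have h2 : (p - 1) * (1 + n * p) < (1 + (t * c - 1) * p) * m := by
      calc (p - 1) * (1 + n * p) < (p - 1) * (1 + (t * c - 1) * p) :=
            Nat.mul_lt_mul_of_pos_left h1 (by omega)
        _ = (1 + (t * c - 1) * p) * (p - 1) := by ring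
        _ ≤ (1 + (t * c - 1) * p) * m := Nat.mul_le_mul (le_refl _) hmp
    omega
  rcases Nat.lt_or_ge (t * c - 1) n with hlt | hge
  · exfalso
    apply hno
    exact formula_of_dvd htc hlt ⟨m, hm⟩ (by omega)
  · have : t * c - 1 = n := le_antisymm hun hge
    rw [htz, this]

/-- Degrees of the characters of sign `-`. -/
theorem deg_minus_gen {p q t n z : ℕ} (hpqt : p - 1 = q * t) (hq : 1 ≤ q) (ht : 1 ≤ t)
    (hp : 2 ≤ p) (hz0 : 0 < z) (hcong : (p : ℤ) ∣ (z : ℤ) + 1) (hdvd : z ∣ q * (1 + n * p))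
    (hno : ¬ HasFormula p n) : z = p - 1 ∨ (t = 1 ∧ z = (p - 1) * (1 + n * p)) := by
  obtain ⟨k, hk⟩ := hcong
  obtain ⟨m, hm⟩ := hdvd
  have hm0 : 0 < m := by
    rcases Nat.eq_zero_or_pos m with h | h
    · rw [h, mul_zero] at hm
      have : 0 < q * (1 + n * p) := Nat.mul_pos hq (by omega)
      omega
    · exact h
  -- `d = t m`
  have hd : z * (t * m) = (p - 1) * (1 + n * p) := by
    rw [hpqt]
    calc z * (t * m) = z * m * t := by ring
      _ = q * (1 + n * p) * t := by rw [hm]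
      _ = q * t * (1 + n * p) := by ring
  have hd0 : 0 < t * m := Nat.mul_pos (by omega) hm0
  have hp1Z : ((p - 1 : ℕ) : ℤ) = (p : ℤ) - 1 := by
    push_cast [Nat.cast_sub (by omega : 1 ≤ p)]; ring
  have hdZ : (z : ℤ) * ((t * m : ℕ) : ℤ) = ((p : ℤ) - 1) * (1 + n * p) := by
    have : ((z * (t * m) : ℕ) : ℤ) = (((p - 1) * (1 + n * p) : ℕ) : ℤ) := by rw [hd]
    push_cast [hp1Z] at this
    push_cast
    exact this
  have hd1 : (p : ℤ) ∣ ((t * m : ℕ) : ℤ) - 1 := by
    refine ⟨k * ((t * m : ℕ) : ℤ) - 1 - ((p : ℤ) - 1) * n, ?_⟩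
    have hz : (z : ℤ) = p * k - 1 := by linarith
    rw [hz] at hdZ
    linear_combination -hdZ
  obtain ⟨u, hu⟩ := exists_eq_one_add_mul (by omega) hd0 hd1
  have hzp : p - 1 ≤ z := by
    have hzZ : (0 : ℤ) < (z : ℤ) + 1 := by positivity
    have h1 := Int.le_of_dvd hzZ ⟨k, hk⟩
    have : p ≤ z + 1 := by exact_mod_cast h1
    omega
  rcases Nat.eq_zero_or_pos u with hu0 | hu1
  · right
    rw [hu0] at hu
    simp at hu
    obtain ⟨ht1, hm1⟩ := hu
    refine ⟨ht1, ?_⟩
    rw [ht1, hm1, mul_one, mul_one] at hd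
    exact hd
  rcases Nat.lt_or_ge u n with hlt | hge
  · exfalso
    apply hno
    apply formula_of_dvd hu1 hlt _ (by omega)
    rw [← hu]
    exact ⟨z, by rw [← hd]; ring⟩
  · left
    -- `t m ≥ 1 + n p`
    have hdS : 1 + n * p ≤ t * m := by
      rw [hu]
      have : n * p ≤ u * p := Nat.mul_le_mul hge (le_refl _)
      omega
    have hzle : z ≤ p - 1 := by
      have h1 : z * (1 + n * p) ≤ z * (t * m) := Nat.mul_le_mul (le_refl _) hdS
      rw [hd] at h1
      exact Nat.le_of_mul_le_mul_right h1 (by omega)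
    omega

end Cfsg.Agent.Lib.Helper78.S4700
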