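import Mathlib
import Cfsg.Agent.Lib.Helper78.S4700Arith
import Cfsg.Agent.Lib.Helper78.DefectOneEndgame

set_option autoImplicit false
set_option maxHeartbeats 800000
open Cfsg

/-!
# S4700: a character of sign `-` and degree `p - 1` in the principal block (helper78)

In the situation of the degree analysis (`DefectOneData`, trivial character in `X`, characters of
sign `+` of degree `1 + n p`, the degree on `Y` known), when the formula (iii) fails there is a
character of sign `-` in `X`, and every such character has degree `p - 1`.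
-/

namespace Cfsg.Agent.Lib.Helper78.S4700

open Cfsg.Agent.Lib.Helper78 (DefectOneData)

theorem exists_neg_char {G : Type*} [Group G] [Finite G] {p : ℕ} [Fact p.Prime]
    {M : Ideal Cfsg.AlgInt} {P : Sylow p G} {q : ℕ} {ε : ℤ} {a : IrrCharacter G → ℤ}
    {X Y : Finset (IrrCharacter G)}
    (D : DefectOneData p M P q ε a X Y) (hPcard : Nat.card (P : Subgroup G) = p)
    {t n : ℕ} (hpqt : p - 1 = q * t) (hq2 : 2 ≤ q) (ht : 1 ≤ t) (hn1 : 1 ≤ n)
    (hno : ¬ HasFormula p n)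
    (triv : IrrCharacter G) (htrivX : triv ∈ X) (hatriv : a triv = 1)
    (hdtriv : charDegree (triv : G → ℂ) = 1)
    (hdiv : ∀ χ ∈ X, charDegree (χ : G → ℂ) ∣ q * (1 + n * p))
    (hXp : ∀ χ ∈ X, a χ = 1 → χ ≠ triv → charDegree (χ : G → ℂ) = 1 + n * p)
    (θ₀ : IrrCharacter G) (hθ₀ : θ₀ ∈ Y)
    (hdegeq : ε * (charDegree (θ₀ : G → ℂ) : ℤ) =
      ∑ χ ∈ X, a χ * (charDegree (χ : G → ℂ) : ℤ))
    (hθp : ε = 1 → charDegree (θ₀ : G → ℂ) = q)
    (hθm : ε = -1 → charDegree (θ₀ : G → ℂ) ≤ 1 + n * p) :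
    ∃ χ ∈ X, a χ = -1 ∧ charDegree (χ : G → ℂ) = p - 1 := by
  classical
  have hp : p.Prime := Fact.out
  have hp2 : 2 ≤ p := hp.two_le
  have hdpos : ∀ χ : IrrCharacter G, 0 < charDegree (χ : G → ℂ) := fun χ =>
    Cfsg.Agent.Lib.Helper78.IsIrrCharacter.charDegree_pos χ.2
  have hqp : q < p := by
    have : q * 1 ≤ q * t := Nat.mul_le_mul (le_refl _) ht
    omega
  -- notation
  have hSpos : (0 : ℤ) < ((1 + n * p : ℕ) : ℤ) := by positivity
  have hSbig : (p : ℤ) < ((1 + n * p : ℕ) : ℤ) := by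
    have : p < 1 + n * p := by nlinarith
    exact_mod_cast this
  have hsplit : ∑ χ ∈ X, a χ * (charDegree (χ : G → ℂ) : ℤ) =
      1 + ∑ χ ∈ X.erase triv, a χ * (charDegree (χ : G → ℂ) : ℤ) := by
    rw [← Finset.add_sum_erase X _ htrivX, hatriv, hdtriv]
    simp
  have herase_card : (X.erase triv).card = q - 1 := by
    rw [Finset.card_erase_of_mem htrivX, D.hXcard]
  -- each term is at most `S`
  have hle : ∀ χ ∈ X.erase triv, a χ * (charDegree (χ : G → ℂ) : ℤ) ≤ ((1 + n * p : ℕ) : ℤ) := by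
    intro χ hχ
    obtain ⟨hne, hχX⟩ := Finset.mem_erase.mp hχ
    rcases D.haX χ hχX with ha | ha
    · rw [ha, one_mul, hXp χ hχX ha hne]
    · rw [ha]
      have : (0 : ℤ) ≤ (charDegree (χ : G → ℂ) : ℤ) := by positivity
      linarith
  -- `ε θ₀(1) ≥ -S`
  have hθlow : -((1 + n * p : ℕ) : ℤ) ≤ ε * (charDegree (θ₀ : G → ℂ) : ℤ) := by
    rcases D.hε with hε | hε
    · rw [hε, one_mul]
      have : (0 : ℤ) ≤ (charDegree (θ₀ : G → ℂ) : ℤ) := by positivity
      linarith
    · rw [hε]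
      have : ((charDegree (θ₀ : G → ℂ) : ℕ) : ℤ) ≤ ((1 + n * p : ℕ) : ℤ) := by
        exact_mod_cast hθm hε
      linarith
  -- the degree of a character of sign `-`
  have hneg : ∀ χ ∈ X, a χ = -1 → charDegree (χ : G → ℂ) = p - 1 := by
    intro χ hχ ha
    have hcong := D.degree_X hPcard hχ
    rw [ha] at hcong
    have hcong' : (p : ℤ) ∣ (charDegree (χ : G → ℂ) : ℤ) + 1 := by
      have : (charDegree (χ : G → ℂ) : ℤ) - -1 = (charDegree (χ : G → ℂ) : ℤ) + 1 := by ring
      rwa [this] at hcong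
    rcases deg_minus_gen hpqt (by omega) ht hp2 (hdpos χ) hcong' (hdiv χ hχ) hno with h | ⟨ht1, h⟩
    · exact h
    · exfalso
      have hq : q = p - 1 := by rw [hpqt, ht1, mul_one]
      have hne : χ ≠ triv := by
        intro h'
        rw [h', hatriv] at ha
        norm_num at ha
      have hχe : χ ∈ X.erase triv := Finset.mem_erase.mpr ⟨hne, hχ⟩
      have h1 : ∑ χ' ∈ X.erase triv, a χ' * (charDegree (χ' : G → ℂ) : ℤ) =
          a χ * (charDegree (χ : G → ℂ) : ℤ) +
            ∑ χ' ∈ (X.erase triv).erase χ, a χ' * (charDegree (χ' : G → ℂ) : ℤ) :=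
        (Finset.add_sum_erase _ _ hχe).symm
      have h2 : ∑ χ' ∈ (X.erase triv).erase χ, a χ' * (charDegree (χ' : G → ℂ) : ℤ) ≤
          ((q - 2 : ℕ) : ℤ) * ((1 + n * p : ℕ) : ℤ) := by
        have := Finset.sum_le_card_nsmul ((X.erase triv).erase χ) _ _
          (fun χ' hχ' => hle χ' (Finset.mem_of_mem_erase hχ'))
        rw [Finset.card_erase_of_mem hχe, herase_card, nsmul_eq_mul] at this
        have h3 : q - 1 - 1 = q - 2 := by omega
        rwa [h3] at this
      have hq2Z : ((q - 2 : ℕ) : ℤ) = (p : ℤ) - 3 := by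
        have : q - 2 = p - 3 := by omega
        rw [this]
        push_cast [Nat.cast_sub (by omega : 3 ≤ p)]; ring
      have hχdeg : ((charDegree (χ : G → ℂ) : ℕ) : ℤ) = ((p : ℤ) - 1) * ((1 + n * p : ℕ) : ℤ) := by
        rw [h]
        push_cast [Nat.cast_sub (by omega : 1 ≤ p)]; ring
      rw [hsplit, h1, ha, hχdeg] at hdegeq
      rw [hdegeq] at hθlow
      rw [hq2Z] at h2
      nlinarith
  -- there is a character of sign `-`
  by_contra hcon
  push Not at hcon
  have hall : ∀ χ ∈ X, a χ = 1 := by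
    intro χ hχ
    rcases D.haX χ hχ with ha | ha
    · exact ha
    · exact absurd (hneg χ hχ ha) (hcon χ hχ ha)
  have hsum : ∑ χ ∈ X.erase triv, a χ * (charDegree (χ : G → ℂ) : ℤ) =
      ((q - 1 : ℕ) : ℤ) * ((1 + n * p : ℕ) : ℤ) := by
    rw [← herase_card, ← nsmul_eq_mul, ← Finset.sum_const]
    apply Finset.sum_congr rfl
    intro χ hχ
    obtain ⟨hne, hχX⟩ := Finset.mem_erase.mp hχ
    rw [hall χ hχX, one_mul, hXp χ hχX (hall χ hχX) hne]
  rw [hsplit, hsum] at hdegeq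
  have hq1 : (1 : ℤ) ≤ ((q - 1 : ℕ) : ℤ) := by
    have : 1 ≤ q - 1 := by omega
    exact_mod_cast this
  have hpos : (0 : ℤ) < ε * (charDegree (θ₀ : G → ℂ) : ℤ) := by
    rw [hdegeq]; nlinarith
  rcases D.hε with hε | hε
  · rw [hε, one_mul, hθp hε] at hdegeq
    have hqpZ : (q : ℤ) < p := by exact_mod_cast hqp
    nlinarith
  · rw [hε] at hpos
    have : (0 : ℤ) ≤ (charDegree (θ₀ : G → ℂ) : ℤ) := by positivity
    linarith

end Cfsg.Agent.Lib.Helper78.S4700
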