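import Mathlib
import Cfsg.Agent.Lib.Helper78.S4700Neg
import Cfsg.Agent.Lib.Helper79.BrauerN.Front96
import Cfsg.Agent.Lib.Helper76.BrauerNDivis
import Cfsg.Agent.Lib.Helper62.Brauer96Rechoose

set_option autoImplicit false
set_option maxHeartbeats 800000
open Cfsg

/-!
# S4700 [NEGCHAR-GEN]: a faithful-looking character of the principal block (helper78)

`G` perfect, `P` a Sylow subgroup of order `p`, `|G : C_G(P)| = q (1 + n p)`, and the formula
(iii) of S4700 fails: the principal block contains a character which is `-1` on `P ∖ 1` and has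
degree `p - 1`.  (No hypothesis on `C_G(P)`; adapted from helper79's `front96_of`.)
-/

namespace Cfsg.Agent.Lib.Helper78.S4700

open Cfsg.Agent.Lib.Helper78 (DefectOneData)
open Cfsg.Agent.Lib.Helper79.BrauerN (succ_eq_mul_of_exc)

theorem exists_block_char_neg {G : Type*} [Group G] [Finite G] (hperf : commutator G = ⊤)
    (p : ℕ) [Fact p.Prime] (P : Sylow p G) (hPcard : Nat.card (P : Subgroup G) = p)
    (q n : ℕ) (hq2 : 2 ≤ q) (hn1 : 1 ≤ n) (hqd : q ∣ p - 1)
    (hrelidx : (Subgroup.centralizer ((P : Subgroup G) : Set G)).relIndex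
        (Subgroup.normalizer ((P : Subgroup G) : Set G)) = q)
    (hCidx : (Subgroup.centralizer ((P : Subgroup G) : Set G)).index = q * (1 + n * p))
    (hno : ¬ HasFormula p n) :
    ∃ (M : Ideal Cfsg.AlgInt) (_ : Cfsg.IsPModular p M) (χ : IrrCharacter G),
      χ ∈ principalBlock M G ∧
      (∀ x : G, x ∈ (P : Subgroup G) → x ≠ 1 → (χ : G → ℂ) x = -1) ∧
      (χ : G → ℂ) 1 = ((p - 1 : ℕ) : ℂ) := by
  classical
  have hp : p.Prime := Fact.out
  have hp2 : 2 ≤ p := hp.two_le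
  obtain ⟨t, ht⟩ := hqd
  have ht0 : 0 < t := by
    rcases Nat.eq_zero_or_pos t with h | h
    · rw [h, mul_zero] at ht; omega
    · exact h
  have hp3 : 3 ≤ p := by
    have : q * 1 ≤ q * t := Nat.mul_le_mul (le_refl _) ht0
    omega
  have hqp : q < p := by
    have : q * 1 ≤ q * t := Nat.mul_le_mul (le_refl _) ht0
    omega
  obtain ⟨M, hM⟩ := Cfsg.Agent.Lib.Helper75.exists_isPModular p hp
  have hk := Cfsg.Agent.Lib.Helper77.DefOne.card_principalBlock_ge p M hM P hPcard q hrelidx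
  obtain ⟨ε₀, a₀, X₀, Y₀, D₀⟩ :=
    Cfsg.Agent.Lib.Helper78.defect_one_data p M hM P hPcard q hrelidx hk
  -- the trivial character
  obtain ⟨triv, htriv⟩ : ∃ triv : IrrCharacter G, (triv : G → ℂ) = fun _ => 1 :=
    ⟨⟨fun _ => 1, Cfsg.Agent.Lib.Helper78.isIrrCharacter_one⟩, rfl⟩
  have htrivB : triv ∈ principalBlock M G := by
    have h := Cfsg.Agent.Lib.Helper74.one_mem_principalBlock (p := p) hM G
    have heq : ∀ (hh : IsIrrCharacter G (fun _ : G => (1 : ℂ))),
        triv = (⟨fun _ => 1, hh⟩ : IrrCharacter G) := fun hh => Subtype.ext htriv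
    rw [heq _]; exact h
  have hchar1 : ∀ χ : IrrCharacter G, (χ : G → ℂ) 1 = (charDegree (χ : G → ℂ) : ℂ) := fun χ =>
    Cfsg.Agent.Lib.Helper78.IsCharacter.apply_one_eq_charDegree
      (Cfsg.Agent.Lib.Helper78.IsIrrCharacter.isCharacter χ.2)
  have hlin : ∀ χ : IrrCharacter G, charDegree (χ : G → ℂ) = 1 → χ = triv := by
    intro χ h
    have h1 : (χ : G → ℂ) 1 = 1 := by rw [hchar1, h]; simp
    apply Subtype.ext
    rw [htriv]
    funext g
    exact Cfsg.Agent.Lib.Helper77.linear_character_eq_one_of_mem_commutator χ h1 g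
      (by rw [hperf]; exact Subgroup.mem_top g)
  have hdtriv : charDegree (triv : G → ℂ) = 1 := by
    have : ((charDegree (triv : G → ℂ) : ℕ) : ℂ) = 1 := by rw [← hchar1, htriv]
    exact_mod_cast this
  have hone : ¬ p ∣ orderOf (1 : G) := by
    rw [orderOf_one]
    exact hp.one_lt.ne' ∘ Nat.dvd_one.mp
  -- data with the trivial character in `X`
  obtain ⟨ε, a, X, Y, D, htrivX⟩ : ∃ (ε : ℤ) (a : IrrCharacter G → ℤ)
      (X Y : Finset (IrrCharacter G)), DefectOneData p M P q ε a X Y ∧ triv ∈ X := by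
    by_cases ht1 : t = 1
    · have hq : q = p - 1 := by rw [ht, ht1, mul_one]
      obtain ⟨ε', a', X', Y', D', χ₁, hχ₁, hχ₁f⟩ :=
        Cfsg.Agent.Lib.Helper62.Brauer96.defectOneData_exists_triv_mem hM D₀ hPcard hq hp3
      refine ⟨ε', a', X', Y', D', ?_⟩
      have : χ₁ = triv := Subtype.ext (by rw [hχ₁f, htriv])
      rw [← this]; exact hχ₁
    · have ht2 : 2 ≤ t := by omega
      refine ⟨ε₀, a₀, X₀, Y₀, D₀, ?_⟩
      have hYcard₀ : Y₀.card = t := by
        rw [D₀.hYcard, ht]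
        exact Nat.mul_div_cancel_left t (by omega)
      have htrivY : triv ∉ Y₀ := by
        intro hY
        obtain ⟨θ', hθ', hne⟩ : ∃ θ' ∈ Y₀, θ' ≠ triv := by
          by_contra hcon
          push Not at hcon
          have : Y₀ ⊆ {triv} := fun θ hθ => Finset.mem_singleton.mpr (hcon θ hθ)
          have := Finset.card_le_card this
          rw [hYcard₀, Finset.card_singleton] at this
          omega
        have h1 := D₀.hregY 1 hone θ' hθ' triv hY
        have h2 : charDegree (θ' : G → ℂ) = 1 := by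
          have : ((charDegree (θ' : G → ℂ) : ℕ) : ℂ) = 1 := by rw [← hchar1, h1, htriv]
          exact_mod_cast this
        exact hne (hlin θ' h2)
      rcases (D₀.hmem triv).mp htrivB with h | h
      · exact h
      · exact absurd h htrivY
  have hYcard : Y.card = t := by
    rw [D.hYcard, ht]
    exact Nat.mul_div_cancel_left t (by omega)
  have hYne : Y.Nonempty := by
    rw [← Finset.card_pos, hYcard]; exact ht0
  have htrivY : triv ∉ Y := fun h => (Finset.disjoint_left.mp D.hdisj htrivX) h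
  -- a nontrivial element of `P`
  obtain ⟨x₀, hx₀P, hx₀1⟩ : ∃ x₀ : G, x₀ ∈ (P : Subgroup G) ∧ x₀ ≠ 1 := by
    by_contra hcon
    push Not at hcon
    have : (P : Subgroup G) = ⊥ := by
      rw [Subgroup.eq_bot_iff_forall]; exact hcon
    rw [this, Subgroup.card_bot] at hPcard
    omega
  have hatriv : a triv = 1 := by
    have h1 := D.hX triv htrivX x₀ hx₀P hx₀1
    rw [htriv] at h1
    have : ((a triv : ℤ) : ℂ) = ((1 : ℤ) : ℂ) := by rw [← h1]; simp
    exact_mod_cast this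
  -- degrees
  have hdpos : ∀ χ : IrrCharacter G, 0 < charDegree (χ : G → ℂ) := fun χ =>
    Cfsg.Agent.Lib.Helper78.IsIrrCharacter.charDegree_pos χ.2
  have hdiv : ∀ χ : IrrCharacter G, χ ∈ X ∨ χ ∈ Y →
      charDegree (χ : G → ℂ) ∣ q * (1 + n * p) := by
    intro χ hχ
    rw [← hCidx]
    exact Cfsg.Agent.Lib.Helper76.BrauerNDivis.defectOne_degree_dvd hM D hPcard hχ
  have hpqt : p - 1 = q * t := ht
  have hqd' : q ∣ p - 1 := ⟨t, ht⟩
  have hXp : ∀ χ ∈ X, a χ = 1 → χ ≠ triv → charDegree (χ : G → ℂ) = 1 + n * p := by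
    intro χ hχ ha hne
    have hcong := D.degree_X hPcard hχ
    rw [ha] at hcong
    exact deg_plus_gen hqd' (by omega) hp2 (hdpos χ) (fun h => hne (hlin χ h))
      (by exact_mod_cast hcong) (hdiv χ (Or.inl hχ)) hno
  -- the common degree on `Y`
  obtain ⟨θ₀, hθ₀⟩ := hYne
  have hθ₀triv : θ₀ ≠ triv := fun h => htrivY (h ▸ hθ₀)
  -- the degree equation
  have hdegeq : ε * (charDegree (θ₀ : G → ℂ) : ℤ) =
      ∑ χ ∈ X, a χ * (charDegree (χ : G → ℂ) : ℤ) := by
    have h1 := D.hrel 1 hone θ₀ hθ₀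
    rw [hchar1] at h1
    have h3 : ((ε * (charDegree (θ₀ : G → ℂ) : ℤ) : ℤ) : ℂ) =
        ((∑ χ ∈ X, a χ * (charDegree (χ : G → ℂ) : ℤ) : ℤ) : ℂ) := by
      push_cast
      rw [h1]
      apply Finset.sum_congr rfl
      intro χ _
      rw [hchar1]
    exact_mod_cast h3
  have hsplit : ∑ χ ∈ X, a χ * (charDegree (χ : G → ℂ) : ℤ) =
      1 + ∑ χ ∈ X.erase triv, a χ * (charDegree (χ : G → ℂ) : ℤ) := by
    rw [← Finset.add_sum_erase X _ htrivX, hatriv, hdtriv]
    simp
  have herase_card : (X.erase triv).card = q - 1 := by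
    rw [Finset.card_erase_of_mem htrivX, D.hXcard]
  -- the degree on `Y`
  have hθp : ε = 1 → charDegree (θ₀ : G → ℂ) = q := by
    intro hε
    have hdegeq' := hdegeq
    rw [hε, one_mul] at hdegeq'
    have hle : ∀ χ ∈ X.erase triv,
        a χ * (charDegree (χ : G → ℂ) : ℤ) ≤ ((1 + n * p : ℕ) : ℤ) := by
      intro χ hχ
      obtain ⟨hne, hχX⟩ := Finset.mem_erase.mp hχ
      rcases D.haX χ hχX with ha | ha
      · rw [ha, one_mul, hXp χ hχX ha hne]
      · rw [ha]
        have : (0 : ℤ) ≤ (charDegree (χ : G → ℂ) : ℤ) := by positivity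
        have : (0 : ℤ) ≤ ((1 + n * p : ℕ) : ℤ) := by positivity
        linarith
    have hsumle : ∑ χ ∈ X.erase triv, a χ * (charDegree (χ : G → ℂ) : ℤ) ≤
        ((q - 1 : ℕ) : ℤ) * ((1 + n * p : ℕ) : ℤ) := by
      have := Finset.sum_le_card_nsmul (X.erase triv) _ _ hle
      rw [herase_card, nsmul_eq_mul] at this
      exact this
    have hq1 : ((q - 1 : ℕ) : ℤ) = (q : ℤ) - 1 := by
      push_cast [Nat.cast_sub (by omega : 1 ≤ q)]; ring
    have hne : charDegree (θ₀ : G → ℂ) ≠ q * (1 + n * p) := by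
      intro h
      rw [h, hsplit] at hdegeq'
      have h1 : ((q * (1 + n * p) : ℕ) : ℤ) ≤ 1 + ((q : ℤ) - 1) * ((1 + n * p : ℕ) : ℤ) := by
        rw [hdegeq', ← hq1]; linarith
      push_cast at h1
      have : (1 : ℤ) ≤ (n : ℤ) * p := by
        have : 1 ≤ n * p := Nat.mul_pos (by omega) (by omega)
        exact_mod_cast this
      nlinarith
    have hcongY := D.degree_Y hPcard hθ₀
    rw [hε, one_mul] at hcongY
    exact deg_exc_plus_gen hqd' (by omega) hqp hp2 (hdpos θ₀) hcongY (hdiv θ₀ (Or.inr hθ₀)) hne hno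
  have hθm : ε = -1 → charDegree (θ₀ : G → ℂ) ≤ 1 + n * p := by
    intro hε
    have hcongY := D.degree_Y hPcard hθ₀
    rw [hε] at hcongY
    have hcongY' : (p : ℤ) ∣ (charDegree (θ₀ : G → ℂ) : ℤ) + q := by
      have : (charDegree (θ₀ : G → ℂ) : ℤ) - -1 * (q : ℤ) =
          (charDegree (θ₀ : G → ℂ) : ℤ) + q := by ring
      rwa [this] at hcongY
    by_cases ht1 : t = 1
    · have hq : q = p - 1 := by rw [ht, ht1, mul_one]
      have hcong1 : (p : ℤ) ∣ (charDegree (θ₀ : G → ℂ) : ℤ) - 1 := by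
        have h1 : (charDegree (θ₀ : G → ℂ) : ℤ) - 1 =
            ((charDegree (θ₀ : G → ℂ) : ℤ) + q) - p := by
          have : (q : ℤ) = (p : ℤ) - 1 := by
            rw [hq]; push_cast [Nat.cast_sub (by omega : 1 ≤ p)]; ring
          rw [this]; ring
        rw [h1]
        exact dvd_sub hcongY' (dvd_refl _)
      have hθD : charDegree (θ₀ : G → ℂ) = 1 + n * p :=
        deg_plus_gen hqd' (by omega) hp2 (hdpos θ₀) (fun h => hθ₀triv (hlin θ₀ h)) hcong1
          (hdiv θ₀ (Or.inr hθ₀)) hno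
      exact hθD.le
    · have ht2 : 2 ≤ t := by omega
      obtain ⟨c, hc1, hzc, htz⟩ := deg_exc_minus_gen hpqt (by omega) ht2 hp2 (hdpos θ₀) hcongY'
        (hdiv θ₀ (Or.inr hθ₀)) hno
      rw [← htz]
      exact Nat.le_mul_of_pos_left _ (by omega)
  obtain ⟨χ, hχX, hχa, hχdeg⟩ := exists_neg_char D hPcard hpqt hq2 ht0 hn1 hno triv htrivX hatriv
    hdtriv (fun χ hχ => hdiv χ (Or.inl hχ)) hXp θ₀ hθ₀ hdegeq hθp hθm
  refine ⟨M, hM, χ, (D.hmem χ).mpr (Or.inl hχX), ?_, ?_⟩
  · intro x hx hx1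
    rw [D.hX χ hχX x hx hx1, hχa]
    norm_num
  · rw [hchar1, hχdeg]

end Cfsg.Agent.Lib.Helper78.S4700
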