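import Mathlib
import Cfsg.Agent.S0942
import Cfsg.Agent.Lib.Helper80.CharBasic
import Cfsg.Agent.Lib.Helper76.PCore
import Cfsg.Agent.Lib.Helper78.CharValues
import Cfsg.Agent.Lib.Helper67.S4700FixSum

set_option autoImplicit false
set_option maxHeartbeats 800000
open Cfsg

/-!
# S4700 [VTRIV]: `C_G(x) = P` from a character of the principal block (helper78)

`χ` in the principal block, `χ = -1` on `P ∖ 1`, `χ(1) = p - 1`, no nontrivial normal `p'`-subgroup:
`ker χ` is a normal `p'`-subgroup, so `χ` is faithful; `C_G(x) = O_{p'}(C_G(x)) P` (Burnside) and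
`χ(x v) = χ(x)` for `v ∈ O_{p'}(C_G(x))` (S0942); `∑_{x ∈ P} χ(x) = 0` gives `∑_{x ∈ P} χ(x v) = 0`,
so `χ(v) = χ(1)` and `v = 1`.
-/

namespace Cfsg.Agent.Lib.Helper78.S4700


/-- a sum over a subgroup of a function which is `-1` off the identity -/
theorem finsum_subgroup_of_neg_one {G : Type*} [Group G] [Finite G] (H : Subgroup G)
    (f : G → ℂ) (hf : ∀ x : G, x ∈ H → x ≠ 1 → f x = -1) :
    ∑ᶠ x ∈ (H : Set G), f x = f 1 - ((Nat.card H : ℂ) - 1) := by
  classical
  rw [finsum_mem_eq_finite_toFinset_sum _ (Set.toFinite _)]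
  have h1 : (1 : G) ∈ (Set.toFinite (H : Set G)).toFinset := by
    rw [Set.Finite.mem_toFinset]; exact H.one_mem
  rw [← Finset.add_sum_erase _ _ h1]
  have h2 : ∀ x ∈ (Set.toFinite (H : Set G)).toFinset.erase 1, f x = -1 := by
    intro x hx
    obtain ⟨hx1, hxH⟩ := Finset.mem_erase.mp hx
    exact hf x ((Set.Finite.mem_toFinset _).mp hxH) hx1
  rw [Finset.sum_congr rfl h2, Finset.sum_const, Finset.card_erase_of_mem h1, nsmul_eq_mul]
  have h3 : (Set.toFinite (H : Set G)).toFinset.card = Nat.card H := by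
    rw [← Set.ncard_eq_toFinset_card (H : Set G) (Set.toFinite _)]
    exact (Nat.card_coe_set_eq (H : Set G)).symm
  rw [h3]
  have h4 : 1 ≤ Nat.card H := Nat.card_pos
  push_cast [Nat.cast_sub h4]
  ring

/-- the kernel of a character which is `-1` on `P ∖ 1` is a `p'`-group -/
theorem charKer_coprime {G : Type*} [Group G] [Finite G] (p : ℕ) [Fact p.Prime]
    (P : Sylow p G) (ψ : G → ℂ) (hψ : IsCharacter G ψ)
    (hψP : ∀ x : G, x ∈ (P : Subgroup G) → x ≠ 1 → ψ x ≠ ψ 1) :
    (Nat.card (Cfsg.Agent.Lib.Helper80.charKer ψ hψ)).Coprime p := by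
  have hp : p.Prime := Fact.out
  rw [Nat.coprime_comm, hp.coprime_iff_not_dvd]
  intro hdvd
  obtain ⟨y, hy⟩ := exists_prime_orderOf_dvd_card' p hdvd
  have hy1 : (y : G) ≠ 1 := by
    intro h
    have : y = 1 := Subtype.ext h
    rw [this, orderOf_one] at hy
    exact hp.one_lt.ne hy
  have hyord : orderOf (y : G) = p := by rw [Subgroup.orderOf_coe]; exact hy
  have hpg : IsPGroup p (Subgroup.zpowers (y : G)) := by
    apply IsPGroup.of_card (n := 1)
    rw [Nat.card_zpowers, hyord, pow_one]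
  obtain ⟨Q, hQ⟩ := hpg.exists_le_sylow
  obtain ⟨k, hk⟩ := MulAction.exists_smul_eq G Q P
  have hyQ : (y : G) ∈ (Q : Subgroup G) := hQ (Subgroup.mem_zpowers _)
  have hky : k * (y : G) * k⁻¹ ∈ (P : Subgroup G) := by
    rw [← hk, Sylow.coe_subgroup_smul, Subgroup.mem_pointwise_smul_iff_inv_smul_mem]
    show (MulAut.conj k)⁻¹ • (k * (y : G) * k⁻¹) ∈ (Q : Subgroup G)
    have : (MulAut.conj k)⁻¹ • (k * (y : G) * k⁻¹) = (y : G) := by
      rw [MulAut.smul_def, MulAut.conj_inv_apply]
      group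
    rw [this]
    exact hyQ
  have hky1 : k * (y : G) * k⁻¹ ≠ 1 := by
    intro h
    apply hy1
    have : (y : G) = k⁻¹ * (k * (y : G) * k⁻¹) * k := by group
    rw [this, h]
    group
  have hkyK : k * (y : G) * k⁻¹ ∈ Cfsg.Agent.Lib.Helper80.charKer ψ hψ :=
    (Cfsg.Agent.Lib.Helper80.charKer_normal hψ).conj_mem _ y.2 k
  exact hψP _ hky hky1 ((Cfsg.Agent.Lib.Helper80.mem_charKer hψ _).mp hkyK)



/-- a nonidentity element of a group of prime order generates it -/
theorem zpowers_eq_of_mem_sylow {G : Type*} [Group G] [Finite G] (p : ℕ) [Fact p.Prime]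
    (P : Sylow p G) (hPcard : Nat.card (P : Subgroup G) = p) {x : G}
    (hx : x ∈ (P : Subgroup G)) (hx1 : x ≠ 1) :
    orderOf x = p ∧ Subgroup.zpowers x = (P : Subgroup G) := by
  have hp : p.Prime := Fact.out
  have hord : orderOf x = p := by
    have hd : orderOf x ∣ p := by
      have := orderOf_dvd_natCard (⟨x, hx⟩ : (P : Subgroup G))
      rw [hPcard] at this
      rwa [← Subgroup.orderOf_mk x hx]
    rcases (Nat.dvd_prime hp).1 hd with h1 | h1
    · exact absurd (orderOf_eq_one_iff.1 h1) hx1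
    · exact h1
  refine ⟨hord, ?_⟩
  have hle : Subgroup.zpowers x ≤ (P : Subgroup G) := by
    rw [Subgroup.zpowers_le]; exact hx
  refine Subgroup.eq_of_le_of_card_ge hle ?_
  rw [Nat.card_zpowers, hPcard, hord]

/-- `C_G(x) = O_{p'}(C_G(x)) P` for `x ∈ P ∖ 1`, `|P| = p` (Burnside's transfer theorem). -/
theorem mem_centralizer_decomp {G : Type*} [Group G] [Finite G] (p : ℕ) [Fact p.Prime]
    (P : Sylow p G) (hPcard : Nat.card (P : Subgroup G) = p) {x : G}
    (hx : x ∈ (P : Subgroup G)) (hx1 : x ≠ 1) {c : G}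
    (hc : c ∈ Subgroup.centralizer ({x} : Set G)) :
    ∃ v ∈ Cfsg.centralizerPPrimeCore p x, ∃ y ∈ (P : Subgroup G), c = v * y := by
  classical
  have hp : p.Prime := Fact.out
  obtain ⟨hord, hzp⟩ := zpowers_eq_of_mem_sylow p P hPcard hx hx1
  -- elements of the centralizer commute with `P`
  have hcomm : ∀ c : G, c ∈ Subgroup.centralizer ({x} : Set G) → ∀ y : G,
      y ∈ (P : Subgroup G) → c * y = y * c := by
    intro c hc y hy
    rw [← hzp] at hy
    obtain ⟨m, rfl⟩ := Subgroup.mem_zpowers_iff.1 hy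
    have h1 : Commute x c := Subgroup.mem_centralizer_singleton_iff.mp hc |>.symm
    exact ((h1.zpow_left m).eq).symm
  have hPC : (P : Subgroup G) ≤ Subgroup.centralizer ({x} : Set G) := by
    intro y hy
    rw [Subgroup.mem_centralizer_singleton_iff]
    rw [← hzp] at hy
    obtain ⟨m, rfl⟩ := Subgroup.mem_zpowers_iff.1 hy
    exact ((Commute.refl x).zpow_left m).eq
  -- the Sylow subgroup of the centralizer
  obtain ⟨Q, hQ⟩ : ∃ Q : Sylow p ↥(Subgroup.centralizer ({x} : Set G)),
      (Q : Subgroup ↥(Subgroup.centralizer ({x} : Set G))) =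
        (P : Subgroup G).subgroupOf (Subgroup.centralizer ({x} : Set G)) :=
    ⟨P.subtype hPC, Sylow.coe_subtype _ _⟩
  have hNC : Subgroup.normalizer
        ((Q : Subgroup ↥(Subgroup.centralizer ({x} : Set G))) :
          Set ↥(Subgroup.centralizer ({x} : Set G))) ≤
      Subgroup.centralizer
        ((Q : Subgroup ↥(Subgroup.centralizer ({x} : Set G))) :
          Set ↥(Subgroup.centralizer ({x} : Set G))) := by
    intro d _
    rw [Subgroup.mem_centralizer_iff]
    intro y hy
    have hyP : (y : G) ∈ (P : Subgroup G) := by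
      have : y ∈ (Q : Subgroup ↥(Subgroup.centralizer ({x} : Set G))) := hy
      rw [hQ] at this
      exact Subgroup.mem_subgroupOf.mp this
    apply Subtype.ext
    rw [Subgroup.coe_mul, Subgroup.coe_mul]
    exact (hcomm d d.2 y hyP).symm
  have hcompl := MonoidHom.ker_transferSylow_isComplement' Q hNC
  have hcard := hcompl.card_mul_card
  have hQcard : Nat.card (Q : Subgroup ↥(Subgroup.centralizer ({x} : Set G))) = p := by
    rw [hQ]
    exact (Nat.card_congr (Subgroup.subgroupOfEquivOfLe hPC).toEquiv).trans hPcard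
  -- the kernel is a `p'`-group
  have hGfac : (Nat.card G).factorization p = 1 := by
    have h1 := P.card_eq_multiplicity
    rw [hPcard] at h1
    have h2 : p ^ 1 = p ^ (Nat.card G).factorization p := by rw [pow_one]; exact h1
    exact (Nat.pow_right_injective hp.two_le h2).symm
  have hcop : (Nat.card (MonoidHom.transferSylow Q hNC).ker).Coprime p := by
    rw [Nat.coprime_comm, hp.coprime_iff_not_dvd]
    intro hdvd
    have h1 : p * p ∣ Nat.card (Subgroup.centralizer ({x} : Set G)) := by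
      rw [← hcard, hQcard]
      exact Nat.mul_dvd_mul hdvd (dvd_refl p)
    have h2 : p ^ 2 ∣ Nat.card G := by
      rw [pow_two]
      exact h1.trans (Subgroup.card_subgroup_dvd_card _)
    have h3 := (hp.pow_dvd_iff_le_factorization Nat.card_pos.ne').mp h2
    omega
  have hVle : (MonoidHom.transferSylow Q hNC).ker ≤
      pPrimeCore p ↥(Subgroup.centralizer ({x} : Set G)) :=
    Cfsg.Agent.Lib.Helper76.le_pPrimeCore p _ (MonoidHom.normal_ker _) hcop
  -- the decomposition
  obtain ⟨⟨v, y⟩, hvy⟩ := hcompl.2 (⟨c, hc⟩ : ↥(Subgroup.centralizer ({x} : Set G)))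
  refine ⟨((v : ↥(Subgroup.centralizer ({x} : Set G))) : G), ?_,
    ((y : ↥(Subgroup.centralizer ({x} : Set G))) : G), ?_, ?_⟩
  · exact ⟨(v : ↥(Subgroup.centralizer ({x} : Set G))), hVle v.2, rfl⟩
  · have hmemQ : ∀ z : ↥(Subgroup.centralizer ({x} : Set G)),
        z ∈ (Q : Subgroup ↥(Subgroup.centralizer ({x} : Set G))) → (z : G) ∈ (P : Subgroup G) := by
      intro z hz
      rw [hQ] at hz
      exact Subgroup.mem_subgroupOf.mp hz
    exact hmemQ _ y.2
  · have := congrArg (fun z : ↥(Subgroup.centralizer ({x} : Set G)) => (z : G)) hvy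
    simpa using this.symm


/-- `C_G(x) = C_G(x')` for nonidentity elements of a Sylow subgroup of prime order -/
theorem centralizer_singleton_le_of_mem_sylow {G : Type*} [Group G] [Finite G] (p : ℕ)
    [Fact p.Prime] (P : Sylow p G) (hPcard : Nat.card (P : Subgroup G) = p) {x x' : G}
    (hx : x ∈ (P : Subgroup G)) (hx1 : x ≠ 1) (hx' : x' ∈ (P : Subgroup G)) :
    Subgroup.centralizer ({x} : Set G) ≤ Subgroup.centralizer ({x'} : Set G) := by
  obtain ⟨_, hzp⟩ := zpowers_eq_of_mem_sylow p P hPcard hx hx1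
  intro c hc
  rw [Subgroup.mem_centralizer_singleton_iff] at hc ⊢
  rw [← hzp] at hx'
  obtain ⟨m, rfl⟩ := Subgroup.mem_zpowers_iff.1 hx'
  have h1 : Commute c x := hc
  exact (h1.zpow_right m).eq

theorem centralizerPPrimeCore_congr {G : Type*} [Group G] (p : ℕ) {x x' : G}
    (h : Subgroup.centralizer ({x} : Set G) = Subgroup.centralizer ({x'} : Set G)) :
    Cfsg.centralizerPPrimeCore p x = Cfsg.centralizerPPrimeCore p x' := by
  have key : ∀ A B : Subgroup G, A = B →
      (pPrimeCore p ↥A).map A.subtype = (pPrimeCore p ↥B).map B.subtype := by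
    intro A B hAB
    subst hAB
    rfl
  exact key _ _ h

/-- **[VTRIV]** -/
theorem centralizer_eq_of_block_char {G : Type*} [Group G] [Finite G] (p : ℕ) [Fact p.Prime]
    (P : Sylow p G) (hPcard : Nat.card (P : Subgroup G) = p)
    (M : Ideal Cfsg.AlgInt) (hM : Cfsg.IsPModular p M) (χ : IrrCharacter G)
    (hχB : χ ∈ principalBlock M G)
    (hχP : ∀ x : G, x ∈ (P : Subgroup G) → x ≠ 1 → (χ : G → ℂ) x = -1)
    (hχ1 : (χ : G → ℂ) 1 = ((p - 1 : ℕ) : ℂ))
    (hK : ∀ K : Subgroup G, K.Normal → (Nat.card K).Coprime p → K = ⊥) :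
    ∀ x : G, x ∈ (P : Subgroup G) → x ≠ 1 →
      Subgroup.centralizer ({x} : Set G) = (P : Subgroup G) := by
  classical
  have hp : p.Prime := Fact.out
  have hp1 : ((p - 1 : ℕ) : ℂ) = (p : ℂ) - 1 := by
    push_cast [Nat.cast_sub hp.one_lt.le]; ring
  have hχc : IsCharacter G (χ : G → ℂ) := Cfsg.Agent.Lib.Helper78.IsIrrCharacter.isCharacter χ.2
  -- the kernel is trivial
  have hker : Cfsg.Agent.Lib.Helper80.charKer (χ : G → ℂ) hχc = ⊥ := by
    apply hK _ (Cfsg.Agent.Lib.Helper80.charKer_normal hχc)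
    apply charKer_coprime p P _ hχc
    intro x hx hx1
    rw [hχP x hx hx1, hχ1, hp1]
    intro h
    have h2 : (p : ℂ) = 0 := by linear_combination -h
    have : p = 0 := by exact_mod_cast h2
    exact hp.ne_zero this
  -- the sum over `P`
  have hsum0 : ∑ᶠ x ∈ ((P : Subgroup G) : Set G), (χ : G → ℂ) x = 0 := by
    rw [finsum_subgroup_of_neg_one (P : Subgroup G) _ hχP, hχ1, hPcard, hp1]
    ring
  intro x hx hx1
  apply le_antisymm
  · intro c hc
    obtain ⟨v, hv, y, hy, rfl⟩ := mem_centralizer_decomp p P hPcard hx hx1 hc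
    have hv1 : v = 1 := by
      have hval : ∀ x' : G, x' ∈ (P : Subgroup G) → x' ≠ 1 →
          (fun z : G => (χ : G → ℂ) (z * v)) x' = -1 := by
        intro x' hx' hx'1
        have hv' : v ∈ Cfsg.centralizerPPrimeCore p x' := by
          rw [centralizerPPrimeCore_congr p (le_antisymm
            (centralizer_singleton_le_of_mem_sylow p P hPcard hx' hx'1 hx)
            (centralizer_singleton_le_of_mem_sylow p P hPcard hx hx1 hx'))]
          exact hv
        have hord := (zpowers_eq_of_mem_sylow p P hPcard hx' hx'1).1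
        show (χ : G → ℂ) (x' * v) = -1
        rw [Cfsg.Agent.S0942.result p M hM x' ⟨1, by rw [pow_one]; exact hord⟩ v hv' χ hχB,
          hχP x' hx' hx'1]
      have h1 := Cfsg.Agent.Lib.Helper67.S4700FixSum.sum_mul_eq_zero_of_sum_eq_zero hχc (P : Subgroup G) hsum0 v
      rw [finsum_subgroup_of_neg_one (P : Subgroup G) (fun z : G => (χ : G → ℂ) (z * v)) hval,
        hPcard] at h1
      have h2 : (χ : G → ℂ) v = (χ : G → ℂ) 1 := by
        rw [hχ1, hp1]
        have h3 : (χ : G → ℂ) (1 * v) - ((p : ℂ) - 1) = 0 := h1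
        rw [one_mul] at h3
        linear_combination h3
      have hvK : v ∈ Cfsg.Agent.Lib.Helper80.charKer (χ : G → ℂ) hχc :=
        (Cfsg.Agent.Lib.Helper80.mem_charKer hχc v).mpr h2
      rw [hker] at hvK
      exact Subgroup.mem_bot.mp hvK
    rw [hv1, one_mul]
    exact hy
  · intro y hy
    have h1 := centralizer_singleton_le_of_mem_sylow p P hPcard hx hx1 hy
    -- `x` commutes with `y`
    rw [Subgroup.mem_centralizer_singleton_iff]
    have h2 : x ∈ Subgroup.centralizer ({y} : Set G) :=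
      h1 (Subgroup.mem_centralizer_singleton_iff.mpr rfl)
    exact (Subgroup.mem_centralizer_singleton_iff.mp h2).symm

end Cfsg.Agent.Lib.Helper78.S4700
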