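import Mathlib
import Cfsg.Agent.Lib.Helper78.S4700NegChar
import Cfsg.Agent.Lib.Helper78.S4700VTriv
import Cfsg.Agent.Lib.Helper79.BrauerN.CoreV
import Cfsg.Agent.Lib.Helper55.S4700SetupGen

set_option autoImplicit false
set_option maxHeartbeats 1000000
open Cfsg

/-!
# S4700 for groups without normal `p'`-subgroups (helper78)

`G` perfect, `P` a Sylow subgroup of order `p`, `1 + n p` Sylow `p`-subgroups, `O_{p'}(G) = 1`:
`G` is `PSL(2, p)`, or `SL(2, 2^m)` with `p = 2^m + 1`, or `n = (h u p + u² + u + h)/(u + 1)`.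
Modules: SETUP-GEN (helper55), NEGCHAR-GEN, VTRIV (helper78; FIXSUM by helper67),
`core96_v` (helper79: the case `C_G(P) = P`).
-/

namespace Cfsg.Agent.Lib.Helper78.S4700

theorem core_gen {G : Type*} [Group G] [Finite G] (hperf : commutator G = ⊤) (p : ℕ)
    [Fact p.Prime] (P : Sylow p G) (hPcard : Nat.card (P : Subgroup G) = p) (n : ℕ)
    (hSyl : Nat.card (Sylow p G) = 1 + n * p)
    (hK : ∀ K : Subgroup G, K.Normal → (Nat.card K).Coprime p → K = ⊥) :
    (3 < p ∧ Nonempty (G ≃* Matrix.ProjectiveSpecialLinearGroup (Fin 2) (ZMod p))) ∨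
    (3 < p ∧ ∃ (m : ℕ) (F : Type) (_ : Field F) (_ : Fintype F), Fintype.card F = 2 ^ m ∧
      p = 2 ^ m + 1 ∧ Nonempty (G ≃* Matrix.SpecialLinearGroup (Fin 2) F)) ∨
    (∃ h u : ℕ, 0 < h ∧ 0 < u ∧ n * (u + 1) = h * u * p + u ^ 2 + u + h) := by
  have hp : p.Prime := Fact.out
  by_cases hno : ∃ h u : ℕ, 0 < h ∧ 0 < u ∧ n * (u + 1) = h * u * p + u ^ 2 + u + h
  · exact Or.inr (Or.inr hno)
  obtain ⟨hn1, q, hq2, hqd, hrelidx, hCidx⟩ :=
    Cfsg.Agent.Lib.Helper55.S4700.brauer_setup_gen hperf p P hPcard n hSyl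
  obtain ⟨M, hM, χ, hχB, hχP, hχ1⟩ :=
    exists_block_char_neg hperf p P hPcard q n hq2 hn1 hqd hrelidx hCidx hno
  have hcent := centralizer_eq_of_block_char p P hPcard M hM χ hχB hχP hχ1 hK
  rcases Cfsg.Agent.Lib.Helper79.BrauerN.core96_v hperf p P hPcard hcent n hSyl hK
    (Cfsg.Agent.Lib.Helper79.BrauerN.noMidDiv_of_not_gamma hp.two_le hno) with h | h
  · exact Or.inl h
  · exact Or.inr (Or.inl h)

end Cfsg.Agent.Lib.Helper78.S4700
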