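import Mathlib
import Cfsg.Prelude.Def_Transfer
import Cfsg.Prelude.Def_PLocal
import Cfsg.Agent.Lib.Helper97.Replacement3

set_option autoImplicit false

/-!
# SL2-lemma (S2999), module [QUAD] (helper78)

A strict offender (`|V| ≤ |A| |C_V(A)|`, and every proper nontrivial subgroup of `A` has a strictly
smaller product) acts quadratically, by Timmesfeld's replacement theorem.
-/

namespace Cfsg.Agent.Lib.Helper78.SL2Lemma

open Cfsg Cfsg.Agent.Lib.Helper97

theorem quad_of_strict {G : Type*} [Group G] [Finite G] {p : ℕ} [Fact p.Prime] (V A : Subgroup G)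
    (hV : Cfsg.IsElementaryAbelian p V) (hAV : A ≤ Subgroup.normalizer (V : Set G))
    (hAel : Cfsg.IsElementaryAbelian p A)
    (hi : Nat.card ↥V ≤ Nat.card ↥A *
        Nat.card ↥(V ⊓ Subgroup.centralizer ((A : Subgroup G) : Set G)) ∧
      ∀ A₀ : Subgroup G, A₀ ≤ A → A₀ ≠ ⊥ → A₀ ≠ A →
        Nat.card ↥A₀ * Nat.card ↥(V ⊓ Subgroup.centralizer ((A₀ : Subgroup G) : Set G)) <
          Nat.card ↥A * Nat.card ↥(V ⊓ Subgroup.centralizer ((A : Subgroup G) : Set G))) :
    ⁅⁅V, A⁆, A⁆ = ⊥ := by
  classical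
  have hVc : IsMulCommutative V := hV.1
  have hAc : IsMulCommutative A := hAel.1
  have hab : ⁅A, A⁆ ≤ Subgroup.centralizer (V : Set G) := by
    have h : ⁅A, A⁆ = ⊥ := by
      rw [Subgroup.commutator_eq_bot_iff_le_centralizer]
      intro a ha
      rw [Subgroup.mem_centralizer_iff]
      intro b hb
      have := hAc.is_comm.comm ⟨b, hb⟩ ⟨a, ha⟩
      exact congrArg Subtype.val this
    rw [h]
    exact bot_le
  have hbest : IsBestOffenderOn p V A := by
    refine ⟨?_, hab, ?_⟩
    · intro B hB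
      by_cases hB0 : B = ⊥
      · have h1 : V ⊓ Subgroup.centralizer ((B : Subgroup G) : Set G) = V := by
          rw [hB0, Subgroup.coe_bot, Subgroup.centralizer_eq_top_iff_subset.mpr
            (Set.singleton_subset_iff.mpr (Subgroup.one_mem _)), inf_top_eq]
        rw [h1, hB0, Subgroup.card_bot, one_mul]
        exact hi.1
      · by_cases hBA : B = A
        · rw [hBA]
        · exact (hi.2 B hB hB0 hBA).le
    · intro a ha
      rw [hAel.2 a ha]
      exact Subgroup.one_mem _
  have hmax : ∀ X : Subgroup G, X ≤ A → offProd V X ≤ offProd V A := hbest.1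
  obtain ⟨h1, -⟩ := replacement (U := V) hAV hab le_rfl hmax
  obtain ⟨-, -, h3⟩ := timmesfeld_replacement V A hV hAV hbest V le_rfl
  by_cases hs0 : A ⊓ Subgroup.centralizer ((⁅V, A⁆ : Subgroup G) : Set G) = ⊥
  · have h4 : ⁅V, A⁆ = ⊥ := by
      by_contra hne
      apply h3 hne
      rw [hs0]
      exact Subgroup.commutator_bot_right V
    rw [h4]
    exact Subgroup.commutator_bot_left A
  · by_cases hsA : A ⊓ Subgroup.centralizer ((⁅V, A⁆ : Subgroup G) : Set G) = A
    · rw [Subgroup.commutator_eq_bot_iff_le_centralizer, Subgroup.le_centralizer_iff]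
      exact inf_eq_left.mp hsA
    · exfalso
      have h5 := hi.2 _ inf_le_left hs0 hsA
      have h6 : Nat.card ↥(A ⊓ Subgroup.centralizer ((⁅V, A⁆ : Subgroup G) : Set G)) *
          Nat.card ↥(V ⊓ Subgroup.centralizer
            ((A ⊓ Subgroup.centralizer ((⁅V, A⁆ : Subgroup G) : Set G) : Subgroup G) : Set G)) =
          Nat.card ↥A * Nat.card ↥(V ⊓ Subgroup.centralizer ((A : Subgroup G) : Set G)) := h1
      omega

end Cfsg.Agent.Lib.Helper78.SL2Lemma
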