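import Mathlib
import Cfsg.Agent.Lib.Helper53.SL2Pres.Defs

/-!
# S2286 (helper53's sheet): module [PSLCHAR2] (helper78, hedge)
-/

set_option autoImplicit false

namespace Cfsg.Agent.Lib.Helper78.SL2Pres

open Cfsg.Agent.Lib.Helper53 Cfsg.Agent.Lib.Helper53.Steinberg Cfsg.Agent.Lib.Helper53.SL2Pres

variable {G : Type*} [Group G] {K : Type*} [Field K]

/-- in characteristic two the centre of `SL₂(K)` is trivial -/
theorem center_sl2_eq_bot_of_char_two [CharP K 2] :
    Subgroup.center (Matrix.SpecialLinearGroup (Fin 2) K) = ⊥ := by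
  rw [Subgroup.eq_bot_iff_forall]
  intro A hA
  rw [Matrix.SpecialLinearGroup.mem_center_iff] at hA
  obtain ⟨r, hr, hrA⟩ := hA
  have h2 : (2 : K) = 0 := CharP.cast_eq_zero K 2
  have hr1 : r = 1 := by
    have h3 : (r - 1) ^ 2 = 0 := by
      have : (r - 1) ^ 2 = r ^ 2 - 2 * r + 1 := by ring
      rw [this]
      simp only [Fintype.card_fin] at hr
      rw [hr, h2]
      ring_nf
      linear_combination h2
    have h4 : r - 1 = 0 := by
      exact pow_eq_zero_iff (two_ne_zero) |>.mp h3
    exact sub_eq_zero.mp h4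
  apply Subtype.ext
  rw [← hrA, hr1]
  simp

/-- S2286-[PSLCHAR2] -/
theorem psl_equiv_sl_of_char_two [CharP K 2] :
    Nonempty (Matrix.ProjectiveSpecialLinearGroup (Fin 2) K ≃*
      Matrix.SpecialLinearGroup (Fin 2) K) := by
  refine ⟨?_⟩
  unfold Matrix.ProjectiveSpecialLinearGroup
  exact (QuotientGroup.quotientMulEquivOfEq center_sl2_eq_bot_of_char_two).trans
    QuotientGroup.quotientBot

end Cfsg.Agent.Lib.Helper78.SL2Pres
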