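import Mathlib
import Cfsg.Agent.Lib.Helper78.WBOCor
import Cfsg.Agent.Lib.Helper78.CharMore

/-!
# Principal blocks for two primes (S4498)

If `G` has no element of order `p q`, the principal `p`-block and the principal `q`-block have a
non-principal character in common: otherwise Parseval for the indicator functions of the
`p`-regular and `q`-regular elements (which are orthogonal to the characters outside the principal
blocks, by S0952) gives `|G_{p'} ∩ G_{q'}| |G| = |G_{p'}| |G_{q'}|`, impossible when
`G = G_{p'} ∪ G_{q'}` and both primes divide `|G|`.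
-/

set_option autoImplicit false
set_option linter.unusedSectionVars false
set_option linter.style.haveILetI false

namespace Cfsg.Agent.Lib.Helper78

open Cfsg Cfsg.Agent.Lib.Helper16
open scoped ComplexConjugate

section

variable {G : Type*} [Group G] [Fintype G]

/-- The indicator function of the `r`-regular elements. -/
noncomputable def indRegular (G : Type*) [Group G] (r : ℕ) : G → ℂ :=
  fun g => by classical exact if r ∣ orderOf g then 0 else 1

theorem isClassFunction_indRegular (r : ℕ) : IsClassFunction G (indRegular G r) := by
  intro g h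
  unfold indRegular
  have : orderOf (h * g * h⁻¹) = orderOf g := by
    have := orderOf_injective (MulAut.conj h).toMonoidHom (MulAut.conj h).injective g
    simpa using this
  simp only [this]

open scoped Classical in
theorem classInner_indRegular (r : ℕ) (χ : G → ℂ) :
    classInner (indRegular G r) χ = (Nat.card G : ℂ)⁻¹ *
      ∑ x ∈ Finset.univ.filter (fun x : G => ¬ r ∣ orderOf x), conj (χ x) := by
  unfold classInner indRegular
  congr 1
  rw [Finset.sum_filter]
  apply Finset.sum_congr rfl
  intro x _
  by_cases h : r ∣ orderOf x <;> simp [h]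

/-- The trivial character as an `IrrCharacter`. -/
noncomputable def trivialIrr (G : Type*) [Group G] [Fintype G] : IrrCharacter G :=
  ⟨fun _ => 1, isIrrCharacter_one⟩

open scoped Classical in
/-- The indicator of the `p`-regular elements is orthogonal to the irreducible characters outside
the principal `p`-block. -/
theorem classInner_indRegular_eq_zero {p : ℕ} [Fact p.Prime] {M : Ideal AlgInt}
    (hM : IsPModular p M) {χ : IrrCharacter G} (hχ : χ ∉ principalBlock M G) :
    classInner (indRegular G p) (χ : G → ℂ) = 0 := by
  rw [classInner_indRegular]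
  have hnot : ¬ SameBlock M (χ : G → ℂ) ((trivialIrr G : IrrCharacter G) : G → ℂ) := by
    intro h
    apply hχ
    exact sameBlock_symm h
  have h1 := sum_pRegular_mul_conj_eq_zero hM χ (trivialIrr G) hnot
  have h2 : ∑ x ∈ Finset.univ.filter (fun x : G => ¬ p ∣ orderOf x), (χ : G → ℂ) x = 0 := by
    rw [← h1]
    apply Finset.sum_congr rfl
    intro x _
    simp [trivialIrr]
  have h3 := congrArg conj h2
  rw [map_sum, map_zero] at h3
  rw [h3, mul_zero]

open scoped Classical in
/-- If `G` has no element of order `p q` (for distinct primes `p`, `q` dividing `|G|`), the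
principal `p`-block and the principal `q`-block share a non-principal character. -/
theorem exists_common_nontrivial_principal {p q : ℕ} [Fact p.Prime] [Fact q.Prime] (hpq : p ≠ q)
    (hp : p ∣ Nat.card G) (hq : q ∣ Nat.card G) (hno : ∀ g : G, orderOf g ≠ p * q)
    {Mp Mq : Ideal AlgInt} (hMp : IsPModular p Mp) (hMq : IsPModular q Mq) :
    ∃ χ : IrrCharacter G, (χ : G → ℂ) ≠ (fun _ => 1) ∧ χ ∈ principalBlock Mp G ∧
      χ ∈ principalBlock Mq G := by
  by_contra hcon
  push Not at hcon
  have hpP : p.Prime := Fact.out
  have hqP : q.Prime := Fact.out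
  have hn0 : (Nat.card G : ℂ) ≠ 0 := by exact_mod_cast Nat.card_pos.ne'
  set Sp := Finset.univ.filter (fun x : G => ¬ p ∣ orderOf x) with hSp
  set Sq := Finset.univ.filter (fun x : G => ¬ q ∣ orderOf x) with hSq
  -- Parseval
  have hpars := classInner_eq_sum_mul_conj (indRegular G q) (isClassFunction_indRegular (G := G) p)
  rw [Finset.sum_eq_single (trivialIrr G)] at hpars
  rotate_left
  · intro ψ _ hψ
    by_cases h1 : ψ ∈ principalBlock Mp G
    · by_cases h2 : ψ ∈ principalBlock Mq G
      · exfalso
        apply hψ
        apply Subtype.ext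
        have := hcon ψ
        by_contra h3
        exact this h3 h1 h2
      · rw [classInner_indRegular_eq_zero hMq h2, map_zero, mul_zero]
    · rw [classInner_indRegular_eq_zero hMp h1, zero_mul]
  · intro h; exact absurd (Finset.mem_univ _) h
  -- evaluate the three inner products
  have h1 : classInner (indRegular G p) ((trivialIrr G : IrrCharacter G) : G → ℂ) =
      (Nat.card G : ℂ)⁻¹ * (Sp.card : ℂ) := by
    rw [classInner_indRegular]
    simp [trivialIrr, hSp]
  have h2 : classInner (indRegular G q) ((trivialIrr G : IrrCharacter G) : G → ℂ) =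
      (Nat.card G : ℂ)⁻¹ * (Sq.card : ℂ) := by
    rw [classInner_indRegular]
    simp [trivialIrr, hSq]
  have h3 : classInner (indRegular G p) (indRegular G q) =
      (Nat.card G : ℂ)⁻¹ * ((Sp ∩ Sq).card : ℂ) := by
    rw [classInner_indRegular]
    congr 1
    rw [Finset.card_eq_sum_ones, Nat.cast_sum, hSp, hSq, ← Finset.filter_and,
      Finset.sum_filter, Finset.sum_filter]
    apply Finset.sum_congr rfl
    intro x _
    unfold indRegular
    by_cases hx1 : p ∣ orderOf x <;> by_cases hx2 : q ∣ orderOf x <;> simp [hx1, hx2]
  rw [h1, h2, h3] at hpars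
  have hnat : (Sp ∩ Sq).card * Nat.card G = Sp.card * Sq.card := by
    have : ((Sp ∩ Sq).card : ℂ) * (Nat.card G : ℂ) = (Sp.card : ℂ) * (Sq.card : ℂ) := by
      simp only [map_mul, map_inv₀, Complex.conj_natCast] at hpars
      field_simp at hpars
      linear_combination hpars
    exact_mod_cast this
  -- every element is p-regular or q-regular
  have hunion : Sp ∪ Sq = Finset.univ := by
    apply Finset.eq_univ_of_forall
    intro g
    rw [Finset.mem_union, hSp, hSq, Finset.mem_filter, Finset.mem_filter]
    by_contra hg
    push Not at hg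
    have hg1 : p ∣ orderOf g := hg.1 (Finset.mem_univ _)
    have hg2 : q ∣ orderOf g := hg.2 (Finset.mem_univ _)
    have hdvd : p * q ∣ orderOf g :=
      (Nat.Coprime.mul_dvd_of_dvd_of_dvd ((Nat.coprime_primes hpP hqP).mpr hpq) hg1 hg2)
    have hpos : 0 < p * q := Nat.mul_pos hpP.pos hqP.pos
    have := orderOf_pow_orderOf_div (x := g) (orderOf_pos g).ne' hdvd
    exact hno _ this
  have hcardU := Finset.card_union_add_card_inter Sp Sq
  rw [hunion, Finset.card_univ, ← Nat.card_eq_fintype_card] at hcardU
  -- singular elements exist
  have hA : Sp.card < Nat.card G := by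
    obtain ⟨x, hx⟩ := exists_prime_orderOf_dvd_card' (G := G) p hp
    rw [Nat.card_eq_fintype_card, ← Finset.card_univ]
    apply Finset.card_lt_card
    rw [Finset.ssubset_iff_of_subset (Finset.subset_univ _)]
    refine ⟨x, Finset.mem_univ _, ?_⟩
    rw [hSp, Finset.mem_filter]
    intro h
    exact h.2 (by rw [hx])
  have hB : Sq.card < Nat.card G := by
    obtain ⟨x, hx⟩ := exists_prime_orderOf_dvd_card' (G := G) q hq
    rw [Nat.card_eq_fintype_card, ← Finset.card_univ]
    apply Finset.card_lt_card
    rw [Finset.ssubset_iff_of_subset (Finset.subset_univ _)]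
    refine ⟨x, Finset.mem_univ _, ?_⟩
    rw [hSq, Finset.mem_filter]
    intro h
    exact h.2 (by rw [hx])
  zify at hnat hcardU hA hB
  nlinarith [mul_pos (sub_pos.mpr hA) (sub_pos.mpr hB)]

end

end Cfsg.Agent.Lib.Helper78
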