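import Mathlib
import Cfsg.Agent.Lib.Helper77.WAT.Defs
import Cfsg.Agent.Lib.Helper16.WATCtrl

/-!
# WAT-[CENT] in hypothesis form (helper78): a central element of `C_G(Q)` does not change the rank

From WAT-[LOC] and WAT-[MAXQ] (exact statements of `Lib/Helper77/WAT/Skel.lean.txt`, as hypotheses)
and helper16's WAT-[CENTRAL] applied in the type `↥C_G(Q)`.
-/

set_option autoImplicit false
set_option linter.unusedSectionVars false
set_option linter.unusedVariables false
set_option linter.style.haveILetI false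

namespace Cfsg.Agent.Lib.Helper78.WAT

open Cfsg Cfsg.Agent.Lib.Helper16 Cfsg.Agent.Lib.Helper16.BP Cfsg.Agent.Lib.Helper77.WAT

universe u

variable {G : Type u} [Group G] [Fintype G] {M : Ideal AlgInt} {p : ℕ} [Fact p.Prime]
  {B : Set (IrrCharacter G)} {P : Subgroup G}
  {e : Set (IrrCharacter (Subgroup.centralizer (P : Set G)))}

theorem le_centralizer_of_abelian (hPab : ∀ x ∈ P, ∀ y ∈ P, x * y = y * x) {Q : Subgroup G}
    (hQP : Q ≤ P) : P ≤ Subgroup.centralizer (Q : Set G) := by
  intro x hx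
  rw [Subgroup.mem_centralizer_iff]
  intro q hq
  exact hPab q (hQP hq) x hx

theorem rk_sup_zpowers_of_central_of (hM : IsPModular p M)
    (hmax : IsMaximalBrauerPair p M B P e)
    (hPab : ∀ x ∈ P, ∀ y ∈ P, x * y = y * x)
    (hLOC : ∀ {Q : Subgroup G} (hQP : Q ≤ P)
      (hPL : P ≤ Subgroup.centralizer (Q : Set G))
      (hCP : Subgroup.centralizer (P : Set G) ≤ Subgroup.centralizer (Q : Set G))
      [Fintype ↥(Subgroup.centralizer (Q : Set G))] {v : G} (hv : v ∈ P)
      (hvL : v ∈ Subgroup.centralizer (Q : Set G)),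
      blockRank p (subF p M (P.subgroupOf (Subgroup.centralizer (Q : Set G)))
          (pullBlock (centEquivIn (Subgroup.centralizer (Q : Set G)) P hPL hCP) e)
          (⟨v, hvL⟩ : ↥(Subgroup.centralizer (Q : Set G)))) =
        rk p M P e (Q ⊔ Subgroup.zpowers v))
    (hMAXQ : ∀ {Q : Subgroup G} (hQP : Q ≤ P)
      (hPL : P ≤ Subgroup.centralizer (Q : Set G))
      (hCP : Subgroup.centralizer (P : Set G) ≤ Subgroup.centralizer (Q : Set G)),
      IsMaximalBrauerPair p M (subFQ p M P e Q) (P.subgroupOf (Subgroup.centralizer (Q : Set G)))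
        (pullBlock (centEquivIn (Subgroup.centralizer (Q : Set G)) P hPL hCP) e))
    {Q : Subgroup G} (hQP : Q ≤ P) {v : G} (hv : v ∈ P)
    (hvc : ∀ g ∈ Subgroup.centralizer (Q : Set G), g * v = v * g) :
    rk p M P e (Q ⊔ Subgroup.zpowers v) = rk p M P e Q := by
  have hPL : P ≤ Subgroup.centralizer (Q : Set G) := le_centralizer_of_abelian hPab hQP
  have hCP : Subgroup.centralizer (P : Set G) ≤ Subgroup.centralizer (Q : Set G) :=
    Subgroup.centralizer_le (by exact_mod_cast hQP)
  have hvL : v ∈ Subgroup.centralizer (Q : Set G) := hPL hv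
  haveI : Fintype ↥(Subgroup.centralizer (Q : Set G)) := Fintype.ofFinite _
  rw [← hLOC hQP hPL hCP hv hvL]
  have hvP : (⟨v, hvL⟩ : ↥(Subgroup.centralizer (Q : Set G))) ∈
      P.subgroupOf (Subgroup.centralizer (Q : Set G)) := by
    rw [Subgroup.mem_subgroupOf]
    exact hv
  have htop : locC (⟨v, hvL⟩ : ↥(Subgroup.centralizer (Q : Set G))) = ⊤ := by
    rw [locC_eq_top_iff, Subgroup.mem_center_iff]
    intro g
    apply Subtype.ext
    simp only [Subgroup.coe_mul]
    exact hvc g g.2
  rw [blockRank_subF_of_central hM (hMAXQ hQP hPL hCP) hvP htop]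
  rfl

end Cfsg.Agent.Lib.Helper78.WAT
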