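import Cfsg.Agent.Lib.Helper77.WatLoc
import Cfsg.Agent.Lib.Helper16.NilFusion
import Cfsg.Agent.Lib.Helper16.StabGroup
import Cfsg.Agent.Lib.Helper16.InducedPair

/-!
# Project WAT (helper77) — hedge of WAT-[FRONT] in `_of` form (helper78)

`stmt4644_of_IND`: S4644 from the conclusion of WAT-[IND] at `Q = ⊥`.
-/

set_option autoImplicit false
set_option linter.unusedSectionVars false
set_option linter.unusedVariables false

namespace Cfsg.Agent.Lib.Helper78.WAT

open Cfsg Cfsg.Agent.Lib.Helper16 Cfsg.Agent.Lib.Helper16.BP Cfsg.Agent.Lib.Helper82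
open Cfsg.Agent.Lib.Helper77.WAT

universe u

section A

variable {G : Type u} [Group G] [Finite G]

/-- the stabilizer of `c` in `N_G(P)` is the inertial group of the pair `(P, c)` -/
theorem isInertial_of_forall_mem_iff {P T : Subgroup G}
    {c : Set (IrrCharacter (Subgroup.centralizer (P : Set G)))}
    (hT : ∀ g : G, g ∈ T ↔ (g ∈ Subgroup.normalizer (P : Set G) ∧
      StabilizesBlock (Subgroup.centralizer (P : Set G)) c g)) : IsInertial T P c := by
  intro t
  rw [hT t]
  constructor
  · intro h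
    exact conjPair_eq_self_of_stabilizes h.1 h.2
  · intro h
    exact stabilizes_of_conjPair_eq_self h

end A

section B

variable {G : Type u} [Group G] {M : Ideal AlgInt}

/-- Nat.card of a pulled back block -/
theorem natCard_pullBlock {K₁ K₂ : Type u} [Group K₁] [Group K₂] (φ : K₁ ≃* K₂)
    (β : Set (IrrCharacter K₂)) : Nat.card (pullBlock φ β) = Nat.card β := by
  unfold pullBlock
  exact Nat.card_image_of_injective (irrPull_injective φ) β

/-- two blocks induced from the same block inside equal subgroups have the same invariants -/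
theorem blockRank_natCard_eq_of_isInducedBlockIn [hMp : M.IsPrime] (p : ℕ) {H₁ H₂ K : Subgroup G}
    (h : H₁ = H₂) {c : Set (IrrCharacter K)} {f₁ : Set (IrrCharacter H₁)}
    {f₂ : Set (IrrCharacter H₂)} (h₁ : IsInducedBlockIn M H₁ K c f₁)
    (h₂ : IsInducedBlockIn M H₂ K c f₂) :
    blockRank p f₁ = blockRank p f₂ ∧ Nat.card f₁ = Nat.card f₂ := by
  subst h
  have := isInducedBlockIn_unique h₁ h₂
  subst this
  exact ⟨rfl, rfl⟩

end B

section C

variable {G : Type u} [Group G] [Fintype G] {M : Ideal AlgInt} {p : ℕ} [Fact p.Prime]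
  {B : Set (IrrCharacter G)} {P : Subgroup G}
  {e : Set (IrrCharacter (Subgroup.centralizer (P : Set G)))}

/-- `f_Q` induces `B` (for abelian `P`) -/
theorem isInducedBlock_subFQ (hM : IsPModular p M) (hmax : IsMaximalBrauerPair p M B P e)
    (hPab : ∀ x ∈ P, ∀ y ∈ P, x * y = y * x) {Q : Subgroup G} (hQP : Q ≤ P) :
    IsInducedBlock M (Subgroup.centralizer (Q : Set G)) (subFQ p M P e Q) B := by
  have hPe : IsBrauerPair p M P e := hmax.1.1
  obtain ⟨hblock, hle⟩ := subFQ_spec hM hPe hQP
  have hQf : IsBrauerPair p M Q (subFQ p M P e Q) := Cfsg.Agent.S4655.le_pair_left hle hPe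
  have hpair : IsBrauerPairOf p M B Q (subFQ p M P e Q) :=
    (Cfsg.Agent.S4658.result p M hM P Q e _ hPe hQf hle B hmax.1.2.1).mp hmax.1
  have hab : Q ≤ Subgroup.centralizer (Q : Set G) := by
    intro a ha
    rw [Subgroup.mem_centralizer_iff]
    intro q hq
    exact hPab q (hQP hq) a (hQP ha)
  exact Cfsg.Agent.Lib.Helper16.isInducedBlock_of_isBrauerPairOf hM hab hpair

theorem centralizer_bot_eq_top :
    Subgroup.centralizer (((⊥ : Subgroup G) : Subgroup G) : Set G) = ⊤ := by
  ext g
  simp only [Subgroup.mem_top, iff_true]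
  rw [Subgroup.mem_centralizer_iff]
  intro h hh
  have : h = 1 := Subgroup.mem_bot.mp hh
  rw [this, one_mul, mul_one]

theorem centralizer_bot_sup_zpowers (u : G) :
    Subgroup.centralizer (((⊥ : Subgroup G) ⊔ Subgroup.zpowers u : Subgroup G) : Set G) =
      Subgroup.centralizer ({u} : Set G) := by
  rw [bot_sup_eq]
  ext g
  rw [Subgroup.mem_centralizer_singleton_iff, Subgroup.mem_centralizer_iff]
  constructor
  · intro h
    exact (h u (Subgroup.mem_zpowers u)).symm
  · intro h x hx
    obtain ⟨n, rfl⟩ := Subgroup.mem_zpowers_iff.mp hx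
    have hc : Commute g u := h
    exact ((hc.zpow_right n).eq).symm

/-- the invariants of `B` are those of `f_⊥` -/
theorem rk_kk_bot (hM : IsPModular p M) (hmax : IsMaximalBrauerPair p M B P e)
    (hPab : ∀ x ∈ P, ∀ y ∈ P, x * y = y * x) :
    rk p M P e ⊥ = blockRank p B ∧ kk p M P e ⊥ = Nat.card B := by
  classical
  have hMp := isPModular_isPrime hM
  have hB : IsPBlock M B := hmax.1.2.1
  have hind := isInducedBlock_subFQ hM hmax hPab (bot_le : (⊥ : Subgroup G) ≤ P)
  have h1 : subFQ p M P e ⊥ = pullBlock (topEquivOf centralizer_bot_eq_top) B :=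
    (isInducedBlock_iff_of_eq_top centralizer_bot_eq_top hind.1 hB).mp hind
  unfold rk kk
  rw [h1]
  exact ⟨blockRank_pullBlock p _ B, natCard_pullBlock _ B⟩

end C

/-- WAT-[FRONT] in `_of` form: S4644 from the conclusion of WAT-[IND] at `Q = ⊥` -/
theorem stmt4644_of_IND {G : Type u} [Group G] [Finite G] (p : ℕ) [Fact p.Prime]
    (M : Ideal Cfsg.AlgInt) (hM : Cfsg.IsPModular p M)
    (B : Set (Cfsg.IrrCharacter G)) (hB : Cfsg.IsPBlock M B) (P : Subgroup G)
    (hPD : Cfsg.IsDefectGroup p M B P) (hPab : ∀ x ∈ P, ∀ y ∈ P, x * y = y * x)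
    (c : Set (Cfsg.IrrCharacter (Subgroup.centralizer (P : Set G))))
    (hc : Cfsg.IsInducedBlock M (Subgroup.centralizer (P : Set G)) c B) (T : Subgroup G)
    (hT : ∀ g : G, g ∈ T ↔ (g ∈ Subgroup.normalizer (P : Set G) ∧
      Cfsg.StabilizesBlock (Subgroup.centralizer (P : Set G)) c g)) (u : G) (hu : u ∈ P)
    (huT : ∀ g ∈ T, g * u * g⁻¹ = u) (H : Subgroup G)
    (hH : H = Subgroup.centralizer ({u} : Set G)) (f : Set (Cfsg.IrrCharacter H))
    (hf : Cfsg.IsInducedBlockIn M H (Subgroup.centralizer (P : Set G)) c f)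
    (hIND : ∀ [Fintype G], IsMaximalBrauerPair p M B P c → IsInertial T P c →
      (rk p M P c ⊥ = rk p M P c (⊥ ⊔ Subgroup.zpowers u) ∧
        kk p M P c ⊥ = kk p M P c (⊥ ⊔ Subgroup.zpowers u))) :
    Cfsg.blockRank p B = Cfsg.blockRank p f ∧ Nat.card B = Nat.card f := by
  classical
  have : Fintype G := Fintype.ofFinite G
  have hMp := isPModular_isPrime hM
  have hPp : IsPGroup p P := isPGroup_of_isDefectGroup hPD
  have hpairB : IsBrauerPairOf p M B P c := isBrauerPairOf_of_isInducedBlock hM hPp hc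
  have hmax : IsMaximalBrauerPair p M B P c := isMaximalBrauerPair_of_isDefectGroup hM hpairB hPD
  have hTi : IsInertial T P c := isInertial_of_forall_mem_iff hT
  obtain ⟨hr, hk⟩ := hIND hmax hTi
  obtain ⟨hr0, hk0⟩ := rk_kk_bot hM hmax hPab
  have hQP : (⊥ : Subgroup G) ⊔ Subgroup.zpowers u ≤ P :=
    sup_le bot_le ((Subgroup.zpowers_le).mpr hu)
  have hin := isInducedBlockIn_subFQ hM hmax hPab hQP
  have hHeq : Subgroup.centralizer (((⊥ : Subgroup G) ⊔ Subgroup.zpowers u : Subgroup G) : Set G) = H := by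
    rw [hH]
    exact centralizer_bot_sup_zpowers u
  obtain ⟨hr1, hk1⟩ := blockRank_natCard_eq_of_isInducedBlockIn p hHeq hin hf
  constructor
  · rw [← hr0, hr]
    exact hr1
  · rw [← hk0, hk]
    exact hk1

end Cfsg.Agent.Lib.Helper78.WAT
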