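import Mathlib
import Cfsg.Agent.Lib.Helper77.WAT.Defs
import Cfsg.Agent.Lib.Helper77.WatLoc
import Cfsg.Agent.Lib.Helper16.WatOrtho
import Cfsg.Agent.Lib.Helper21.WatLin
import Cfsg.Agent.Lib.Helper78.WATAct

/-!
# WAT-[KEY1] + WAT-[KEY0] (helper78, hedge): the two key sums, with WAT-[INERTQ] as a hypothesis

Apply helper16's ORTHO1 / ORTHO0 in the type `↥C_G(Q)` to the block `f_Q` with its maximal pair
`(P_L, e_L)` (helper77's MAXQ), reindex `P_L ≃ P`, identify the fusion weights with the orbit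
weights of `T ∩ C_G(Q)` (FUST in the type `↥C_G(Q)` + INERTQ) and the local ranks with
`rk (Q ⊔ ⟨v⟩)` (helper77's LOC).
-/

set_option autoImplicit false
set_option linter.unusedSectionVars false
set_option linter.unusedVariables false
set_option linter.style.haveILetI false

namespace Cfsg.Agent.Lib.Helper78.WAT

open Cfsg Cfsg.Agent.Lib.Helper16 Cfsg.Agent.Lib.Helper16.BP Cfsg.Agent.Lib.Helper77.WAT
open scoped ComplexConjugate

universe u

variable {G : Type u} [Group G] [Fintype G] {M : Ideal AlgInt} {p : ℕ} [Fact p.Prime]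
  {B : Set (IrrCharacter G)} {P : Subgroup G}
  {e : Set (IrrCharacter (Subgroup.centralizer (P : Set G)))}

/-- the fusion weight in the type `↥C_G(Q)` is the orbit weight of `T ∩ C_G(Q)` -/
theorem fusW_restrict_eq_orbW (hM : IsPModular p M) (hmax : IsMaximalBrauerPair p M B P e)
    (hPab : ∀ x ∈ P, ∀ y ∈ P, x * y = y * x) {T : Subgroup G} {Q : Subgroup G} (hQP : Q ≤ P)
    (hPL : P ≤ Subgroup.centralizer (Q : Set G))
    (hCP : Subgroup.centralizer (P : Set G) ≤ Subgroup.centralizer (Q : Set G))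
    [Fintype ↥(Subgroup.centralizer (Q : Set G))]
    (hTL : IsInertial (T.subgroupOf (Subgroup.centralizer (Q : Set G)))
      (P.subgroupOf (Subgroup.centralizer (Q : Set G)))
      (pullBlock (centEquivIn (Subgroup.centralizer (Q : Set G)) P hPL hCP) e))
    (w : P.subgroupOf (Subgroup.centralizer (Q : Set G))) :
    fusW p M (P.subgroupOf (Subgroup.centralizer (Q : Set G)))
        (pullBlock (centEquivIn (Subgroup.centralizer (Q : Set G)) P hPL hCP) e) w =
      orbW T P Q (Subgroup.subgroupOfEquivOfLe hPL w) := by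
  have hmaxL := Cfsg.Agent.Lib.Helper77.WAT.isMaximalBrauerPair_subFQ hM hmax hPab hQP hPL hCP
  have hPabL : ∀ x ∈ P.subgroupOf (Subgroup.centralizer (Q : Set G)),
      ∀ y ∈ P.subgroupOf (Subgroup.centralizer (Q : Set G)), x * y = y * x := by
    intro x hx y hy
    apply Subtype.ext
    exact hPab x hx y hy
  unfold fusW orbW
  congr 2
  apply Nat.card_congr
  refine Equiv.subtypeEquiv (Subgroup.subgroupOfEquivOfLe hPL).toEquiv ?_
  intro w'
  rw [Cfsg.Agent.Lib.Helper16.WAT.fus_iff_inertial hM hmaxL hPabL hTL w.2 w'.2]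
  constructor
  · rintro ⟨t, ht, h⟩
    refine ⟨(t : G), ht, t.2, ?_⟩
    have := congrArg (Subtype.val : ↥(Subgroup.centralizer (Q : Set G)) → G) h
    simpa using this
  · rintro ⟨t, ht, htL, h⟩
    refine ⟨⟨t, htL⟩, ht, ?_⟩
    apply Subtype.ext
    simpa using h

/-- **WAT-[KEY1]** with INERTQ as a hypothesis -/
theorem key_sum_one_of (hM : IsPModular p M) (hmax : IsMaximalBrauerPair p M B P e)
    (hPab : ∀ x ∈ P, ∀ y ∈ P, x * y = y * x) {T : Subgroup G} {Q : Subgroup G} (hQP : Q ≤ P)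
    (hINERTQ : ∀ (hPL : P ≤ Subgroup.centralizer (Q : Set G))
      (hCP : Subgroup.centralizer (P : Set G) ≤ Subgroup.centralizer (Q : Set G)),
      IsInertial (T.subgroupOf (Subgroup.centralizer (Q : Set G)))
        (P.subgroupOf (Subgroup.centralizer (Q : Set G)))
        (pullBlock (centEquivIn (Subgroup.centralizer (Q : Set G)) P hPL hCP) e)) :
    ∑ᶠ v : P, orbW T P Q v * (rk p M P e (Q ⊔ Subgroup.zpowers (v : G)) : ℂ) =
      (kk p M P e Q : ℂ) := by
  have hPL : P ≤ Subgroup.centralizer (Q : Set G) :=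
    Cfsg.Agent.Lib.Helper77.WAT.le_centralizer_of_abelian hPab hQP
  have hCP : Subgroup.centralizer (P : Set G) ≤ Subgroup.centralizer (Q : Set G) :=
    Subgroup.centralizer_le (by exact_mod_cast hQP)
  haveI : Fintype ↥(Subgroup.centralizer (Q : Set G)) := Fintype.ofFinite _
  have hmaxL := Cfsg.Agent.Lib.Helper77.WAT.isMaximalBrauerPair_subFQ hM hmax hPab hQP hPL hCP
  have h1 := Cfsg.Agent.Lib.Helper16.WAT.sum_fusW_rank hM hmaxL
  rw [← finsum_comp_equiv (Subgroup.subgroupOfEquivOfLe hPL).toEquiv]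
  unfold kk
  rw [← h1]
  apply finsum_congr
  intro w
  rw [fusW_restrict_eq_orbW hM hmax hPab hQP hPL hCP (hINERTQ hPL hCP) w,
    Cfsg.Agent.Lib.Helper77.WAT.blockRank_subF_restrict hM hmax hPab hQP hPL hCP
      (v := ((w : ↥(Subgroup.centralizer (Q : Set G))) : G)) w.2 w.1.2]
  rfl

/-- **WAT-[KEY0]** with INERTQ as a hypothesis -/
theorem key_sum_zero_of (hM : IsPModular p M) (hmax : IsMaximalBrauerPair p M B P e)
    (hPab : ∀ x ∈ P, ∀ y ∈ P, x * y = y * x)
    (hBP : ∀ (K : Type u) [Group K] [Fintype K] (B' : Set (IrrCharacter K)) (P' : Subgroup K)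
      (e' : Set (IrrCharacter (Subgroup.centralizer (P' : Set K)))),
      IsMaximalBrauerPair p M B' P' e' → BPFull p M B' P' e')
    {T : Subgroup G} {Q : Subgroup G} (hQP : Q ≤ P)
    (hINERTQ : ∀ (hPL : P ≤ Subgroup.centralizer (Q : Set G))
      (hCP : Subgroup.centralizer (P : Set G) ≤ Subgroup.centralizer (Q : Set G)),
      IsInertial (T.subgroupOf (Subgroup.centralizer (Q : Set G)))
        (P.subgroupOf (Subgroup.centralizer (Q : Set G)))
        (pullBlock (centEquivIn (Subgroup.centralizer (Q : Set G)) P hPL hCP) e))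
    (η : P →* ℂˣ)
    (hηT : ∀ t ∈ T, t ∈ Subgroup.centralizer (Q : Set G) → ∀ v v' : P,
      t * (v : G) * t⁻¹ = (v' : G) → η v' = η v)
    (hne : ∃ v : P, η v ≠ 1) :
    ∑ᶠ v : P, orbW T P Q v * ((η v : ℂˣ) : ℂ) *
      (rk p M P e (Q ⊔ Subgroup.zpowers (v : G)) : ℂ) = 0 := by
  have hPL : P ≤ Subgroup.centralizer (Q : Set G) :=
    Cfsg.Agent.Lib.Helper77.WAT.le_centralizer_of_abelian hPab hQP
  have hCP : Subgroup.centralizer (P : Set G) ≤ Subgroup.centralizer (Q : Set G) :=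
    Subgroup.centralizer_le (by exact_mod_cast hQP)
  haveI : Fintype ↥(Subgroup.centralizer (Q : Set G)) := Fintype.ofFinite _
  have hmaxL := Cfsg.Agent.Lib.Helper77.WAT.isMaximalBrauerPair_subFQ hM hmax hPab hQP hPL hCP
  have hTL := hINERTQ hPL hCP
  have hPabL : ∀ x ∈ P.subgroupOf (Subgroup.centralizer (Q : Set G)),
      ∀ y ∈ P.subgroupOf (Subgroup.centralizer (Q : Set G)), x * y = y * x := by
    intro x hx y hy
    apply Subtype.ext
    exact hPab x hx y hy
  -- the character of `P_L`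
  set ηL : ↥(P.subgroupOf (Subgroup.centralizer (Q : Set G))) →* ℂˣ :=
    η.comp (Subgroup.subgroupOfEquivOfLe hPL).toMonoidHom with hηL
  obtain ⟨hg, h1, h0⟩ := Cfsg.Agent.Lib.Helper21.WAT.linear_facts ηL
  have hstable : IsFusionStable p M (P.subgroupOf (Subgroup.centralizer (Q : Set G)))
      (pullBlock (centEquivIn (Subgroup.centralizer (Q : Set G)) P hPL hCP) e)
      (fun w => ((ηL w : ℂˣ) : ℂ)) := by
    apply isFusionStable_of_fus_invariant hM hmaxL.1.1 ηL
    intro w w' hfus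
    rw [Cfsg.Agent.Lib.Helper16.WAT.fus_iff_inertial hM hmaxL hPabL hTL w.2 w'.2] at hfus
    obtain ⟨t, ht, h⟩ := hfus
    have h' : (t : G) * ((Subgroup.subgroupOfEquivOfLe hPL w : P) : G) * (t : G)⁻¹ =
        ((Subgroup.subgroupOfEquivOfLe hPL w' : P) : G) := by
      have := congrArg (Subtype.val : ↥(Subgroup.centralizer (Q : Set G)) → G) h
      simpa using this
    exact (hηT (t : G) ht t.2 _ _ h').symm
  have hneL : ∃ w : ↥(P.subgroupOf (Subgroup.centralizer (Q : Set G))),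
      ((ηL w : ℂˣ) : ℂ) ≠ 1 := by
    obtain ⟨v, hv⟩ := hne
    refine ⟨(Subgroup.subgroupOfEquivOfLe hPL).symm v, ?_⟩
    intro h
    apply hv
    apply Units.ext
    rw [Units.val_one, ← h, hηL]
    simp
  have key := Cfsg.Agent.Lib.Helper16.WAT.sum_fusW_eta_rank_eq_zero hM hmaxL hPabL
    (hBP _ _ _ _ hmaxL) hg hstable h1 h0 hneL
  rw [← finsum_comp_equiv (Subgroup.subgroupOfEquivOfLe hPL).toEquiv, ← key]
  apply finsum_congr
  intro w
  rw [fusW_restrict_eq_orbW hM hmax hPab hQP hPL hCP hTL w,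
    Cfsg.Agent.Lib.Helper77.WAT.blockRank_subF_restrict hM hmax hPab hQP hPL hCP
      (v := ((w : ↥(Subgroup.centralizer (Q : Set G))) : G)) w.2 w.1.2]
  rfl

end Cfsg.Agent.Lib.Helper78.WAT
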